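import Mathlib
import Cfsg.Agent.Lib.Helper1.ThompsonAux
import Cfsg.Agent.Lib.Helper14.HHCore

set_option autoImplicit false

/-!
Quadratic action on a normal `p`-subgroup with an abelian `p'`-section on top: the commutator
of the square of a quadratically acting element with that section acts as a `p`-element.
-/

namespace Cfsg.Agent.Lib.Helper2

universe u

theorem conj_pow_of_comm {X : Type*} [Group X] (d v w : X) (h : d * v * d⁻¹ = w * v)
    (hw : d * w = w * d) (n : ℕ) : d ^ n * v * (d ^ n)⁻¹ = w ^ n * v := by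
  induction n with
  | zero => simp
  | succ n ih =>
    have e : d ^ (n + 1) * v * (d ^ (n + 1))⁻¹ = d * (d ^ n * v * (d ^ n)⁻¹) * d⁻¹ := by
      rw [pow_succ']; group
    rw [e, ih]
    have hwn : d * w ^ n = w ^ n * d := ((Commute.pow_right (show Commute d w from hw) n)).eq
    calc d * (w ^ n * v) * d⁻¹ = (d * w ^ n) * v * d⁻¹ := by group
      _ = w ^ n * (d * v * d⁻¹) := by rw [hwn]; group
      _ = w ^ (n + 1) * v := by rw [h, pow_succ]; group

theorem card_map_mk_lt {X : Type u} [Group X] [Finite X] (V V₁ : Subgroup X) [V₁.Normal]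
    (hle : V₁ ≤ V) (hne : V₁ ≠ ⊥) :
    Nat.card (V.map (QuotientGroup.mk' V₁)) < Nat.card V := by
  classical
  obtain ⟨v, hv1⟩ := (Subgroup.ne_bot_iff_exists_ne_one).mp hne
  let f : V → V.map (QuotientGroup.mk' V₁) :=
    fun a => ⟨QuotientGroup.mk' V₁ a, Subgroup.mem_map_of_mem _ a.2⟩
  have hsurj : Function.Surjective f := by
    rintro ⟨_, a, ha, rfl⟩
    exact ⟨⟨a, ha⟩, rfl⟩
  have hninj : ¬ Function.Injective f := by
    intro hinj
    have h1 : f ⟨(v : X), hle v.2⟩ = f ⟨1, V.one_mem⟩ := by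
      apply Subtype.ext
      show QuotientGroup.mk' V₁ (v : X) = QuotientGroup.mk' V₁ 1
      rw [map_one]
      exact (QuotientGroup.eq_one_iff _).mpr v.2
    have h2 := hinj h1
    have h3 : (v : X) = 1 := congrArg Subtype.val h2
    exact hv1 (Subtype.ext h3)
  have := Fintype.ofFinite V
  have := Fintype.ofFinite (V.map (QuotientGroup.mk' V₁))
  have h := Fintype.card_lt_of_surjective_not_injective f hsurj hninj
  rw [Fintype.card_eq_nat_card, Fintype.card_eq_nat_card] at h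
  exact h

theorem quad_series {p : ℕ} [Fact p.Prime] : ∀ (n : ℕ) (X : Type u) [Group X] [Finite X]
    (V K H : Subgroup X) [V.Normal] [K.Normal] [H.Normal], IsPGroup p V → Nat.card V ≤ n →
    IsPGroup p H → (∀ a ∈ K, ∀ b ∈ K, a * b * a⁻¹ * b⁻¹ ∈ H) →
    ∀ m : ℕ, m.Coprime p → (∀ k ∈ K, k ^ m ∈ H) →
    ∀ x : X, (∀ v ∈ V, x * (x * v * x⁻¹ * v⁻¹) = (x * v * x⁻¹ * v⁻¹) * x) →
    ∀ k ∈ K, ∃ j : ℕ,
      ((x * x) * k * (x * x)⁻¹ * k⁻¹) ^ (p ^ j) ∈ Subgroup.centralizer (V : Set X) := by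
  intro n
  induction n with
  | zero =>
    intro X _ _ V K H _ _ _ hV hcard
    exfalso
    have := Nat.card_pos (α := V)
    omega
  | succ n ih =>
    intro X _ _ V K H _ _ _ hV hcard hH hKab m hm hKm x hquad k hk
    by_cases hVbot : V = ⊥
    · refine ⟨0, ?_⟩
      rw [Subgroup.mem_centralizer_iff]
      intro y hy
      rw [hVbot] at hy
      have hy1 : y = 1 := by simpa using hy
      rw [hy1]; simp
    obtain ⟨V₁, ⟨hV₁n, hV₁V, hV₁ne⟩, hmin⟩ := Set.Finite.exists_minimal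
      (s := {U : Subgroup X | U.Normal ∧ U ≤ V ∧ U ≠ ⊥}) (Set.toFinite _)
      ⟨V, inferInstance, le_rfl, hVbot⟩
    have hV₁p : IsPGroup p V₁ := hV.to_le hV₁V
    have hSp : IsPGroup p (H ⊔ V₁ : Subgroup X) := IsPGroup.to_sup_of_normal_right hH hV₁p
    have hcent : V₁ ≤ Subgroup.centralizer ((H ⊔ V₁ : Subgroup X) : Set X) := by
      have hSn : (H ⊔ V₁ : Subgroup X).Normal := inferInstance
      have hV₀n : (V₁ ⊓ Subgroup.centralizer ((H ⊔ V₁ : Subgroup X) : Set X)).Normal :=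
        inferInstance
      have hV₀ne : V₁ ⊓ Subgroup.centralizer ((H ⊔ V₁ : Subgroup X) : Set X) ≠ ⊥ := by
        obtain ⟨v, hv1⟩ := (Subgroup.ne_bot_iff_exists_ne_one).mp hV₁ne
        have hne' : V₁.subgroupOf (H ⊔ V₁) ≠ ⊥ := by
          intro hbot
          have h1 : (⟨(v : X), (le_sup_right : V₁ ≤ H ⊔ V₁) v.2⟩ : ↥(H ⊔ V₁)) ∈ V₁.subgroupOf (H ⊔ V₁) :=
            Subgroup.mem_subgroupOf.mpr v.2
          rw [hbot, Subgroup.mem_bot] at h1
          have h3 : (v : X) = 1 := congrArg Subtype.val h1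
          exact hv1 (Subtype.ext h3)
        have hnorm' : (V₁.subgroupOf (H ⊔ V₁)).Normal := inferInstance
        obtain ⟨z, hz, hz1, hzc⟩ :=
          Cfsg.Agent.Lib.Helper14.exists_central_of_normal' hSp (V₁.subgroupOf (H ⊔ V₁)) hne'
        intro hbot
        have h2 : (z : X) ∈ V₁ ⊓ Subgroup.centralizer ((H ⊔ V₁ : Subgroup X) : Set X) := by
          refine Subgroup.mem_inf.mpr ⟨Subgroup.mem_subgroupOf.mp hz, ?_⟩
          rw [Subgroup.mem_centralizer_iff]
          intro y hy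
          have h3 := Subgroup.mem_center_iff.mp hzc ⟨y, hy⟩
          exact congrArg Subtype.val h3
        rw [hbot, Subgroup.mem_bot] at h2
        exact hz1 (Subtype.ext h2)
      have h4 := hmin ⟨hV₀n, inf_le_left.trans hV₁V, hV₀ne⟩ inf_le_left
      exact h4.trans inf_le_right
    have hV₁ab : ∀ a ∈ V₁, ∀ b ∈ V₁, a * b = b * a := by
      intro a ha b hb
      exact ((Subgroup.mem_centralizer_iff.mp (hcent ha)) b ((le_sup_right : V₁ ≤ H ⊔ V₁) hb)).symm
    have hHV₁ : H ≤ Subgroup.centralizer (V₁ : Set X) := by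
      intro h hh
      rw [Subgroup.mem_centralizer_iff]
      intro v hv
      exact ((Subgroup.mem_centralizer_iff.mp (hcent hv)) h ((le_sup_left : H ≤ H ⊔ V₁) hh)).symm
    obtain ⟨c, hc⟩ : ∃ c, c = (x * x) * k * (x * x)⁻¹ * k⁻¹ := ⟨_, rfl⟩
    have hcV₁ : c ∈ Subgroup.centralizer (V₁ : Set X) := by
      rw [hc]
      exact Cfsg.Agent.Lib.Helper1.quad_centralizes V₁ K hV₁ab hV₁p
        (fun a ha b hb => hHV₁ (hKab a ha b hb)) m hm (fun k hk => hHV₁ (hKm k hk)) x
        (fun v hv => hquad v (hV₁V hv)) k hk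
    -- the quotient
    obtain ⟨π, hπ⟩ : ∃ π : X →* X ⧸ V₁, π = QuotientGroup.mk' V₁ := ⟨_, rfl⟩
    have hπs : Function.Surjective π := hπ ▸ QuotientGroup.mk'_surjective V₁
    have hπker : ∀ g : X, π g = 1 → g ∈ V₁ := by
      intro g hg
      rw [hπ] at hg
      exact (QuotientGroup.eq_one_iff g).mp hg
    have hVn' : (V.map π).Normal := Subgroup.Normal.map inferInstance π hπs
    have hKn' : (K.map π).Normal := Subgroup.Normal.map inferInstance π hπs
    have hHn' : (H.map π).Normal := Subgroup.Normal.map inferInstance π hπs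
    have hcard' : Nat.card (V.map π) ≤ n := by
      have := card_map_mk_lt V V₁ hV₁V hV₁ne
      rw [← hπ] at this
      omega
    have hKab' : ∀ a ∈ K.map π, ∀ b ∈ K.map π, a * b * a⁻¹ * b⁻¹ ∈ H.map π := by
      rintro _ ⟨a, ha, rfl⟩ _ ⟨b, hb, rfl⟩
      simp only [← map_mul, ← map_inv]
      exact Subgroup.mem_map_of_mem π (hKab a ha b hb)
    have hKm' : ∀ k ∈ K.map π, k ^ m ∈ H.map π := by
      rintro _ ⟨a, ha, rfl⟩
      rw [← map_pow]
      exact Subgroup.mem_map_of_mem π (hKm a ha)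
    have hquad' : ∀ v ∈ V.map π,
        π x * (π x * v * (π x)⁻¹ * v⁻¹) = (π x * v * (π x)⁻¹ * v⁻¹) * π x := by
      rintro _ ⟨v, hv, rfl⟩
      simp only [← map_mul, ← map_inv]
      rw [hquad v hv]
    obtain ⟨j, hj⟩ := ih (X ⧸ V₁) (V.map π) (K.map π) (H.map π) (hV.map π) hcard' (hH.map π)
      hKab' m hm hKm' (π x) hquad' (π k) (Subgroup.mem_map_of_mem π hk)
    have hj' : π (c ^ (p ^ j)) ∈ Subgroup.centralizer ((V.map π : Subgroup (X ⧸ V₁)) : Set (X ⧸ V₁)) := by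
      rw [hc]
      simpa only [map_mul, map_inv, map_pow] using hj
    obtain ⟨d, hd⟩ : ∃ d, d = c ^ (p ^ j) := ⟨_, rfl⟩
    rw [← hd] at hj'
    have hdV₁ : d ∈ Subgroup.centralizer (V₁ : Set X) := by
      rw [hd]; exact Subgroup.pow_mem _ hcV₁ _
    obtain ⟨i, hi⟩ := IsPGroup.iff_card.mp hV₁p
    refine ⟨j + i, ?_⟩
    have e : c ^ (p ^ (j + i)) = d ^ (Nat.card V₁) := by
      rw [hd, hi, ← pow_mul, pow_add]
    rw [← hc, e, Subgroup.mem_centralizer_iff]
    intro v hv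
    have hw : d * v * d⁻¹ * v⁻¹ ∈ V₁ := by
      apply hπker
      have h1 := (Subgroup.mem_centralizer_iff.mp hj') (π v) (Subgroup.mem_map_of_mem π hv)
      simp only [map_mul, map_inv]
      rw [← h1]; group
    have hwd : d * (d * v * d⁻¹ * v⁻¹) = (d * v * d⁻¹ * v⁻¹) * d :=
      ((Subgroup.mem_centralizer_iff.mp hdV₁) _ hw).symm
    have h2 := conj_pow_of_comm d v (d * v * d⁻¹ * v⁻¹) (by group) hwd (Nat.card V₁)
    have h3 : (d * v * d⁻¹ * v⁻¹) ^ (Nat.card V₁) = 1 := by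
      have h4 : (⟨d * v * d⁻¹ * v⁻¹, hw⟩ : V₁) ^ (Nat.card V₁) = 1 := pow_card_eq_one'
      have h5 := congrArg Subtype.val h4
      exact h5
    rw [h3, one_mul] at h2
    calc v * d ^ Nat.card V₁ = (d ^ Nat.card V₁ * v * (d ^ Nat.card V₁)⁻¹) * d ^ Nat.card V₁ := by
          rw [h2]
      _ = d ^ Nat.card V₁ * v := by group

end Cfsg.Agent.Lib.Helper2
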