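import Mathlib
import Cfsg.Agent.Lib.Helper2.QuadSeries
import Cfsg.Agent.Lib.Helper6.ZJFam
import Cfsg.Agent.S2910
import Cfsg.Agent.Lib.Helper28.ESDecomp
import Cfsg.Agent.Lib.Helper18.Frattini

set_option autoImplicit false

/-!
The centre of the Thompson subgroup (generated by the elementary abelian subgroups of largest
order) of a Sylow `p`-subgroup `T` is normal in a group `X` in which `T` is a maximal subgroup,
`O_p(X)` contains its centralizer and `X / O_p(X)` has an abelian normal `p`-complement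
(`p` odd).
-/

namespace Cfsg.Agent.Lib.Helper2

open Cfsg Cfsg.Agent.Lib.Helper6
open scoped commutatorElement

universe u

variable {X : Type u} [Group X]

/-- The configuration. -/
structure ZCfg (p : ℕ) (T H K : Subgroup X) : Prop where
  hp2 : p ≠ 2
  Tp : IsPGroup p T
  Hn : H.Normal
  Hp : IsPGroup p H
  HT : H ≤ T
  Hmax : ∀ N : Subgroup X, N.Normal → IsPGroup p N → N ≤ H
  Hcent : Subgroup.centralizer (H : Set X) ≤ H
  Kn : K.Normal
  Kab : ∀ a ∈ K, ∀ b ∈ K, a * b * a⁻¹ * b⁻¹ ∈ H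
  Kexp : ∃ m : ℕ, m.Coprime p ∧ ∀ k ∈ K, k ^ m ∈ H
  dich : ∀ N : Subgroup X, N.Normal → N ≤ H ∨ N ⊔ T = ⊤
  prod : ∀ x : X, ∃ k ∈ K, ∃ t ∈ T, x = k * t

theorem mem_of_pow_mem_of_pow_mem {L : Subgroup X} {c : X} {a b : ℕ} (hab : a.Coprime b)
    (ha : c ^ a ∈ L) (hb : c ^ b ∈ L) : c ∈ L := by
  have h1 : (a : ℤ) * Nat.gcdA a b + (b : ℤ) * Nat.gcdB a b = 1 := by
    have := Nat.gcd_eq_gcd_ab a b
    rw [hab] at this
    simpa using this.symm
  have h2 : c = (c ^ a) ^ (Nat.gcdA a b) * (c ^ b) ^ (Nat.gcdB a b) := by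
    rw [← zpow_natCast, ← zpow_natCast, ← zpow_mul, ← zpow_mul, ← zpow_add, h1, zpow_one]
  rw [h2]
  exact L.mul_mem (L.zpow_mem ha _) (L.zpow_mem hb _)

/-- `p`-stability in the configuration. -/
theorem ZCfg.quad_mem [Finite X] {p : ℕ} [Fact p.Prime] {T H K : Subgroup X}
    (c : ZCfg p T H K) (V : Subgroup X) [V.Normal] (hV : IsPGroup p V)
    (hCV : Subgroup.centralizer (V : Set X) ≤ H) (a : X) (ha : a ∈ T)
    (hquad : ∀ v ∈ V, a * (a * v * a⁻¹ * v⁻¹) = (a * v * a⁻¹ * v⁻¹) * a) : a ∈ H := by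
  have hp : p.Prime := Fact.out
  have hHn := c.Hn
  have hKn := c.Kn
  obtain ⟨m, hm, hKm⟩ := c.Kexp
  have key : ∀ t ∈ T, ∀ k ∈ K,
      ((t * a * t⁻¹) * (t * a * t⁻¹)) * k * ((t * a * t⁻¹) * (t * a * t⁻¹))⁻¹ * k⁻¹ ∈ H := by
    intro t ht k hk
    obtain ⟨a', ha'⟩ : ∃ a', a' = t * a * t⁻¹ := ⟨_, rfl⟩
    rw [← ha']
    have hquad' : ∀ v ∈ V, a' * (a' * v * a'⁻¹ * v⁻¹) = (a' * v * a'⁻¹ * v⁻¹) * a' := by
      intro v hv
      have hv' : t⁻¹ * v * t ∈ V := by
        have := ‹V.Normal›.conj_mem v hv t⁻¹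
        simpa using this
      have h1 := hquad _ hv'
      have e1 : a' * (a' * v * a'⁻¹ * v⁻¹) =
          t * (a * (a * (t⁻¹ * v * t) * a⁻¹ * (t⁻¹ * v * t)⁻¹)) * t⁻¹ := by
        rw [ha']; group
      have e2 : (a' * v * a'⁻¹ * v⁻¹) * a' =
          t * ((a * (t⁻¹ * v * t) * a⁻¹ * (t⁻¹ * v * t)⁻¹) * a) * t⁻¹ := by
        rw [ha']; group
      rw [e1, e2, h1]
    obtain ⟨j, hj⟩ := quad_series (Nat.card V) X V K H hV le_rfl c.Hp c.Kab m hm hKm a' hquad'
      k hk
    have hcK : (a' * a') * k * (a' * a')⁻¹ * k⁻¹ ∈ K :=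
      K.mul_mem (hKn.conj_mem k hk _) (K.inv_mem hk)
    exact mem_of_pow_mem_of_pow_mem (Nat.Coprime.pow_left j hm.symm) (hCV hj) (hKm _ hcK)
  have hsq : a * a ∈ H := by
    have hle : Subgroup.normalClosure ({a * a} : Set X) ≤ T := by
      rw [Subgroup.normalClosure, Subgroup.closure_le]
      intro y hy
      rw [Group.mem_conjugatesOfSet_iff] at hy
      obtain ⟨s, hs, hsy⟩ := hy
      rw [Set.mem_singleton_iff] at hs
      subst hs
      obtain ⟨x, rfl⟩ := isConj_iff.mp hsy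
      obtain ⟨k, hk, t, ht, rfl⟩ := c.prod x
      have h1 := key t ht k hk
      have hT2 : (t * a * t⁻¹) * (t * a * t⁻¹) ∈ T :=
        T.mul_mem (T.mul_mem (T.mul_mem ht ha) (T.inv_mem ht))
          (T.mul_mem (T.mul_mem ht ha) (T.inv_mem ht))
      have e : k * t * (a * a) * (k * t)⁻¹ =
          (((t * a * t⁻¹) * (t * a * t⁻¹)) * k * ((t * a * t⁻¹) * (t * a * t⁻¹))⁻¹ * k⁻¹)⁻¹ *
            ((t * a * t⁻¹) * (t * a * t⁻¹)) := by simp [mul_assoc]
      show k * t * (a * a) * (k * t)⁻¹ ∈ T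
      rw [e]
      exact T.mul_mem (c.HT (H.inv_mem h1)) hT2
    have hN : Subgroup.normalClosure ({a * a} : Set X) ≤ H :=
      c.Hmax _ Subgroup.normalClosure_normal (c.Tp.to_le hle)
    exact hN (Subgroup.subset_normalClosure (Set.mem_singleton _))
  -- `a` is a power of `a * a`
  obtain ⟨s, hs⟩ := c.Tp ⟨a, ha⟩
  have hs' : a ^ (p ^ s) = 1 := congrArg Subtype.val hs
  have hodd : Odd (p ^ s) := Odd.pow (hp.eq_two_or_odd'.resolve_left c.hp2)
  obtain ⟨u, hu⟩ := hodd
  have e : a = (a * a) ^ (u + 1) := by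
    have h1 : (a * a) ^ (u + 1) = a ^ (p ^ s) * a := by
      rw [hu, ← pow_two, ← pow_mul, ← pow_succ]
      congr 1
    rw [h1, hs', one_mul]
  rw [e]
  exact H.pow_mem hsq _

theorem ZCfg.normal_of_not_le {p : ℕ} {T H K : Subgroup X} (c : ZCfg p T H K)
    (B Z₁ : Subgroup X) [B.Normal] (hZB : Z₁ ≤ B)
    (hT : T ≤ Subgroup.normalizer (Z₁ : Set X))
    (hB : ¬ Subgroup.centralizer (B : Set X) ≤ H) : Z₁.Normal := by
  rcases c.dich (Subgroup.centralizer (B : Set X)) inferInstance with h | h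
  · exact absurd h hB
  · rw [← Subgroup.normalizer_eq_top_iff, eq_top_iff, ← h]
    apply sup_le _ hT
    exact (Subgroup.centralizer_le hZB).trans (Subgroup.centralizer_le_normalizer _)

/-- The Thompson subgroup (elementary abelian version) of a subgroup, inside the ambient group. -/
def jSub (p : ℕ) (T : Subgroup X) : Subgroup X := sSup (famX p T)

/-- Its centre. -/
def zjSub (p : ℕ) (T : Subgroup X) : Subgroup X :=
  jSub p T ⊓ Subgroup.centralizer (jSub p T : Set X)

theorem famX_conj (e : ℕ) (P A : Subgroup X) (g : X) (hA : A ∈ famX e P)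
    (hg : g ∈ Subgroup.normalizer (P : Set X)) :
    A.map (MulAut.conj g).toMonoidHom ∈ famX e P := by
  have h := famX_aut e (MulAut.conj g) P A hA
  rw [Cfsg.Agent.Lib.Helper18.map_conj_eq_of_mem_normalizer P hg] at h
  exact h

theorem jSub_le (p : ℕ) (T : Subgroup X) : jSub p T ≤ T :=
  sSup_le (fun A hA => famX_le p T A hA)

theorem jSub_conj (p : ℕ) (T : Subgroup X) (g : X)
    (hg : g ∈ Subgroup.normalizer (T : Set X)) (x : X) (hx : x ∈ jSub p T) :
    g * x * g⁻¹ ∈ jSub p T := by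
  have h1 : jSub p T ≤ (jSub p T).comap (MulAut.conj g).toMonoidHom := by
    apply sSup_le
    intro A hA
    rw [← Subgroup.map_le_iff_le_comap]
    exact le_sSup (famX_conj p T A g hA hg)
  exact h1 hx

theorem zjSub_conj (p : ℕ) (T : Subgroup X) (g : X)
    (hg : g ∈ Subgroup.normalizer (T : Set X)) (x : X) (hx : x ∈ zjSub p T) :
    g * x * g⁻¹ ∈ zjSub p T := by
  obtain ⟨hx1, hx2⟩ := Subgroup.mem_inf.mp hx
  refine Subgroup.mem_inf.mpr ⟨jSub_conj p T g hg x hx1, ?_⟩
  rw [Subgroup.mem_centralizer_iff]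
  intro y hy
  have hy' : g⁻¹ * y * g⁻¹⁻¹ ∈ jSub p T :=
    jSub_conj p T g⁻¹ (Subgroup.inv_mem _ hg) y hy
  have h1 := (Subgroup.mem_centralizer_iff.mp hx2) _ hy'
  calc y * (g * x * g⁻¹) = g * ((g⁻¹ * y * g⁻¹⁻¹) * x) * g⁻¹ := by group
    _ = g * (x * (g⁻¹ * y * g⁻¹⁻¹)) * g⁻¹ := by rw [h1]
    _ = g * x * g⁻¹ * y := by group

theorem zjSub_comm (p : ℕ) (T : Subgroup X) (a b : X) (ha : a ∈ zjSub p T)
    (hb : b ∈ zjSub p T) : a * b = b * a :=
  ((Subgroup.mem_centralizer_iff.mp (Subgroup.mem_inf.mp hb).2) a (Subgroup.mem_inf.mp ha).1)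

theorem famX_elts_comm (e : ℕ) (P A : Subgroup X) (hA : A ∈ famX e P) (a b : X) (ha : a ∈ A)
    (hb : b ∈ A) : a * b = b * a := by
  have := hA.2.1
  exact setLike_mul_comm ha hb

theorem zjSub_comm_mem (p : ℕ) (T A : Subgroup X) (hA : A ∈ famX p T) (z a : X)
    (hz : z ∈ zjSub p T) (ha : a ∈ A) : a * z = z * a :=
  (Subgroup.mem_centralizer_iff.mp (Subgroup.mem_inf.mp hz).2) a (le_sSup hA ha)

/-- An element of order dividing `p` centralizing a member of the family lies in it. -/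
theorem famX_mem_of_comm [Finite X] (p : ℕ) (P A : Subgroup X) (hA : A ∈ famX p P) (b : X)
    (hb : b ∈ P) (hbp : b ^ p = 1) (hc : ∀ a ∈ A, a * b = b * a) : b ∈ A := by
  have hcomm := isMulCommutative_sup_zpowers A hA.2.1 b hc
  have hexp : ∀ y ∈ A ⊔ Subgroup.zpowers b, y ^ p = 1 := by
    apply pow_eq_one_of_mem_sup_comm A _ hcomm p hA.2.2.1
    rintro _ ⟨k, rfl⟩
    show (b ^ k) ^ p = 1
    rw [← zpow_natCast, ← zpow_mul, mul_comm, zpow_mul, zpow_natCast, hbp, one_zpow]
  have hle : A ⊔ Subgroup.zpowers b ≤ P := sup_le hA.1 (Subgroup.zpowers_le.mpr hb)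
  have hcard := hA.2.2.2 _ hle hcomm hexp
  have heq : A = A ⊔ Subgroup.zpowers b := Subgroup.eq_of_le_of_card_ge le_sup_left hcard
  rw [heq]
  exact Subgroup.mem_sup_right (Subgroup.mem_zpowers b)

theorem mem_centralizer_jSub (p : ℕ) (T : Subgroup X) (b : X)
    (h : ∀ A ∈ famX p T, ∀ a ∈ A, a * b = b * a) :
    b ∈ Subgroup.centralizer (jSub p T : Set X) := by
  have h1 : jSub p T ≤ Subgroup.centralizer ({b} : Set X) := by
    apply sSup_le
    intro A hA a ha
    show a ∈ Subgroup.centralizer _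
    rw [Subgroup.mem_centralizer_iff]
    intro y hy
    rw [Set.mem_singleton_iff] at hy
    subst hy
    exact (h A hA a ha).symm
  rw [Subgroup.mem_centralizer_iff]
  intro y hy
  exact ((Subgroup.mem_centralizer_iff.mp (h1 hy)) b rfl).symm

theorem normal_of_forall_normalizer (N : Subgroup X)
    (h : ∀ g : X, g ∈ Subgroup.normalizer (N : Set X)) : N.Normal := by
  rw [← Subgroup.normalizer_eq_top_iff, eq_top_iff]
  intro g _
  exact h g

theorem mem_normalizer_of_normal (N : Subgroup X) [hN : N.Normal] (g : X) :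
    g ∈ Subgroup.normalizer (N : Set X) := by
  rw [Subgroup.normalizer_eq_top_iff.mpr hN]
  exact Subgroup.mem_top g

set_option maxHeartbeats 1600000 in
theorem ZCfg.zj_inf_normal_aux [Finite X] {p : ℕ} [Fact p.Prime] {T H K : Subgroup X}
    (c : ZCfg p T H K) :
    ∀ (n : ℕ) (B : Subgroup X), B.Normal → IsPGroup p B → Nat.card B ≤ n →
      (zjSub p T ⊓ B).Normal := by
  have hp : p.Prime := Fact.out
  have hHn := c.Hn
  intro n
  induction n with
  | zero =>
    intro B _ _ hcard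
    have := Nat.card_pos (α := B)
    omega
  | succ n ih =>
    intro B hBn hB hcard
    by_contra hnot
    obtain ⟨Z, hZ⟩ : ∃ Z, Z = zjSub p T := ⟨_, rfl⟩
    rw [← hZ] at ih hnot
    have hBH : B ≤ H := c.Hmax B hBn hB
    have hBT : B ≤ T := hBH.trans c.HT
    have hTZ : ∀ t ∈ T, ∀ w ∈ Z, t * w * t⁻¹ ∈ Z := by
      intro t ht w hw
      rw [hZ] at hw ⊢
      exact zjSub_conj p T t (Subgroup.le_normalizer ht) w hw
    have hZcomm : ∀ a ∈ Z, ∀ b ∈ Z, a * b = b * a := by
      intro a ha b hb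
      rw [hZ] at ha hb
      exact zjSub_comm p T a b ha hb
    have hTN : T ≤ Subgroup.normalizer ((Z ⊓ B : Subgroup X) : Set X) := by
      intro t ht
      apply mem_normalizer_of_conj_mem_sub T _ _ ht
      intro t ht w hw
      exact Subgroup.mem_inf.mpr ⟨hTZ t ht w (Subgroup.mem_inf.mp hw).1,
        hBn.conj_mem w (Subgroup.mem_inf.mp hw).2 t⟩
    have hCB : Subgroup.centralizer (B : Set X) ≤ H := by
      by_contra h
      exact hnot (c.normal_of_not_le B (Z ⊓ B) inf_le_right hTN h)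
    have hB₁le : Subgroup.normalClosure ((Z ⊓ B : Subgroup X) : Set X) ≤ B :=
      Subgroup.normalClosure_le_normal inf_le_right
    have hB₁ : Subgroup.normalClosure ((Z ⊓ B : Subgroup X) : Set X) = B := by
      by_contra hne
      have hlt := lt_of_le_of_ne hB₁le hne
      have hc := card_lt_card_of_lt_sub hlt
      have h1 := ih _ Subgroup.normalClosure_normal (hB.to_le hB₁le) (by omega)
      have e : Z ⊓ B = Z ⊓ Subgroup.normalClosure ((Z ⊓ B : Subgroup X) : Set X) :=
        le_antisymm (le_inf inf_le_left Subgroup.le_normalClosure) (inf_le_inf_left Z hB₁le)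
      rw [e] at hnot
      exact hnot h1
    have hBne : B ≠ ⊥ := by
      rintro rfl
      apply hnot
      rw [inf_bot_eq]
      infer_instance
    have hcentral : ∀ N₀ : Subgroup X, N₀.Normal → N₀ ≤ Z ⊓ B →
        N₀ ≤ Subgroup.centralizer (B : Set X) := by
      intro N₀ hN₀ hle
      have hKn : (Subgroup.centralizer (N₀ : Set X)).Normal := inferInstance
      have h1 : Subgroup.normalClosure ((Z ⊓ B : Subgroup X) : Set X) ≤
          Subgroup.centralizer (N₀ : Set X) := by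
        apply Subgroup.normalClosure_le_normal
        intro z hz
        rw [SetLike.mem_coe, Subgroup.mem_centralizer_iff]
        intro y hy
        exact hZcomm y (Subgroup.mem_inf.mp (hle hy)).1 z (Subgroup.mem_inf.mp hz).1
      rw [hB₁] at h1
      intro y hy
      rw [Subgroup.mem_centralizer_iff]
      intro b hb
      exact ((Subgroup.mem_centralizer_iff.mp (h1 hb)) y hy).symm
    -- the derived subgroup
    have hB'lt : ⁅B, B⁆ < B :=
      Cfsg.Agent.Lib.Helper1.commutator_lt_of_pgroups hB hB Subgroup.le_normalizer hBne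
    have hB'n : (⁅B, B⁆).Normal := Subgroup.commutator_normal B B
    have hYn : (Z ⊓ ⁅B, B⁆).Normal := by
      have hc := card_lt_card_of_lt_sub hB'lt
      exact ih _ hB'n (hB.to_le hB'lt.le) (by omega)
    have hB'Z : ⁅B, B⁆ ≤ Z := by
      have h1 : ⁅Subgroup.normalClosure ((Z ⊓ B : Subgroup X) : Set X), B⁆ ≤ Z ⊓ ⁅B, B⁆ := by
        apply commutator_normalClosure_le
        intro z hz x hx
        obtain ⟨hzW, hzB⟩ := Subgroup.mem_inf.mp hz
        refine Subgroup.mem_inf.mpr ⟨?_, Subgroup.commutator_mem_commutator hzB hx⟩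
        have e : ⁅z, x⁆ = z * (x * z⁻¹ * x⁻¹) := by
          simp only [commutatorElement_def]; group
        rw [e]
        exact Z.mul_mem hzW (hTZ x (hBT hx) _ (Z.inv_mem hzW))
      rw [hB₁] at h1
      exact h1.trans inf_le_left
    have hB'c : ⁅B, B⁆ ≤ Subgroup.centralizer (B : Set X) :=
      hcentral _ hB'n (le_inf hB'Z hB'lt.le)
    -- the Frattini subgroup
    obtain ⟨Φ, hΦ⟩ : ∃ Φ, Φ = (frattini ↥B).map B.subtype := ⟨_, rfl⟩
    have hΦn : Φ.Normal := by
      apply normal_of_forall_normalizer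
      intro g
      rw [hΦ]
      exact Cfsg.Agent.Lib.Helper18.normalizer_le_normalizer_map_frattini B
        (mem_normalizer_of_normal B g)
    have hΦle : Φ ≤ B := hΦ ▸ Subgroup.map_subtype_le _
    have hΦlt : Φ < B := by
      refine lt_of_le_of_ne hΦle ?_
      intro heq
      have hfr : frattini ↥B = ⊤ := by
        apply Subgroup.map_injective B.subtype_injective
        rw [← hΦ, heq, ← MonoidHom.range_eq_map, Subgroup.range_subtype]
      have hnt : Nontrivial ↥B := by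
        obtain ⟨v, hv⟩ := (Subgroup.ne_bot_iff_exists_ne_one).mp hBne
        exact ⟨⟨v, 1, hv⟩⟩
      obtain ⟨M, hM⟩ : ∃ M : Subgroup ↥B, IsCoatom M := by
        rcases IsCoatomic.eq_top_or_exists_le_coatom (⊥ : Subgroup ↥B) with h | ⟨M, hM, -⟩
        · exact absurd h bot_ne_top
        · exact ⟨M, hM⟩
      have h1 := frattini_le_coatom hM
      rw [hfr] at h1
      exact hM.1 (top_le_iff.mp h1)
    have hpowΦ : ∀ b ∈ B, b ^ p ∈ Φ := by
      intro b hb
      rw [hΦ]
      exact ⟨⟨b, hb⟩ ^ p, Cfsg.Agent.Lib.Helper28.pow_mem_frattini hB ⟨b, hb⟩, rfl⟩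
    -- the normal closure of the `p`-th powers
    obtain ⟨B₀, hB₀⟩ : ∃ B₀, B₀ = Subgroup.normalClosure {y : X | ∃ z ∈ Z ⊓ B, y = z ^ p} :=
      ⟨_, rfl⟩
    have hB₀n : B₀.Normal := hB₀ ▸ Subgroup.normalClosure_normal
    have hB₀Φ : B₀ ≤ Φ := by
      rw [hB₀]
      apply Subgroup.normalClosure_le_normal
      rintro _ ⟨z, hz, rfl⟩
      exact hpowΦ z (Subgroup.mem_inf.mp hz).2
    have hB₀lt : B₀ < B := lt_of_le_of_lt hB₀Φ hΦlt
    have hpowB₀ : ∀ z ∈ Z ⊓ B, z ^ p ∈ B₀ := by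
      intro z hz
      rw [hB₀]
      exact Subgroup.subset_normalClosure ⟨z, hz, rfl⟩
    have hB₀Z : B₀ ≤ Z := by
      have hc := card_lt_card_of_lt_sub hB₀lt
      have h1 : (Z ⊓ B₀).Normal := ih B₀ hB₀n (hB.to_le hB₀lt.le) (by omega)
      have h2 : Subgroup.normalClosure {y : X | ∃ z ∈ Z ⊓ B, y = z ^ p} ≤ Z ⊓ B₀ := by
        apply Subgroup.normalClosure_le_normal
        rintro _ ⟨z, hz, rfl⟩
        exact Subgroup.mem_inf.mpr ⟨Z.pow_mem (Subgroup.mem_inf.mp hz).1 p, hpowB₀ z hz⟩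
      rw [← hB₀] at h2
      exact h2.trans inf_le_left
    have hB₀c : B₀ ≤ Subgroup.centralizer (B : Set X) :=
      hcentral B₀ hB₀n (le_inf hB₀Z hB₀lt.le)
    -- commutators have order dividing `p`
    have hexp : ∀ c' ∈ ⁅B, B⁆, c' ^ p = 1 := by
      let E : Subgroup X :=
        { carrier := {y | y ∈ ⁅B, B⁆ ∧ y ^ p = 1}
          one_mem' := ⟨Subgroup.one_mem _, one_pow _⟩
          mul_mem' := by
            rintro a b ⟨ha, ha'⟩ ⟨hb, hb'⟩
            refine ⟨Subgroup.mul_mem _ ha hb, ?_⟩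
            have hab : Commute a b :=
              ((Subgroup.mem_centralizer_iff.mp (hB'c ha)) b (hB'lt.le hb)).symm
            rw [hab.mul_pow, ha', hb', one_mul]
          inv_mem' := by
            rintro a ⟨ha, ha'⟩
            exact ⟨Subgroup.inv_mem _ ha, by rw [inv_pow, ha', inv_one]⟩ }
      have hEn : E.Normal := by
        refine ⟨fun y hy g => ⟨hB'n.conj_mem y hy.1 g, ?_⟩⟩
        rw [conj_pow, hy.2]; simp
      have h1 : ⁅Subgroup.normalClosure ((Z ⊓ B : Subgroup X) : Set X), B⁆ ≤ E := by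
        apply commutator_normalClosure_le
        intro z hz x hx
        have hzB := (Subgroup.mem_inf.mp hz).2
        have hcc : ⁅z, x⁆ ∈ ⁅B, B⁆ := Subgroup.commutator_mem_commutator hzB hx
        refine ⟨hcc, ?_⟩
        have hcz : z * ⁅z, x⁆ = ⁅z, x⁆ * z :=
          ((Subgroup.mem_centralizer_iff.mp (hB'c hcc)) z hzB)
        have h2 := conj_pow_of_comm z x ⁅z, x⁆ (by rw [commutatorElement_def]; group) hcz p
        have h3 : z ^ p * x * (z ^ p)⁻¹ = x := by
          have := (Subgroup.mem_centralizer_iff.mp (hB₀c (hpowB₀ z hz))) x hx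
          rw [← this]; group
        rw [h3] at h2
        have h4 : ⁅z, x⁆ ^ p * x = 1 * x := by rw [one_mul]; exact h2.symm
        exact mul_right_cancel h4
      rw [hB₁] at h1
      intro c' hc'
      exact (h1 hc').2
    have hB'A : ∀ A ∈ famX p T, ⁅B, B⁆ ≤ A := by
      intro A hA c' hc'
      apply famX_mem_of_comm p T A hA c' (hBT (hB'lt.le hc')) (hexp c' hc')
      intro a ha
      exact zjSub_comm_mem p T A hA c' a (hZ ▸ hB'Z hc') ha
    have hexA₀ : ∃ A₀ ∈ famX p T, ¬ B ≤ A₀ := by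
      by_contra hcon
      push Not at hcon
      apply hnot
      have hBZ : B ≤ Z := by
        rw [hZ]
        intro b hb
        obtain ⟨A₁, hA₁⟩ := famX_nonempty p T
        refine Subgroup.mem_inf.mpr ⟨le_sSup hA₁ (hcon A₁ hA₁ hb), ?_⟩
        apply mem_centralizer_jSub
        intro A hA a ha
        exact famX_elts_comm p T A hA a b ha (hcon A hA hb)
      rw [inf_eq_right.mpr hBZ]
      exact hBn
    obtain ⟨A₀, hA₀F, hBA₀⟩ := hexA₀
    obtain ⟨A, hAF, hBA, hBNA⟩ :=
      famX_repl c.hp2 p T B c.Tp hBn hBT A₀ hA₀F (hB'A A₀ hA₀F) hBA₀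
    have hquadA : ∀ (V A' : Subgroup X), A' ∈ famX p T → V ≤ Subgroup.normalizer (A' : Set X) →
        ∀ a ∈ A', ∀ v ∈ V, a * (a * v * a⁻¹ * v⁻¹) = (a * v * a⁻¹ * v⁻¹) * a := by
      intro V A' hA' hVN a ha v hv
      have h1 : v * a⁻¹ * v⁻¹ ∈ A' :=
        (Subgroup.mem_normalizer_iff.mp (hVN hv) a⁻¹).mp (A'.inv_mem ha)
      have h2 : a * v * a⁻¹ * v⁻¹ ∈ A' := by
        have e : a * v * a⁻¹ * v⁻¹ = a * (v * a⁻¹ * v⁻¹) := by group
        rw [e]; exact A'.mul_mem ha h1
      exact famX_elts_comm p T A' hA' _ _ ha h2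
    have hAH : A ≤ H := by
      intro a ha
      have : B.Normal := hBn
      exact c.quad_mem B hB hCB a (famX_le p T A hAF ha) (hquadA B A hAF hBNA a ha)
    obtain ⟨hAFH, hsub⟩ := famX_mono p T H A c.HT hAF hAH
    obtain ⟨R, hR⟩ : ∃ R, R = jSub p H := ⟨_, rfl⟩
    have hRn : R.Normal := by
      refine ⟨fun y hy g => ?_⟩
      rw [hR] at hy ⊢
      exact jSub_conj p H g (mem_normalizer_of_normal H g) y hy
    have hRJ : R ≤ jSub p T := hR ▸ sSup_le_sSup hsub
    have hZR : Z ≤ Subgroup.centralizer (R : Set X) := by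
      rw [hZ]
      exact inf_le_right.trans (Subgroup.centralizer_le hRJ)
    have hBR : B ≤ Subgroup.centralizer (R : Set X) := by
      have h1 : Subgroup.normalClosure ((Z ⊓ B : Subgroup X) : Set X) ≤
          Subgroup.centralizer (R : Set X) :=
        Subgroup.normalClosure_le_normal (fun z hz => hZR (Subgroup.mem_inf.mp hz).1)
      rwa [hB₁] at h1
    obtain ⟨VR, hVR⟩ : ∃ VR, VR = sInf (famX p H) := ⟨_, rfl⟩
    have hVRn : VR.Normal := by
      refine ⟨fun y hy g => ?_⟩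
      rw [hVR] at hy ⊢
      exact sInf_conj_mem (fun P => famX p P) (fun P A g hA hg => famX_conj p P A g hA hg) H g
        (mem_normalizer_of_normal H g) y hy
    have hVRA : VR ≤ A := hVR ▸ sInf_le hAFH
    have hVRH : VR ≤ H := hVRA.trans hAH
    have hVRp : IsPGroup p VR := c.Hp.to_le hVRH
    have hVRcomm : ∀ a ∈ VR, ∀ b ∈ VR, a * b = b * a := fun a ha b hb =>
      famX_elts_comm p T A hAF a b (hVRA ha) (hVRA hb)
    have hΩ : ∀ b ∈ B, b ^ p = 1 → b ∈ VR := by
      intro b hb hbp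
      rw [hVR, Subgroup.mem_sInf]
      intro A' hA'
      apply famX_mem_of_comm p H A' hA' b (hBH hb) hbp
      intro a ha
      exact (Subgroup.mem_centralizer_iff.mp (hBR hb)) a (hR ▸ le_sSup hA' ha)
    have hCVR : ¬ Subgroup.centralizer (VR : Set X) ≤ H := by
      intro hle
      have hall : ∀ A₂ ∈ famX p T, VR ≤ A₂ := by
        intro A₂ hA₂
        by_contra hnle
        have hcomm0 : ⁅VR, VR⁆ ≤ A₂ := by
          have h0 : ⁅VR, VR⁆ = ⊥ := by
            rw [Subgroup.commutator_eq_bot_iff_le_centralizer]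
            intro a ha
            show a ∈ Subgroup.centralizer _
            rw [Subgroup.mem_centralizer_iff]
            intro b hb
            exact hVRcomm b hb a ha
          rw [h0]; exact bot_le
        obtain ⟨A₃, hA₃F, hVA₃, hVNA₃⟩ :=
          famX_repl c.hp2 p T VR c.Tp hVRn (hVRH.trans c.HT) A₂ hA₂ hcomm0 hnle
        have hA₃H : A₃ ≤ H := by
          intro a ha
          exact c.quad_mem VR hVRp hle a (famX_le p T A₃ hA₃F ha) (hquadA VR A₃ hA₃F hVNA₃ a ha)
        have h5 := (famX_mono p T H A₃ c.HT hA₃F hA₃H).1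
        exact hVA₃ (hVR ▸ sInf_le h5)
      have hFsub : famX p T ⊆ famX p H := by
        intro A₂ hA₂
        have hA₂H : A₂ ≤ H := by
          intro a ha
          apply hle
          rw [Subgroup.mem_centralizer_iff]
          intro v hv
          exact famX_elts_comm p T A₂ hA₂ v a (hall A₂ hA₂ hv) ha
        exact (famX_mono p T H A₂ c.HT hA₂ hA₂H).1
      have hFeq : famX p H = famX p T := Set.Subset.antisymm hsub hFsub
      have hJeq : jSub p T = R := by rw [hR]; unfold jSub; rw [hFeq]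
      apply hnot
      have hZn : Z.Normal := by
        rw [hZ]; unfold zjSub; rw [hJeq]; infer_instance
      infer_instance
    obtain ⟨M, hM⟩ : ∃ M, M = Subgroup.normalClosure
        {y : X | y ∈ Subgroup.centralizer (VR : Set X) ∧ (orderOf y).Coprime p} := ⟨_, rfl⟩
    have hMn : M.Normal := hM ▸ Subgroup.normalClosure_normal
    have hMB : M ≤ Subgroup.centralizer (B : Set X) := by
      rw [hM]
      apply Subgroup.normalClosure_le_normal
      rintro y ⟨hy, hyo⟩
      rw [SetLike.mem_coe, Subgroup.mem_centralizer_iff]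
      intro b hb
      exact Cfsg.Agent.S2910.centralizes_of_omega c.hp2 B hB y (mem_normalizer_of_normal B y) hyo
        (fun a ha hap => (Subgroup.mem_centralizer_iff.mp hy) a (hΩ a ha hap)) b hb
    rcases c.dich M hMn with hMH | hMT
    · apply hCVR
      apply c.Hmax _ inferInstance
      apply Cfsg.Agent.Lib.Helper1.isPGroup_of_forall_coprime_eq_one
      intro g hg hgo
      have hgM : g ∈ M := by
        rw [hM]
        exact Subgroup.subset_normalClosure ⟨hg, hgo⟩
      exact Cfsg.Agent.Lib.Helper1.eq_one_of_pgroup_of_coprime c.Hp (hMH hgM) hgo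
    · have h1 : Subgroup.centralizer (B : Set X) ⊔ T = ⊤ :=
        top_le_iff.mp (hMT ▸ sup_le_sup_right hMB T)
      have h2 : T = ⊤ := by
        rw [← h1]
        exact (sup_eq_right.mpr (hCB.trans c.HT)).symm
      apply hnot
      rw [← Subgroup.normalizer_eq_top_iff]
      exact top_le_iff.mp (h2 ▸ hTN)

/-- In the configuration, `Z(J(T))` is normal. -/
theorem ZCfg.zjSub_normal [Finite X] {p : ℕ} [Fact p.Prime] {T H K : Subgroup X}
    (c : ZCfg p T H K) : (zjSub p T).Normal := by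
  have hHn := c.Hn
  have hZH : zjSub p T ≤ H := by
    intro a ha
    have haT : a ∈ T := jSub_le p T (Subgroup.mem_inf.mp ha).1
    apply c.quad_mem H c.Hp c.Hcent a haT
    intro v hv
    have h1 : v * a⁻¹ * v⁻¹ ∈ zjSub p T :=
      zjSub_conj p T v (Subgroup.le_normalizer (c.HT hv)) a⁻¹ (Subgroup.inv_mem _ ha)
    have h2 : a * v * a⁻¹ * v⁻¹ ∈ zjSub p T := by
      have e : a * v * a⁻¹ * v⁻¹ = a * (v * a⁻¹ * v⁻¹) := by group
      rw [e]; exact Subgroup.mul_mem _ ha h1
    exact zjSub_comm p T _ _ ha h2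
  have h := c.zj_inf_normal_aux (Nat.card H) H c.Hn c.Hp le_rfl
  rwa [inf_eq_left.mpr hZH] at h

end Cfsg.Agent.Lib.Helper2
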