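import Mathlib
import Cfsg.Agent.Lib.Helper2.ZJe
import Cfsg.Agent.Lib.Helper1.CoprimeSylow
import Cfsg.Agent.S2005

set_option autoImplicit false

/-!
The functor `Q ↦ Z(J(Q))` (elementary abelian version of the Thompson subgroup) satisfies the
local hypothesis of the Thompson-type normal `p`-complement theorem for odd `p`.
-/

namespace Cfsg.Agent.Lib.Helper2

open Cfsg Cfsg.Agent.Lib.Helper6 Cfsg.Agent.Lib.Helper14
open scoped commutatorElement

universe u

theorem card_sup_of_normalizer {Y : Type u} [Group Y] [Finite Y] (U S : Subgroup Y)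
    (hSU : S ≤ Subgroup.normalizer (U : Set Y)) (hd : U ⊓ S = ⊥) :
    Nat.card (U ⊔ S : Subgroup Y) = Nat.card U * Nat.card S := by
  have h1 := Subgroup.relIndex_mul_relIndex ⊥ U (U ⊔ S) bot_le le_sup_left
  rw [Subgroup.relIndex_bot_left, Subgroup.relIndex_bot_left,
    Cfsg.Agent.Lib.Helper1.relIndex_sup_eq_card hSU hd] at h1
  exact h1.symm

/-- A normal `p'`-subgroup supplementing a maximal `p`-subgroup is abelian. -/
theorem abelian_of_coatom {Y : Type u} [Group Y] [Finite Y] {p : ℕ} [Fact p.Prime]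
    (N S : Subgroup Y) [hNn : N.Normal] (hN : (Nat.card N).Coprime p) (hS : IsPGroup p S)
    (hco : IsCoatom S) : ∀ a ∈ N, ∀ b ∈ N, a * b = b * a := by
  have hp : p.Prime := Fact.out
  obtain ⟨k, hk⟩ := IsPGroup.iff_card.mp hS
  have hcop : (Nat.card N).Coprime (Nat.card S) := by
    rw [hk]; exact Nat.Coprime.pow_right k hN
  have hdisj : N ⊓ S = ⊥ := (Subgroup.disjoint_of_coprime_natCard hcop).eq_bot
  have hSN : S ≤ Subgroup.normalizer (N : Set Y) := by
    rw [Subgroup.normalizer_eq_top_iff.mpr hNn]; exact le_top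
  have key : ∀ U : Subgroup Y, U ≤ N → S ≤ Subgroup.normalizer (U : Set Y) → U = ⊥ ∨ U = N := by
    intro U hUN hSU
    have hUS : U ⊓ S = ⊥ := le_bot_iff.mp ((inf_le_inf_right S hUN).trans hdisj.le)
    rcases eq_or_lt_of_le (le_sup_right : S ≤ U ⊔ S) with h | h
    · left
      have h1 : U ≤ S := by
        calc U ≤ U ⊔ S := le_sup_left
          _ = S := h.symm
      exact le_bot_iff.mp ((le_inf hUN h1).trans hdisj.le)
    · right
      have h1 : U ⊔ S = ⊤ := hco.2 _ h
      have h2 : N ⊔ S = ⊤ := top_le_iff.mp (h1 ▸ sup_le_sup_right hUN S)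
      have c1 := card_sup_of_normalizer U S hSU hUS
      have c2 := card_sup_of_normalizer N S hSN hdisj
      rw [h1] at c1
      rw [h2] at c2
      have hpos : 0 < Nat.card S := Nat.card_pos
      have h3 : Nat.card U = Nat.card N :=
        Nat.eq_of_mul_eq_mul_right hpos (c1.symm.trans c2)
      exact Subgroup.eq_of_le_of_card_ge hUN h3.ge
  by_cases hNbot : N = ⊥
  · intro a ha b hb
    rw [hNbot, Subgroup.mem_bot] at ha hb
    rw [ha, hb]
  have hcard1 : Nat.card N ≠ 1 := fun h => hNbot (Subgroup.card_eq_one.mp h)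
  obtain ⟨q, hq, hqdvd⟩ := Nat.exists_prime_and_dvd hcard1
  have : Fact q.Prime := ⟨hq⟩
  have hsolv : Group.IsSolvable S := by
    have := hS.isNilpotent
    infer_instance
  obtain ⟨Q, hQ⟩ := Cfsg.Agent.Lib.Helper1.exists_invariant_sylow S N hSN hcop.symm
    (Or.inl hsolv) q
  have hQne : (Q : Subgroup N).map N.subtype ≠ ⊥ := by
    intro h
    have h1 : (Q : Subgroup N) = ⊥ := by
      apply Subgroup.map_injective N.subtype_injective
      rw [h, Subgroup.map_bot]
    exact Sylow.ne_bot_of_dvd_card Q hqdvd h1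
  have hQN : (Q : Subgroup N).map N.subtype = N := by
    rcases key _ (Subgroup.map_subtype_le _) hQ with h | h
    · exact absurd h hQne
    · exact h
  have hNq : IsPGroup q N := by
    have h1 : IsPGroup q ((Q : Subgroup N).map N.subtype) := Q.isPGroup'.map _
    rw [hQN] at h1
    exact h1
  have hlt : ⁅N, N⁆ < N :=
    Cfsg.Agent.Lib.Helper1.commutator_lt_of_pgroups hNq hNq Subgroup.le_normalizer hNbot
  have hcn : (⁅N, N⁆).Normal := Subgroup.commutator_normal N N
  have hcS : S ≤ Subgroup.normalizer ((⁅N, N⁆ : Subgroup Y) : Set Y) := by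
    rw [Subgroup.normalizer_eq_top_iff.mpr hcn]; exact le_top
  have hbot : ⁅N, N⁆ = ⊥ := by
    rcases key _ hlt.le hcS with h | h
    · exact h
    · exact absurd h hlt.ne
  rw [Subgroup.commutator_eq_bot_iff_le_centralizer] at hbot
  intro a ha b hb
  exact ((Subgroup.mem_centralizer_iff.mp (hbot ha)) b hb).symm

/-- The configuration arising from the local hypothesis. -/
theorem zcfg_of_good {X : Type u} [Group X] [Finite X] {p : ℕ} [Fact p.Prime] (hp2 : p ≠ 2)
    (hC : Subgroup.centralizer ((Cfsg.pCore p X : Subgroup X) : Set X) ≤ Cfsg.pCore p X)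
    (hPC : Cfsg.HasNormalPComplement p (X ⧸ Cfsg.pCore p X)) (T : Sylow p X)
    (hT : IsCoatom (T : Subgroup X)) :
    ∃ K : Subgroup X, ZCfg p (T : Subgroup X) (Cfsg.pCore p X) K := by
  have hp : p.Prime := Fact.out
  have hHn : (Cfsg.pCore p X).Normal := inferInstance
  have hHp : IsPGroup p (Cfsg.pCore p X) := Cfsg.Agent.Lib.Helper1.pCore_isPGroup p
  have hHT : Cfsg.pCore p X ≤ (T : Subgroup X) := Cfsg.Agent.Lib.Helper1.pCore_le_sylow T
  have hHmax : ∀ N : Subgroup X, N.Normal → IsPGroup p N → N ≤ Cfsg.pCore p X := by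
    intro N hN hNp
    exact Cfsg.Agent.Lib.Helper1.le_pCore p hN hNp
  rw [← pnilp_iff] at hPC
  obtain ⟨N, hNn, hNcop, j, hNidx⟩ := hPC
  obtain ⟨π, hπ⟩ : ∃ π : X →* X ⧸ Cfsg.pCore p X, π = QuotientGroup.mk' (Cfsg.pCore p X) :=
    ⟨_, rfl⟩
  have hπs : Function.Surjective π := hπ ▸ QuotientGroup.mk'_surjective _
  have hπker : ∀ g : X, π g = 1 ↔ g ∈ Cfsg.pCore p X := by
    intro g
    rw [hπ]
    exact QuotientGroup.eq_one_iff g
  have hdich : ∀ M : Subgroup X, M.Normal →
      M ≤ Cfsg.pCore p X ∨ M ⊔ (T : Subgroup X) = ⊤ := by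
    intro M hM
    rcases eq_or_lt_of_le (le_sup_right : (T : Subgroup X) ≤ M ⊔ T) with h | h
    · left
      have h1 : M ≤ (T : Subgroup X) := by
        calc M ≤ M ⊔ T := le_sup_left
          _ = T := h.symm
      exact hHmax M hM (T.isPGroup'.to_le h1)
    · right
      exact hT.2 _ h
  -- the image of `T`
  obtain ⟨S, hS⟩ : ∃ S, S = (T : Subgroup X).map π := ⟨_, rfl⟩
  have hSp : IsPGroup p S := hS ▸ T.isPGroup'.map π
  have hScomap : S.comap π = T := by
    rw [hS]
    apply Subgroup.comap_map_eq_self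
    intro g hg
    exact hHT ((hπker g).mp hg)
  have hSco : IsCoatom S := by
    constructor
    · intro h
      apply hT.1
      rw [← hScomap, h, Subgroup.comap_top]
    · intro U hU
      have h1 : (T : Subgroup X) < U.comap π := by
        rw [← hScomap]
        refine lt_of_le_of_ne (Subgroup.comap_mono hU.le) ?_
        intro h
        have h2 := congrArg (Subgroup.map π) h
        rw [Subgroup.map_comap_eq_self_of_surjective hπs,
          Subgroup.map_comap_eq_self_of_surjective hπs] at h2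
        exact hU.ne h2
      have h3 := hT.2 _ h1
      have h4 := congrArg (Subgroup.map π) h3
      rw [Subgroup.map_comap_eq_self_of_surjective hπs] at h4
      rw [h4, ← MonoidHom.range_eq_map]
      exact MonoidHom.range_eq_top.mpr hπs
  have hNab := abelian_of_coatom N S hNcop hSp hSco
  refine ⟨N.comap π, ?_⟩
  have hKn : (N.comap π).Normal := hNn.comap π
  refine ⟨hp2, T.isPGroup', hHn, hHp, hHT, hHmax, hC, hKn, ?_, ?_, hdich, ?_⟩
  · intro a ha b hb
    rw [← hπker]
    have h1 := hNab (π a) ha (π b) hb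
    simp only [map_mul, map_inv]
    rw [h1]; group
  · refine ⟨Nat.card N, hNcop, ?_⟩
    intro k hk
    rw [← hπker, map_pow]
    have h1 : (⟨π k, hk⟩ : N) ^ Nat.card N = 1 := pow_card_eq_one'
    exact congrArg Subtype.val h1
  · -- the product decomposition
    have hsup : N.comap π ⊔ (T : Subgroup X) = ⊤ := by
      rcases hdich (N.comap π) hKn with h | h
      · exfalso
        -- `N` is trivial, so the quotient is a `p`-group and so is `X`
        have hNbot : N = ⊥ := by
          rw [eq_bot_iff]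
          intro y hy
          obtain ⟨x, rfl⟩ := hπs y
          have : x ∈ Cfsg.pCore p X := h hy
          rw [Subgroup.mem_bot]
          exact (hπker x).mpr this
        have hXp : IsPGroup p X := by
          have hq : IsPGroup p (X ⧸ Cfsg.pCore p X) := by
            apply IsPGroup.of_card (n := j)
            rw [← hNidx, hNbot, Subgroup.index_bot]
          intro x
          obtain ⟨a, ha⟩ := hq (π x)
          have h1 : x ^ p ^ a ∈ Cfsg.pCore p X := by
            rw [← hπker, map_pow]; exact ha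
          obtain ⟨b, hb⟩ := hHp ⟨x ^ p ^ a, h1⟩
          refine ⟨a + b, ?_⟩
          have h2 : (x ^ p ^ a) ^ p ^ b = 1 := congrArg Subtype.val hb
          rw [pow_add, pow_mul]
          exact h2
        apply hT.1
        apply Subgroup.eq_top_of_card_eq
        rw [Sylow.card_eq_multiplicity]
        obtain ⟨n, hn⟩ := IsPGroup.iff_card.mp hXp
        rw [hn, hp.factorization_pow]
        simp
      · exact h
    intro x
    have hx : x ∈ (N.comap π ⊔ (T : Subgroup X) : Subgroup X) := by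
      rw [hsup]; exact Subgroup.mem_top x
    rw [← SetLike.mem_coe, Subgroup.normal_mul] at hx
    obtain ⟨k, hk, t, ht, rfl⟩ := Set.mem_mul.mp hx
    exact ⟨k, hk, t, ht, rfl⟩

/-- The functor `Q ↦ Z(J(Q))`. -/
def zjFun (p : ℕ) : ∀ (Q : Type u) [Group Q], Subgroup Q :=
  fun Q _ => Cfsg.thompsonSubgroup p Q ⊓ Subgroup.centralizer (Cfsg.thompsonSubgroup p Q : Set Q)

theorem thompsonSubgroup_eq_jSub (p : ℕ) (Q : Type u) [Group Q] :
    Cfsg.thompsonSubgroup p Q = jSub p (⊤ : Subgroup Q) := by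
  unfold Cfsg.thompsonSubgroup jSub
  congr 1
  ext A
  exact mem_maxElementaryAbelianSubgroups_iff p Q A

theorem map_subtype_jSub_top {X : Type u} [Group X] (p : ℕ) (T : Subgroup X) :
    (jSub p (⊤ : Subgroup ↥T)).map T.subtype = jSub p T := by
  apply le_antisymm
  · rw [Subgroup.map_le_iff_le_comap]
    apply sSup_le
    intro A' hA'
    rw [← Subgroup.map_le_iff_le_comap]
    exact le_sSup (famX_map_subtype p T A' hA')
  · apply sSup_le
    intro A hA
    have h1 : A.subgroupOf T ≤ jSub p (⊤ : Subgroup ↥T) := le_sSup (famX_subgroupOf p T A hA)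
    have h2 := Subgroup.map_mono (f := T.subtype) h1
    rw [Subgroup.map_subgroupOf_eq_of_le hA.1] at h2
    exact h2

theorem map_subtype_inf_centralizer {X : Type u} [Group X] (T : Subgroup X) (J : Subgroup ↥T) :
    (J ⊓ Subgroup.centralizer (J : Set ↥T)).map T.subtype =
      J.map T.subtype ⊓ Subgroup.centralizer ((J.map T.subtype : Subgroup X) : Set X) := by
  ext x
  constructor
  · rintro ⟨y, hy, rfl⟩
    obtain ⟨hy1, hy2⟩ := Subgroup.mem_inf.mp hy
    refine Subgroup.mem_inf.mpr ⟨Subgroup.mem_map_of_mem _ hy1, ?_⟩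
    rw [Subgroup.mem_centralizer_iff]
    rintro _ ⟨z, hz, rfl⟩
    have h1 := (Subgroup.mem_centralizer_iff.mp hy2) z hz
    exact congrArg Subtype.val h1
  · intro hx
    obtain ⟨hx1, hx2⟩ := Subgroup.mem_inf.mp hx
    obtain ⟨y, hy, rfl⟩ := hx1
    refine ⟨y, Subgroup.mem_inf.mpr ⟨hy, ?_⟩, rfl⟩
    rw [Subgroup.mem_centralizer_iff]
    intro z hz
    apply Subtype.ext
    exact (Subgroup.mem_centralizer_iff.mp hx2) _ (Subgroup.mem_map_of_mem _ hz)

theorem inducedFunctor_zjFun {X : Type u} [Group X] (p : ℕ) (T : Subgroup X) :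
    Cfsg.inducedFunctor (zjFun p) T = zjSub p T := by
  unfold Cfsg.inducedFunctor zjFun zjSub
  rw [map_subtype_inf_centralizer, thompsonSubgroup_eq_jSub, map_subtype_jSub_top]

theorem inducedFunctor_zjFun' {X : Type u} [Group X] (p : ℕ) (T : Subgroup X) :
    Cfsg.inducedFunctor (zjFun p) T = Cfsg.centerThompsonOf p T := by
  unfold Cfsg.inducedFunctor zjFun Cfsg.centerThompsonOf Cfsg.thompsonSubgroupOf
  rw [map_subtype_inf_centralizer]

theorem thompsonSubgroup_map_le (p : ℕ) (Q R : Type u) [Group Q] [Group R] (φ : Q ≃* R) :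
    (Cfsg.thompsonSubgroup p Q).map φ.toMonoidHom ≤ Cfsg.thompsonSubgroup p R := by
  unfold Cfsg.thompsonSubgroup
  rw [Subgroup.map_le_iff_le_comap]
  apply sSup_le
  intro A hA
  rw [← Subgroup.map_le_iff_le_comap]
  apply le_sSup
  obtain ⟨⟨hA1, hA2⟩, hA3⟩ := hA
  refine ⟨⟨inferInstance, ?_⟩, ?_⟩
  · rintro _ ⟨a, ha, rfl⟩
    show (φ a) ^ p = 1
    rw [← map_pow, hA2 a ha, map_one]
  · intro B hB
    have hB' : Cfsg.IsElementaryAbelian p (B.map φ.symm.toMonoidHom) := by
      have := hB.1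
      refine ⟨inferInstance, ?_⟩
      rintro _ ⟨b, hb, rfl⟩
      show (φ.symm b) ^ p = 1
      rw [← map_pow, hB.2 b hb, map_one]
    have h1 := hA3 _ hB'
    rw [Subgroup.card_map_of_injective φ.symm.injective] at h1
    rw [Subgroup.card_map_of_injective φ.injective]
    exact h1

theorem zjFun_map_le (p : ℕ) (Q R : Type u) [Group Q] [Group R] (φ : Q ≃* R) :
    (zjFun p Q).map φ.toMonoidHom ≤ zjFun p R := by
  rintro _ ⟨x, hx, rfl⟩
  obtain ⟨hx1, hx2⟩ := Subgroup.mem_inf.mp hx
  refine Subgroup.mem_inf.mpr ⟨thompsonSubgroup_map_le p Q R φ (Subgroup.mem_map_of_mem _ hx1), ?_⟩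
  rw [Subgroup.mem_centralizer_iff]
  intro y hy
  have hy' : φ.symm y ∈ Cfsg.thompsonSubgroup p Q :=
    thompsonSubgroup_map_le p R Q φ.symm (Subgroup.mem_map_of_mem _ hy)
  have h1 := (Subgroup.mem_centralizer_iff.mp hx2) _ hy'
  have h2 := congrArg φ h1
  rw [map_mul, map_mul, MulEquiv.apply_symm_apply] at h2
  exact h2

theorem isCharPFunctor_zjFun (p : ℕ) [Fact p.Prime] : Cfsg.IsCharPFunctor.{u} p (zjFun p) := by
  have hp : p.Prime := Fact.out
  constructor
  · intro Q _ _ hQ hnt
    -- an element of order `p`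
    have hdvd : p ∣ Nat.card Q := by
      obtain ⟨n, hn⟩ := IsPGroup.iff_card.mp hQ
      rcases Nat.eq_zero_or_pos n with h0 | hpos
      · exfalso
        rw [h0, pow_zero] at hn
        have := (Nat.card_eq_one_iff_unique.mp hn).1
        exact not_subsingleton Q this
      · rw [hn]; exact dvd_pow_self p hpos.ne'
    obtain ⟨x, hx⟩ := exists_prime_orderOf_dvd_card' p hdvd
    have hxne : x ≠ 1 := by
      intro h
      rw [h, orderOf_one] at hx
      exact hp.one_lt.ne hx
    obtain ⟨A, hA⟩ := famX_nonempty p (⊤ : Subgroup Q)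
    have hzp : Subgroup.zpowers x ≤ (⊤ : Subgroup Q) := le_top
    have hzc : IsMulCommutative (Subgroup.zpowers x) := inferInstance
    have hze : ∀ b ∈ Subgroup.zpowers x, b ^ p = 1 := by
      rintro _ ⟨k, rfl⟩
      show (x ^ k) ^ p = 1
      rw [← zpow_natCast, ← zpow_mul, mul_comm, zpow_mul, zpow_natCast, ← hx, pow_orderOf_eq_one,
        one_zpow]
    have hcard := hA.2.2.2 _ hzp hzc hze
    have hAne : A ≠ ⊥ := by
      intro h
      rw [h, Subgroup.card_bot, Nat.card_zpowers, hx] at hcard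
      exact absurd hcard (by have := hp.one_lt; omega)
    have hJne : jSub p (⊤ : Subgroup Q) ≠ ⊥ := by
      intro h
      apply hAne
      exact le_bot_iff.mp (h ▸ le_sSup hA)
    have hJnt : Nontrivial ↥(jSub p (⊤ : Subgroup Q)) := by
      obtain ⟨v, hv⟩ := (Subgroup.ne_bot_iff_exists_ne_one).mp hJne
      exact ⟨⟨v, 1, hv⟩⟩
    have hJp : IsPGroup p ↥(jSub p (⊤ : Subgroup Q)) := hQ.to_subgroup _
    have hcnt := hJp.center_nontrivial
    obtain ⟨z, hz1⟩ := exists_ne (1 : ↥(Subgroup.center ↥(jSub p (⊤ : Subgroup Q))))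
    intro hbot
    have hmem : ((z : ↥(jSub p (⊤ : Subgroup Q))) : Q) ∈ zjFun p Q := by
      unfold zjFun
      rw [thompsonSubgroup_eq_jSub]
      refine Subgroup.mem_inf.mpr ⟨(z : ↥(jSub p (⊤ : Subgroup Q))).2, ?_⟩
      rw [Subgroup.mem_centralizer_iff]
      intro y hy
      have h1 := (Subgroup.mem_center_iff.mp z.2) ⟨y, hy⟩
      exact congrArg Subtype.val h1
    rw [hbot, Subgroup.mem_bot] at hmem
    apply hz1
    apply Subtype.ext
    apply Subtype.ext
    exact hmem
  · intro Q R _ _ _ hQ φ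
    apply le_antisymm (zjFun_map_le p Q R φ)
    intro y hy
    have h1 := zjFun_map_le p R Q φ.symm (Subgroup.mem_map_of_mem _ hy)
    refine ⟨φ.symm y, h1, ?_⟩
    simp

/-- The local hypothesis holds for `Z(J(·))` and odd `p`. -/
theorem good_zjFun {p : ℕ} [Fact p.Prime] (hp2 : p ≠ 2) (X : Type u) [Group X] [Finite X] :
    Cfsg.Agent.S2005.Good p (zjFun p) X := by
  intro hC hPC T hT
  obtain ⟨K, c⟩ := zcfg_of_good hp2 hC hPC T hT
  rw [inducedFunctor_zjFun]
  exact c.zjSub_normal

end Cfsg.Agent.Lib.Helper2
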