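import Mathlib
import Cfsg.Agent.Lib.Lead.UniqueSubgroup
import Cfsg.Agent.Lib.Helper21.PGroup
import Cfsg.Agent.Lib.Helper21.Dihedral

/-!
`p`-groups of maximal class: order of the centre, and for `p = 2` the cyclic subgroup of index
two and the dihedral central quotient.
-/

namespace Cfsg.Agent.Lib.Helper2

universe u

/-- A group with cyclic central quotient is abelian: its centre is everything. -/
theorem center_eq_top_of_isCyclic_quotient {X : Type*} [Group X]
    (h : IsCyclic (X ⧸ Subgroup.center X)) : Subgroup.center X = ⊤ := by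
  rw [eq_top_iff]
  intro a _
  rw [Subgroup.mem_center_iff]
  intro g
  have hcomm : IsMulCommutative X :=
    MonoidHom.isMulCommutative_of_isCyclic_of_ker_le_center
      (QuotientGroup.mk' (Subgroup.center X)) (by rw [QuotientGroup.ker_mk'])
  exact hcomm.is_comm.comm g a

theorem center_eq_top_of_comm {X : Type*} [Group X] (h : ∀ a b : X, a * b = b * a) :
    Subgroup.center X = ⊤ := by
  rw [eq_top_iff]
  intro a _
  rw [Subgroup.mem_center_iff]
  intro g
  exact h g a

theorem nilpotencyClass_le_one_of_center_eq_top {X : Type*} [Group X] [Group.IsNilpotent X]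
    (h : Subgroup.center X = ⊤) : Group.nilpotencyClass X ≤ 1 := by
  have h1 := Group.nilpotencyClass_quotient_center (G := X)
  have hsub : Subsingleton (X ⧸ Subgroup.center X) := by
    rw [h]; exact QuotientGroup.subsingleton_quotient_top
  rw [Group.nilpotencyClass_zero_iff_subsingleton.mpr hsub] at h1
  omega

/-- Orders of the centre and of the central quotient of a nontrivial `p`-group. -/
theorem card_center_quotient {p : ℕ} [hp : Fact p.Prime] {G : Type u} [Group G] [Finite G]
    (m : ℕ) (hG : Nat.card G = p ^ m) (hm : 1 ≤ m) :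
    ∃ k : ℕ, 1 ≤ k ∧ k ≤ m ∧ Nat.card (Subgroup.center G) = p ^ k ∧
      Nat.card (G ⧸ Subgroup.center G) = p ^ (m - k) ∧ m - k ≠ 1 := by
  have hGp : IsPGroup p G := IsPGroup.of_card hG
  have hnt : Nontrivial G := by
    rw [← Finite.one_lt_card_iff_nontrivial, hG]
    exact Nat.one_lt_pow (by omega) hp.out.one_lt
  obtain ⟨k, hk⟩ := IsPGroup.iff_card.mp (hGp.to_subgroup (Subgroup.center G))
  have hk1 : 1 ≤ k := by
    by_contra h0
    have : k = 0 := by omega
    subst this
    rw [pow_zero, Subgroup.card_eq_one] at hk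
    exact (hGp.bot_lt_center).ne' hk
  have hcard := Subgroup.card_eq_card_quotient_mul_card_subgroup (Subgroup.center G)
  rw [hG, hk] at hcard
  have hkm : k ≤ m := by
    have : p ^ k ∣ p ^ m := Dvd.intro_left _ hcard.symm
    exact (Nat.pow_dvd_pow_iff_le_right hp.out.one_lt).mp this
  have hQ : Nat.card (G ⧸ Subgroup.center G) = p ^ (m - k) := by
    have h1 : p ^ m = p ^ (m - k) * p ^ k := by
      rw [← pow_add]; congr 1; omega
    rw [h1] at hcard
    exact (Nat.eq_of_mul_eq_mul_right (pow_pos hp.out.pos k) hcard).symm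
  refine ⟨k, hk1, hkm, hk, hQ, ?_⟩
  intro h1
  rw [h1, pow_one] at hQ
  have hcyc : IsCyclic (G ⧸ Subgroup.center G) := isCyclic_of_prime_card hQ
  have htop := center_eq_top_of_isCyclic_quotient hcyc
  have hsub : Subsingleton (G ⧸ Subgroup.center G) := by
    rw [htop]; exact QuotientGroup.subsingleton_quotient_top
  have h2 : Nat.card (G ⧸ Subgroup.center G) = 1 := Nat.card_of_subsingleton 1
  rw [hQ] at h2
  exact hp.out.one_lt.ne' h2

/-- A group of order `p ^ m`, `m ≥ 2`, has class at most `m - 1`. -/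
theorem nilpotencyClass_le_of_card {p : ℕ} [hp : Fact p.Prime] : ∀ (m : ℕ) (G : Type u) [Group G]
    [Finite G], Nat.card G = p ^ m → 2 ≤ m → Group.nilpotencyClass G ≤ m - 1 := by
  intro m
  induction m using Nat.strong_induction_on with
  | _ m ih =>
  intro G _ _ hG hm
  have hGp : IsPGroup p G := IsPGroup.of_card hG
  have hnil : Group.IsNilpotent G := hGp.isNilpotent
  have hnt : Nontrivial G := by
    rw [← Finite.one_lt_card_iff_nontrivial, hG]
    exact Nat.one_lt_pow (by omega) hp.out.one_lt
  rw [Group.nilpotencyClass_eq_quotient_center_plus_one]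
  obtain ⟨k, hk1, hkm, hk, hQ, hne⟩ := card_center_quotient m hG (by omega)
  rcases Nat.lt_or_ge (m - k) 2 with hlt | hge
  · have h0 : m - k = 0 := by omega
    rw [h0, pow_zero] at hQ
    have hsub : Subsingleton (G ⧸ Subgroup.center G) := (Nat.card_eq_one_iff_unique.mp hQ).1
    rw [Group.nilpotencyClass_zero_iff_subsingleton.mpr hsub]
    omega
  · have := ih (m - k) (by omega) (G ⧸ Subgroup.center G) hQ hge
    omega

/-- The centre of a `p`-group of maximal class and order at least `p ^ 3` has order `p`. -/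
theorem card_center_of_maxClass {p : ℕ} [hp : Fact p.Prime] {X : Type u} [Group X] [Finite X]
    (n : ℕ) (hn : 3 ≤ n) (hX : Nat.card X = p ^ n) (hc : Group.nilpotencyClass X = n - 1) :
    Nat.card (Subgroup.center X) = p := by
  have hXp : IsPGroup p X := IsPGroup.of_card hX
  have hnil : Group.IsNilpotent X := hXp.isNilpotent
  obtain ⟨k, hk1, hkm, hk, hQ, hne⟩ := card_center_quotient n hX (by omega)
  have hcQ : Group.nilpotencyClass (X ⧸ Subgroup.center X) = n - 2 := by
    rw [Group.nilpotencyClass_quotient_center, hc]; omega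
  rcases Nat.lt_or_ge (n - k) 2 with hlt | hge
  · exfalso
    have h0 : n - k = 0 := by omega
    rw [h0, pow_zero] at hQ
    have hsub : Subsingleton (X ⧸ Subgroup.center X) := (Nat.card_eq_one_iff_unique.mp hQ).1
    rw [Group.nilpotencyClass_zero_iff_subsingleton.mpr hsub] at hcQ
    omega
  · have := nilpotencyClass_le_of_card (n - k) (X ⧸ Subgroup.center X) hQ hge
    rw [hcQ] at this
    have hk' : k = 1 := by omega
    rw [hk, hk', pow_one]

/-- A `2`-group of maximal class and order at least `8` has a cyclic subgroup of index `2`. -/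
theorem exists_zpowers_index_two : ∀ (n : ℕ), 3 ≤ n → ∀ (X : Type u) [Group X] [Finite X],
    Nat.card X = 2 ^ n → Group.nilpotencyClass X = n - 1 →
    ∃ c : X, (Subgroup.zpowers c).index = 2 := by
  intro n hn
  induction n, hn using Nat.le_induction with
  | base =>
    intro X _ _ hX hc
    have hXp : IsPGroup 2 X := IsPGroup.of_card hX
    have hnil := hXp.isNilpotent
    have hex : ∃ x : X, x ^ 2 ≠ 1 := by
      by_contra hall
      push Not at hall
      have hcomm : ∀ a b : X, a * b = b * a := by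
        intro a b
        have hab : a * b * (a * b) = 1 := by rw [← sq]; exact hall (a * b)
        have ha : a * a = 1 := by rw [← sq]; exact hall a
        have hb : b * b = 1 := by rw [← sq]; exact hall b
        calc a * b = a * (a * b * (a * b)) * b := by rw [hab, mul_one]
          _ = (a * a) * (b * a) * (b * b) := by group
          _ = b * a := by rw [ha, hb, one_mul, mul_one]
      have := nilpotencyClass_le_one_of_center_eq_top (center_eq_top_of_comm hcomm)
      omega
    obtain ⟨x, hx⟩ := hex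
    have hdvd : orderOf x ∣ 2 ^ 3 := by rw [← hX]; exact orderOf_dvd_natCard x
    obtain ⟨j, hj, hjo⟩ := (Nat.dvd_prime_pow Nat.prime_two).mp hdvd
    have hj2 : j = 2 := by
      interval_cases j
      · exfalso
        rw [pow_zero, orderOf_eq_one_iff] at hjo
        exact hx (by rw [hjo, one_pow])
      · exfalso
        apply hx
        rw [pow_one] at hjo
        rw [← hjo, pow_orderOf_eq_one]
      · rfl
      · exfalso
        have hcyc : IsCyclic X := isCyclic_of_orderOf_eq_card x (by rw [hjo, hX])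
        have hcomm : ∀ a b : X, a * b = b * a :=
          fun a b => hcyc.isMulCommutative.is_comm.comm a b
        have := nilpotencyClass_le_one_of_center_eq_top (center_eq_top_of_comm hcomm)
        omega
    refine ⟨x, ?_⟩
    have h1 := Subgroup.card_mul_index (Subgroup.zpowers x)
    rw [Nat.card_zpowers, hjo, hj2, hX] at h1
    omega
  | succ n hn ih =>
    intro X _ _ hX hc
    have hXp : IsPGroup 2 X := IsPGroup.of_card hX
    have hnil := hXp.isNilpotent
    have hZcard : Nat.card (Subgroup.center X) = 2 :=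
      card_center_of_maxClass (n + 1) (by omega) hX hc
    have hQcard : Nat.card (X ⧸ Subgroup.center X) = 2 ^ n := by
      have h1 := Subgroup.card_eq_card_quotient_mul_card_subgroup (Subgroup.center X)
      rw [hX, hZcard, pow_succ] at h1
      omega
    have hQc : Group.nilpotencyClass (X ⧸ Subgroup.center X) = n - 1 := by
      rw [Group.nilpotencyClass_quotient_center, hc]; omega
    obtain ⟨cbar, hcbar⟩ := ih (X ⧸ Subgroup.center X) hQcard hQc
    obtain ⟨c, rfl⟩ := QuotientGroup.mk'_surjective (Subgroup.center X) cbar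
    have hocbar : orderOf (QuotientGroup.mk' (Subgroup.center X) c) = 2 ^ (n - 1) := by
      have h1 := Subgroup.card_mul_index
        (Subgroup.zpowers (QuotientGroup.mk' (Subgroup.center X) c))
      rw [hcbar, hQcard, Nat.card_zpowers] at h1
      have h2 : 2 ^ n = 2 ^ (n - 1) * 2 := by
        rw [← pow_succ]; congr 1; omega
      omega
    have hc2 : c ^ 2 ≠ 1 := by
      intro h
      have h1 : (QuotientGroup.mk' (Subgroup.center X) c) ^ 2 = 1 := by
        rw [← map_pow, h, map_one]
      have h2 := orderOf_dvd_of_pow_eq_one h1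
      rw [hocbar] at h2
      have h4 : 2 ^ 2 ∣ 2 ^ (n - 1) := pow_dvd_pow 2 (by omega)
      have := Nat.le_of_dvd (by norm_num) (h4.trans h2)
      omega
    have hCeq : (Subgroup.zpowers (QuotientGroup.mk' (Subgroup.center X) c)).comap
        (QuotientGroup.mk' (Subgroup.center X)) = Subgroup.zpowers c ⊔ Subgroup.center X := by
      rw [← MonoidHom.map_zpowers, Subgroup.comap_map_eq, QuotientGroup.ker_mk']
    have hCidx : (Subgroup.zpowers c ⊔ Subgroup.center X).index = 2 := by
      rw [← hCeq, Subgroup.index_comap_of_surjective _ (QuotientGroup.mk'_surjective _)]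
      exact hcbar
    have hCn : (Subgroup.zpowers c ⊔ Subgroup.center X).Normal :=
      Subgroup.normal_of_index_eq_two hCidx
    have hZsq : ∀ z ∈ Subgroup.center X, z ^ 2 = 1 := by
      intro z hz
      have h1 : (⟨z, hz⟩ : Subgroup.center X) ^ Nat.card (Subgroup.center X) = 1 :=
        pow_card_eq_one'
      rw [hZcard] at h1
      exact congrArg Subtype.val h1
    have hDn : (Subgroup.zpowers (c ^ 2)).Normal := by
      constructor
      intro d hd g
      obtain ⟨k, rfl⟩ := Subgroup.mem_zpowers_iff.mp hd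
      have h1 : g * c * g⁻¹ ∈ (↑(Subgroup.zpowers c ⊔ Subgroup.center X) : Set X) :=
        hCn.conj_mem c (Subgroup.mem_sup_left (Subgroup.mem_zpowers c)) g
      rw [Subgroup.mul_normal] at h1
      obtain ⟨a, ha, z, hz, hmul⟩ := h1
      obtain ⟨i, rfl⟩ := Subgroup.mem_zpowers_iff.mp ha
      have hmul' : c ^ i * z = g * c * g⁻¹ := hmul
      have h2 : g * c ^ 2 * g⁻¹ = (c ^ 2) ^ i := by
        have h3 : g * c ^ 2 * g⁻¹ = (g * c * g⁻¹) ^ 2 := by rw [conj_pow]
        have hcomm : Commute (c ^ i) z := (Subgroup.mem_center_iff.mp hz (c ^ i))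
        rw [h3, ← hmul', hcomm.mul_pow, hZsq z hz, mul_one, ← zpow_natCast, ← zpow_natCast,
          ← zpow_mul, zpow_mul']
      have h3 : g * (c ^ 2) ^ k * g⁻¹ = (g * c ^ 2 * g⁻¹) ^ k := by rw [conj_zpow]
      rw [h3, h2]
      exact Subgroup.zpow_mem _ (Subgroup.zpow_mem _ (Subgroup.mem_zpowers _) i) k
    have hDne : Subgroup.zpowers (c ^ 2) ≠ ⊥ := by
      intro h
      apply hc2
      rw [← Subgroup.mem_bot, ← h]
      exact Subgroup.mem_zpowers _
    obtain ⟨w, hwD, hwZ, hw1⟩ :=
      Cfsg.Agent.Lib.Helper21.exists_mem_center_of_normal hXp (Subgroup.zpowers (c ^ 2)) hDne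
    have hZle : Subgroup.center X ≤ Subgroup.zpowers c := by
      have hwz : Subgroup.zpowers w = Subgroup.center X := by
        apply Subgroup.eq_of_le_of_card_ge (Subgroup.zpowers_le.mpr hwZ)
        rw [hZcard, Nat.card_zpowers, orderOf_eq_prime (hZsq w hwZ) hw1]
      rw [← hwz, Subgroup.zpowers_le]
      exact (Subgroup.zpowers_le.mpr (Subgroup.pow_mem _ (Subgroup.mem_zpowers c) 2)) hwD
    refine ⟨c, ?_⟩
    rw [← hCidx]
    congr 1
    exact (sup_eq_left.mpr hZle).symm

/-- Square roots of one modulo `2 ^ (k + 1)`. -/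
theorem sq_modEq_one_two_pow (k r : ℕ) (hk : 1 ≤ k) (h : r ^ 2 ≡ 1 [MOD 2 ^ (k + 1)]) :
    (∃ t, r = 4 * t + 1 ∧ 2 ^ k ∣ 4 * t) ∨ (∃ t, r = 4 * t + 3 ∧ 2 ^ k ∣ 4 * (t + 1)) := by
  have h22 : 2 ^ 2 ≤ 2 ^ (k + 1) := Nat.pow_le_pow_right (by norm_num) (by omega)
  have hr1 : 1 ≤ r ^ 2 := by
    by_contra h0
    have h00 : r ^ 2 = 0 := by omega
    rw [h00] at h
    have h1 : 2 ^ (k + 1) ∣ 1 := (Nat.modEq_zero_iff_dvd.mp h.symm)
    have := Nat.le_of_dvd one_pos h1
    omega
  have hdvd : 2 ^ (k + 1) ∣ r ^ 2 - 1 := (Nat.modEq_iff_dvd' hr1).mp h.symm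
  have h4 : 2 ^ 2 ∣ r ^ 2 - 1 := (pow_dvd_pow 2 (by omega)).trans hdvd
  have hodd : r % 2 = 1 := by
    by_contra hev
    obtain ⟨s, rfl⟩ : ∃ s, r = 2 * s := ⟨r / 2, by omega⟩
    have e : (2 * s) ^ 2 = 4 * s ^ 2 := by ring
    rw [e] at h4 hr1
    omega
  rcases (by omega : r % 4 = 1 ∨ r % 4 = 3) with h1 | h3
  · left
    obtain ⟨t, rfl⟩ : ∃ t, r = 4 * t + 1 := ⟨r / 4, by omega⟩
    refine ⟨t, rfl, ?_⟩
    have e : (4 * t + 1) ^ 2 - 1 = 2 * (4 * t) * (2 * t + 1) := by
      have : (4 * t + 1) ^ 2 = 2 * (4 * t) * (2 * t + 1) + 1 := by ring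
      omega
    rw [e] at hdvd
    have hcop : Nat.Coprime (2 ^ (k + 1)) (2 * t + 1) :=
      Nat.Coprime.pow_left _ (Nat.coprime_two_left.mpr ⟨t, rfl⟩)
    have h5 := hcop.dvd_of_dvd_mul_right hdvd
    rw [pow_succ'] at h5
    exact Nat.dvd_of_mul_dvd_mul_left (by norm_num) h5
  · right
    obtain ⟨t, rfl⟩ : ∃ t, r = 4 * t + 3 := ⟨r / 4, by omega⟩
    refine ⟨t, rfl, ?_⟩
    have e : (4 * t + 3) ^ 2 - 1 = 2 * (4 * (t + 1)) * (2 * t + 1) := by
      have : (4 * t + 3) ^ 2 = 2 * (4 * (t + 1)) * (2 * t + 1) + 1 := by ring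
      omega
    rw [e] at hdvd
    have hcop : Nat.Coprime (2 ^ (k + 1)) (2 * t + 1) :=
      Nat.Coprime.pow_left _ (Nat.coprime_two_left.mpr ⟨t, rfl⟩)
    have h5 := hcop.dvd_of_dvd_mul_right hdvd
    rw [pow_succ'] at h5
    exact Nat.dvd_of_mul_dvd_mul_left (by norm_num) h5

/-- The central quotient of a `2`-group of maximal class is dihedral. -/
theorem quotient_center_dihedral (m : ℕ) (X : Type u) [Group X] [Finite X]
    (hX : Nat.card X = 2 ^ (m + 3)) (hc : Group.nilpotencyClass X = m + 2) :
    Nonempty (X ⧸ Subgroup.center X ≃* DihedralGroup (2 ^ (m + 1))) := by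
  have hXp : IsPGroup 2 X := IsPGroup.of_card hX
  have hnil := hXp.isNilpotent
  have hZcard : Nat.card (Subgroup.center X) = 2 :=
    card_center_of_maxClass (m + 3) (by omega) hX hc
  obtain ⟨c, hcidx⟩ := exists_zpowers_index_two (m + 3) (by omega) X hX hc
  have hoc : orderOf c = 2 ^ (m + 2) := by
    have h1 := Subgroup.card_mul_index (Subgroup.zpowers c)
    rw [hcidx, hX, Nat.card_zpowers] at h1
    have h2 : 2 ^ (m + 3) = 2 ^ (m + 2) * 2 := by rw [← pow_succ]
    omega
  have hZsq : ∀ z ∈ Subgroup.center X, z ^ 2 = 1 := by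
    intro z hz
    have h1 : (⟨z, hz⟩ : Subgroup.center X) ^ Nat.card (Subgroup.center X) = 1 :=
      pow_card_eq_one'
    rw [hZcard] at h1
    exact congrArg Subtype.val h1
  have hncomm : ¬ ∀ a b : X, a * b = b * a := by
    intro h
    have := nilpotencyClass_le_one_of_center_eq_top (center_eq_top_of_comm h)
    omega
  obtain ⟨x, hx⟩ : ∃ x, x ∉ Subgroup.zpowers c := by
    by_contra hall
    push Not at hall
    have : Subgroup.zpowers c = ⊤ := (Subgroup.eq_top_iff' _).mpr hall
    rw [this, Subgroup.index_top] at hcidx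
    omega
  have hcl : Subgroup.closure ({x, c} : Set X) = ⊤ := by
    apply Cfsg.Agent.Lib.Lead.eq_top_of_index_prime (M := Subgroup.zpowers c)
    · rw [Subgroup.zpowers_le]; exact Subgroup.subset_closure (by simp)
    · rw [hcidx]; exact Nat.prime_two
    · intro h; exact hx (h (Subgroup.subset_closure (by simp)))
  have hcomm_of : x * c = c * x → False := by
    intro hxc
    apply hncomm
    have hcc : IsMulCommutative (Subgroup.closure ({x, c} : Set X)) :=
      Subgroup.isMulCommutative_closure (by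
        rintro a (rfl | rfl) b (rfl | rfl)
        · rfl
        · exact hxc
        · exact hxc.symm
        · rfl)
    intro a b
    have ha : a ∈ Subgroup.closure ({x, c} : Set X) := by rw [hcl]; trivial
    have hb : b ∈ Subgroup.closure ({x, c} : Set X) := by rw [hcl]; trivial
    exact congrArg Subtype.val (hcc.is_comm.comm ⟨a, ha⟩ ⟨b, hb⟩)
  have hZle : Subgroup.center X ≤ Subgroup.zpowers c := by
    by_contra hnot
    have htop : Subgroup.zpowers c ⊔ Subgroup.center X = ⊤ :=
      Cfsg.Agent.Lib.Lead.eq_top_of_index_prime (M := Subgroup.zpowers c) le_sup_left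
        (by rw [hcidx]; exact Nat.prime_two) (fun h => hnot (le_sup_right.trans h))
    apply hcomm_of
    have hle : Subgroup.zpowers c ⊔ Subgroup.center X ≤ Subgroup.centralizer {c} :=
      sup_le (by rw [Subgroup.zpowers_le]; exact Subgroup.mem_centralizer_singleton_iff.mpr rfl)
        (Subgroup.center_le_centralizer _)
    rw [htop] at hle
    exact Subgroup.mem_centralizer_singleton_iff.mp (hle (Subgroup.mem_top x))
  have hu : c ^ (2 ^ (m + 1)) ∈ Subgroup.center X := by
    obtain ⟨w, hwZ, hw1⟩ : ∃ w ∈ Subgroup.center X, w ≠ 1 := by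
      by_contra hall
      push Not at hall
      have : Subgroup.center X = ⊥ := (Subgroup.eq_bot_iff_forall _).mpr hall
      rw [this, Subgroup.card_bot] at hZcard
      omega
    obtain ⟨j, hj⟩ : ∃ j : ℕ, c ^ j = w := mem_powers_iff_mem_zpowers.mpr (hZle hwZ)
    have h1 : c ^ (j * 2) = 1 := by rw [pow_mul, hj, hZsq w hwZ]
    have h2 : 2 ^ (m + 2) ∣ j * 2 := by rw [← hoc]; exact orderOf_dvd_of_pow_eq_one h1
    have h3 : 2 ^ (m + 1) ∣ j := by
      rw [pow_succ] at h2; exact Nat.dvd_of_mul_dvd_mul_right (by norm_num) h2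
    obtain ⟨s, rfl⟩ := h3
    have husq : (c ^ (2 ^ (m + 1))) ^ 2 = 1 := by
      rw [← pow_mul, ← pow_succ, ← hoc, pow_orderOf_eq_one]
    rw [pow_mul] at hj
    rcases Nat.even_or_odd s with ⟨s', hs'⟩ | ⟨s', hs'⟩
    · exfalso
      apply hw1
      rw [← hj, hs', ← two_mul, pow_mul, husq, one_pow]
    · rw [hs', pow_succ, pow_mul, husq, one_pow, one_mul] at hj
      rw [hj]; exact hwZ
  have hupow : ∀ i : ℕ, 2 ^ (m + 1) ∣ i → c ^ i ∈ Subgroup.center X := by
    rintro i ⟨s, rfl⟩
    rw [pow_mul]; exact Subgroup.pow_mem _ hu s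
  have hCn : (Subgroup.zpowers c).Normal := Subgroup.normal_of_index_eq_two hcidx
  obtain ⟨r, hr⟩ : ∃ r : ℕ, c ^ r = x * c * x⁻¹ :=
    mem_powers_iff_mem_zpowers.mpr (hCn.conj_mem c (Subgroup.mem_zpowers c) x)
  have hx2 : x ^ 2 ∈ Subgroup.zpowers c := Subgroup.sq_mem_of_index_two hcidx x
  obtain ⟨i, hi⟩ : ∃ i : ℕ, c ^ i = x ^ 2 := mem_powers_iff_mem_zpowers.mpr hx2
  have hrr : r ^ 2 ≡ 1 [MOD 2 ^ (m + 1 + 1)] := by
    have h1 : x ^ 2 * c * (x ^ 2)⁻¹ = c ^ (r ^ 2) := by
      have : x ^ 2 * c * (x ^ 2)⁻¹ = x * (x * c * x⁻¹) * x⁻¹ := by rw [sq]; group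
      rw [this, ← hr, ← conj_pow, ← hr, ← pow_mul, sq]
    have h2 : x ^ 2 * c * (x ^ 2)⁻¹ = c := by
      rw [← hi, ← pow_succ, pow_succ', mul_inv_cancel_right]
    rw [h2] at h1
    have h3 : c ^ (r ^ 2) = c ^ 1 := by rw [pow_one]; exact h1.symm
    have := pow_eq_pow_iff_modEq.mp h3
    rwa [hoc] at this
  have hri : r * i ≡ i [MOD 2 ^ (m + 2)] := by
    have h1 : x * c ^ i * x⁻¹ = c ^ (r * i) := by rw [← conj_pow, ← hr, ← pow_mul]
    have h2 : x * c ^ i * x⁻¹ = c ^ i := by rw [hi]; group
    rw [h2] at h1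
    have := pow_eq_pow_iff_modEq.mp h1.symm
    rwa [hoc] at this
  have hclQ : Subgroup.closure ({QuotientGroup.mk' (Subgroup.center X) x,
      QuotientGroup.mk' (Subgroup.center X) c} : Set (X ⧸ Subgroup.center X)) = ⊤ := by
    have := congrArg (Subgroup.map (QuotientGroup.mk' (Subgroup.center X))) hcl
    rw [MonoidHom.map_closure, Subgroup.map_top_of_surjective _ (QuotientGroup.mk'_surjective _),
      Set.image_pair] at this
    exact this
  rcases sq_modEq_one_two_pow (m + 1) r (by omega) hrr with ⟨t, rfl, ht⟩ | ⟨t, rfl, ht⟩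
  · exfalso
    have h1 : c ^ (4 * t) ∈ Subgroup.center X := hupow _ ht
    have h2 : x * c * x⁻¹ = c ^ (4 * t) * c := by rw [← hr, pow_succ]
    have h3 : QuotientGroup.mk' (Subgroup.center X) x * QuotientGroup.mk' (Subgroup.center X) c =
        QuotientGroup.mk' (Subgroup.center X) c * QuotientGroup.mk' (Subgroup.center X) x := by
      have h4 : QuotientGroup.mk' (Subgroup.center X) (x * c * x⁻¹) =
          QuotientGroup.mk' (Subgroup.center X) c := by
        have hk1 : QuotientGroup.mk' (Subgroup.center X) (c ^ (4 * t)) = 1 :=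
          (QuotientGroup.eq_one_iff _).mpr h1
        rw [h2, map_mul, hk1, one_mul]
      rw [map_mul, map_mul, map_inv] at h4
      calc QuotientGroup.mk' (Subgroup.center X) x * QuotientGroup.mk' (Subgroup.center X) c
          = QuotientGroup.mk' (Subgroup.center X) x * QuotientGroup.mk' (Subgroup.center X) c *
            (QuotientGroup.mk' (Subgroup.center X) x)⁻¹ *
            QuotientGroup.mk' (Subgroup.center X) x := by group
        _ = QuotientGroup.mk' (Subgroup.center X) c * QuotientGroup.mk' (Subgroup.center X) x := by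
            rw [h4]
    have hQcomm : ∀ a b : X ⧸ Subgroup.center X, a * b = b * a := by
      have hcommQ : IsMulCommutative (Subgroup.closure ({QuotientGroup.mk' (Subgroup.center X) x,
          QuotientGroup.mk' (Subgroup.center X) c} : Set (X ⧸ Subgroup.center X))) :=
        Subgroup.isMulCommutative_closure (by
          rintro a (rfl | rfl) b (rfl | rfl)
          · rfl
          · exact h3
          · exact h3.symm
          · rfl)
      intro a b
      have ha : a ∈ Subgroup.closure ({QuotientGroup.mk' (Subgroup.center X) x,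
          QuotientGroup.mk' (Subgroup.center X) c} : Set (X ⧸ Subgroup.center X)) := by
        rw [hclQ]; trivial
      have hb : b ∈ Subgroup.closure ({QuotientGroup.mk' (Subgroup.center X) x,
          QuotientGroup.mk' (Subgroup.center X) c} : Set (X ⧸ Subgroup.center X)) := by
        rw [hclQ]; trivial
      exact congrArg Subtype.val (hcommQ.is_comm.comm ⟨a, ha⟩ ⟨b, hb⟩)
    have hQc : Group.nilpotencyClass (X ⧸ Subgroup.center X) = m + 1 := by
      rw [Group.nilpotencyClass_quotient_center, hc]; omega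
    have hQle := nilpotencyClass_le_one_of_center_eq_top (center_eq_top_of_comm hQcomm)
    have hm0 : m = 0 := by omega
    subst hm0
    apply hcomm_of
    have h5 : c ^ (4 * t) = 1 := by
      have h6 : c ^ 4 = 1 := by
        have := pow_orderOf_eq_one c
        rw [hoc] at this
        simpa using this
      rw [pow_mul, h6, one_pow]
    rw [h5, one_mul] at h2
    calc x * c = x * c * x⁻¹ * x := by group
      _ = c * x := by rw [h2]
  · have h1 : c ^ (4 * (t + 1)) ∈ Subgroup.center X := hupow _ ht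
    have hsρ : QuotientGroup.mk' (Subgroup.center X) x * QuotientGroup.mk' (Subgroup.center X) c *
        (QuotientGroup.mk' (Subgroup.center X) x)⁻¹ =
        (QuotientGroup.mk' (Subgroup.center X) c)⁻¹ := by
      have h2 : x * c * x⁻¹ = c⁻¹ * c ^ (4 * (t + 1)) := by
        rw [← hr]
        have e : 4 * (t + 1) = (4 * t + 3) + 1 := by ring
        rw [e, pow_succ' c (4 * t + 3), inv_mul_cancel_left]
      have h4 : QuotientGroup.mk' (Subgroup.center X) (x * c * x⁻¹) =
          (QuotientGroup.mk' (Subgroup.center X) c)⁻¹ := by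
        have hk1 : QuotientGroup.mk' (Subgroup.center X) (c ^ (4 * (t + 1))) = 1 :=
          (QuotientGroup.eq_one_iff _).mpr h1
        rw [h2, map_mul, map_inv, hk1, mul_one]
      rwa [map_mul, map_mul, map_inv] at h4
    have hx2Z : x ^ 2 ∈ Subgroup.center X := by
      rw [← hi]
      apply hupow
      have h2 : 2 ^ (m + 2) ∣ (4 * t + 3) * i - i :=
        (Nat.modEq_iff_dvd' (Nat.le_mul_of_pos_left i (by omega))).mp hri.symm
      have h3 : (4 * t + 3) * i - i = 2 * ((2 * t + 1) * i) := by
        have : (4 * t + 3) * i = 2 * ((2 * t + 1) * i) + i := by ring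
        omega
      rw [h3, pow_succ'] at h2
      have h4 : 2 ^ (m + 1) ∣ (2 * t + 1) * i := Nat.dvd_of_mul_dvd_mul_left (by norm_num) h2
      have hcop : Nat.Coprime (2 ^ (m + 1)) (2 * t + 1) :=
        Nat.Coprime.pow_left _ (Nat.coprime_two_left.mpr ⟨t, rfl⟩)
      exact hcop.dvd_of_dvd_mul_left h4
    have hs : QuotientGroup.mk' (Subgroup.center X) x * QuotientGroup.mk' (Subgroup.center X) x
        = 1 := by
      rw [← map_mul, ← sq]; exact (QuotientGroup.eq_one_iff _).mpr hx2Z
    have hρ : orderOf (QuotientGroup.mk' (Subgroup.center X) c) = 2 ^ (m + 1) := by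
      have h2 : (Subgroup.center X).relIndex (Subgroup.zpowers c) =
          Nat.card ((Subgroup.zpowers c).map (QuotientGroup.mk' (Subgroup.center X))) := by
        have := Subgroup.relIndex_ker (QuotientGroup.mk' (Subgroup.center X))
          (K := Subgroup.zpowers c)
        rwa [QuotientGroup.ker_mk'] at this
      have h3 := Subgroup.index_mul_card ((Subgroup.center X).subgroupOf (Subgroup.zpowers c))
      have h4 : Nat.card ((Subgroup.center X).subgroupOf (Subgroup.zpowers c)) =
          Nat.card (Subgroup.center X) :=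
        Nat.card_congr (Subgroup.subgroupOfEquivOfLe hZle).toEquiv
      rw [h4, hZcard, Nat.card_zpowers, hoc] at h3
      rw [MonoidHom.map_zpowers, Nat.card_zpowers] at h2
      have h5 : (Subgroup.center X).relIndex (Subgroup.zpowers c) = 2 ^ (m + 1) := by
        have h6 : (Subgroup.center X).relIndex (Subgroup.zpowers c) * 2 = 2 ^ (m + 1) * 2 := by
          rw [← pow_succ]; exact h3
        omega
      rw [← h2, h5]
    have hs' : QuotientGroup.mk' (Subgroup.center X) x ∉
        Subgroup.zpowers (QuotientGroup.mk' (Subgroup.center X) c) := by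
      intro hmem
      obtain ⟨j, hj⟩ := Subgroup.mem_zpowers_iff.mp hmem
      have h2 : QuotientGroup.mk' (Subgroup.center X) (c ^ j) =
          QuotientGroup.mk' (Subgroup.center X) x := by rw [map_zpow]; exact hj
      have h3 : (c ^ j)⁻¹ * x ∈ Subgroup.center X := QuotientGroup.eq.mp h2
      apply hx
      have h4 := (Subgroup.zpowers c).mul_mem
        (Subgroup.zpow_mem _ (Subgroup.mem_zpowers c) j) (hZle h3)
      simpa using h4
    obtain ⟨e⟩ := Cfsg.Agent.Lib.Helper21.nonempty_dihedral_mulEquiv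
      (QuotientGroup.mk' (Subgroup.center X) x) (QuotientGroup.mk' (Subgroup.center X) c)
      (2 ^ (m + 1)) hs hρ (by positivity) hsρ hclQ hs'
    exact ⟨e.symm⟩

end Cfsg.Agent.Lib.Helper2
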