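import Mathlib
import Cfsg.Prelude.Def_Characters
import Cfsg.Agent.Lib.Helper2.CharBasic

set_option autoImplicit false

namespace Cfsg.Agent.Lib.Helper2

open Representation Module

noncomputable section

section cyc

variable (n : ℕ) [NeZero n]

/-- the cyclotomic field of level `n` over the rationals -/
abbrev CycK : Type := CyclotomicField n ℚ

instance cycK_isCyclotomic : IsCyclotomicExtension {n} ℚ (CycK n) :=
  CyclotomicField.isCyclotomicExtension n ℚ

instance cycK_finite : FiniteDimensional ℚ (CycK n) :=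
  IsCyclotomicExtension.finiteDimensional {n} ℚ (CycK n)

instance cycK_galois : IsGalois ℚ (CycK n) :=
  IsCyclotomicExtension.isGalois {n} ℚ (CycK n)

/-- the chosen primitive root -/
def cycZeta : CycK n := IsCyclotomicExtension.zeta n ℚ (CycK n)

theorem cycZeta_spec : IsPrimitiveRoot (cycZeta n) n :=
  IsCyclotomicExtension.zeta_spec n ℚ (CycK n)

/-- an embedding of the cyclotomic field in the complex numbers -/
def cycEmb : CycK n →ₐ[ℚ] ℂ := IsAlgClosed.lift

theorem cycEmb_injective : Function.Injective (cycEmb n) := (cycEmb n).toRingHom.injective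

theorem cycEmb_zeta_primitive : IsPrimitiveRoot (cycEmb n (cycZeta n)) n :=
  (cycZeta_spec n).map_of_injective (cycEmb_injective n)

theorem exists_pow_eq_of_root (μ : ℂ) (hμ : μ ^ n = 1) :
    ∃ j : ℕ, cycEmb n (cycZeta n ^ j) = μ := by
  obtain ⟨i, _, hi⟩ := (cycEmb_zeta_primitive n).eq_pow_of_pow_eq_one hμ
  exact ⟨i, by rw [map_pow]; exact hi⟩

theorem aut_zeta (σ : CycK n ≃ₐ[ℚ] CycK n) :
    ∃ m : ℕ, m.Coprime n ∧ σ (cycZeta n) = cycZeta n ^ m := by
  have h1 : IsPrimitiveRoot (σ (cycZeta n)) n :=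
    (cycZeta_spec n).map_of_injective σ.injective
  obtain ⟨i, _, hi⟩ := (cycZeta_spec n).eq_pow_of_pow_eq_one h1.pow_eq_one
  refine ⟨i, ?_, hi.symm⟩
  rw [← hi] at h1
  exact ((cycZeta_spec n).pow_iff_coprime (NeZero.pos n) i).mp h1

end cyc

section lift

variable (n : ℕ) [NeZero n]
variable {G : Type*} [Group G] [Finite G]
variable {V : Type*} [AddCommGroup V] [Module ℂ V] [FiniteDimensional ℂ V]

/-- a character value lifted to the cyclotomic field, with the Galois action -/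
theorem char_lift (ρ : Representation ℂ G V) (g : G) (hn : orderOf g ∣ n) :
    ∃ x : CycK n, ∀ (σ : CycK n ≃ₐ[ℚ] CycK n) (m : ℕ), σ (cycZeta n) = cycZeta n ^ m →
      cycEmb n (σ x) = ρ.character (g ^ m) := by
  classical
  have hroot : ∀ μ ∈ eigSet (ρ g), μ ^ n = 1 := by
    intro μ hμ
    obtain ⟨k, hk⟩ := hn
    rw [hk, pow_mul, eig_pow ρ g hμ, one_pow]
  have hj : ∀ μ : ℂ, ∃ j : ℕ, μ ∈ eigSet (ρ g) → cycEmb n (cycZeta n ^ j) = μ := by
    intro μ
    by_cases h : μ ∈ eigSet (ρ g)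
    · obtain ⟨j, hj⟩ := exists_pow_eq_of_root n μ (hroot μ h)
      exact ⟨j, fun _ => hj⟩
    · exact ⟨0, fun h' => absurd h' h⟩
  choose j hj using hj
  refine ⟨∑ μ ∈ eigSet (ρ g), cycZeta n ^ j μ * (eigMult ρ g μ : CycK n), ?_⟩
  intro σ m hσ
  rw [char_pow_eq_sum, map_sum, map_sum]
  apply Finset.sum_congr rfl
  intro μ hμ
  rw [map_mul, map_mul, map_natCast, map_natCast, map_pow, hσ, ← pow_mul, mul_comm m, pow_mul,
    map_pow, hj μ hμ]

theorem char_lift_self (ρ : Representation ℂ G V) (g : G) (hn : orderOf g ∣ n) :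
    ∃ x : CycK n, cycEmb n x = ρ.character g ∧
      ∀ (σ : CycK n ≃ₐ[ℚ] CycK n) (m : ℕ), σ (cycZeta n) = cycZeta n ^ m →
        cycEmb n (σ x) = ρ.character (g ^ m) := by
  obtain ⟨x, hx⟩ := char_lift n ρ g hn
  refine ⟨x, ?_, hx⟩
  have := hx AlgEquiv.refl 1 (by simp)
  simpa using this

end lift

section norm

variable {G : Type*} [Group G] [Finite G]
variable {V : Type*} [AddCommGroup V] [Module ℂ V] [FiniteDimensional ℂ V]

/-- if `χ(g)/χ(1)` is an algebraic integer then `χ(g) = 0` or `|χ(g)| = χ(1)` -/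
theorem char_zero_or_norm_of_integral (ρ : Representation ℂ G V) (g : G)
    (hint : IsIntegral ℤ (ρ.character g / (finrank ℂ V : ℂ))) :
    ρ.character g = 0 ∨ ‖ρ.character g‖ = (finrank ℂ V : ℝ) := by
  classical
  by_cases hd : finrank ℂ V = 0
  · left
    have h1 := norm_char_le ρ g
    rw [hd] at h1
    simpa using h1
  have : NeZero (orderOf g) := ⟨(orderOf_pos g).ne'⟩
  obtain ⟨x, hx1, hx⟩ := char_lift_self (orderOf g) ρ g dvd_rfl
  have hdK : ((finrank ℂ V : ℕ) : CycK (orderOf g)) ≠ 0 := by exact_mod_cast hd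
  have hdC : ((finrank ℂ V : ℕ) : ℂ) ≠ 0 := by exact_mod_cast hd
  have hdR : (0 : ℝ) < (finrank ℂ V : ℝ) := by exact_mod_cast Nat.pos_of_ne_zero hd
  let y : CycK (orderOf g) := x / ((finrank ℂ V : ℕ) : CycK (orderOf g))
  have hy : ∀ (σ : CycK (orderOf g) ≃ₐ[ℚ] CycK (orderOf g)) (m : ℕ),
      σ (cycZeta (orderOf g)) = cycZeta (orderOf g) ^ m →
      cycEmb (orderOf g) (σ y) = ρ.character (g ^ m) / (finrank ℂ V : ℂ) := by
    intro σ m hσ
    simp only [y]
    rw [map_div₀, map_div₀, map_natCast, map_natCast, hx σ m hσ]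
  have hy1 : cycEmb (orderOf g) y = ρ.character g / (finrank ℂ V : ℂ) := by
    simp only [y]
    rw [map_div₀, map_natCast, hx1]
  have hyint : IsIntegral ℤ y := by
    rw [← hy1] at hint
    exact (isIntegral_algHom_iff ((cycEmb (orderOf g)).restrictScalars ℤ)
      (cycEmb_injective (orderOf g))).mp hint
  have hNint : IsIntegral ℤ (Algebra.norm ℚ y) := Algebra.isIntegral_norm ℚ hyint
  obtain ⟨k, hk⟩ := IsIntegrallyClosed.isIntegral_iff.mp hNint
  have hprod := Algebra.norm_eq_prod_automorphisms ℚ y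
  have hprodC := congrArg (cycEmb (orderOf g)) hprod
  rw [map_prod] at hprodC
  have hL : cycEmb (orderOf g) (algebraMap ℚ (CycK (orderOf g)) (Algebra.norm ℚ y)) = (k : ℂ) := by
    rw [AlgHom.commutes, ← hk]
    simp
  rw [hL] at hprodC
  have hfac : ∀ σ : CycK (orderOf g) ≃ₐ[ℚ] CycK (orderOf g),
      ‖cycEmb (orderOf g) (σ y)‖ ≤ 1 := by
    intro σ
    obtain ⟨m, _, hm⟩ := aut_zeta (orderOf g) σ
    rw [hy σ m hm, norm_div, Complex.norm_natCast, div_le_one hdR]
    exact norm_char_le ρ (g ^ m)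
  have hnorm : ‖(k : ℂ)‖ ≤ ‖ρ.character g‖ / (finrank ℂ V : ℝ) := by
    rw [hprodC, norm_prod,
      ← Finset.mul_prod_erase Finset.univ _
        (Finset.mem_univ (AlgEquiv.refl : CycK (orderOf g) ≃ₐ[ℚ] CycK (orderOf g)))]
    have h1 : ∏ σ ∈ Finset.univ.erase (AlgEquiv.refl : CycK (orderOf g) ≃ₐ[ℚ] CycK (orderOf g)),
        ‖cycEmb (orderOf g) (σ y)‖ ≤ 1 :=
      Finset.prod_le_one (fun σ _ => norm_nonneg _) (fun σ _ => hfac σ)
    have h2 : ‖cycEmb (orderOf g) ((AlgEquiv.refl : CycK (orderOf g) ≃ₐ[ℚ] CycK (orderOf g)) y)‖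
        = ‖ρ.character g‖ / (finrank ℂ V : ℝ) := by
      rw [AlgEquiv.coe_refl, id, hy1, norm_div, Complex.norm_natCast]
    rw [h2]
    calc ‖ρ.character g‖ / (finrank ℂ V : ℝ) * _
        ≤ ‖ρ.character g‖ / (finrank ℂ V : ℝ) * 1 :=
          mul_le_mul_of_nonneg_left h1 (div_nonneg (norm_nonneg _) hdR.le)
      _ = ‖ρ.character g‖ / (finrank ℂ V : ℝ) := mul_one _
  by_cases hlt : ‖ρ.character g‖ < (finrank ℂ V : ℝ)
  · left
    have hk0 : k = 0 := by
      have h3 : ‖(k : ℂ)‖ < 1 := lt_of_le_of_lt hnorm (by rw [div_lt_one hdR]; exact hlt)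
      rw [Complex.norm_intCast] at h3
      have h4 : |k| < 1 := by exact_mod_cast h3
      exact Int.abs_lt_one_iff.mp h4
    rw [hk0] at hk
    have hN0 : Algebra.norm ℚ y = 0 := by
      rw [← hk]
      simp
    have hy0 : y = 0 := Algebra.norm_eq_zero_iff.mp hN0
    rw [hy0, map_zero] at hy1
    rcases div_eq_zero_iff.mp hy1.symm with h | h
    · exact h
    · exact absurd h hdC
  · right
    exact le_antisymm (norm_char_le ρ g) (not_lt.mp hlt)

end norm

end

end Cfsg.Agent.Lib.Helper2
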