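import Mathlib
import Cfsg.Prelude.Def_Characters
import Cfsg.Agent.Lib.Helper2.CharGalois
import Cfsg.Agent.Lib.Helper2.CharIntegral
import Cfsg.Agent.Lib.Helper2.CharLinear

set_option autoImplicit false

namespace Cfsg.Agent.Lib.Helper2

open Representation Module

open scoped ComplexConjugate

section coprime

variable {G : Type*} [Group G] [Finite G]
variable {V : Type*} [AddCommGroup V] [Module ℂ V] [FiniteDimensional ℂ V]

theorem char_zero_or_norm_of_coprime (ρ : Representation ℂ G V) [ρ.IsIrreducible] (g : G)
    (hcop : Nat.Coprime (finrank ℂ V) (Subgroup.centralizer ({g} : Set G)).index) :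
    ρ.character g = 0 ∨ ‖ρ.character g‖ = (finrank ℂ V : ℝ) := by
  classical
  have := Fintype.ofFinite G
  apply char_zero_or_norm_of_integral
  have hω := class_scalar_isIntegral ρ g
  have hχ := char_isIntegral ρ g
  have hd : (finrank ℂ V : ℂ) ≠ 0 := by
    have := irr_finrank_pos ρ
    exact_mod_cast this.ne'
  have hbez := Int.gcd_eq_gcd_ab (finrank ℂ V) (Subgroup.centralizer ({g} : Set G)).index
  have hg1 : ((finrank ℂ V : ℤ)).gcd ((Subgroup.centralizer ({g} : Set G)).index : ℤ) = 1 := by
    rw [Int.gcd_natCast_natCast]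
    exact hcop
  rw [hg1] at hbez
  set a := Int.gcdA (finrank ℂ V) (Subgroup.centralizer ({g} : Set G)).index
  set b := Int.gcdB (finrank ℂ V) (Subgroup.centralizer ({g} : Set G)).index
  have hbezC : (1 : ℂ) = (finrank ℂ V : ℂ) * (a : ℂ)
      + ((Subgroup.centralizer ({g} : Set G)).index : ℂ) * (b : ℂ) := by
    exact_mod_cast hbez
  have e : ρ.character g / (finrank ℂ V : ℂ)
      = (a : ℂ) * ρ.character g
        + (b : ℂ) * (((Subgroup.centralizer ({g} : Set G)).index : ℂ) * ρ.character g
          / (finrank ℂ V : ℂ)) := by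
    field_simp
    linear_combination (ρ.character g) * hbezC
  rw [e]
  exact IsIntegral.add (IsIntegral.mul isIntegral_algebraMap hχ)
    (IsIntegral.mul isIntegral_algebraMap hω)

end coprime

section simple

variable {G : Type*} [Group G] [Finite G]

theorem prime_card_of_comm_simple {G : Type*} [inst : Group G] [IsSimpleGroup G]
    (h : ∀ a b : G, a * b = b * a) : (Nat.card G).Prime := by
  let _ : CommGroup G := { inst with mul_comm := h }
  exact IsSimpleGroup.prime_card

/-- in a nonabelian simple group, an irreducible representation in which some non-identity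
element acts as a scalar is trivial -/
theorem irr_trivial_of_scalar_of_simple [IsSimpleGroup G] (hnc : ¬ ∀ a b : G, a * b = b * a)
    {n : ℕ} (ρ : Representation ℂ G (Fin n → ℂ)) [ρ.IsIrreducible] (g : G) (hg : g ≠ 1)
    (ω : ℂ) (hω : ρ g = ω • (LinearMap.id : (Fin n → ℂ) →ₗ[ℂ] (Fin n → ℂ))) :
    ρ.character = fun _ => 1 := by
  classical
  have := Fintype.ofFinite G
  let Z : Subgroup G :=
    { carrier := {x | ∀ y : G, ρ (x * y) = ρ (y * x)}
      one_mem' := by
        intro y
        simp
      mul_mem' := by
        intro x x' hx hx' y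
        have h1 := hx (x' * y)
        have h2 := hx' (y * x)
        calc ρ (x * x' * y) = ρ (x * (x' * y)) := by rw [mul_assoc]
          _ = ρ (x' * y * x) := h1
          _ = ρ (x' * (y * x)) := by rw [mul_assoc]
          _ = ρ (y * x * x') := h2
          _ = ρ (y * (x * x')) := by rw [mul_assoc]
      inv_mem' := by
        intro x hx y
        have h1 := hx (x⁻¹ * y * x⁻¹)
        have e1 : x * (x⁻¹ * y * x⁻¹) = y * x⁻¹ := by group
        have e2 : x⁻¹ * y * x⁻¹ * x = x⁻¹ * y := by group
        rw [e1, e2] at h1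
        exact h1.symm }
  have hZn : Z.Normal := by
    constructor
    intro x hx c y
    have h1 := hx (c⁻¹ * y * c)
    calc ρ (c * x * c⁻¹ * y) = ρ c * ρ (x * (c⁻¹ * y * c)) * ρ c⁻¹ := by
          rw [← map_mul, ← map_mul]
          congr 1
          group
      _ = ρ c * ρ (c⁻¹ * y * c * x) * ρ c⁻¹ := by rw [h1]
      _ = ρ (y * (c * x * c⁻¹)) := by
          rw [← map_mul, ← map_mul]
          congr 1
          group
  have hgZ : g ∈ Z := by
    intro y
    rw [map_mul, map_mul, hω]
    ext v
    simp
  have hZtop : Z = ⊤ := by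
    rcases hZn.eq_bot_or_eq_top with h | h
    · exfalso
      rw [h, Subgroup.mem_bot] at hgZ
      exact hg hgZ
    · exact h
  have hscalar : ∀ x : G, ∃ c : ℂ, ρ x = c • (LinearMap.id : (Fin n → ℂ) →ₗ[ℂ] (Fin n → ℂ)) := by
    intro x
    have hx : x ∈ Z := by rw [hZtop]; trivial
    apply schur_scalar ρ (ρ x)
    intro y
    have h1 := hx y
    rw [map_mul, map_mul] at h1
    exact h1
  have hnorm : ∀ x : G, ‖ρ.character x‖ = (n : ℝ) := by
    intro x
    have h1 := (norm_char_eq_iff ρ x).mpr (hscalar x)
    rw [Module.finrank_fin_fun] at h1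
    exact h1
  have hirr := isIrrCharacter_of_rep ρ
  have h1 := classInner_irr_self hirr
  rw [classInner_def] at h1
  have hterm : ∀ x : G, ρ.character x * conj (ρ.character x) = ((n : ℂ)) ^ 2 := by
    intro x
    rw [Complex.mul_conj, Complex.normSq_eq_norm_sq, hnorm x]
    push_cast
    ring
  simp only [hterm] at h1
  rw [Finset.sum_const, Finset.card_univ, nsmul_eq_mul, ← Nat.card_eq_fintype_card,
    ← mul_assoc, inv_mul_cancel₀ (card_ne_zero_complex G), one_mul] at h1
  have hn1 : n = 1 := by
    have h2 : n ^ 2 = 1 := by exact_mod_cast h1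
    exact (Nat.pow_eq_one.mp h2).resolve_right (by norm_num)
  have hdeg : ρ.character 1 = 1 := by
    rw [Representation.char_one, Module.finrank_fin_fun, hn1]
    simp
  obtain ⟨lam, hlam⟩ := hom_of_irr_deg_one hirr hdeg
  rcases (MonoidHom.normal_ker lam).eq_bot_or_eq_top with h | h
  · exfalso
    apply hnc
    intro a b
    have hinj : Function.Injective lam := (MonoidHom.ker_eq_bot_iff lam).mp h
    apply hinj
    rw [map_mul, map_mul, mul_comm]
  · rw [hlam]
    funext x
    have hx : x ∈ lam.ker := by rw [h]; trivial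
    rw [MonoidHom.mem_ker] at hx
    rw [hx]
    simp

/-- Burnside: a nonabelian simple group has no non-identity class of prime power size -/
theorem not_simple_of_prime_power_class [IsSimpleGroup G] (hnc : ¬ ∀ a b : G, a * b = b * a)
    (p k : ℕ) (hp : p.Prime) (g : G) (hg : g ≠ 1)
    (hclass : (Subgroup.centralizer ({g} : Set G)).index = p ^ k) : False := by
  classical
  have := Fintype.ofFinite G
  have := Fintype.ofFinite (Cfsg.IrrCharacter G)
  have hdeg : ∀ χ : Cfsg.IrrCharacter G, ∃ d : ℕ, (χ : G → ℂ) 1 = (d : ℂ) ∧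
      IsIntegral ℤ ((χ : G → ℂ) g) ∧
      ((χ : G → ℂ) ≠ (fun _ => 1) → ¬ p ∣ d → (χ : G → ℂ) g = 0) := by
    intro χ
    obtain ⟨n, ρ, hρ, hχ⟩ := χ.2
    refine ⟨n, ?_, ?_, ?_⟩
    · rw [← hχ, Representation.char_one, Module.finrank_fin_fun]
    · rw [← hχ]
      exact char_isIntegral ρ g
    · intro hne hpd
      have hcop : Nat.Coprime (finrank ℂ (Fin n → ℂ)) (Subgroup.centralizer ({g} : Set G)).index := by
        rw [Module.finrank_fin_fun, hclass]
        exact Nat.Coprime.pow_right k ((Nat.coprime_comm).mp ((Nat.Prime.coprime_iff_not_dvd hp).mpr hpd))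
      rcases char_zero_or_norm_of_coprime ρ g hcop with h | h
      · rw [← hχ]
        exact h
      · exfalso
        obtain ⟨ω, hω⟩ := (norm_char_eq_iff ρ g).mp h
        exact hne (hχ ▸ irr_trivial_of_scalar_of_simple hnc ρ g hg ω hω)
  choose d hd hint hvan using hdeg
  have horth := column_orthogonality (G := G) g 1
  rw [colFun_of_not_isConj (fun h => hg (isConj_one_left.mp h))] at horth
  have horth' : ∑ χ : Cfsg.IrrCharacter G, (χ : G → ℂ) g * (d χ : ℂ) = 0 := by
    rw [← horth]
    apply Finset.sum_congr rfl
    intro χ _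
    rw [hd χ, Complex.conj_natCast]
  let triv : Cfsg.IrrCharacter G := ⟨fun _ => 1, isIrrCharacter_one⟩
  have hdtriv : d triv = 1 := by
    have h1 := hd triv
    have h2 : (1 : ℂ) = (d triv : ℂ) := h1
    exact_mod_cast h2.symm
  rw [← Finset.add_sum_erase Finset.univ _ (Finset.mem_univ triv)] at horth'
  have hterm : ∀ χ ∈ Finset.univ.erase triv,
      (χ : G → ℂ) g * (d χ : ℂ) = (p : ℂ) * ((χ : G → ℂ) g * ((d χ / p : ℕ) : ℂ)) := by
    intro χ hχ
    have hne : (χ : G → ℂ) ≠ fun _ => 1 := by
      intro e
      exact (Finset.ne_of_mem_erase hχ) (Subtype.ext e)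
    by_cases hpd : p ∣ d χ
    · obtain ⟨c, hc⟩ := hpd
      rw [hc, Nat.mul_div_cancel_left c hp.pos]
      push_cast
      ring
    · rw [hvan χ hne hpd]
      simp
  rw [Finset.sum_congr rfl hterm, ← Finset.mul_sum, hdtriv] at horth'
  have hS : IsIntegral ℤ (∑ χ ∈ Finset.univ.erase triv,
      (χ : G → ℂ) g * ((d χ / p : ℕ) : ℂ)) := by
    apply IsIntegral.sum
    intro χ _
    exact IsIntegral.mul (hint χ) isIntegral_algebraMap
  have hp0 : (p : ℂ) ≠ 0 := by exact_mod_cast hp.ne_zero
  have h1p : ((1 : ℕ) : ℂ) / ((p : ℕ) : ℂ)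
      = -(∑ χ ∈ Finset.univ.erase triv, (χ : G → ℂ) g * ((d χ / p : ℕ) : ℂ)) := by
    have e : (triv : G → ℂ) g = 1 := rfl
    rw [e] at horth'
    field_simp
    push_cast
    linear_combination horth'
  have hint1 : IsIntegral ℤ (((1 : ℕ) : ℂ) / ((p : ℕ) : ℂ)) := by
    rw [h1p]
    exact hS.neg
  have hdvd := nat_dvd_of_isIntegral_div hp.ne_zero hint1
  exact hp.one_lt.ne' (Nat.dvd_one.mp hdvd)

theorem prime_card_of_simple_of_prime_power_class [IsSimpleGroup G] (p k : ℕ) (hp : p.Prime)
    (g : G) (hg : g ≠ 1) (hclass : (Subgroup.centralizer ({g} : Set G)).index = p ^ k) :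
    (Nat.card G).Prime := by
  by_cases hc : ∀ a b : G, a * b = b * a
  · exact prime_card_of_comm_simple hc
  · exact (not_simple_of_prime_power_class hc p k hp g hg hclass).elim

end simple

end Cfsg.Agent.Lib.Helper2

namespace Cfsg.Agent.Lib.Helper2

universe u

/-- Burnside's two-prime theorem, in the form: a finite group all of whose prime divisors of the
order lie in `{p, q}` is solvable -/
theorem solvable_of_two_primes (p q : ℕ) (hp : p.Prime) (hq : q.Prime) :
    ∀ (n : ℕ) (G : Type u) [Group G] [Finite G], Nat.card G = n →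
      (∀ r : ℕ, r.Prime → r ∣ n → r = p ∨ r = q) → Group.IsSolvable G := by
  intro n
  induction n using Nat.strong_induction_on with
  | _ n ih =>
    intro G _ _ hcard hprimes
    by_cases hsub : Subsingleton G
    · exact Group.isSolvable_of_comm (fun a b => Subsingleton.elim _ _)
    have hnt : Nontrivial G := not_subsingleton_iff_nontrivial.mp hsub
    by_cases hsimple : ∀ N : Subgroup G, N.Normal → N = ⊥ ∨ N = ⊤
    · have hS : IsSimpleGroup G := ⟨hsimple⟩
      by_cases hpg : p ∣ n ∧ q ∣ n ∧ p ≠ q
      · obtain ⟨hpn, hqn, hpq⟩ := hpg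
        exfalso
        have hqf : Fact q.Prime := ⟨hq⟩
        obtain ⟨Q⟩ : Nonempty (Sylow q G) := inferInstance
        have hQne : (Q : Subgroup G) ≠ ⊥ := Q.ne_bot_of_dvd_card (hcard ▸ hqn)
        have hQnt : Nontrivial (Q : Subgroup G) := (Subgroup.nontrivial_iff_ne_bot _).mpr hQne
        have hQp : IsPGroup q (Q : Subgroup G) := Q.isPGroup'
        have hcn : Nontrivial (Subgroup.center (Q : Subgroup G)) := IsPGroup.center_nontrivial hQp
        obtain ⟨⟨z, hz⟩, hne⟩ := exists_ne (1 : Subgroup.center (Q : Subgroup G))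
        have hz1 : (z : G) ≠ 1 := by
          intro e
          apply hne
          apply Subtype.ext
          apply Subtype.ext
          exact e
        have hle : (Q : Subgroup G) ≤ Subgroup.centralizer ({(z : G)} : Set G) := by
          intro x hx
          rw [Subgroup.mem_centralizer_singleton_iff]
          have h1 := Subgroup.mem_center_iff.mp hz ⟨x, hx⟩
          exact congrArg Subtype.val h1
        have hidx : (Subgroup.centralizer ({(z : G)} : Set G)).index ∣ (Q : Subgroup G).index :=
          Subgroup.index_dvd_of_le hle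
        have hQidx : ¬ q ∣ (Q : Subgroup G).index := Q.not_dvd_index
        have hk : (Subgroup.centralizer ({(z : G)} : Set G)).index
            = p ^ ((Subgroup.centralizer ({(z : G)} : Set G)).index).primeFactorsList.length := by
          apply Nat.eq_prime_pow_of_unique_prime_dvd Subgroup.index_ne_zero_of_finite
          intro r hr hrd
          have hrn : r ∣ n := hcard ▸ (hrd.trans (Subgroup.index_dvd_card _))
          rcases hprimes r hr hrn with h | h
          · exact h
          · exfalso
            apply hQidx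
            have h' : r ∣ (Q : Subgroup G).index := hrd.trans hidx
            rw [h] at h'
            exact h'
        have hprime := prime_card_of_simple_of_prime_power_class p _ hp (z : G) hz1 hk
        rw [hcard] at hprime
        have e1 := (Nat.prime_dvd_prime_iff_eq hp hprime).mp hpn
        have e2 := (Nat.prime_dvd_prime_iff_eq hq hprime).mp hqn
        exact hpq (e1.trans e2.symm)
      · have hr : ∃ r : ℕ, r.Prime ∧ ∀ s : ℕ, s.Prime → s ∣ n → s = r := by
          by_cases hpn : p ∣ n
          · by_cases hqn : q ∣ n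
            · have hpq : p = q := by
                by_contra h
                exact hpg ⟨hpn, hqn, h⟩
              refine ⟨p, hp, fun s hs hsn => ?_⟩
              rcases hprimes s hs hsn with h | h
              · exact h
              · exact h.trans hpq.symm
            · refine ⟨p, hp, fun s hs hsn => ?_⟩
              rcases hprimes s hs hsn with h | h
              · exact h
              · exact absurd (h ▸ hsn) hqn
          · refine ⟨q, hq, fun s hs hsn => ?_⟩
            rcases hprimes s hs hsn with h | h
            · exact absurd (h ▸ hsn) hpn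
            · exact h
        obtain ⟨r, hr, hall⟩ := hr
        have hn0 : n ≠ 0 := by
          rw [← hcard]
          exact Nat.card_pos.ne'
        have hpow := Nat.eq_prime_pow_of_unique_prime_dvd hn0 (fun {d} hd hdn => hall d hd hdn)
        have hrf : Fact r.Prime := ⟨hr⟩
        have hPG : IsPGroup r G := IsPGroup.of_card (hcard.trans hpow)
        have hnil := hPG.isNilpotent
        exact IsNilpotent.to_isSolvable
    · push Not at hsimple
      obtain ⟨N, hNn, hNbot, hNtop⟩ := hsimple
      have hNlt : Nat.card N < n := by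
        rw [← hcard]
        by_contra h
        exact hNtop (Subgroup.eq_top_of_le_card N (not_lt.mp h))
      have hN1 : 1 < Nat.card N := (Subgroup.one_lt_card_iff_ne_bot N).mpr hNbot
      have hmul : N.index * Nat.card N = Nat.card G := Subgroup.index_mul_card N
      have hQlt : Nat.card (G ⧸ N) < n := by
        rw [← hcard]
        change N.index < Nat.card G
        have hpos : 0 < N.index := Nat.pos_of_ne_zero Subgroup.index_ne_zero_of_finite
        nlinarith
      have hNdvd : Nat.card N ∣ n := hcard ▸ Subgroup.card_subgroup_dvd_card N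
      have hQdvd : Nat.card (G ⧸ N) ∣ n := hcard ▸ Subgroup.index_dvd_card N
      have h1 : Group.IsSolvable N :=
        ih _ hNlt N rfl (fun r hr hrd => hprimes r hr (hrd.trans hNdvd))
      have h2 : Group.IsSolvable (G ⧸ N) :=
        ih _ hQlt (G ⧸ N) rfl (fun r hr hrd => hprimes r hr (hrd.trans hQdvd))
      exact Group.isSolvable_of_ker_le_range N.subtype (QuotientGroup.mk' N) (by simp)

theorem burnside_paqb {G : Type u} [Group G] [Finite G] (p q a b : ℕ) (hp : p.Prime)
    (hq : q.Prime) (hcard : Nat.card G = p ^ a * q ^ b) : Group.IsSolvable G := by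
  apply solvable_of_two_primes p q hp hq _ G hcard
  intro r hr hrd
  rcases (Nat.Prime.dvd_mul hr).mp hrd with h | h
  · left
    exact (Nat.prime_dvd_prime_iff_eq hr hp).mp (hr.dvd_of_dvd_pow h)
  · right
    exact (Nat.prime_dvd_prime_iff_eq hr hq).mp (hr.dvd_of_dvd_pow h)

end Cfsg.Agent.Lib.Helper2
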