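import Mathlib
import Cfsg.Agent.Lib.Helper3.QuatRecog
import Cfsg.Agent.Lib.Helper11.SL23

set_option autoImplicit false

/-!
A quaternion group of order 8 with an element of odd order permuting `i, j, ij` cyclically
gives a section isomorphic to `SL(2,3)`.
-/

namespace Cfsg.Agent.Lib.Helper2

open QuaternionGroup

/-- `SL(2,3)`. -/
abbrev SL23 := Matrix.SpecialLinearGroup (Fin 2) (ZMod 3)

def sI : SL23 := ⟨!![0, -1; 1, 0], by rw [Matrix.det_fin_two_of]; decide⟩
def sJ : SL23 := ⟨!![1, 1; 1, -1], by rw [Matrix.det_fin_two_of]; decide⟩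
def sW : SL23 := ⟨!![1, 1; 0, 1], by rw [Matrix.det_fin_two_of]; decide⟩

theorem quat_hom_ext {n : ℕ} [NeZero n] {Γ : Type*} [Group Γ] (β β' : QuaternionGroup n →* Γ)
    (h1 : β (a 1) = β' (a 1)) (h2 : β (xa 0) = β' (xa 0)) : β = β' := by
  ext q
  cases q with
  | a k =>
    have e : (a k : QuaternionGroup n) = a 1 ^ k.val := by
      rw [a_one_pow, ZMod.natCast_zmod_val]
    rw [e, map_pow, map_pow, h1]
  | xa k =>
    have e : (xa k : QuaternionGroup n) = xa 0 * a 1 ^ k.val := by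
      rw [a_one_pow, ZMod.natCast_zmod_val, xa_mul_a, zero_add]
    rw [e, map_mul, map_mul, map_pow, map_pow, h1, h2]

/-- The automorphism of order three of the quaternion group of order 8. -/
def tauFun : QuaternionGroup 2 → QuaternionGroup 2
  | a k => (xa 0) ^ k.val
  | xa k => xa 3 * (xa 0) ^ k.val

theorem tauFun_mul : ∀ x y : QuaternionGroup 2, tauFun (x * y) = tauFun x * tauFun y := by
  decide

theorem tauFun_cube : ∀ x : QuaternionGroup 2, tauFun (tauFun (tauFun x)) = x := by decide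

def tau : MulAut (QuaternionGroup 2) where
  toFun := tauFun
  invFun := fun x => tauFun (tauFun x)
  left_inv := tauFun_cube
  right_inv := tauFun_cube
  map_mul' := tauFun_mul

theorem tau_a_one : tau (a 1) = xa 0 := by decide

theorem tau_xa_zero : tau (xa 0) = xa 3 := by decide

theorem tau_pow_three : tau ^ 3 = 1 := by
  ext q
  exact tauFun_cube q

/-- Compatibility of a pair (homomorphism, conjugating element) with the powers of an
automorphism. -/
theorem lift_compat {N Γ : Type*} [Group N] [Group Γ] (t : MulAut N) (α : N →* Γ) (w : Γ)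
    (h : ∀ x, α (t x) = w * α x * w⁻¹) (k : ℤ) (x : N) :
    α ((t ^ k) x) = w ^ k * α x * (w ^ k)⁻¹ := by
  have hinv : ∀ x, α (t⁻¹ x) = w⁻¹ * α x * w := by
    intro x
    have h1 := h (t⁻¹ x)
    have h2 : t (t⁻¹ x) = x := by
      rw [← MulAut.mul_apply, mul_inv_cancel, MulAut.one_apply]
    rw [h2] at h1
    rw [h1]; group
  induction k using Int.induction_on generalizing x with
  | zero => simp
  | succ k ih =>
    have e : (t ^ ((k : ℤ) + 1)) x = (t ^ (k : ℤ)) (t x) := by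
      rw [zpow_add, zpow_one, MulAut.mul_apply]
    rw [e, ih, h, zpow_add, zpow_one]
    group
  | pred k ih =>
    have e : (t ^ (-(k : ℤ) - 1)) x = (t ^ (-(k : ℤ))) (t⁻¹ x) := by
      rw [sub_eq_add_neg, zpow_add, zpow_neg_one, MulAut.mul_apply]
    rw [e, ih, hinv, sub_eq_add_neg, zpow_add, zpow_neg_one]
    group

theorem orderOf_sI : orderOf sI = 4 := by
  have : Fact (Nat.Prime 2) := ⟨Nat.prime_two⟩
  exact orderOf_eq_prime_pow (p := 2) (n := 1) (by decide) (by decide)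

theorem orderOf_sW : orderOf sW = 3 := by
  have : Fact (Nat.Prime 3) := ⟨Nat.prime_three⟩
  exact orderOf_eq_prime (by decide) (by decide)

theorem sJ_not_mem : sJ ∉ Subgroup.zpowers sI := by
  intro h
  obtain ⟨k, hk⟩ := Subgroup.mem_zpowers_iff.mp h
  have h1 : Commute sI (sI ^ k) := (Commute.refl sI).zpow_right k
  rw [hk] at h1
  exact absurd h1.eq (by decide)

theorem card_quat_two : Nat.card (QuaternionGroup 2) = 8 := by
  rw [Nat.card_eq_fintype_card, QuaternionGroup.card]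

set_option maxHeartbeats 800000 in
/-- The section. -/
theorem exists_sl23_section {G : Type*} [Group G] [Finite G] (i j g : G)
    (h1 : orderOf i = 4) (h2 : j * j = i ^ 2) (h3 : i * j = j * i⁻¹)
    (h4 : j ∉ Subgroup.zpowers i) (h5 : g * i * g⁻¹ = j) (h6 : g * j * g⁻¹ = j * i ^ 3)
    (h7 : Odd (orderOf g)) :
    ∃ (H K : Subgroup G) (hK : (K.subgroupOf H).Normal),
      Nonempty ((H ⧸ K.subgroupOf H) ≃* Matrix.SpecialLinearGroup (Fin 2) (ZMod 3)) := by
  -- the two quaternion homomorphisms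
  obtain ⟨α₁, hα₁a, hα₁x⟩ := Cfsg.Agent.Lib.Helper3.exists_quat_hom (n := 2) i j h1 h2 h3
  have hα₁inj := Cfsg.Agent.Lib.Helper3.quat_hom_injective (n := 2) i j h1 h4 α₁ hα₁a hα₁x
  obtain ⟨α₂, hα₂a, hα₂x⟩ := Cfsg.Agent.Lib.Helper3.exists_quat_hom (n := 2) sI sJ orderOf_sI
    (by decide) (by decide)
  have hα₂inj := Cfsg.Agent.Lib.Helper3.quat_hom_injective (n := 2) sI sJ orderOf_sI sJ_not_mem
    α₂ hα₂a hα₂x
  have e1 : α₁ (a 1) = i := by
    rw [hα₁a]
    have : ((1 : ZMod (2 * 2))).val = 1 := by decide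
    rw [this, pow_one]
  have e2 : α₁ (xa 0) = j := by
    rw [hα₁x]
    have : ((0 : ZMod (2 * 2))).val = 0 := by decide
    rw [this, pow_zero, mul_one]
  have e3 : α₁ (xa 3) = j * i ^ 3 := by
    rw [hα₁x]
    have : ((3 : ZMod (2 * 2))).val = 3 := by decide
    rw [this]
  have f1 : α₂ (a 1) = sI := by
    rw [hα₂a]
    have : ((1 : ZMod (2 * 2))).val = 1 := by decide
    rw [this, pow_one]
  have f2 : α₂ (xa 0) = sJ := by
    rw [hα₂x]
    have : ((0 : ZMod (2 * 2))).val = 0 := by decide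
    rw [this, pow_zero, mul_one]
  have f3 : α₂ (xa 3) = sJ * sI ^ 3 := by
    rw [hα₂x]
    have : ((3 : ZMod (2 * 2))).val = 3 := by decide
    rw [this]
  -- equivariance
  have c1 : ∀ x, α₁ (tau x) = g * α₁ x * g⁻¹ := by
    have h := quat_hom_ext (α₁.comp tau.toMonoidHom) ((MulAut.conj g).toMonoidHom.comp α₁)
      (by
        show α₁ (tau (a 1)) = g * α₁ (a 1) * g⁻¹
        rw [tau_a_one, e1, e2, h5])
      (by
        show α₁ (tau (xa 0)) = g * α₁ (xa 0) * g⁻¹
        rw [tau_xa_zero, e2, e3, h6])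
    intro x
    exact DFunLike.congr_fun h x
  have c2 : ∀ x, α₂ (tau x) = sW * α₂ x * sW⁻¹ := by
    have h := quat_hom_ext (α₂.comp tau.toMonoidHom) ((MulAut.conj sW).toMonoidHom.comp α₂)
      (by
        show α₂ (tau (a 1)) = sW * α₂ (a 1) * sW⁻¹
        rw [tau_a_one, f1, f2]
        decide)
      (by
        show α₂ (tau (xa 0)) = sW * α₂ (xa 0) * sW⁻¹
        rw [tau_xa_zero, f2, f3]
        decide)
    intro x
    exact DFunLike.congr_fun h x
  -- the abstract semidirect product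
  obtain ⟨ψ, hψ⟩ : ∃ ψ : Multiplicative ℤ →* MulAut (QuaternionGroup 2),
      ψ = zpowersHom (MulAut (QuaternionGroup 2)) tau := ⟨_, rfl⟩
  have hψk : ∀ n : Multiplicative ℤ, ψ n = tau ^ (Multiplicative.toAdd n) := by
    intro n
    rw [hψ]
    rfl
  obtain ⟨γ₁, hγ₁⟩ : ∃ γ₁ : Multiplicative ℤ →* G, γ₁ = zpowersHom G g := ⟨_, rfl⟩
  have hγ₁k : ∀ n : Multiplicative ℤ, γ₁ n = g ^ (Multiplicative.toAdd n) := by
    intro n
    rw [hγ₁]
    rfl
  obtain ⟨γ₂, hγ₂⟩ : ∃ γ₂ : Multiplicative ℤ →* SL23, γ₂ = zpowersHom SL23 sW := ⟨_, rfl⟩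
  have hγ₂k : ∀ n : Multiplicative ℤ, γ₂ n = sW ^ (Multiplicative.toAdd n) := by
    intro n
    rw [hγ₂]
    rfl
  have hc1 : ∀ n : Multiplicative ℤ,
      α₁.comp (ψ n).toMonoidHom = (MulAut.conj (γ₁ n)).toMonoidHom.comp α₁ := by
    intro n
    apply MonoidHom.ext
    intro x
    show α₁ ((ψ n) x) = γ₁ n * α₁ x * (γ₁ n)⁻¹
    rw [hψk, hγ₁k]
    exact lift_compat tau α₁ g c1 _ x
  have hc2 : ∀ n : Multiplicative ℤ,
      α₂.comp (ψ n).toMonoidHom = (MulAut.conj (γ₂ n)).toMonoidHom.comp α₂ := by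
    intro n
    apply MonoidHom.ext
    intro x
    show α₂ ((ψ n) x) = γ₂ n * α₂ x * (γ₂ n)⁻¹
    rw [hψk, hγ₂k]
    exact lift_compat tau α₂ sW c2 _ x
  obtain ⟨Λ₁, hΛ₁⟩ : ∃ Λ₁ : QuaternionGroup 2 ⋊[ψ] Multiplicative ℤ →* G,
      Λ₁ = SemidirectProduct.lift α₁ γ₁ hc1 := ⟨_, rfl⟩
  obtain ⟨Λ₂, hΛ₂⟩ : ∃ Λ₂ : QuaternionGroup 2 ⋊[ψ] Multiplicative ℤ →* SL23,
      Λ₂ = SemidirectProduct.lift α₂ γ₂ hc2 := ⟨_, rfl⟩
  have hΛ₁v : ∀ s : QuaternionGroup 2 ⋊[ψ] Multiplicative ℤ,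
      Λ₁ s = α₁ s.left * g ^ (Multiplicative.toAdd s.right) := by
    intro s
    rw [hΛ₁, ← hγ₁k]
    rfl
  have hΛ₂v : ∀ s : QuaternionGroup 2 ⋊[ψ] Multiplicative ℤ,
      Λ₂ s = α₂ s.left * sW ^ (Multiplicative.toAdd s.right) := by
    intro s
    rw [hΛ₂, ← hγ₂k]
    rfl
  -- `3` divides the order of `g`
  have hgpos : 0 < orderOf g := orderOf_pos g
  have h3dvd : 3 ∣ orderOf g := by
    by_contra hnd
    have hcop : Nat.Coprime (orderOf g) 3 :=
      (Nat.Coprime.symm ((Nat.Prime.coprime_iff_not_dvd Nat.prime_three).mpr hnd))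
    obtain ⟨m, hm⟩ := exists_pow_eq_self_of_coprime hcop.symm
    -- `g ^ 3` commutes with `i`
    have hg3 : g ^ (3 : ℤ) * i * (g ^ (3 : ℤ))⁻¹ = i := by
      have := lift_compat tau α₁ g c1 3 (a 1)
      rw [e1] at this
      rw [← this]
      have h4' : (tau ^ (3 : ℤ)) (a 1) = a 1 := by
        have : tau ^ (3 : ℤ) = 1 := by
          rw [show (3 : ℤ) = ((3 : ℕ) : ℤ) from rfl, zpow_natCast]
          exact tau_pow_three
        rw [this, MulAut.one_apply]
      rw [h4', e1]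
    have hg3' : g ^ 3 * i = i * g ^ 3 := by
      have h8 : g ^ (3 : ℤ) = g ^ 3 := by
        rw [show (3 : ℤ) = ((3 : ℕ) : ℤ) from rfl, zpow_natCast]
      rw [h8] at hg3
      calc g ^ 3 * i = (g ^ 3 * i * (g ^ 3)⁻¹) * g ^ 3 := by group
        _ = i * g ^ 3 := by rw [hg3]
    have hgi : g * i = i * g := by
      have hc : Commute (g ^ 3) i := hg3'
      have := (hc.pow_left m).eq
      rw [hm] at this
      exact this
    apply h4
    rw [← h5, hgi, mul_inv_cancel_right]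
    exact Subgroup.mem_zpowers i
  have hW3 : ∀ n : ℤ, g ^ n = 1 → sW ^ n = 1 := by
    intro n hn
    have hd : (orderOf g : ℤ) ∣ n := orderOf_dvd_iff_zpow_eq_one.mpr hn
    have hd3 : ((3 : ℕ) : ℤ) ∣ n := (Int.natCast_dvd_natCast.mpr h3dvd).trans hd
    obtain ⟨c, hc⟩ := hd3
    rw [hc, zpow_mul, zpow_natCast]
    have : sW ^ 3 = 1 := by decide
    rw [this, one_zpow]
  -- the kernels
  have hker : Λ₁.ker ≤ Λ₂.ker := by
    intro s hs
    rw [MonoidHom.mem_ker, hΛ₁v] at hs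
    rw [MonoidHom.mem_ker, hΛ₂v]
    obtain ⟨y, hy⟩ : ∃ y, y = α₁ s.left := ⟨_, rfl⟩
    have hy8 : y ^ 8 = 1 := by
      rw [hy, ← map_pow]
      have : ∀ q : QuaternionGroup 2, q ^ 8 = 1 := by decide
      rw [this, map_one]
    have hyg : y = (g ^ (Multiplicative.toAdd s.right))⁻¹ := by
      rw [hy]
      exact eq_inv_of_mul_eq_one_left hs
    have hyr : y ^ orderOf g = 1 := by
      rw [hyg, inv_pow, ← zpow_natCast, ← zpow_mul, mul_comm, zpow_mul, zpow_natCast,
        pow_orderOf_eq_one, one_zpow, inv_one]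
    have hy1 : y = 1 := by
      have hd1 : orderOf y ∣ 8 := orderOf_dvd_of_pow_eq_one hy8
      have hd2 : orderOf y ∣ orderOf g := orderOf_dvd_of_pow_eq_one hyr
      have hcop : Nat.Coprime 8 (orderOf g) := by
        have : Nat.Coprime 2 (orderOf g) := (Nat.coprime_two_left).mpr h7
        exact Nat.Coprime.pow_left 3 this
      have := Nat.eq_one_of_dvd_coprimes hcop hd1 hd2
      exact orderOf_eq_one_iff.mp this
    have hx1 : s.left = 1 := by
      apply hα₁inj
      rw [← hy, hy1, map_one]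
    have hg1 : g ^ (Multiplicative.toAdd s.right) = 1 := by
      rw [← hy, hy1, one_mul] at hs
      exact hs
    rw [hx1, map_one, one_mul]
    exact hW3 _ hg1
  -- surjectivity of `Λ₂`
  have hsurj : Function.Surjective Λ₂ := by
    rw [← MonoidHom.range_eq_top]
    apply Subgroup.eq_top_of_card_eq
    have hle : α₂.range ≤ Λ₂.range := by
      rintro _ ⟨x, rfl⟩
      refine ⟨SemidirectProduct.inl x, ?_⟩
      rw [hΛ₂]
      exact SemidirectProduct.lift_inl _ _ _ x
    have h8 : 8 ∣ Nat.card Λ₂.range := by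
      have hc : Nat.card α₂.range = 8 := by
        rw [← card_quat_two]
        exact (Nat.card_congr (Equiv.ofInjective α₂ hα₂inj)).symm
      rw [← hc]
      exact Subgroup.card_dvd_of_le hle
    have hWm : sW ∈ Λ₂.range := by
      refine ⟨SemidirectProduct.inr (Multiplicative.ofAdd 1), ?_⟩
      rw [hΛ₂, SemidirectProduct.lift_inr, hγ₂k]
      simp
    have h3' : 3 ∣ Nat.card Λ₂.range := by
      have h9 := Subgroup.orderOf_dvd_natCard _ hWm
      rwa [orderOf_sW] at h9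
    have h24 : 24 ∣ Nat.card Λ₂.range :=
      Nat.Coprime.mul_dvd_of_dvd_of_dvd (by decide) h8 h3'
    have hle24 : Nat.card Λ₂.range ≤ Nat.card SL23 := Subgroup.card_le_card_group _
    have hc24 : Nat.card SL23 = 24 := Cfsg.Agent.Lib.Helper11.card_sl23
    have hpos : 0 < Nat.card Λ₂.range := Nat.card_pos
    have := Nat.le_of_dvd hpos h24
    omega
  -- the homomorphism on the range of `Λ₁`
  obtain ⟨Θ, hΘ⟩ : ∃ Θ : ↥Λ₁.range →* SL23,
      Θ = (QuotientGroup.lift Λ₁.ker Λ₂ hker).comp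
        (QuotientGroup.quotientKerEquivRange Λ₁).symm.toMonoidHom := ⟨_, rfl⟩
  have hΘsurj : Function.Surjective Θ := by
    intro y
    obtain ⟨s, rfl⟩ := hsurj y
    refine ⟨QuotientGroup.quotientKerEquivRange Λ₁ (QuotientGroup.mk s), ?_⟩
    rw [hΘ]
    show (QuotientGroup.lift Λ₁.ker Λ₂ hker)
      ((QuotientGroup.quotientKerEquivRange Λ₁).symm
        (QuotientGroup.quotientKerEquivRange Λ₁ (QuotientGroup.mk s))) = Λ₂ s
    rw [MulEquiv.symm_apply_apply]
    rfl
  have hKH : (Θ.ker.map Λ₁.range.subtype).subgroupOf Λ₁.range = Θ.ker := by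
    rw [Subgroup.subgroupOf]
    exact Subgroup.comap_map_eq_self_of_injective Λ₁.range.subtype_injective _
  have hKn : ((Θ.ker.map Λ₁.range.subtype).subgroupOf Λ₁.range).Normal := by
    rw [hKH]; infer_instance
  refine ⟨Λ₁.range, Θ.ker.map Λ₁.range.subtype, hKn, ⟨?_⟩⟩
  exact (QuotientGroup.quotientMulEquivOfEq hKH).trans
    (QuotientGroup.quotientKerEquivOfSurjective Θ hΘsurj)

end Cfsg.Agent.Lib.Helper2
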