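import Mathlib
import Cfsg.Prelude.Def_Characters
import Cfsg.Agent.Lib.Helper2.CharGalois

set_option autoImplicit false

namespace Cfsg.Agent.Lib.Helper2

open Representation Module

section rational

theorem exists_aut_pow (n : ℕ) [NeZero n] (m : ℕ) (hm : m.Coprime n) :
    ∃ σ : CycK n ≃ₐ[ℚ] CycK n, σ (cycZeta n) = cycZeta n ^ m := by
  have hμ : IsPrimitiveRoot (cycZeta n ^ m) n := (cycZeta_spec n).pow_of_coprime m hm
  have hirr : Irreducible (Polynomial.cyclotomic n ℚ) :=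
    Polynomial.cyclotomic.irreducible_rat (NeZero.pos n)
  exact ⟨IsCyclotomicExtension.fromZetaAut hμ hirr,
    IsCyclotomicExtension.fromZetaAut_spec hμ hirr⟩

variable {G : Type*} [Group G] [Finite G]
variable {V : Type*} [AddCommGroup V] [Module ℂ V] [FiniteDimensional ℂ V]

theorem char_pow_eq_of_rational (ρ : Representation ℂ G V) (g : G) (q : ℚ)
    (hq : ρ.character g = (q : ℂ)) (m : ℕ) (hm : m.Coprime (Nat.card G)) :
    ρ.character (g ^ m) = ρ.character g := by
  have hnz : NeZero (Nat.card G) := ⟨Nat.card_pos.ne'⟩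
  obtain ⟨x, hx1, hx⟩ := char_lift_self (Nat.card G) ρ g (orderOf_dvd_natCard g)
  obtain ⟨σ, hσ⟩ := exists_aut_pow (Nat.card G) m hm
  have hxq : x = algebraMap ℚ (CycK (Nat.card G)) q := by
    apply cycEmb_injective (Nat.card G)
    rw [hx1, hq, AlgHom.commutes]
    simp
  rw [← hx σ m hσ, hxq, AlgEquiv.commutes, ← hxq, hx1]

theorem char_rational_of_conj (ρ : Representation ℂ G V) (g : G)
    (h : ∀ m : ℕ, m.Coprime (Nat.card G) → IsConj g (g ^ m)) :
    ∃ q : ℚ, ρ.character g = (q : ℂ) := by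
  have hnz : NeZero (Nat.card G) := ⟨Nat.card_pos.ne'⟩
  obtain ⟨x, hx1, hx⟩ := char_lift_self (Nat.card G) ρ g (orderOf_dvd_natCard g)
  have hfix : ∀ σ : CycK (Nat.card G) ≃ₐ[ℚ] CycK (Nat.card G), σ x = x := by
    intro σ
    obtain ⟨m, hm, hσ⟩ := aut_zeta (Nat.card G) σ
    apply cycEmb_injective (Nat.card G)
    rw [hx σ m hσ, hx1]
    obtain ⟨c, hc⟩ := isConj_iff.mp (h m hm)
    rw [← hc, Representation.char_conj]
  obtain ⟨q, hq⟩ := (IsGalois.mem_range_algebraMap_iff_fixed x).mpr hfix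
  refine ⟨q, ?_⟩
  rw [← hx1, ← hq, AlgHom.commutes]
  simp

end rational

end Cfsg.Agent.Lib.Helper2
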