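import Mathlib
import Cfsg.Agent.Lib.Helper2.QuadSeries

set_option autoImplicit false

/-!
Subgroups of a generalized quaternion group normalized but not centralized by an element of
odd order: such a subgroup is a quaternion group of order 8 on which the element acts by
permuting `i, j, ij` cyclically.
-/

namespace Cfsg.Agent.Lib.Helper2

open QuaternionGroup

/-- The properties of a generalized quaternion subgroup `T` that are used: `z` is its unique
involution and `α` generates a cyclic subgroup of index two. -/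
structure QType {G : Type*} [Group G] (T : Subgroup G) (z α : G) : Prop where
  pgrp : ∀ t ∈ T, ∃ k : ℕ, t ^ 2 ^ k = 1
  zT : z ∈ T
  z1 : z ≠ 1
  z2 : z * z = 1
  inv : ∀ t ∈ T, t * t = 1 → t = 1 ∨ t = z
  αT : α ∈ T
  sq : ∀ t ∈ T, t ∉ Subgroup.zpowers α → t * t = z
  conj : ∀ t ∈ T, t ∉ Subgroup.zpowers α → ∀ s ∈ Subgroup.zpowers α, s * t * s = t
  idx : ∀ s ∈ T, ∀ t ∈ T, s ∉ Subgroup.zpowers α → t ∉ Subgroup.zpowers α →
    s⁻¹ * t ∈ Subgroup.zpowers α

theorem zmod_add_self_eq_zero {m : ℕ} [NeZero m] (k : ZMod (2 * m)) (h : k + k = 0) :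
    k = 0 ∨ k = (m : ZMod (2 * m)) := by
  have hm : 0 < m := NeZero.pos m
  have : NeZero (2 * m) := ⟨by omega⟩
  have h1 : ((k.val + k.val : ℕ) : ZMod (2 * m)) = 0 := by
    push_cast
    rw [ZMod.natCast_zmod_val]
    exact h
  rw [ZMod.natCast_eq_zero_iff] at h1
  obtain ⟨c, hc⟩ := h1
  have hlt : k.val < 2 * m := ZMod.val_lt k
  have hc2 : c < 2 := by
    by_contra hcon
    have : 2 ≤ c := by omega
    have : 2 * m * 2 ≤ 2 * m * c := Nat.mul_le_mul_left _ this
    omega
  interval_cases c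
  · left
    have : k.val = 0 := by omega
    exact (ZMod.val_eq_zero k).mp this
  · right
    have h2 : k.val = m := by omega
    have h3 := ZMod.natCast_zmod_val k
    rw [h2] at h3
    exact h3.symm

theorem qtype_of_equiv {G : Type*} [Group G] (T : Subgroup G) (hT : IsPGroup 2 T) (m : ℕ)
    (hm : 2 ≤ m) (e : T ≃* QuaternionGroup m) : ∃ z α, QType T z α := by
  have : NeZero m := ⟨by omega⟩
  have hm0 : (m : ZMod (2 * m)) ≠ 0 := by
    intro h
    rw [ZMod.natCast_eq_zero_iff] at h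
    have := Nat.le_of_dvd (by omega) h
    omega
  have h2ne : (2 : ZMod (2 * m)) ≠ 0 := by
    intro h
    have h' : ((2 : ℕ) : ZMod (2 * m)) = 0 := by exact_mod_cast h
    rw [ZMod.natCast_eq_zero_iff] at h'
    have := Nat.le_of_dvd (by omega) h'
    omega
  obtain ⟨f, hf⟩ : ∃ f : QuaternionGroup m →* G, f = T.subtype.comp e.symm.toMonoidHom :=
    ⟨_, rfl⟩
  have hfT : ∀ q, f q ∈ T := by
    intro q
    rw [hf]
    exact (e.symm q).2
  have hfs : ∀ t (ht : t ∈ T), f (e ⟨t, ht⟩) = t := by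
    intro t ht
    rw [hf]
    show ((e.symm (e ⟨t, ht⟩) : T) : G) = t
    rw [MulEquiv.symm_apply_apply]
  have hfi : Function.Injective f := by
    rw [hf]
    exact T.subtype_injective.comp e.symm.injective
  obtain ⟨α, hα⟩ : ∃ α, α = f (a 1) := ⟨_, rfl⟩
  have hA_a : ∀ k, f (a k) ∈ Subgroup.zpowers α := by
    intro k
    have e1 : (a k : QuaternionGroup m) = a 1 ^ k.val := by
      rw [a_one_pow, ZMod.natCast_zmod_val]
    rw [e1, map_pow, ← hα]
    exact Subgroup.pow_mem _ (Subgroup.mem_zpowers α) _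
  have hA_xa : ∀ k, f (xa k) ∉ Subgroup.zpowers α := by
    intro k hmem
    obtain ⟨u, hu⟩ := Subgroup.mem_zpowers_iff.mp hmem
    have h1 : Commute α (α ^ u) := (Commute.refl α).zpow_right u
    rw [hu, hα] at h1
    have h2 : f (a 1 * xa k) = f (xa k * a 1) := by
      rw [map_mul, map_mul]; exact h1.eq
    have h3 := hfi h2
    rw [a_mul_xa, xa_mul_a] at h3
    have h4 : k - 1 = k + 1 := by
      injection h3
    apply h2ne
    linear_combination -h4
  have hcase : ∀ t (ht : t ∈ T), t ∉ Subgroup.zpowers α → ∃ k, t = f (xa k) := by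
    intro t ht hnA
    have h1 := hfs t ht
    rcases hq : e ⟨t, ht⟩ with k | k
    · exfalso
      rw [hq] at h1
      exact hnA (h1 ▸ hA_a k)
    · rw [hq] at h1
      exact ⟨k, h1.symm⟩
  have hcaseA : ∀ s, s ∈ Subgroup.zpowers α → ∃ k, s = f (a k) := by
    intro s hs
    have hsT : s ∈ T := by
      have hαT : α ∈ T := hα ▸ hfT _
      exact (Subgroup.zpowers_le.mpr hαT) hs
    have h1 := hfs s hsT
    rcases hq : e ⟨s, hsT⟩ with k | k
    · rw [hq] at h1
      exact ⟨k, h1.symm⟩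
    · exfalso
      rw [hq] at h1
      exact hA_xa k (h1 ▸ hs)
  refine ⟨f (a (m : ZMod (2 * m))), α, ?_, hfT _, ?_, ?_, ?_, hα ▸ hfT _, ?_, ?_, ?_⟩
  · intro t ht
    obtain ⟨k, hk⟩ := hT ⟨t, ht⟩
    exact ⟨k, congrArg Subtype.val hk⟩
  · intro h
    have h1 : f (a (m : ZMod (2 * m))) = f 1 := by rw [h, map_one]
    have h2 := hfi h1
    rw [one_def] at h2
    injection h2 with h3
    exact hm0 h3
  · rw [← map_mul, a_mul_a]
    have : (m : ZMod (2 * m)) + (m : ZMod (2 * m)) = 0 := by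
      have h1 : ((2 * m : ℕ) : ZMod (2 * m)) = 0 := ZMod.natCast_self (2 * m)
      push_cast at h1
      rw [← h1]; ring
    rw [this, a_zero, map_one]
  · intro t ht htt
    have h1 := hfs t ht
    have h2 : f (e ⟨t, ht⟩ * e ⟨t, ht⟩) = f 1 := by
      rw [map_mul, h1, htt, map_one]
    have h3 := hfi h2
    rcases hq : e ⟨t, ht⟩ with k | k
    · rw [hq, a_mul_a, one_def] at h3
      injection h3 with h4
      rcases zmod_add_self_eq_zero k h4 with h5 | h5
      · left
        rw [hq, h5, a_zero, map_one] at h1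
        exact h1.symm
      · right
        rw [hq, h5] at h1
        exact h1.symm
    · exfalso
      rw [hq, xa_mul_xa, one_def] at h3
      injection h3 with h4
      apply hm0
      rw [← h4]; ring
  · intro t ht hnA
    obtain ⟨k, rfl⟩ := hcase t ht hnA
    rw [← map_mul, xa_mul_xa]
    congr 2
    ring
  · intro t ht hnA s hs
    obtain ⟨k, rfl⟩ := hcase t ht hnA
    obtain ⟨l, rfl⟩ := hcaseA s hs
    rw [← map_mul, ← map_mul, a_mul_xa, xa_mul_a]
    congr 2
    ring
  · intro s hs t ht hsA htA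
    obtain ⟨u, rfl⟩ := hcase s hs hsA
    obtain ⟨v, rfl⟩ := hcase t ht htA
    have h1 : (xa v : QuaternionGroup m) = xa u * a (v - u) := by
      rw [xa_mul_a]
      congr 1
      ring
    rw [h1, map_mul, inv_mul_cancel_left]
    exact hA_a _

theorem QType.cyc_fix {G : Type*} [Group G] {T : Subgroup G} {z α : G} (c : QType T z α) :
    ∀ (k : ℕ) (d : G), d ∈ T → d ^ 2 ^ k = 1 → ∀ g' : G, Odd (orderOf g') →
      g' * d * g'⁻¹ ∈ Subgroup.zpowers d → g' * d * g'⁻¹ = d := by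
  intro k
  induction k with
  | zero =>
    intro d _ hd g' _ _
    rw [pow_zero, pow_one] at hd
    rw [hd]; group
  | succ k ih =>
    intro d hd hpow g' hodd hmem
    have hd2 : (d * d) ^ 2 ^ k = 1 := by
      rw [← pow_two, ← pow_mul, ← pow_succ']
      exact hpow
    obtain ⟨u, hu⟩ := Subgroup.mem_zpowers_iff.mp hmem
    obtain ⟨w, hw⟩ : ∃ w, w = g' * d * g'⁻¹ := ⟨_, rfl⟩
    rw [← hw] at hu hmem ⊢
    have hww' : g' * (d * d) * g'⁻¹ = w * w := by rw [hw]; group
    have hw2mem : g' * (d * d) * g'⁻¹ ∈ Subgroup.zpowers (d * d) := by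
      rw [hww', ← hu]
      refine Subgroup.mem_zpowers_iff.mpr ⟨u, ?_⟩
      exact (Commute.refl d).mul_zpow u
    have ih' := ih (d * d) (T.mul_mem hd hd) hd2 g' hodd hw2mem
    have hww : w * w = d * d := by rw [← hww']; exact ih'
    have hcomm : Commute w d := by
      rw [← hu]
      exact ((Commute.refl d).zpow_right u).symm
    have hee : (w * d⁻¹) * (w * d⁻¹) = 1 := by
      have h1 : d⁻¹ * w = w * d⁻¹ := (hcomm.inv_right).symm.eq
      calc (w * d⁻¹) * (w * d⁻¹) = w * (d⁻¹ * w) * d⁻¹ := by group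
        _ = (w * w) * d⁻¹ * d⁻¹ := by rw [h1]; group
        _ = 1 := by rw [hww]; group
    have hzd : Subgroup.zpowers d ≤ T := Subgroup.zpowers_le.mpr hd
    have heT : w * d⁻¹ ∈ T := T.mul_mem (hzd hmem) (T.inv_mem hd)
    rcases c.inv _ heT hee with h | h
    · exact mul_inv_eq_one.mp h
    · -- `w = z * d`
      have hwz : w = z * d := mul_inv_eq_iff_eq_mul.mp h
      have hzmem : z ∈ Subgroup.zpowers d := by
        rw [← h]
        exact Subgroup.mul_mem _ hmem (Subgroup.inv_mem _ (Subgroup.mem_zpowers d))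
      obtain ⟨v, hv⟩ := Subgroup.mem_zpowers_iff.mp hzmem
      have hgz : g' * z * g'⁻¹ = z := by
        have e1 : g' * z * g'⁻¹ = w ^ v := by
          rw [← hv, hw]
          exact (MulAut.conj g').toMonoidHom.map_zpow d v
        have h1 : g' * z * g'⁻¹ ∈ T := by
          rw [e1]
          exact hzd (Subgroup.zpow_mem _ hmem v)
        have h2 : (g' * z * g'⁻¹) * (g' * z * g'⁻¹) = 1 := by
          calc (g' * z * g'⁻¹) * (g' * z * g'⁻¹) = g' * (z * z) * g'⁻¹ := by group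
            _ = 1 := by rw [c.z2]; group
        rcases c.inv _ h1 h2 with h3 | h3
        · exfalso
          apply c.z1
          have : z = g'⁻¹ * (g' * z * g'⁻¹) * g' := by group
          rw [this, h3]; group
        · exact h3
      have hgg : (g' * g') * d * (g' * g')⁻¹ = d := by
        calc (g' * g') * d * (g' * g')⁻¹ = g' * (g' * d * g'⁻¹) * g'⁻¹ := by group
          _ = g' * (z * d) * g'⁻¹ := by rw [← hw, hwz]
          _ = (g' * z * g'⁻¹) * (g' * d * g'⁻¹) := by group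
          _ = z * (z * d) := by rw [hgz, ← hw, hwz]
          _ = d := by rw [← mul_assoc, c.z2, one_mul]
      have hc2 : Commute (g' ^ 2) d := by
        rw [pow_two]
        show (g' * g') * d = d * (g' * g')
        calc (g' * g') * d = ((g' * g') * d * (g' * g')⁻¹) * (g' * g') := by group
          _ = d * (g' * g') := by rw [hgg]
      obtain ⟨n, hn⟩ := exists_pow_eq_self_of_coprime (n := 2) (x := g')
        ((Nat.coprime_two_left).mpr hodd)
      have hc1 : Commute g' d := by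
        rw [← hn]
        exact hc2.pow_left n
      rw [hw, hc1.eq]; group

theorem QType.cyc_fix' {G : Type*} [Group G] {T : Subgroup G} {z α : G} (c : QType T z α)
    (d : G) (hd : d ∈ T) (g' : G) (hodd : Odd (orderOf g'))
    (hmem : g' * d * g'⁻¹ ∈ Subgroup.zpowers d) : g' * d * g'⁻¹ = d := by
  obtain ⟨k, hk⟩ := c.pgrp d hd
  exact c.cyc_fix k d hd hk g' hodd hmem

theorem exists_gen_of_le_zpowers {G : Type*} [Group G] (α : G) (C : Subgroup G)
    (h : C ≤ Subgroup.zpowers α) : ∃ γ ∈ C, ∀ c ∈ C, c ∈ Subgroup.zpowers γ := by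
  have hcyc : IsCyclic ↥(C.subgroupOf (Subgroup.zpowers α)) := inferInstance
  obtain ⟨γ', hγ'⟩ := hcyc.exists_generator
  refine ⟨((γ' : ↥(Subgroup.zpowers α)) : G), Subgroup.mem_subgroupOf.mp γ'.2, ?_⟩
  intro c hc
  have hx : (⟨c, h hc⟩ : ↥(Subgroup.zpowers α)) ∈ C.subgroupOf (Subgroup.zpowers α) :=
    Subgroup.mem_subgroupOf.mpr hc
  obtain ⟨k, hk⟩ := Subgroup.mem_zpowers_iff.mp (hγ' ⟨⟨c, h hc⟩, hx⟩)
  refine Subgroup.mem_zpowers_iff.mpr ⟨k, ?_⟩
  have h1 := congrArg (fun y : ↥(C.subgroupOf (Subgroup.zpowers α)) =>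
    ((y : ↥(Subgroup.zpowers α)) : G)) hk
  simpa using h1

set_option maxHeartbeats 800000 in
theorem QType.exists_q8 {G : Type*} [Group G] [Finite G] {T : Subgroup G} {z α : G}
    (c : QType T z α) (Q : Subgroup G) (hQT : Q ≤ T) (g : G)
    (hgN : g ∈ Subgroup.normalizer (Q : Set G)) (hgo : Odd (orderOf g))
    (hgC : g ∉ Subgroup.centralizer (Q : Set G)) :
    ∃ i j : G, orderOf i = 4 ∧ j * j = i ^ 2 ∧ i * j = j * i⁻¹ ∧ j ∉ Subgroup.zpowers i ∧
      g * i * g⁻¹ = j ∧ g * j * g⁻¹ = j * i ^ 3 := by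
  have hconjQ : ∀ q ∈ Q, g * q * g⁻¹ ∈ Q :=
    fun q hq => (Subgroup.mem_normalizer_iff.mp hgN q).mp hq
  obtain ⟨γ, hγC, hγgen⟩ :=
    exists_gen_of_le_zpowers α (Q ⊓ Subgroup.zpowers α) inf_le_right
  have hγQ : γ ∈ Q := (Subgroup.mem_inf.mp hγC).1
  have hγA : γ ∈ Subgroup.zpowers α := (Subgroup.mem_inf.mp hγC).2
  have hγT : γ ∈ T := hQT hγQ
  have hcop2 : Nat.Coprime 2 (orderOf g) := (Nat.coprime_two_left).mpr hgo
  -- `g γ g⁻¹` lies outside the cyclic subgroup
  have hj : g * γ * g⁻¹ ∉ Subgroup.zpowers α := by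
    intro hA
    have hmem : g * γ * g⁻¹ ∈ Subgroup.zpowers γ :=
      hγgen _ (Subgroup.mem_inf.mpr ⟨hconjQ γ hγQ, hA⟩)
    have hfix := c.cyc_fix' γ hγT g hgo hmem
    have hgγ : Commute g γ := by
      show g * γ = γ * g
      calc g * γ = (g * γ * g⁻¹) * g := by group
        _ = γ * g := by rw [hfix]
    have hcentC : ∀ x ∈ Q ⊓ Subgroup.zpowers α, g * x = x * g := by
      intro x hx
      obtain ⟨k, hk⟩ := Subgroup.mem_zpowers_iff.mp (hγgen x hx)
      rw [← hk]
      exact (hgγ.zpow_right k).eq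
    apply hgC
    rw [Subgroup.mem_centralizer_iff]
    intro q hq
    by_cases hqA : q ∈ Subgroup.zpowers α
    · exact (hcentC q (Subgroup.mem_inf.mpr ⟨hq, hqA⟩)).symm
    · have hq'Q := hconjQ q hq
      have hq'A : g * q * g⁻¹ ∉ Subgroup.zpowers α := by
        intro h'
        have h1 := hcentC _ (Subgroup.mem_inf.mpr ⟨hq'Q, h'⟩)
        have h2 : g * q * g⁻¹ = q := by
          have : g * (g * q * g⁻¹) = g * q := by rw [h1]; group
          exact mul_left_cancel this
        rw [h2] at h'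
        exact hqA h'
      have hcA : q⁻¹ * (g * q * g⁻¹) ∈ Subgroup.zpowers α :=
        c.idx q (hQT hq) _ (hQT hq'Q) hqA hq'A
      obtain ⟨c', hc'⟩ : ∃ c', c' = q⁻¹ * (g * q * g⁻¹) := ⟨_, rfl⟩
      rw [← hc'] at hcA
      have hcC : c' ∈ Q ⊓ Subgroup.zpowers α :=
        Subgroup.mem_inf.mpr ⟨hc' ▸ Q.mul_mem (Q.inv_mem hq) hq'Q, hcA⟩
      have hgc : g * c' = c' * g := hcentC c' hcC
      have hcq : c' * q * c' = q := c.conj q (hQT hq) hqA c' hcA
      have hgq : g * q * g⁻¹ = c'⁻¹ * q := by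
        have h1 : g * q * g⁻¹ = q * c' := by rw [hc']; group
        rw [h1]
        calc q * c' = c'⁻¹ * (c' * q * c') := by group
          _ = c'⁻¹ * q := by rw [hcq]
      have hgc' : g * c'⁻¹ = c'⁻¹ * g := ((show Commute g c' from hgc).inv_right).eq
      have h3 := conj_pow_of_comm g q c'⁻¹ hgq hgc' (orderOf g)
      rw [pow_orderOf_eq_one, inv_one, mul_one, one_mul] at h3
      have h4 : c' ^ orderOf g = 1 := by
        have : (c'⁻¹) ^ orderOf g = 1 := by
          have h5 : (c'⁻¹) ^ orderOf g * q = 1 * q := by rw [one_mul]; exact h3.symm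
          exact mul_right_cancel h5
        rw [inv_pow, inv_eq_one] at this
        exact this
      obtain ⟨k, hk⟩ := c.pgrp c' (hQT (Subgroup.mem_inf.mp hcC).1)
      have hc1 : c' = 1 := by
        have hd1 : orderOf c' ∣ 2 ^ k := orderOf_dvd_of_pow_eq_one hk
        have hd2 : orderOf c' ∣ orderOf g := orderOf_dvd_of_pow_eq_one h4
        have := Nat.eq_one_of_dvd_coprimes (Nat.Coprime.pow_left k hcop2) hd1 hd2
        exact orderOf_eq_one_iff.mp this
      rw [hc1, inv_one, one_mul] at hgq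
      calc q * g = (g * q * g⁻¹) * g := by rw [hgq]
        _ = g * q := by group
  obtain ⟨j, hjdef⟩ : ∃ j, j = g * γ * g⁻¹ := ⟨_, rfl⟩
  rw [← hjdef] at hj
  have hjQ : j ∈ Q := hjdef ▸ hconjQ γ hγQ
  have hjT : j ∈ T := hQT hjQ
  have hjj : j * j = z := c.sq j hjT hj
  have hγγ : γ * γ = z := by
    have h1 : γ * γ = g⁻¹ * (j * j) * g := by rw [hjdef]; group
    have h2 : (γ * γ) * (γ * γ) = 1 := by
      rw [h1, hjj]
      calc g⁻¹ * z * g * (g⁻¹ * z * g) = g⁻¹ * (z * z) * g := by group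
        _ = 1 := by rw [c.z2]; group
    rcases c.inv _ (T.mul_mem hγT hγT) h2 with h3 | h3
    · exfalso
      apply c.z1
      rw [← hjj]
      have : j * j = g * (γ * γ) * g⁻¹ := by rw [hjdef]; group
      rw [this, h3]; group
    · exact h3
  have hγ2 : γ ^ 2 = z := by rw [pow_two]; exact hγγ
  have hγ4 : γ ^ 4 = 1 := by
    rw [show (4 : ℕ) = 2 * 2 from rfl, pow_mul, hγ2, pow_two, c.z2]
  have h1 : orderOf γ = 4 := by
    have : Fact (Nat.Prime 2) := ⟨Nat.prime_two⟩
    have h := orderOf_eq_prime_pow (x := γ) (p := 2) (n := 1)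
      (by rw [pow_one, hγ2]; exact c.z1) (by exact hγ4)
    exact h
  have h2 : j * j = γ ^ 2 := by rw [hγ2]; exact hjj
  have h3 : γ * j = j * γ⁻¹ := by
    have h := c.conj j hjT hj γ⁻¹ (Subgroup.inv_mem _ hγA)
    calc γ * j = γ * (γ⁻¹ * j * γ⁻¹) := by rw [h]
      _ = j * γ⁻¹ := by group
  have hγle : Subgroup.zpowers γ ≤ Subgroup.zpowers α := Subgroup.zpowers_le.mpr hγA
  have h4 : j ∉ Subgroup.zpowers γ := fun h => hj (hγle h)
  -- the image of `j`
  obtain ⟨k, hkdef⟩ : ∃ k, k = g * j * g⁻¹ := ⟨_, rfl⟩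
  have hkQ : k ∈ Q := hkdef ▸ hconjQ j hjQ
  have hkA : k ∉ Subgroup.zpowers α := by
    intro hA
    have hkγ : k ∈ Subgroup.zpowers γ := hγgen _ (Subgroup.mem_inf.mpr ⟨hkQ, hA⟩)
    have e : (g * g) * γ * (g * g)⁻¹ = k := by rw [hkdef, hjdef]; group
    have hodd2 : Odd (orderOf (g * g)) := by
      have hd : orderOf (g * g) ∣ orderOf g := by
        rw [← pow_two]; exact orderOf_pow_dvd 2
      exact Odd.of_dvd_nat hgo hd
    have hfix := c.cyc_fix' γ hγT (g * g) hodd2 (by rw [e]; exact hkγ)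
    have hgg : Commute (g ^ 2) γ := by
      rw [pow_two]
      show (g * g) * γ = γ * (g * g)
      calc (g * g) * γ = ((g * g) * γ * (g * g)⁻¹) * (g * g) := by group
        _ = γ * (g * g) := by rw [hfix]
    obtain ⟨n, hn⟩ := exists_pow_eq_self_of_coprime (n := 2) (x := g) hcop2
    have hgγ : Commute g γ := by
      rw [← hn]
      exact hgg.pow_left n
    apply hj
    have : j = γ := by rw [hjdef, hgγ.eq]; group
    rw [this]; exact hγA
  have hcA : j⁻¹ * k ∈ Subgroup.zpowers α := c.idx j hjT k (hQT hkQ) hj hkA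
  have hcC : j⁻¹ * k ∈ Subgroup.zpowers γ :=
    hγgen _ (Subgroup.mem_inf.mpr ⟨Q.mul_mem (Q.inv_mem hjQ) hkQ, hcA⟩)
  obtain ⟨u, hu⟩ := Subgroup.mem_zpowers_iff.mp hcC
  have hu4 : γ ^ (u % 4) = j⁻¹ * k := by
    rw [← hu]
    have := zpow_mod_orderOf γ u
    rw [h1] at this
    exact_mod_cast this
  have hr0 : 0 ≤ u % 4 := Int.emod_nonneg u (by norm_num)
  have hr4 : u % 4 < 4 := Int.emod_lt_of_pos u (by norm_num)
  obtain ⟨v, hv⟩ : ∃ v : ℕ, (v : ℤ) = u % 4 := ⟨(u % 4).toNat, Int.toNat_of_nonneg hr0⟩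
  have hv4 : v < 4 := by omega
  have hkv : k = j * γ ^ v := by
    rw [← hv, zpow_natCast] at hu4
    rw [hu4]; group
  interval_cases v
  · exfalso
    rw [pow_zero, mul_one] at hkv
    apply hj
    have : j = γ := by
      have h5 : g * j * g⁻¹ = g * γ * g⁻¹ := by rw [← hkdef, hkv, ← hjdef]
      have h6 : g * j = g * γ := mul_right_cancel h5
      exact mul_left_cancel h6
    rw [this]; exact hγA
  · -- `k = j * γ`: use the inverses
    rw [pow_one] at hkv
    have h3' : γ⁻¹ * j⁻¹ = j⁻¹ * γ := by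
      calc γ⁻¹ * j⁻¹ = j⁻¹ * (j * γ⁻¹) * j⁻¹ := by group
        _ = j⁻¹ * (γ * j) * j⁻¹ := by rw [h3]
        _ = j⁻¹ * γ := by group
    have hγ3 : (γ⁻¹) ^ 3 = γ := by
      calc (γ⁻¹) ^ 3 = (γ⁻¹) ^ 3 * γ ^ 4 := by rw [hγ4, mul_one]
        _ = γ := by group
    refine ⟨γ⁻¹, j⁻¹, ?_, ?_, ?_, ?_, ?_, ?_⟩
    · rw [orderOf_inv]; exact h1
    · rw [inv_pow, ← h2, mul_inv_rev]
    · rw [inv_inv]; exact h3'
    · rw [Subgroup.zpowers_inv]
      intro h
      exact h4 ((Subgroup.inv_mem_iff _).mp h)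
    · rw [hjdef]; group
    · rw [hγ3, ← h3']
      have : g * j⁻¹ * g⁻¹ = (g * j * g⁻¹)⁻¹ := by group
      rw [this, ← hkdef, hkv, mul_inv_rev]
  · exfalso
    rw [hγ2, ← hjj] at hkv
    have hmem : g * j * g⁻¹ ∈ Subgroup.zpowers j := by
      rw [← hkdef, hkv]
      exact Subgroup.mul_mem _ (Subgroup.mem_zpowers j)
        (Subgroup.mul_mem _ (Subgroup.mem_zpowers j) (Subgroup.mem_zpowers j))
    have hfix := c.cyc_fix' j hjT g hgo hmem
    rw [← hkdef, hkv] at hfix
    have : j * j = 1 := by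
      have h5 : j * (j * j) = j * 1 := by rw [mul_one]; exact hfix
      exact mul_left_cancel h5
    rw [hjj] at this
    exact c.z1 this
  · exact ⟨γ, j, h1, h2, h3, h4, hjdef.symm, by rw [← hkdef, hkv]⟩

end Cfsg.Agent.Lib.Helper2
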