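import Mathlib
import Cfsg.Prelude.Def_Characters
import Cfsg.Agent.Lib.Helper2.CharMore
import Cfsg.Agent.Lib.Helper2.CharDecomp

set_option autoImplicit false

namespace Cfsg.Agent.Lib.Helper2

open Representation Module

section repEquiv

variable {G : Type*} [Group G]

theorem char_prod {U V : Type*} [AddCommGroup U] [Module ℂ U] [FiniteDimensional ℂ U]
    [AddCommGroup V] [Module ℂ V] [FiniteDimensional ℂ V] (τ : Representation ℂ G U)
    (ρ : Representation ℂ G V) : (τ.prod ρ).character = τ.character + ρ.character := by
  funext g
  exact LinearMap.trace_prodMap' (τ g) (ρ g)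

/-- the product of a representation with an equivalence -/
noncomputable def prodEquivRight {U V W : Type*} [AddCommGroup U] [Module ℂ U]
    [AddCommGroup V] [Module ℂ V] [AddCommGroup W] [Module ℂ W] (τ : Representation ℂ G U)
    {ρ : Representation ℂ G V} {σ : Representation ℂ G W} (φ : ρ.Equiv σ) :
    (τ.prod ρ).Equiv (τ.prod σ) :=
  Representation.Equiv.mk (LinearEquiv.prodCongr (LinearEquiv.refl ℂ U) φ.toLinearEquiv) (by
    intro g
    have h := φ.toIntertwiningMap.isIntertwining' g
    apply LinearMap.ext
    rintro ⟨u, v⟩
    have h2 := LinearMap.congr_fun h v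
    simp only [LinearMap.coe_comp, Function.comp_apply] at h2
    apply Prod.ext
    · simp
    · simpa using h2)

/-- splitting off an irreducible constituent -/
theorem exists_split [Finite G] {U V : Type*} [AddCommGroup U] [Module ℂ U] [AddCommGroup V]
    [Module ℂ V] (τ : Representation ℂ G U) [τ.IsIrreducible]
    (ρ : Representation ℂ G V) (f : IntertwiningMap τ ρ) (hf : f ≠ 0) :
    ∃ q : Subrepresentation ρ, Nonempty ((τ.prod q.toRepresentation).Equiv ρ) := by
  have hinj : Function.Injective f := (IsIrreducible.injective_or_eq_zero f).resolve_right hf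
  have hint : ∀ (g : G) (u : U), f.toLinearMap (τ g u) = ρ g (f.toLinearMap u) := by
    intro g u
    exact LinearMap.congr_fun (f.isIntertwining' g) u
  let p : Subrepresentation ρ := ⟨LinearMap.range f.toLinearMap, by
    rintro g _ ⟨u, rfl⟩
    exact ⟨τ g u, hint g u⟩⟩
  have : NeZero (Nat.card G : ℂ) := ⟨card_ne_zero_complex G⟩
  obtain ⟨q, hq⟩ := exists_isCompl p
  have hdisj : Disjoint (LinearMap.range f.toLinearMap) q.toSubmodule := by
    rw [disjoint_iff]
    have := congrArg Subrepresentation.toSubmodule hq.inf_eq_bot
    exact this
  have hsup : LinearMap.range f.toLinearMap ⊔ q.toSubmodule = ⊤ := by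
    have := congrArg Subrepresentation.toSubmodule hq.sup_eq_top
    exact this
  let L : (U × q.toSubmodule) →ₗ[ℂ] V := f.toLinearMap.coprod q.toSubmodule.subtype
  have hLinj : Function.Injective L := by
    rw [← LinearMap.ker_eq_bot, LinearMap.ker_coprod_of_disjoint_range _ _
      (by rwa [Submodule.range_subtype])]
    have h1 : LinearMap.ker f.toLinearMap = ⊥ := LinearMap.ker_eq_bot.mpr hinj
    rw [h1, Submodule.ker_subtype]
    simp
  have hLsurj : Function.Surjective L := by
    rw [← LinearMap.range_eq_top, LinearMap.range_coprod, Submodule.range_subtype]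
    exact hsup
  refine ⟨q, ⟨Representation.Equiv.mk (LinearEquiv.ofBijective L ⟨hLinj, hLsurj⟩) ?_⟩⟩
  intro g
  apply LinearMap.ext
  rintro ⟨u, v⟩
  show f.toLinearMap (τ g u) + ((q.toRepresentation g v : q.toSubmodule) : V)
    = ρ g (f.toLinearMap u + (v : V))
  rw [map_add, hint]
  rfl

theorem equiv_of_char_eq_aux.{u, v, w} {G : Type u} [Group G] [Finite G] (n : ℕ) :
    ∀ (V : Type v) (W : Type w) [AddCommGroup V] [Module ℂ V] [FiniteDimensional ℂ V]
      [AddCommGroup W] [Module ℂ W] [FiniteDimensional ℂ W] (ρ : Representation ℂ G V)
      (σ : Representation ℂ G W), finrank ℂ V = n → ρ.character = σ.character →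
      Nonempty (ρ.Equiv σ) := by
  induction n using Nat.strong_induction_on with
  | _ n ih =>
    intro V W _ _ _ _ _ _ ρ σ hn h
    classical
    have := Fintype.ofFinite G
    have hW : finrank ℂ W = n := by
      have h1 := congrFun h 1
      rw [Representation.char_one, Representation.char_one, hn] at h1
      exact_mod_cast h1.symm
    rcases Nat.eq_zero_or_pos n with h0 | hpos
    · subst h0
      have : Subsingleton V := Module.finrank_zero_iff.mp hn
      have : Subsingleton W := Module.finrank_zero_iff.mp hW
      exact ⟨Representation.Equiv.mk (LinearEquiv.ofSubsingleton V W)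
        (fun g => by ext x; exact Subsingleton.elim _ _)⟩
    · have hχ : Cfsg.IsCharacter G ρ.character := isCharacter_of_rep ρ
      have hne : ρ.character ≠ 0 := by
        intro h0
        have h1 := congrFun h0 1
        rw [Representation.char_one, hn] at h1
        simp only [Pi.zero_apply, Nat.cast_eq_zero] at h1
        omega
      obtain ⟨ψ, hψ, hinner⟩ := exists_irr_constituent hχ hne
      obtain ⟨m, τ, hτ, rfl⟩ := hψ
      have : τ.IsIrreducible := hτ
      have h1 := classInner_char_nat τ ρ
      have h2 := classInner_char_nat τ σ
      rw [← h] at h2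
      obtain ⟨f, hf⟩ : ∃ f : IntertwiningMap τ ρ, f ≠ 0 := by
        by_contra hno
        push Not at hno
        have : Subsingleton (IntertwiningMap τ ρ) := ⟨fun a b => by rw [hno a, hno b]⟩
        rw [Module.finrank_zero_of_subsingleton] at h1
        exact hinner (by simpa using h1)
      obtain ⟨f', hf'⟩ : ∃ f : IntertwiningMap τ σ, f ≠ 0 := by
        by_contra hno
        push Not at hno
        have : Subsingleton (IntertwiningMap τ σ) := ⟨fun a b => by rw [hno a, hno b]⟩
        rw [Module.finrank_zero_of_subsingleton] at h2
        exact hinner (by simpa using h2)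
      obtain ⟨q, ⟨φ⟩⟩ := exists_split τ ρ f hf
      obtain ⟨q', ⟨φ'⟩⟩ := exists_split τ σ f' hf'
      have c1 : ρ.character = τ.character + q.toRepresentation.character := by
        rw [← char_iso φ, char_prod]
      have c2 : σ.character = τ.character + q'.toRepresentation.character := by
        rw [← char_iso φ', char_prod]
      have c3 : q.toRepresentation.character = q'.toRepresentation.character := by
        rw [c1, c2] at h
        exact add_left_cancel h
      have hdim : finrank ℂ q.toSubmodule < n := by
        have e1 := φ.toLinearEquiv.finrank_eq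
        rw [Module.finrank_prod, Module.finrank_fin_fun, hn] at e1
        have e2 := irr_finrank_pos τ
        rw [Module.finrank_fin_fun] at e2
        omega
      obtain ⟨ψ⟩ := ih _ hdim q.toSubmodule q'.toSubmodule q.toRepresentation
        q'.toRepresentation rfl c3
      exact ⟨(φ.symm.trans (prodEquivRight τ ψ)).trans φ'⟩

end repEquiv

end Cfsg.Agent.Lib.Helper2
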