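import Mathlib
import Cfsg.Prelude
import Cfsg.Agent.Lib.Helper2.CharComplete
import Cfsg.Agent.Lib.Helper2.CharBridge
import Cfsg.Agent.Lib.Helper2.RepEquiv

set_option autoImplicit false

namespace Cfsg.Agent.Lib.Helper2

open Representation Module

section irr

variable {G H : Type*} [Group G] [Group H] {V : Type*} [AddCommGroup V] [Module ℂ V]

/-- a representation is irreducible if its pullback along a homomorphism is -/
theorem isIrreducible_of_comp (ρ : Representation ℂ G V) (f : H →* G)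
    (h : Representation.IsIrreducible (ρ.comp f : Representation ℂ H V)) : ρ.IsIrreducible := by
  have hnt : (⊥ : Submodule ℂ V) ≠ ⊤ := by
    intro h0
    have h1 : (⊥ : Subrepresentation (ρ.comp f : Representation ℂ H V)) = ⊤ :=
      Subrepresentation.toSubmodule_injective h0
    exact bot_ne_top h1
  refine { exists_pair_ne := ⟨⊥, ⊤, fun h0 => hnt (congrArg Subrepresentation.toSubmodule h0)⟩
           eq_bot_or_eq_top := fun q => ?_ }
  let q' : Subrepresentation (ρ.comp f : Representation ℂ H V) :=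
    ⟨q.toSubmodule, fun g v hv => q.apply_mem_toSubmodule (f g) hv⟩
  rcases eq_bot_or_eq_top q' with h1 | h1
  · left
    have h2 : q'.toSubmodule = ⊥ := by rw [h1]; rfl
    exact Subrepresentation.toSubmodule_injective h2
  · right
    have h2 : q'.toSubmodule = ⊤ := by rw [h1]; rfl
    exact Subrepresentation.toSubmodule_injective h2

/-- the pullback of an irreducible representation along a surjection is irreducible -/
theorem isIrreducible_comp_of_surjective (ρ : Representation ℂ G V) (f : H →* G)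
    (hf : Function.Surjective f) (h : ρ.IsIrreducible) :
    Representation.IsIrreducible (ρ.comp f : Representation ℂ H V) := by
  have hnt : (⊥ : Submodule ℂ V) ≠ ⊤ := by
    intro h0
    have h1 : (⊥ : Subrepresentation ρ) = ⊤ :=
      Subrepresentation.toSubmodule_injective h0
    exact bot_ne_top h1
  refine { exists_pair_ne := ⟨⊥, ⊤, fun h0 => hnt (congrArg Subrepresentation.toSubmodule h0)⟩
           eq_bot_or_eq_top := fun q => ?_ }
  let q' : Subrepresentation ρ :=
    ⟨q.toSubmodule, fun g v hv => by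
      obtain ⟨x, rfl⟩ := hf g
      exact q.apply_mem_toSubmodule x hv⟩
  rcases eq_bot_or_eq_top q' with h1 | h1
  · left
    have h2 : q'.toSubmodule = ⊥ := by rw [h1]; rfl
    exact Subrepresentation.toSubmodule_injective h2
  · right
    have h2 : q'.toSubmodule = ⊤ := by rw [h1]; rfl
    exact Subrepresentation.toSubmodule_injective h2

/-- inflation of an irreducible character along a surjection -/
theorem isIrrCharacter_comp_of_surjective {χ : G → ℂ} (hχ : Cfsg.IsIrrCharacter G χ)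
    (f : H →* G) (hf : Function.Surjective f) : Cfsg.IsIrrCharacter H (χ ∘ f) := by
  obtain ⟨n, ρ, hρ, rfl⟩ := hχ
  exact ⟨n, ρ.comp f, isIrreducible_comp_of_surjective ρ f hf hρ, rfl⟩

end irr

section cover

variable {G : Type*} [Group G] (N : Subgroup G) [hN : N.Normal] {V : Type*} [AddCommGroup V]
  [Module ℂ V] (ρ : Representation ℂ N V) (M : ℕ)

/-- the group of pairs `(g, A)` with `A ρ(n) = ρ(g n g⁻¹) A` and `det(A)^M = 1` -/
def coverSub : Subgroup (G × (Module.End ℂ V)ˣ) where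
  carrier := {x | (∀ n : N, (x.2 : Module.End ℂ V) * ρ n
      = ρ (MulAut.conjNormal x.1 n) * (x.2 : Module.End ℂ V)) ∧
    LinearMap.det (x.2 : Module.End ℂ V) ^ M = 1}
  one_mem' := by
    refine ⟨fun n => ?_, ?_⟩
    · simp
    · simp
  mul_mem' := by
    rintro x y ⟨hx1, hx2⟩ ⟨hy1, hy2⟩
    refine ⟨fun n => ?_, ?_⟩
    · show ((x.2 * y.2 : (Module.End ℂ V)ˣ) : Module.End ℂ V) * ρ n
        = ρ (MulAut.conjNormal (x.1 * y.1) n) * ((x.2 * y.2 : (Module.End ℂ V)ˣ) : Module.End ℂ V)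
      rw [Units.val_mul, mul_assoc, hy1 n, ← mul_assoc, hx1, map_mul, MulAut.mul_apply, mul_assoc]
    · show LinearMap.det ((x.2 * y.2 : (Module.End ℂ V)ˣ) : Module.End ℂ V) ^ M = 1
      rw [Units.val_mul, map_mul, mul_pow, hx2, hy2, one_mul]
  inv_mem' := by
    rintro x ⟨hx1, hx2⟩
    refine ⟨fun n => ?_, ?_⟩
    · show ((x.2⁻¹ : (Module.End ℂ V)ˣ) : Module.End ℂ V) * ρ n
        = ρ (MulAut.conjNormal x.1⁻¹ n) * ((x.2⁻¹ : (Module.End ℂ V)ˣ) : Module.End ℂ V)
      have e := hx1 (MulAut.conjNormal x.1⁻¹ n)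
      have e2 : MulAut.conjNormal x.1 (MulAut.conjNormal x.1⁻¹ n) = n := by
        rw [← MulAut.mul_apply, ← map_mul, mul_inv_cancel, map_one, MulAut.one_apply]
      rw [e2] at e
      calc ((x.2⁻¹ : (Module.End ℂ V)ˣ) : Module.End ℂ V) * ρ n
          = ↑x.2⁻¹ * (ρ n * ↑x.2) * ↑x.2⁻¹ := by simp [mul_assoc]
        _ = ↑x.2⁻¹ * (↑x.2 * ρ (MulAut.conjNormal x.1⁻¹ n)) * ↑x.2⁻¹ := by rw [e]
        _ = _ := by simp [← mul_assoc]
    · show LinearMap.det ((x.2⁻¹ : (Module.End ℂ V)ˣ) : Module.End ℂ V) ^ M = 1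
      have h1 : LinearMap.det ((x.2⁻¹ : (Module.End ℂ V)ˣ) : Module.End ℂ V)
          * LinearMap.det (x.2 : Module.End ℂ V) = 1 := by
        rw [← map_mul, Units.inv_mul, map_one]
      have h2 := congrArg (· ^ M) h1
      simp only [mul_pow, hx2, mul_one, one_pow] at h2
      exact h2

theorem mem_coverSub (x : G × (Module.End ℂ V)ˣ) :
    x ∈ coverSub N ρ M ↔ (∀ n : N, (x.2 : Module.End ℂ V) * ρ n
      = ρ (MulAut.conjNormal x.1 n) * (x.2 : Module.End ℂ V)) ∧
    LinearMap.det (x.2 : Module.End ℂ V) ^ M = 1 := Iff.rfl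

/-- first projection of the cover -/
def coverFst : coverSub N ρ M →* G := (MonoidHom.fst G _).comp (coverSub N ρ M).subtype

/-- the tautological representation of the cover -/
def coverRep : Representation ℂ (coverSub N ρ M) V :=
  (Units.coeHom (Module.End ℂ V)).comp ((MonoidHom.snd G _).comp (coverSub N ρ M).subtype)

theorem coverFst_apply (x : coverSub N ρ M) : coverFst N ρ M x = x.1.1 := rfl

theorem coverRep_apply (x : coverSub N ρ M) :
    coverRep N ρ M x = (x.1.2 : Module.End ℂ V) := rfl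

/-- the embedding of `N` in the cover -/
def coverIncl (hM : ∀ n : N, n ^ M = 1) : N →* coverSub N ρ M :=
  MonoidHom.codRestrict (MonoidHom.prod N.subtype ρ.toHomUnits) (coverSub N ρ M) (by
    intro n
    refine ⟨fun m => ?_, ?_⟩
    · show ((ρ.toHomUnits n : (Module.End ℂ V)ˣ) : Module.End ℂ V) * ρ m
        = ρ (MulAut.conjNormal (n : G) m) * ((ρ.toHomUnits n : (Module.End ℂ V)ˣ) : Module.End ℂ V)
      rw [MonoidHom.coe_toHomUnits, ← map_mul, ← map_mul]
      congr 1
      apply Subtype.ext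
      simp
    · show LinearMap.det ((ρ.toHomUnits n : (Module.End ℂ V)ˣ) : Module.End ℂ V) ^ M = 1
      rw [MonoidHom.coe_toHomUnits, ← map_pow, ← map_pow, hM, map_one, map_one])

theorem coverIncl_coe (hM : ∀ n : N, n ^ M = 1) (n : N) :
    ((coverIncl N ρ M hM n : coverSub N ρ M) : G × (Module.End ℂ V)ˣ)
      = ((n : G), ρ.toHomUnits n) := rfl

theorem coverFst_incl (hM : ∀ n : N, n ^ M = 1) (n : N) :
    coverFst N ρ M (coverIncl N ρ M hM n) = n := rfl

theorem coverRep_incl (hM : ∀ n : N, n ^ M = 1) (n : N) :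
    coverRep N ρ M (coverIncl N ρ M hM n) = ρ n := rfl

theorem cover_conj (hM : ∀ n : N, n ^ M = 1) (x : coverSub N ρ M) (n : N) :
    x * coverIncl N ρ M hM n * x⁻¹
      = coverIncl N ρ M hM (MulAut.conjNormal (coverFst N ρ M x) n) := by
  apply Subtype.ext
  apply Prod.ext
  · rfl
  · apply Units.ext
    show (x.1.2 : Module.End ℂ V) * ((ρ.toHomUnits n : (Module.End ℂ V)ˣ) : Module.End ℂ V)
        * ((x.1.2⁻¹ : (Module.End ℂ V)ˣ) : Module.End ℂ V)
      = ((ρ.toHomUnits (MulAut.conjNormal x.1.1 n) : (Module.End ℂ V)ˣ) : Module.End ℂ V)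
    rw [MonoidHom.coe_toHomUnits, MonoidHom.coe_toHomUnits, x.2.1 n, mul_assoc, Units.mul_inv,
      mul_one]

theorem coverRep_irreducible (hM : ∀ n : N, n ^ M = 1) (hρ : ρ.IsIrreducible) :
    (coverRep N ρ M).IsIrreducible := by
  apply isIrreducible_of_comp (coverRep N ρ M) (coverIncl N ρ M hM)
  have e : ((coverRep N ρ M).comp (coverIncl N ρ M hM) : Representation ℂ N V) = ρ :=
    MonoidHom.ext (fun n => rfl)
  rw [e]
  exact hρ

variable [FiniteDimensional ℂ V]

theorem cover_ker_le_center [hρ : ρ.IsIrreducible] :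
    (coverFst N ρ M).ker ≤ Subgroup.center (coverSub N ρ M) := by
  intro x hx
  have h1 : x.1.1 = 1 := hx
  have h2 : ∀ n : N, (x.1.2 : Module.End ℂ V) ∘ₗ ρ n = ρ n ∘ₗ (x.1.2 : Module.End ℂ V) := by
    intro n
    have := x.2.1 n
    rw [h1, map_one, MulAut.one_apply] at this
    exact this
  obtain ⟨c, hc⟩ := schur_scalar ρ (x.1.2 : Module.End ℂ V) h2
  rw [Subgroup.mem_center_iff]
  intro y
  apply Subtype.ext
  apply Prod.ext
  · show y.1.1 * x.1.1 = x.1.1 * y.1.1
    rw [h1]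
    simp
  · apply Units.ext
    show (y.1.2 : Module.End ℂ V) * (x.1.2 : Module.End ℂ V) = ↑x.1.2 * ↑y.1.2
    rw [hc]
    ext v
    simp

/-- elements of the kernel act as scalars -/
theorem cover_ker_scalar [hρ : ρ.IsIrreducible] (x : coverSub N ρ M)
    (hx : x ∈ (coverFst N ρ M).ker) :
    ∃ c : ℂ, coverRep N ρ M x = c • (LinearMap.id : V →ₗ[ℂ] V) ∧ c ^ (finrank ℂ V * M) = 1 := by
  have h1 : x.1.1 = 1 := hx
  have h2 : ∀ n : N, (x.1.2 : Module.End ℂ V) ∘ₗ ρ n = ρ n ∘ₗ (x.1.2 : Module.End ℂ V) := by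
    intro n
    have := x.2.1 n
    rw [h1, map_one, MulAut.one_apply] at this
    exact this
  obtain ⟨c, hc⟩ := schur_scalar ρ (x.1.2 : Module.End ℂ V) h2
  refine ⟨c, hc, ?_⟩
  have h3 := x.2.2
  rw [hc, LinearMap.det_smul, LinearMap.det_id, mul_one, ← pow_mul] at h3
  exact h3

theorem cover_finite [Finite G] [hρ : ρ.IsIrreducible] (hM : 0 < M) :
    Finite (coverSub N ρ M) := by
  classical
  have hD : 0 < finrank ℂ V := irr_finrank_pos ρ
  have hDM : 0 < finrank ℂ V * M := Nat.mul_pos hD hM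
  have hR : Set.Finite {c : ℂ | c ^ (finrank ℂ V * M) = 1} := by
    have : {c : ℂ | c ^ (finrank ℂ V * M) = 1}
        = ↑(Polynomial.nthRootsFinset (finrank ℂ V * M) (1 : ℂ)) := by
      ext c
      simp [Polynomial.mem_nthRootsFinset hDM]
    rw [this]
    exact Finset.finite_toSet _
  have hfin : Set.Finite ((fun c : ℂ => c • (LinearMap.id : V →ₗ[ℂ] V)) ''
      {c : ℂ | c ^ (finrank ℂ V * M) = 1}) := hR.image _
  have hK : Finite (coverFst N ρ M).ker := by
    have := hfin.to_subtype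
    apply Finite.of_injective (fun x : (coverFst N ρ M).ker =>
      (⟨coverRep N ρ M x.1, by
        obtain ⟨c, hc1, hc2⟩ := cover_ker_scalar N ρ M x.1 x.2
        exact ⟨c, hc2, hc1.symm⟩⟩ :
        ↥((fun c : ℂ => c • (LinearMap.id : V →ₗ[ℂ] V)) ''
          {c : ℂ | c ^ (finrank ℂ V * M) = 1})))
    intro x y hxy
    have h1 : coverRep N ρ M x.1 = coverRep N ρ M y.1 := congrArg Subtype.val hxy
    apply Subtype.ext
    apply Subtype.ext
    apply Prod.ext
    · have hx : x.1.1.1 = 1 := x.2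
      have hy : y.1.1.1 = 1 := y.2
      rw [hx, hy]
    · exact Units.ext h1
  have hQ : Finite (coverSub N ρ M ⧸ (coverFst N ρ M).ker) :=
    Finite.of_equiv _ (QuotientGroup.quotientKerEquivRange (coverFst N ρ M)).toEquiv.symm
  exact Finite.of_equiv _ (Subgroup.groupEquivQuotientProdSubgroup
    (s := (coverFst N ρ M).ker)).symm

theorem cover_surjective [Finite N] [hρ : ρ.IsIrreducible] (hM : 0 < M)
    (hinv : ∀ (g : G) (n : N), ρ.character (MulAut.conjNormal g n) = ρ.character n) :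
    Function.Surjective (coverFst N ρ M) := by
  intro g
  let σ : Representation ℂ N V := ρ.comp (MulAut.conjNormal g : MulAut N).toMonoidHom
  have hchar : ρ.character = σ.character := by
    funext n
    exact (hinv g n).symm
  obtain ⟨φ⟩ := equiv_of_char_eq_aux (finrank ℂ V) V V ρ σ rfl hchar
  let A₀ : (Module.End ℂ V)ˣ :=
    ⟨φ.toLinearEquiv.toLinearMap, φ.toLinearEquiv.symm.toLinearMap,
      LinearMap.ext (fun v => φ.toLinearEquiv.apply_symm_apply v),
      LinearMap.ext (fun v => φ.toLinearEquiv.symm_apply_apply v)⟩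
  have hA₀ : ∀ n : N, (A₀ : Module.End ℂ V) * ρ n = ρ (MulAut.conjNormal g n) * (A₀ : Module.End ℂ V) :=
    fun n => φ.toIntertwiningMap.isIntertwining' n
  have hdet : LinearMap.det (A₀ : Module.End ℂ V) ≠ 0 :=
    (Units.map (LinearMap.det : Module.End ℂ V →* ℂ) A₀).ne_zero
  have hD : 0 < finrank ℂ V := irr_finrank_pos ρ
  have hDM : 0 < finrank ℂ V * M := Nat.mul_pos hD hM
  obtain ⟨c, hc⟩ := IsAlgClosed.exists_pow_nat_eq
    ((LinearMap.det (A₀ : Module.End ℂ V) ^ M)⁻¹) hDM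
  have hc0 : c ≠ 0 := by
    intro h0
    rw [h0, zero_pow hDM.ne'] at hc
    exact inv_ne_zero (pow_ne_zero M hdet) hc.symm
  let cu : (Module.End ℂ V)ˣ :=
    Units.map (algebraMap ℂ (Module.End ℂ V)).toMonoidHom (Units.mk0 c hc0)
  have hcu : (cu : Module.End ℂ V) = algebraMap ℂ (Module.End ℂ V) c := rfl
  refine ⟨⟨(g, cu * A₀), ?_, ?_⟩, rfl⟩
  · intro n
    show ((cu * A₀ : (Module.End ℂ V)ˣ) : Module.End ℂ V) * ρ n
      = ρ (MulAut.conjNormal g n) * ((cu * A₀ : (Module.End ℂ V)ˣ) : Module.End ℂ V)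
    rw [Units.val_mul, mul_assoc, hA₀ n, ← mul_assoc, ← mul_assoc, hcu,
      Algebra.commutes c (ρ (MulAut.conjNormal g n))]
  · show LinearMap.det ((cu * A₀ : (Module.End ℂ V)ˣ) : Module.End ℂ V) ^ M = 1
    rw [Units.val_mul, map_mul, hcu, Algebra.algebraMap_eq_smul_one, LinearMap.det_smul,
      map_one, mul_one, mul_pow, ← pow_mul, hc]
    exact inv_mul_cancel₀ (pow_ne_zero M hdet)

end cover

universe u

/-- A finite central extension `Γ` of `G` in which the invariant character `θ` of `N`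
extends (`N` being embedded in `Γ` by `ι`). -/
theorem exists_cover {G : Type u} [Group G] [Finite G] (N : Subgroup G) [hN : N.Normal]
    {θ : N → ℂ} (hθ : Cfsg.IsIrrCharacter N θ)
    (hinv : ∀ (g : G) (n : N), θ ⟨g * n * g⁻¹, hN.conj_mem (n : G) n.2 g⟩ = θ n) :
    ∃ (Γ : Type u) (_ : Group Γ) (_ : Finite Γ) (π₁ : Γ →* G) (ι : N →* Γ) (π : Γ → ℂ),
      Function.Surjective π₁ ∧ π₁.ker ≤ Subgroup.center Γ ∧ (∀ n : N, π₁ (ι n) = n) ∧
      (∀ (γ : Γ) (n : N), γ * ι n * γ⁻¹
        = ι ⟨π₁ γ * n * (π₁ γ)⁻¹, hN.conj_mem (n : G) n.2 (π₁ γ)⟩) ∧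
      Cfsg.IsIrrCharacter Γ π ∧ (∀ n : N, π (ι n) = θ n) ∧
      (∀ z ∈ π₁.ker, ∃ c : ℂ, c ≠ 0 ∧ ∀ γ : Γ, π (z * γ) = c * π γ) := by
  obtain ⟨d, ρ, hρ, rfl⟩ := hθ
  have hM : ∀ n : N, n ^ Nat.card N = 1 := fun n => pow_card_eq_one'
  have hM0 : 0 < Nat.card N := Nat.card_pos
  have hinv' : ∀ (g : G) (n : N), ρ.character (MulAut.conjNormal g n) = ρ.character n :=
    fun g n => hinv g n
  refine ⟨coverSub N ρ (Nat.card N), inferInstance, cover_finite N ρ (Nat.card N) hM0,
    coverFst N ρ (Nat.card N), coverIncl N ρ (Nat.card N) hM,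
    (coverRep N ρ (Nat.card N)).character,
    cover_surjective N ρ (Nat.card N) hM0 hinv', cover_ker_le_center N ρ (Nat.card N),
    fun n => rfl, fun γ n => cover_conj N ρ (Nat.card N) hM γ n,
    ⟨d, coverRep N ρ (Nat.card N), coverRep_irreducible N ρ (Nat.card N) hM hρ, rfl⟩,
    fun n => rfl, ?_⟩
  intro z hz
  obtain ⟨c, hc1, hc2⟩ := cover_ker_scalar N ρ (Nat.card N) z hz
  have hD : 0 < finrank ℂ (Fin d → ℂ) := irr_finrank_pos ρ
  have hc0 : c ≠ 0 := by
    intro h0
    rw [h0, zero_pow (Nat.mul_pos hD hM0).ne'] at hc2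
    exact zero_ne_one hc2
  refine ⟨c, hc0, fun γ => ?_⟩
  unfold Representation.character
  rw [map_mul, hc1]
  have : c • (LinearMap.id : (Fin d → ℂ) →ₗ[ℂ] (Fin d → ℂ)) * coverRep N ρ (Nat.card N) γ
      = c • coverRep N ρ (Nat.card N) γ := by
    ext v
    simp
  rw [this, map_smul, smul_eq_mul]

end Cfsg.Agent.Lib.Helper2
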