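import Mathlib
import Cfsg.Prelude
import Cfsg.Agent.Lib.Helper2.CharCover
import Cfsg.Agent.Lib.Helper2.CharMono
import Cfsg.Agent.Lib.Helper2.CharCenter
import Cfsg.Agent.Lib.Helper2.LinExt
import Cfsg.Agent.S0856

set_option autoImplicit false

namespace Cfsg.Agent.Lib.Helper2

open Representation Module

/-- An additive subgroup of `ℤ` containing `m > 0` and, for each prime `p ∣ m`, a number prime
to `p`, contains `1`. -/
theorem one_mem_of_coprime (I : AddSubgroup ℤ) (m : ℕ) (hm : (m : ℤ) ∈ I)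
    (h : ∀ p : ℕ, p.Prime → p ∣ m → ∃ k : ℕ, k.Coprime p ∧ (k : ℤ) ∈ I) :
    (1 : ℤ) ∈ I := by
  obtain ⟨d, hd⟩ := Int.subgroup_cyclic I
  have hmem : ∀ k : ℤ, k ∈ I ↔ d ∣ k := by
    intro k
    rw [hd, AddSubgroup.mem_closure_singleton]
    constructor
    · rintro ⟨n, rfl⟩
      exact ⟨n, by rw [smul_eq_mul, mul_comm]⟩
    · rintro ⟨n, rfl⟩
      exact ⟨n, by rw [smul_eq_mul, mul_comm]⟩
  have hdm : d ∣ (m : ℤ) := (hmem _).1 hm
  have hd1 : d.natAbs = 1 := by
    by_contra hne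
    obtain ⟨q, hq, hqd⟩ := Nat.exists_prime_and_dvd hne
    have hqd' : (q : ℤ) ∣ d := Int.natCast_dvd.2 hqd
    have hqm : q ∣ m := Int.natCast_dvd_natCast.1 (hqd'.trans hdm)
    obtain ⟨k, hcop, hkI⟩ := h q hq hqm
    have hqk : q ∣ k := Int.natCast_dvd_natCast.1 (hqd'.trans ((hmem _).1 hkI))
    have := Nat.eq_one_of_dvd_coprimes hcop hqk (dvd_refl q)
    exact hq.one_lt.ne' this
  rw [hmem]
  exact Int.natAbs_dvd_natAbs.1 (by rw [hd1]; exact one_dvd _)

section reps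

variable {G H : Type*} [Group G] [Group H]

/-- a representation with irreducible character is irreducible -/
theorem isIrreducible_of_char_irr [Finite G] {V : Type*} [AddCommGroup V] [Module ℂ V]
    [FiniteDimensional ℂ V] (ρ : Representation ℂ G V)
    (h : Cfsg.IsIrrCharacter G ρ.character) : ρ.IsIrreducible := by
  obtain ⟨m, ρ', hρ', hchar⟩ := h
  obtain ⟨φ⟩ := equiv_of_char_eq_aux (finrank ℂ (Fin m → ℂ)) (Fin m → ℂ) V ρ' ρ rfl hchar
  have : ρ'.IsIrreducible := hρ'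
  exact isIrreducible_of_equiv φ

/-- a character whose pullback along some homomorphism is irreducible is irreducible -/
theorem isIrrCharacter_of_pullback [Finite H] {χ : G → ℂ} (hχ : Cfsg.IsCharacter G χ)
    (f : H →* G) (h : Cfsg.IsIrrCharacter H (χ ∘ f)) : Cfsg.IsIrrCharacter G χ := by
  obtain ⟨n, ρ, rfl⟩ := hχ
  have h1 : Representation.IsIrreducible (ρ.comp f : Representation ℂ H (Fin n → ℂ)) :=
    isIrreducible_of_char_irr (ρ.comp f : Representation ℂ H (Fin n → ℂ)) h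
  exact ⟨n, ρ, isIrreducible_of_comp ρ f h1, rfl⟩

/-- a linear character times an irreducible character is irreducible -/
theorem isIrrCharacter_hom_mul (μ : G →* ℂˣ) {π : G → ℂ} (hπ : Cfsg.IsIrrCharacter G π) :
    Cfsg.IsIrrCharacter G ((fun γ => (μ γ : ℂ)) * π) := by
  obtain ⟨d, ρ, hρ, rfl⟩ := hπ
  let τ : Representation ℂ G (Fin d → ℂ) :=
    { toFun := fun γ => (μ γ : ℂ) • ρ γ
      map_one' := by simp
      map_mul' := by
        intro a b
        rw [map_mul, map_mul, Units.val_mul, smul_mul_smul_comm] }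
  have hτ : ∀ γ, τ γ = (μ γ : ℂ) • ρ γ := fun γ => rfl
  have hnt : (⊥ : Submodule ℂ (Fin d → ℂ)) ≠ ⊤ := by
    intro h0
    have h1 : (⊥ : Subrepresentation ρ) = ⊤ :=
      Subrepresentation.toSubmodule_injective h0
    exact bot_ne_top h1
  have hirr : τ.IsIrreducible := by
    refine { exists_pair_ne := ⟨⊥, ⊤, fun h0 => hnt (congrArg Subrepresentation.toSubmodule h0)⟩
             eq_bot_or_eq_top := fun q => ?_ }
    let q' : Subrepresentation ρ :=
      ⟨q.toSubmodule, fun g v hv => by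
        have h1 := q.apply_mem_toSubmodule g hv
        rw [hτ] at h1
        have h2 := q.toSubmodule.smul_mem ((μ g : ℂ)⁻¹) h1
        rw [LinearMap.smul_apply, smul_smul, inv_mul_cancel₀ (Units.ne_zero _), one_smul] at h2
        exact h2⟩
    rcases eq_bot_or_eq_top q' with h1 | h1
    · left
      have h2 : q'.toSubmodule = ⊥ := by rw [h1]; rfl
      exact Subrepresentation.toSubmodule_injective h2
    · right
      have h2 : q'.toSubmodule = ⊤ := by rw [h1]; rfl
      exact Subrepresentation.toSubmodule_injective h2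
  refine ⟨d, τ, hirr, ?_⟩
  funext γ
  unfold Representation.character
  rw [hτ, map_smul]
  rfl

/-- deflation of an irreducible character trivial on the kernel of a surjection -/
theorem exists_irr_deflate [Finite H] (f : H →* G) (hf : Function.Surjective f) {ψ : H → ℂ}
    (hψ : Cfsg.IsIrrCharacter H ψ) (hker : ∀ z ∈ f.ker, ψ z = ψ 1) :
    ∃ χ : G → ℂ, Cfsg.IsIrrCharacter G χ ∧ ψ = χ ∘ f := by
  obtain ⟨d, σ, hσ, rfl⟩ := hψ
  have hk : f.ker ≤ (σ.toHomUnits).ker := by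
    intro z hz
    rw [MonoidHom.mem_ker]
    apply Units.ext
    rw [MonoidHom.coe_toHomUnits]
    have h1 := hker z hz
    rw [Representation.char_one] at h1
    exact (char_eq_finrank_iff σ z).1 h1
  let L : G →* (Module.End ℂ (Fin d → ℂ))ˣ := f.liftOfSurjective hf ⟨σ.toHomUnits, hk⟩
  have hL : ∀ x : H, L (f x) = σ.toHomUnits x := fun x =>
    MonoidHom.liftOfRightInverse_comp_apply _ _ _ ⟨σ.toHomUnits, hk⟩ x
  let ρ : Representation ℂ G (Fin d → ℂ) := (Units.coeHom _).comp L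
  have hρ : ∀ x : H, ρ (f x) = σ x := by
    intro x
    show ((L (f x) : (Module.End ℂ (Fin d → ℂ))ˣ) : Module.End ℂ (Fin d → ℂ)) = σ x
    rw [hL, MonoidHom.coe_toHomUnits]
  have e : (ρ.comp f : Representation ℂ H (Fin d → ℂ)) = σ := MonoidHom.ext hρ
  have hirr : ρ.IsIrreducible := by
    apply isIrreducible_of_comp ρ f
    rw [e]
    exact hσ
  refine ⟨ρ.character, ⟨d, ρ, hirr, rfl⟩, ?_⟩
  funext x
  show σ.character x = ρ.character (f x)
  unfold Representation.character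
  rw [hρ]

end reps

/-- Gallagher's theorem in the form needed for covers. -/
theorem gallagher_cover {Γ : Type*} [Group Γ] [Fintype Γ] {N : Type*} [Group N] [Fintype N]
    (ι : N →* Γ) (hιinj : Function.Injective ι) (hnorm : ι.range.Normal) {θ : N → ℂ}
    (hθ : Cfsg.IsIrrCharacter N θ) {π : Γ → ℂ} (hπ : Cfsg.IsIrrCharacter Γ π)
    (hπθ : ∀ n, π (ι n) = θ n) {ψ : Γ → ℂ} (hψ : Cfsg.IsIrrCharacter Γ ψ)
    (hcon : Cfsg.classInner (fun n : N => ψ (ι n)) θ ≠ 0) :
    ∃ β : Γ → ℂ, Cfsg.IsIrrCharacter Γ β ∧ (∀ n : N, β (ι n) = β 1) ∧ β * π = ψ := by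
  classical
  have := Fintype.ofFinite ι.range
  let e : N ≃* ι.range := MonoidHom.ofInjective hιinj
  have he : ∀ n : N, ((e n : ι.range) : Γ) = ι n := fun n => rfl
  have hθ₀ : Cfsg.IsIrrCharacter ι.range (fun x : ι.range => π x) := by
    have h1 := Cfsg.Agent.S1489.isIrrCharacter_comp_iso hθ e.symm
    have h2 : θ ∘ e.symm = fun x : ι.range => π x := by
      funext x
      obtain ⟨n, rfl⟩ := e.surjective x
      simp [he, hπθ]
    rwa [h2] at h1
  have hπcf : Cfsg.IsClassFunction Γ π := isClassFunction_of_isIrrCharacter hπ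
  have hprodeq : ((fun _ => (1 : ℂ)) * (fun x : ι.range => π x) : ι.range → ℂ)
      = fun x : ι.range => π x := by
    funext x
    simp
  have hbij := Cfsg.Agent.S0856.result ι.range (fun _ => (1 : ℂ)) (fun x : ι.range => π x)
    isIrrCharacter_one hθ₀ (fun _ _ => rfl) (fun γ x => hπcf x γ)
    (by rw [hprodeq]; exact hθ₀) π hπ (fun x => rfl)
  have hmem : ψ ∈ {ψ : Γ → ℂ | Cfsg.IsIrrCharacter Γ ψ ∧
      Cfsg.classInner (Cfsg.indFun ι.range ((fun _ => (1 : ℂ)) * (fun x : ι.range => π x))) ψ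
        ≠ 0} := by
    refine ⟨hψ, ?_⟩
    rw [hprodeq, frobenius_reciprocity ι.range _ _ (isClassFunction_of_isIrrCharacter hψ)]
    have e1 := Cfsg.Agent.S1489.classInner_comp_iso e (fun x : ι.range => π x)
      (fun x : ι.range => ψ x)
    have e2 : (fun x : ι.range => π x) ∘ e = θ := by
      funext n
      exact hπθ n
    have e3 : (fun x : ι.range => ψ x) ∘ e = fun n : N => ψ (ι n) := by
      funext n
      rfl
    rw [e2, e3] at e1
    rw [← e1, ← classInner_conj_symm]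
    intro h0
    apply hcon
    have := congrArg (starRingEnd ℂ) h0
    simpa using this
  obtain ⟨β, ⟨hβ, hβc⟩, hβχ⟩ := hbij.surjOn hmem
  refine ⟨β, hβ, ?_, hβχ⟩
  intro n
  have hΘ : Cfsg.IsCharacter Γ (Cfsg.indFun ι.range (fun _ => (1 : ℂ))) :=
    indFun_isCharacter ι.range (isCharacter_of_isIrrCharacter isIrrCharacter_one)
  have hval : ∀ x : ι.range, Cfsg.indFun ι.range (fun _ => (1 : ℂ)) (x : Γ)
      = (Nat.card ι.range : ℂ)⁻¹ * ∑ _y : Γ, (1 : ℂ) := by
    intro x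
    rw [indFun_coe_normal]
    congr 1
  apply constituent_apply_eq hΘ hβ hβc
  have a1 := hval (e n)
  have a2 := hval 1
  rw [he] at a1
  rw [a1]
  exact a2.symm

universe u

/-- An invariant irreducible character of a normal subgroup extends to `G` as soon as, for
every prime `p`, it extends to a subgroup of index prime to `p`. -/
theorem extends_of_sylow_ext {G : Type u} [Group G] [Finite G] (N : Subgroup G) [hN : N.Normal]
    {θ : N → ℂ} (hθ : Cfsg.IsIrrCharacter N θ)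
    (hinv : ∀ (g : G) (n : N), θ ⟨g * n * g⁻¹, hN.conj_mem (n : G) n.2 g⟩ = θ n)
    (hsyl : ∀ p : ℕ, p.Prime → ∃ (P : Subgroup G) (hNP : N ≤ P) (η : P → ℂ),
      Nat.Coprime P.index p ∧ Cfsg.IsIrrCharacter P η ∧ ∀ n : N, η ⟨(n : G), hNP n.2⟩ = θ n) :
    ∃ χ : G → ℂ, Cfsg.IsIrrCharacter G χ ∧ ∀ n : N, χ n = θ n := by
  classical
  obtain ⟨Γ, instG, instF, π₁, ι, π, hsurj, hker, hι, hconj, hπ, hπθ, hcent⟩ :=
    exists_cover N hθ hinv
  have := Fintype.ofFinite Γ
  have := Fintype.ofFinite N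
  have hιinj : Function.Injective ι := by
    intro a b hab
    have := congrArg π₁ hab
    rw [hι, hι] at this
    exact Subtype.ext this
  obtain ⟨d, hd0, hd⟩ := irr_apply_one hθ
  have hπ1 : π 1 = d := by rw [← hd, ← hπθ 1, map_one]
  have hπ1ne : π 1 ≠ 0 := by
    rw [hπ1]
    exact_mod_cast hd0.ne'
  let ν : Γ → ℂ := fun z => π z / π 1
  have hν : ∀ z ∈ π₁.ker, ν z ≠ 0 ∧ ∀ γ, π (z * γ) = ν z * π γ := by
    intro z hz
    obtain ⟨c, hc0, hc⟩ := hcent z hz
    have h1 : ν z = c := by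
      show π z / π 1 = c
      have h2 := hc 1
      rw [mul_one] at h2
      rw [h2]
      field_simp
    rw [h1]
    exact ⟨hc0, hc⟩
  have hνpow : ∀ z ∈ π₁.ker, ∀ k : ℕ, ∀ γ, π (z ^ k * γ) = ν z ^ k * π γ := by
    intro z hz k
    induction k with
    | zero => intro γ; simp
    | succ k ih =>
      intro γ
      rw [pow_succ, mul_assoc, ih, (hν z hz).2, pow_succ]
      ring
  have hνcard : ∀ z ∈ π₁.ker, ν z ^ Nat.card Γ = 1 := by
    intro z hz
    have h1 := hνpow z hz (Nat.card Γ) 1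
    rw [pow_card_eq_one', one_mul] at h1
    have h2 : (ν z ^ Nat.card Γ - 1) * π 1 = 0 := by rw [sub_mul, one_mul, ← h1, sub_self]
    rcases mul_eq_zero.1 h2 with h3 | h3
    · exact sub_eq_zero.1 h3
    · exact absurd h3 hπ1ne
  let I : AddSubgroup ℤ :=
    { carrier := {k | ∃ μ : Γ →* ℂˣ, (∀ n : N, μ (ι n) = 1) ∧
        ∀ z ∈ π₁.ker, (μ z : ℂ) * ν z ^ k = 1}
      zero_mem' := ⟨1, fun n => rfl, fun z hz => by simp⟩
      add_mem' := by
        rintro k l ⟨μ₁, h₁, h₁'⟩ ⟨μ₂, h₂, h₂'⟩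
        refine ⟨μ₁ * μ₂, fun n => by rw [MonoidHom.mul_apply, h₁, h₂, one_mul], fun z hz => ?_⟩
        rw [MonoidHom.mul_apply, Units.val_mul, zpow_add₀ (hν z hz).1]
        calc (μ₁ z : ℂ) * (μ₂ z : ℂ) * (ν z ^ k * ν z ^ l)
            = ((μ₁ z : ℂ) * ν z ^ k) * ((μ₂ z : ℂ) * ν z ^ l) := by ring
          _ = 1 := by rw [h₁' z hz, h₂' z hz, one_mul]
      neg_mem' := by
        rintro k ⟨μ, h, h'⟩
        refine ⟨μ⁻¹, fun n => by rw [MonoidHom.inv_apply, h, inv_one], fun z hz => ?_⟩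
        rw [MonoidHom.inv_apply, Units.val_inv_eq_inv_val, zpow_neg, ← mul_inv, h' z hz, inv_one] }
  have hmI : ((Nat.card Γ : ℕ) : ℤ) ∈ I :=
    ⟨1, fun n => rfl, fun z hz => by
      rw [zpow_natCast, hνcard z hz]
      simp⟩
  have hpI : ∀ p : ℕ, p.Prime → p ∣ Nat.card Γ → ∃ k : ℕ, k.Coprime p ∧ (k : ℤ) ∈ I := by
    intro p hp _
    obtain ⟨P, hNP, η, hcop, hη, hηθ⟩ := hsyl p hp
    have hidx : (P.comap π₁).index = P.index := Subgroup.index_comap_of_surjective P hsurj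
    refine ⟨(P.comap π₁).index, by rw [hidx]; exact hcop, ?_⟩
    have := Fintype.ofFinite (P.comap π₁)
    let ι' : N →* P.comap π₁ := ι.codRestrict (P.comap π₁) (fun n => by
      show π₁ (ι n) ∈ P
      rw [hι]
      exact hNP n.2)
    have hι' : ∀ n : N, ((ι' n : P.comap π₁) : Γ) = ι n := fun n => rfl
    have hι'inj : Function.Injective ι' := by
      intro a b hab
      exact hιinj (congrArg Subtype.val hab)
    have hnorm' : ι'.range.Normal := ⟨by
      rintro _ ⟨n, rfl⟩ x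
      refine ⟨⟨π₁ x * n * (π₁ x)⁻¹, hN.conj_mem (n : G) n.2 (π₁ x)⟩, ?_⟩
      apply Subtype.ext
      show ι _ = (x : Γ) * ι n * (x : Γ)⁻¹
      rw [hconj]⟩
    let π₁' : P.comap π₁ →* P := (π₁.comp (P.comap π₁).subtype).codRestrict P (fun x => x.2)
    have hπ₁' : ∀ x : P.comap π₁, ((π₁' x : P) : G) = π₁ x := fun x => rfl
    have hπ₁'surj : Function.Surjective π₁' := by
      intro y
      obtain ⟨γ, hγ⟩ := hsurj y
      exact ⟨⟨γ, by show π₁ γ ∈ P; rw [hγ]; exact y.2⟩, Subtype.ext hγ⟩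
    have hπ' : Cfsg.IsIrrCharacter (P.comap π₁) (fun x : P.comap π₁ => π x) := by
      apply isIrrCharacter_of_pullback
        (IsCharacter.restrict (isCharacter_of_isIrrCharacter hπ) (P.comap π₁)) ι'
      have : (fun x : P.comap π₁ => π x) ∘ ι' = θ := by
        funext n
        exact hπθ n
      rw [this]
      exact hθ
    have hψ : Cfsg.IsIrrCharacter (P.comap π₁) (η ∘ π₁') :=
      isIrrCharacter_comp_of_surjective hη π₁' hπ₁'surj
    have hψι : ∀ n : N, (η ∘ π₁') (ι' n) = θ n := by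
      intro n
      rw [← hηθ n]
      show η (π₁' (ι' n)) = _
      congr 1
      apply Subtype.ext
      rw [hπ₁', hι', hι]
    have hcon : Cfsg.classInner (fun n : N => (η ∘ π₁') (ι' n)) θ ≠ 0 := by
      have : (fun n : N => (η ∘ π₁') (ι' n)) = θ := funext hψι
      rw [this, classInner_irr_self hθ]
      exact one_ne_zero
    obtain ⟨β, hβ, hβι, hβπ⟩ := gallagher_cover ι' hι'inj hnorm' hθ hπ'
      (fun n => hπθ n) hψ hcon
    have hη1 : (η ∘ π₁') 1 = π 1 := by
      have h1 := hψι 1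
      rw [map_one] at h1
      rw [h1, ← hπθ 1, map_one]
    have hβ1 : β 1 = 1 := by
      have h1 := congrFun hβπ 1
      rw [Pi.mul_apply, hη1] at h1
      have h2 : (β 1 - 1) * π 1 = 0 := by
        rw [sub_mul, one_mul]
        exact sub_eq_zero.2 h1
      rcases mul_eq_zero.1 h2 with h3 | h3
      · exact sub_eq_zero.1 h3
      · exact absurd h3 hπ1ne
    obtain ⟨β₀, rfl⟩ := hom_of_irr_deg_one hβ hβ1
    have hβ₀ι : ∀ n : N, β₀ (ι' n) = 1 := by
      intro n
      apply Units.ext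
      exact (hβι n).trans (by simp)
    have hβ₀z : ∀ (z : Γ) (hz : z ∈ π₁.ker) (hz' : z ∈ P.comap π₁),
        (β₀ ⟨z, hz'⟩ : ℂ) * ν z = 1 := by
      intro z hz hz'
      have h1 := congrFun hβπ ⟨z, hz'⟩
      have h2 : (η ∘ π₁') ⟨z, hz'⟩ = (η ∘ π₁') 1 := by
        show η (π₁' ⟨z, hz'⟩) = η (π₁' 1)
        congr 1
        apply Subtype.ext
        rw [hπ₁', hπ₁']
        show π₁ z = π₁ 1
        rw [MonoidHom.mem_ker.1 hz, map_one]
      rw [h2, hη1, Pi.mul_apply] at h1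
      have h3 := (hν z hz).2 1
      rw [mul_one] at h3
      have h4 : (β₀ ⟨z, hz'⟩ : ℂ) * π z = π 1 := h1
      rw [h3, ← mul_assoc] at h4
      have h5 : ((β₀ ⟨z, hz'⟩ : ℂ) * ν z - 1) * π 1 = 0 := by
        rw [sub_mul, one_mul]
        exact sub_eq_zero.2 h4
      rcases mul_eq_zero.1 h5 with h6 | h6
      · exact sub_eq_zero.1 h6
      · exact absurd h6 hπ1ne
    refine ⟨MonoidHom.transfer β₀, fun n => ?_, fun z hz => ?_⟩
    · have h1 := transfer_eq_pow_of_key β₀ (ι n) 1 (by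
        intro k g₀ hk
        have h2 := hconj g₀⁻¹ (n ^ k)
        have h3 : (⟨g₀⁻¹ * ι n ^ k * g₀, hk⟩ : P.comap π₁)
            = ι' ⟨π₁ g₀⁻¹ * ((n ^ k : N) : G) * (π₁ g₀⁻¹)⁻¹,
                hN.conj_mem ((n ^ k : N) : G) (n ^ k).2 (π₁ g₀⁻¹)⟩ := by
          apply Subtype.ext
          rw [hι', ← h2, map_pow]
          simp
        rw [h3, hβ₀ι, one_pow])
      rw [h1, one_pow]
    · have hz' : z ∈ P.comap π₁ := by
        show π₁ z ∈ P
        rw [MonoidHom.mem_ker.1 hz]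
        exact P.one_mem
      have h1 := transfer_eq_pow_of_key β₀ z (β₀ ⟨z, hz'⟩) (by
        intro k g₀ hk
        have hzc : z ^ k ∈ Subgroup.center Γ := Subgroup.pow_mem _ (hker hz) k
        have h3 : (⟨g₀⁻¹ * z ^ k * g₀, hk⟩ : P.comap π₁) = ⟨z, hz'⟩ ^ k := by
          apply Subtype.ext
          show g₀⁻¹ * z ^ k * g₀ = z ^ k
          rw [mul_assoc, ← Subgroup.mem_center_iff.1 hzc g₀, inv_mul_cancel_left]
        rw [h3, map_pow])
      rw [h1, Units.val_pow_eq_pow_val, zpow_natCast, ← mul_pow, hβ₀z z hz hz', one_pow]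
  obtain ⟨μ, hμι, hμz⟩ := one_mem_of_coprime I (Nat.card Γ) hmI hpI
  have hχ' := isIrrCharacter_hom_mul μ hπ
  obtain ⟨χ, hχ, hχeq⟩ := exists_irr_deflate π₁ hsurj hχ' (by
    intro z hz
    show (μ z : ℂ) * π z = (μ 1 : ℂ) * π 1
    have h2 := (hν z hz).2 1
    rw [mul_one] at h2
    have h3 := hμz z hz
    rw [zpow_one] at h3
    rw [h2, ← mul_assoc, h3, map_one]
    simp)
  refine ⟨χ, hχ, fun n => ?_⟩
  have h1 := congrFun hχeq (ι n)
  simp only [Pi.mul_apply, Function.comp_apply] at h1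
  rw [hι, hμι, hπθ] at h1
  rw [← h1]
  simp

end Cfsg.Agent.Lib.Helper2
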