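import Mathlib
import Cfsg.Prelude
import Cfsg.Agent.Lib.Helper2.CharCover
import Cfsg.Agent.Lib.Helper2.CharMono
import Cfsg.Agent.Lib.Helper2.CharCenter
import Cfsg.Agent.S0856
import Cfsg.Agent.S0854

set_option autoImplicit false

namespace Cfsg.Agent.Lib.Helper2

open Representation Module

universe u

/-- `χ(1)/θ(1)` divides `[G:N]` when `θ` is `G`-invariant. -/
theorem degree_ratio_invariant {G : Type u} [Group G] [Fintype G] (N : Subgroup G)
    [hN : N.Normal] [Fintype N] {χ : G → ℂ} (hχ : Cfsg.IsIrrCharacter G χ) {θ : N → ℂ}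
    (hθ : Cfsg.IsIrrCharacter N θ)
    (hinv : ∀ (g : G) (n : N), θ ⟨g * n * g⁻¹, hN.conj_mem (n : G) n.2 g⟩ = θ n)
    (hcon : Cfsg.classInner (fun n : N => χ n) θ ≠ 0) :
    ∃ b : ℕ, χ 1 = (b : ℂ) * θ 1 ∧ b ∣ N.index := by
  classical
  obtain ⟨Γ, instG, instF, π₁, ι, π, hsurj, hker, hι, hconj, hπ, hπθ, -⟩ :=
    exists_cover N hθ hinv
  have := Fintype.ofFinite Γ
  have hιinj : Function.Injective ι := by
    intro a b hab
    have := congrArg π₁ hab
    rw [hι, hι] at this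
    exact Subtype.ext this
  have hN₀ : ι.range.Normal := ⟨by
    rintro _ ⟨n, rfl⟩ γ
    rw [hconj]
    exact ⟨_, rfl⟩⟩
  have := Fintype.ofFinite ι.range
  let e : N ≃* ι.range := MonoidHom.ofInjective hιinj
  have he : ∀ n : N, ((e n : ι.range) : Γ) = ι n := fun n => rfl
  have hθ₀ : Cfsg.IsIrrCharacter ι.range (fun x : ι.range => π x) := by
    have h1 := Cfsg.Agent.S1489.isIrrCharacter_comp_iso hθ e.symm
    have h2 : θ ∘ e.symm = fun x : ι.range => π x := by
      funext x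
      obtain ⟨n, rfl⟩ := e.surjective x
      simp [he, hπθ]
    rwa [h2] at h1
  have hπcf : Cfsg.IsClassFunction Γ π := isClassFunction_of_isIrrCharacter hπ
  have hprodeq : ((fun _ => (1 : ℂ)) * (fun x : ι.range => π x) : ι.range → ℂ)
      = fun x : ι.range => π x := by
    funext x
    simp
  have hbij := Cfsg.Agent.S0856.result ι.range (fun _ => (1 : ℂ)) (fun x : ι.range => π x)
    isIrrCharacter_one hθ₀ (fun _ _ => rfl) (fun γ x => hπcf x γ)
    (by rw [hprodeq]; exact hθ₀) π hπ (fun x => rfl)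
  have hχ' : Cfsg.IsIrrCharacter Γ (χ ∘ π₁) := isIrrCharacter_comp_of_surjective hχ π₁ hsurj
  have hmem : (χ ∘ π₁) ∈ {ψ : Γ → ℂ | Cfsg.IsIrrCharacter Γ ψ ∧
      Cfsg.classInner (Cfsg.indFun ι.range ((fun _ => (1 : ℂ)) * (fun x : ι.range => π x))) ψ
        ≠ 0} := by
    refine ⟨hχ', ?_⟩
    rw [hprodeq, frobenius_reciprocity ι.range _ _ (isClassFunction_of_isIrrCharacter hχ')]
    have e1 := Cfsg.Agent.S1489.classInner_comp_iso e (fun x : ι.range => π x)
      (fun x : ι.range => (χ ∘ π₁) x)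
    have e2 : (fun x : ι.range => π x) ∘ e = θ := by
      funext n
      exact hπθ n
    have e3 : (fun x : ι.range => (χ ∘ π₁) x) ∘ e = fun n : N => χ n := by
      funext n
      show χ (π₁ (ι n)) = χ n
      rw [hι]
    rw [e2, e3] at e1
    rw [← e1, ← classInner_conj_symm]
    intro h0
    apply hcon
    have := congrArg (starRingEnd ℂ) h0
    simpa using this
  obtain ⟨β, ⟨hβ, hβc⟩, hβχ⟩ := hbij.surjOn hmem
  have hβχ' : β * π = χ ∘ π₁ := hβχ
  have hβirr := hβ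
  obtain ⟨b, σ, hσ, rfl⟩ := hβ
  have : σ.IsIrreducible := hσ
  refine ⟨b, ?_, ?_⟩
  · have h1 := congrFun hβχ' 1
    simp only [Pi.mul_apply, Function.comp_apply, map_one, Representation.char_one,
      Module.finrank_fin_fun] at h1
    rw [← h1, ← hπθ 1, map_one]
  · have hΘ : Cfsg.IsCharacter Γ (Cfsg.indFun ι.range (fun _ => (1 : ℂ))) :=
      indFun_isCharacter ι.range (isCharacter_of_isIrrCharacter isIrrCharacter_one)
    have hval : ∀ x : ι.range, Cfsg.indFun ι.range (fun _ => (1 : ℂ)) (x : Γ)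
        = (Nat.card ι.range : ℂ)⁻¹ * ∑ _y : Γ, (1 : ℂ) := by
      intro x
      rw [indFun_coe_normal]
      congr 1
    have hZ : ∀ γ ∈ N.comap π₁, ∃ c : ℂ, σ γ = c • (LinearMap.id : (Fin b → ℂ) →ₗ[ℂ] (Fin b → ℂ)) := by
      intro γ hγ
      have hγ' : π₁ γ ∈ N := hγ
      have hz : γ * (ι ⟨π₁ γ, hγ'⟩)⁻¹ ∈ π₁.ker := by
        rw [MonoidHom.mem_ker, map_mul, map_inv, hι, mul_inv_cancel]
      have hzc := hker hz
      obtain ⟨c, hc⟩ := schur_scalar σ (σ (γ * (ι ⟨π₁ γ, hγ'⟩)⁻¹)) (fun g => by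
        show σ (γ * (ι ⟨π₁ γ, hγ'⟩)⁻¹) * σ g = σ g * σ (γ * (ι ⟨π₁ γ, hγ'⟩)⁻¹)
        rw [← map_mul, ← map_mul, Subgroup.mem_center_iff.1 hzc g])
      have hid : σ (ι ⟨π₁ γ, hγ'⟩) = LinearMap.id := by
        rw [← char_eq_finrank_iff, Module.finrank_fin_fun]
        have h1 : σ.character (ι ⟨π₁ γ, hγ'⟩) = σ.character 1 := by
          apply constituent_apply_eq hΘ hβirr hβc
          have a1 := hval (e ⟨π₁ γ, hγ'⟩)
          have a2 := hval 1
          rw [he] at a1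
          rw [a1]
          exact a2.symm
        rw [h1, Representation.char_one, Module.finrank_fin_fun]
      refine ⟨c, ?_⟩
      have hγeq : γ = (γ * (ι ⟨π₁ γ, hγ'⟩)⁻¹) * ι ⟨π₁ γ, hγ'⟩ := by group
      rw [hγeq, map_mul, hc, hid]
      rfl
    have h1 := degree_dvd_index_of_scalar σ (N.comap π₁) hZ
    rw [Module.finrank_fin_fun, Subgroup.index_comap_of_surjective N hsurj] at h1
    exact h1

/-- `χ(1)/ϑ(1)` is an integer dividing `[G:N]` for every irreducible constituent `ϑ` of the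
restriction of `χ` to the normal subgroup `N`. -/
theorem degree_ratio {G : Type u} [Group G] [Fintype G] (N : Subgroup G)
    [hN : N.Normal] [Fintype N] {χ : G → ℂ} (hχ : Cfsg.IsIrrCharacter G χ) {ϑ : N → ℂ}
    (hϑ : Cfsg.IsIrrCharacter N ϑ)
    (hcon : Cfsg.classInner (fun n : N => χ n) ϑ ≠ 0) :
    ∃ b : ℕ, χ 1 = (b : ℂ) * ϑ 1 ∧ b ∣ N.index := by
  classical
  have hT : ∀ g : G, g ∈ inertia N ϑ ↔
      ∀ h : N, ϑ ⟨g * h * g⁻¹, hN.conj_mem h h.2 g⟩ = ϑ h := by
    intro g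
    rw [mem_inertia]
    constructor
    · intro hg h
      have := congrFun hg h
      rw [conjFun_apply] at this
      exact this
    · intro hg
      funext h
      rw [conjFun_apply]
      exact hg h
  have hHT : N ≤ inertia N ϑ := fun g hg =>
    conjFun_of_mem N (isClassFunction_of_isIrrCharacter hϑ) hg
  have := Fintype.ofFinite (inertia N ϑ)
  obtain ⟨ψ, hψ, hind, hmult⟩ := Cfsg.Agent.S0854.result N ϑ hϑ (inertia N ϑ) hT hHT χ hχ hcon
  have := Fintype.ofFinite (N.subgroupOf (inertia N ϑ))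
  let e : N.subgroupOf (inertia N ϑ) ≃* N := Subgroup.subgroupOfEquivOfLe hHT
  have hθ' : Cfsg.IsIrrCharacter (N.subgroupOf (inertia N ϑ)) (ϑ ∘ e) :=
    Cfsg.Agent.S1489.isIrrCharacter_comp_iso hϑ e
  have hinv' : ∀ (t : inertia N ϑ) (n : N.subgroupOf (inertia N ϑ))
      (h : t * (n : inertia N ϑ) * t⁻¹ ∈ N.subgroupOf (inertia N ϑ)),
      (ϑ ∘ e) ⟨t * n * t⁻¹, h⟩ = (ϑ ∘ e) n := by
    intro t n h
    have key := (hT t.1).1 t.2 (e n)
    exact key
  have hcon' : Cfsg.classInner (fun n : N.subgroupOf (inertia N ϑ) => ψ n) (ϑ ∘ e) ≠ 0 := by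
    have e1 := Cfsg.Agent.S1489.classInner_comp_iso e
      (fun a : N => ψ ⟨(a : G), hHT a.2⟩) ϑ
    have e2 : (fun a : N => ψ ⟨(a : G), hHT a.2⟩) ∘ e
        = fun n : N.subgroupOf (inertia N ϑ) => ψ n := by
      funext n
      rfl
    rw [e2] at e1
    rw [e1, hmult]
    exact hcon
  obtain ⟨b, hb1, hb2⟩ := degree_ratio_invariant (N.subgroupOf (inertia N ϑ)) hψ hθ'
    (fun t n => hinv' t n _) hcon'
  refine ⟨(inertia N ϑ).index * b, ?_, ?_⟩
  · rw [← hind, indFun_apply_one, hb1]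
    have : (ϑ ∘ e) 1 = ϑ 1 := by
      show ϑ (e 1) = ϑ 1
      rw [map_one]
    rw [this]
    push_cast
    ring
  · have h1 : N.relIndex (inertia N ϑ) * (inertia N ϑ).index = N.index :=
      Subgroup.relIndex_mul_index hHT
    rw [← h1, mul_comm]
    exact Nat.mul_dvd_mul hb2 dvd_rfl

end Cfsg.Agent.Lib.Helper2
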