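import Mathlib
import Cfsg.Prelude
import Cfsg.Agent.Lib.Helper2.CharBridge
import Cfsg.Agent.Lib.Helper2.RepEquiv

set_option autoImplicit false

namespace Cfsg.Agent.Lib.Helper2

open Representation Module

section det

variable {G : Type*} [Group G]

/-- the determinantal character is computed by any representation affording the character -/
theorem detChar_eq [Finite G] {V : Type*} [AddCommGroup V] [Module ℂ V] [FiniteDimensional ℂ V]
    (ρ : Representation ℂ G V) (g : G) :
    Cfsg.detChar ρ.character g = LinearMap.det (ρ g) := by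
  have h : Cfsg.IsCharacter G ρ.character := isCharacter_of_rep ρ
  unfold Cfsg.detChar
  rw [dif_pos h]
  have hspec := Classical.choose_spec (Classical.choose_spec h)
  obtain ⟨φ⟩ := equiv_of_char_eq_aux (finrank ℂ (Fin (Classical.choose h) → ℂ))
    (Fin (Classical.choose h) → ℂ) V (Classical.choose (Classical.choose_spec h)) ρ rfl hspec
  have hint := φ.toIntertwiningMap.isIntertwining' g
  have hconj : ρ g = φ.toLinearEquiv.toLinearMap ∘ₗ
      (Classical.choose (Classical.choose_spec h)) g ∘ₗ φ.toLinearEquiv.symm.toLinearMap := by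
    ext v
    have h1 := LinearMap.congr_fun hint (φ.toLinearEquiv.symm v)
    simp only [LinearMap.comp_apply] at h1
    have h2 : φ.toIntertwiningMap.toLinearMap (φ.toLinearEquiv.symm v) = v :=
      φ.toLinearEquiv.apply_symm_apply v
    rw [h2] at h1
    simp only [LinearMap.comp_apply, LinearEquiv.coe_coe]
    rw [← h1]
  rw [hconj, LinearMap.det_conj]

/-- the determinant of a representation as a homomorphism to the units -/
noncomputable def detHom {V : Type*} [AddCommGroup V] [Module ℂ V] (ρ : Representation ℂ G V) :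
    G →* ℂˣ :=
  ((LinearMap.det : (V →ₗ[ℂ] V) →* ℂ).comp ρ).toHomUnits

theorem detHom_apply {V : Type*} [AddCommGroup V] [Module ℂ V] (ρ : Representation ℂ G V)
    (g : G) : ((detHom ρ g : ℂˣ) : ℂ) = LinearMap.det (ρ g) := rfl

/-- the determinantal character of a character is a homomorphism -/
theorem detChar_hom [Finite G] {χ : G → ℂ} (hχ : Cfsg.IsCharacter G χ) :
    ∃ δ : G →* ℂˣ, Cfsg.detChar χ = fun g => (δ g : ℂ) := by
  obtain ⟨n, ρ, rfl⟩ := hχ
  exact ⟨detHom ρ, funext (fun g => by rw [detChar_eq, detHom_apply])⟩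

/-- the determinantal character commutes with pullback -/
theorem detChar_comp {H : Type*} [Group H] [Finite G] [Finite H] {χ : G → ℂ}
    (hχ : Cfsg.IsCharacter G χ) (f : H →* G) :
    Cfsg.detChar (χ ∘ f) = Cfsg.detChar χ ∘ f := by
  obtain ⟨n, ρ, rfl⟩ := hχ
  funext h
  have e : ρ.character ∘ f
      = Representation.character (ρ.comp f : Representation ℂ H (Fin n → ℂ)) := rfl
  rw [e, detChar_eq, Function.comp_apply, detChar_eq]
  rfl

theorem detChar_restrict [Finite G] {χ : G → ℂ} (hχ : Cfsg.IsCharacter G χ) (H : Subgroup G)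
    (h : H) : Cfsg.detChar (fun x : H => χ x) h = Cfsg.detChar χ h := by
  have := detChar_comp hχ H.subtype
  exact congrFun this h

/-- twist of a representation by a linear character -/
noncomputable def twistRep {V : Type*} [AddCommGroup V] [Module ℂ V] (μ : G →* ℂˣ)
    (ρ : Representation ℂ G V) : Representation ℂ G V where
  toFun := fun γ => (μ γ : ℂ) • ρ γ
  map_one' := by simp
  map_mul' := by
    intro a b
    rw [map_mul, map_mul, Units.val_mul, smul_mul_smul_comm]

theorem twistRep_apply {V : Type*} [AddCommGroup V] [Module ℂ V] (μ : G →* ℂˣ)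
    (ρ : Representation ℂ G V) (γ : G) : twistRep μ ρ γ = (μ γ : ℂ) • ρ γ := rfl

theorem twistRep_character {V : Type*} [AddCommGroup V] [Module ℂ V] (μ : G →* ℂˣ)
    (ρ : Representation ℂ G V) :
    (twistRep μ ρ).character = (fun g => (μ g : ℂ)) * ρ.character := by
  funext γ
  unfold Representation.character
  rw [twistRep_apply, map_smul]
  rfl

/-- determinantal character of a twist -/
theorem detChar_hom_mul [Finite G] (β : G →* ℂˣ) {χ : G → ℂ} (hχ : Cfsg.IsCharacter G χ)
    {d : ℕ} (hd : χ 1 = d) (g : G) :
    Cfsg.detChar ((fun g => (β g : ℂ)) * χ) g = (β g : ℂ) ^ d * Cfsg.detChar χ g := by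
  obtain ⟨n, ρ, rfl⟩ := hχ
  have hn : n = d := by
    rw [Representation.char_one, Module.finrank_fin_fun] at hd
    exact_mod_cast hd
  subst hn
  rw [← twistRep_character, detChar_eq, detChar_eq, twistRep_apply, LinearMap.det_smul,
    Module.finrank_fin_fun]

end det

end Cfsg.Agent.Lib.Helper2
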