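import Mathlib
import Cfsg.Prelude
import Cfsg.Agent.Lib.Helper2.CharCover2
import Cfsg.Agent.Lib.Helper2.DetChar

set_option autoImplicit false

namespace Cfsg.Agent.Lib.Helper2

open Representation Module

/-- A central extension `π₁ : Γ → G` in which `θ ∈ Irr(N)` extends to `π`. -/
structure IsCover {G : Type*} [Group G] (N : Subgroup G) [hN : N.Normal] (θ : N → ℂ)
    {Γ : Type*} [Group Γ] (π₁ : Γ →* G) (ι : N →* Γ) (π : Γ → ℂ) : Prop where
  surj : Function.Surjective π₁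
  ker_le : π₁.ker ≤ Subgroup.center Γ
  sect : ∀ n : N, π₁ (ι n) = n
  conj : ∀ (γ : Γ) (n : N), γ * ι n * γ⁻¹
    = ι ⟨π₁ γ * n * (π₁ γ)⁻¹, hN.conj_mem (n : G) n.2 (π₁ γ)⟩
  irr : Cfsg.IsIrrCharacter Γ π
  ext : ∀ n : N, π (ι n) = θ n
  cent : ∀ z ∈ π₁.ker, ∃ c : ℂ, c ≠ 0 ∧ ∀ γ : Γ, π (z * γ) = c * π γ

universe u

theorem exists_isCover {G : Type u} [Group G] [Finite G] (N : Subgroup G) [hN : N.Normal]
    {θ : N → ℂ} (hθ : Cfsg.IsIrrCharacter N θ)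
    (hinv : ∀ (g : G) (n : N), θ ⟨g * n * g⁻¹, hN.conj_mem (n : G) n.2 g⟩ = θ n) :
    ∃ (Γ : Type u) (_ : Group Γ) (_ : Finite Γ) (π₁ : Γ →* G) (ι : N →* Γ) (π : Γ → ℂ),
      IsCover N θ π₁ ι π := by
  obtain ⟨Γ, instG, instF, π₁, ι, π, h1, h2, h3, h4, h5, h6, h7⟩ := exists_cover N hθ hinv
  exact ⟨Γ, instG, instF, π₁, ι, π, ⟨h1, h2, h3, h4, h5, h6, h7⟩⟩

namespace IsCover

variable {G : Type*} [Group G] {N : Subgroup G} [hN : N.Normal] {θ : N → ℂ}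
  {Γ : Type*} [Group Γ] {π₁ : Γ →* G} {ι : N →* Γ} {π : Γ → ℂ}

theorem ι_injective (h : IsCover N θ π₁ ι π) : Function.Injective ι := by
  intro a b hab
  have := congrArg π₁ hab
  rw [h.sect, h.sect] at this
  exact Subtype.ext this

theorem pi_one (h : IsCover N θ π₁ ι π) : π 1 = θ 1 := by
  rw [← h.ext 1, map_one]

theorem pi_one_ne (h : IsCover N θ π₁ ι π) (hθ : Cfsg.IsIrrCharacter N θ) : π 1 ≠ 0 := by
  obtain ⟨d, hd0, hd⟩ := irr_apply_one hθ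
  rw [h.pi_one, hd]
  exact_mod_cast hd0.ne'

/-- the central character of the cover -/
noncomputable def nu (_h : IsCover N θ π₁ ι π) : Γ → ℂ := fun z => π z / π 1

theorem nu_spec (h : IsCover N θ π₁ ι π) (hθ : Cfsg.IsIrrCharacter N θ) {z : Γ}
    (hz : z ∈ π₁.ker) : h.nu z ≠ 0 ∧ ∀ γ, π (z * γ) = h.nu z * π γ := by
  obtain ⟨c, hc0, hc⟩ := h.cent z hz
  have h1 : h.nu z = c := by
    show π z / π 1 = c
    have h2 := hc 1
    rw [mul_one] at h2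
    rw [h2]
    have := h.pi_one_ne hθ
    field_simp
  rw [h1]
  exact ⟨hc0, hc⟩

theorem nu_pow (h : IsCover N θ π₁ ι π) (hθ : Cfsg.IsIrrCharacter N θ) {z : Γ}
    (hz : z ∈ π₁.ker) (k : ℕ) (γ : Γ) : π (z ^ k * γ) = h.nu z ^ k * π γ := by
  induction k generalizing γ with
  | zero => simp
  | succ k ih =>
    rw [pow_succ, mul_assoc, ih, (h.nu_spec hθ hz).2, pow_succ]
    ring

theorem nu_card (h : IsCover N θ π₁ ι π) (hθ : Cfsg.IsIrrCharacter N θ) [Finite Γ] {z : Γ}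
    (hz : z ∈ π₁.ker) : h.nu z ^ Nat.card Γ = 1 := by
  have h1 := h.nu_pow hθ hz (Nat.card Γ) 1
  rw [pow_card_eq_one', one_mul] at h1
  have h2 : (h.nu z ^ Nat.card Γ - 1) * π 1 = 0 := by rw [sub_mul, one_mul, ← h1, sub_self]
  rcases mul_eq_zero.1 h2 with h3 | h3
  · exact sub_eq_zero.1 h3
  · exact absurd h3 (h.pi_one_ne hθ)

/-- the exponents `k` such that `ν^(-k)` on the kernel comes from a linear character of `Γ`
trivial on `ι(N)` -/
def idealI (h : IsCover N θ π₁ ι π) (hθ : Cfsg.IsIrrCharacter N θ) : AddSubgroup ℤ where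
  carrier := {k | ∃ μ : Γ →* ℂˣ, (∀ n : N, μ (ι n) = 1) ∧
    ∀ z ∈ π₁.ker, (μ z : ℂ) * h.nu z ^ k = 1}
  zero_mem' := ⟨1, fun n => rfl, fun z hz => by simp⟩
  add_mem' := by
    rintro k l ⟨μ₁, h₁, h₁'⟩ ⟨μ₂, h₂, h₂'⟩
    refine ⟨μ₁ * μ₂, fun n => by rw [MonoidHom.mul_apply, h₁, h₂, one_mul], fun z hz => ?_⟩
    rw [MonoidHom.mul_apply, Units.val_mul, zpow_add₀ (h.nu_spec hθ hz).1]
    calc (μ₁ z : ℂ) * (μ₂ z : ℂ) * (h.nu z ^ k * h.nu z ^ l)
        = ((μ₁ z : ℂ) * h.nu z ^ k) * ((μ₂ z : ℂ) * h.nu z ^ l) := by ring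
      _ = 1 := by rw [h₁' z hz, h₂' z hz, one_mul]
  neg_mem' := by
    rintro k ⟨μ, h1, h'⟩
    refine ⟨μ⁻¹, fun n => by rw [MonoidHom.inv_apply, h1, inv_one], fun z hz => ?_⟩
    rw [MonoidHom.inv_apply, Units.val_inv_eq_inv_val, zpow_neg, ← mul_inv, h' z hz, inv_one]

theorem mem_idealI (h : IsCover N θ π₁ ι π) (hθ : Cfsg.IsIrrCharacter N θ) (k : ℤ) :
    k ∈ h.idealI hθ ↔ ∃ μ : Γ →* ℂˣ, (∀ n : N, μ (ι n) = 1) ∧
      ∀ z ∈ π₁.ker, (μ z : ℂ) * h.nu z ^ k = 1 := Iff.rfl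

/-- `θ` extends to `G` as soon as `1` lies in the ideal. -/
theorem extends_of_one_mem [Finite Γ] (h : IsCover N θ π₁ ι π) (hθ : Cfsg.IsIrrCharacter N θ)
    (h1 : (1 : ℤ) ∈ h.idealI hθ) : ∃ χ : G → ℂ, Cfsg.IsIrrCharacter G χ ∧ ∀ n : N, χ n = θ n := by
  obtain ⟨μ, hμι, hμz⟩ := h1
  have hχ' := isIrrCharacter_hom_mul μ h.irr
  obtain ⟨χ, hχ, hχeq⟩ := exists_irr_deflate π₁ h.surj hχ' (by
    intro z hz
    show (μ z : ℂ) * π z = (μ 1 : ℂ) * π 1
    have h2 := (h.nu_spec hθ hz).2 1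
    rw [mul_one] at h2
    have h3 := hμz z hz
    rw [zpow_one] at h3
    rw [h2, ← mul_assoc, h3, map_one]
    simp)
  refine ⟨χ, hχ, fun n => ?_⟩
  have h1 := congrFun hχeq (ι n)
  simp only [Pi.mul_apply, Function.comp_apply] at h1
  rw [h.sect, hμι, h.ext] at h1
  rw [← h1]
  simp

/-- the index of a subgroup to which `θ` extends lies in the ideal -/
theorem index_mem [Finite G] [Finite Γ] (h : IsCover N θ π₁ ι π) (hθ : Cfsg.IsIrrCharacter N θ)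
    (P : Subgroup G) (hNP : N ≤ P) {η : P → ℂ} (hη : Cfsg.IsIrrCharacter P η)
    (hηθ : ∀ n : N, η ⟨(n : G), hNP n.2⟩ = θ n) : ((P.index : ℕ) : ℤ) ∈ h.idealI hθ := by
  classical
  have := Fintype.ofFinite Γ
  have := Fintype.ofFinite N
  have hπ1ne := h.pi_one_ne hθ
  have hidx : (P.comap π₁).index = P.index := Subgroup.index_comap_of_surjective P h.surj
  rw [← hidx]
  have := Fintype.ofFinite (P.comap π₁)
  let ι' : N →* P.comap π₁ := ι.codRestrict (P.comap π₁) (fun n => by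
    show π₁ (ι n) ∈ P
    rw [h.sect]
    exact hNP n.2)
  have hι' : ∀ n : N, ((ι' n : P.comap π₁) : Γ) = ι n := fun n => rfl
  have hι'inj : Function.Injective ι' := by
    intro a b hab
    exact h.ι_injective (congrArg Subtype.val hab)
  have hnorm' : ι'.range.Normal := ⟨by
    rintro _ ⟨n, rfl⟩ x
    refine ⟨⟨π₁ x * n * (π₁ x)⁻¹, hN.conj_mem (n : G) n.2 (π₁ x)⟩, ?_⟩
    apply Subtype.ext
    show ι _ = (x : Γ) * ι n * (x : Γ)⁻¹
    rw [h.conj]⟩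
  let π₁' : P.comap π₁ →* P := (π₁.comp (P.comap π₁).subtype).codRestrict P (fun x => x.2)
  have hπ₁' : ∀ x : P.comap π₁, ((π₁' x : P) : G) = π₁ x := fun x => rfl
  have hπ₁'surj : Function.Surjective π₁' := by
    intro y
    obtain ⟨γ, hγ⟩ := h.surj y
    exact ⟨⟨γ, by show π₁ γ ∈ P; rw [hγ]; exact y.2⟩, Subtype.ext hγ⟩
  have hπ' : Cfsg.IsIrrCharacter (P.comap π₁) (fun x : P.comap π₁ => π x) := by
    apply isIrrCharacter_of_pullback
      (IsCharacter.restrict (isCharacter_of_isIrrCharacter h.irr) (P.comap π₁)) ι'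
    have : (fun x : P.comap π₁ => π x) ∘ ι' = θ := by
      funext n
      exact h.ext n
    rw [this]
    exact hθ
  have hψ : Cfsg.IsIrrCharacter (P.comap π₁) (η ∘ π₁') :=
    isIrrCharacter_comp_of_surjective hη π₁' hπ₁'surj
  have hψι : ∀ n : N, (η ∘ π₁') (ι' n) = θ n := by
    intro n
    rw [← hηθ n]
    show η (π₁' (ι' n)) = _
    congr 1
    apply Subtype.ext
    rw [hπ₁', hι', h.sect]
  have hcon : Cfsg.classInner (fun n : N => (η ∘ π₁') (ι' n)) θ ≠ 0 := by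
    have : (fun n : N => (η ∘ π₁') (ι' n)) = θ := funext hψι
    rw [this, classInner_irr_self hθ]
    exact one_ne_zero
  obtain ⟨β, hβ, hβι, hβπ⟩ := gallagher_cover ι' hι'inj hnorm' hθ hπ'
    (fun n => h.ext n) hψ hcon
  have hη1 : (η ∘ π₁') 1 = π 1 := by
    have h1 := hψι 1
    rw [map_one] at h1
    rw [h1, ← h.ext 1, map_one]
  have hβ1 : β 1 = 1 := by
    have h1 := congrFun hβπ 1
    rw [Pi.mul_apply, hη1] at h1
    have h2 : (β 1 - 1) * π 1 = 0 := by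
      rw [sub_mul, one_mul]
      exact sub_eq_zero.2 h1
    rcases mul_eq_zero.1 h2 with h3 | h3
    · exact sub_eq_zero.1 h3
    · exact absurd h3 hπ1ne
  obtain ⟨β₀, rfl⟩ := hom_of_irr_deg_one hβ hβ1
  have hβ₀ι : ∀ n : N, β₀ (ι' n) = 1 := by
    intro n
    apply Units.ext
    exact (hβι n).trans (by simp)
  have hβ₀z : ∀ (z : Γ) (hz : z ∈ π₁.ker) (hz' : z ∈ P.comap π₁),
      (β₀ ⟨z, hz'⟩ : ℂ) * h.nu z = 1 := by
    intro z hz hz'
    have h1 := congrFun hβπ ⟨z, hz'⟩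
    have h2 : (η ∘ π₁') ⟨z, hz'⟩ = (η ∘ π₁') 1 := by
      show η (π₁' ⟨z, hz'⟩) = η (π₁' 1)
      congr 1
      apply Subtype.ext
      rw [hπ₁', hπ₁']
      show π₁ z = π₁ 1
      rw [MonoidHom.mem_ker.1 hz, map_one]
    rw [h2, hη1, Pi.mul_apply] at h1
    have h3 := (h.nu_spec hθ hz).2 1
    rw [mul_one] at h3
    have h4 : (β₀ ⟨z, hz'⟩ : ℂ) * π z = π 1 := h1
    rw [h3, ← mul_assoc] at h4
    have h5 : ((β₀ ⟨z, hz'⟩ : ℂ) * h.nu z - 1) * π 1 = 0 := by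
      rw [sub_mul, one_mul]
      exact sub_eq_zero.2 h4
    rcases mul_eq_zero.1 h5 with h6 | h6
    · exact sub_eq_zero.1 h6
    · exact absurd h6 hπ1ne
  refine ⟨MonoidHom.transfer β₀, fun n => ?_, fun z hz => ?_⟩
  · have h1 := transfer_eq_pow_of_key β₀ (ι n) 1 (by
      intro k g₀ hk
      have h2 := h.conj g₀⁻¹ (n ^ k)
      have h3 : (⟨g₀⁻¹ * ι n ^ k * g₀, hk⟩ : P.comap π₁)
          = ι' ⟨π₁ g₀⁻¹ * ((n ^ k : N) : G) * (π₁ g₀⁻¹)⁻¹,
              hN.conj_mem ((n ^ k : N) : G) (n ^ k).2 (π₁ g₀⁻¹)⟩ := by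
        apply Subtype.ext
        rw [hι', ← h2, map_pow]
        simp
      rw [h3, hβ₀ι, one_pow])
    rw [h1, one_pow]
  · have hz' : z ∈ P.comap π₁ := by
      show π₁ z ∈ P
      rw [MonoidHom.mem_ker.1 hz]
      exact P.one_mem
    have h1 := transfer_eq_pow_of_key β₀ z (β₀ ⟨z, hz'⟩) (by
      intro k g₀ hk
      have hzc : z ^ k ∈ Subgroup.center Γ := Subgroup.pow_mem _ (h.ker_le hz) k
      have h3 : (⟨g₀⁻¹ * z ^ k * g₀, hk⟩ : P.comap π₁) = ⟨z, hz'⟩ ^ k := by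
        apply Subtype.ext
        show g₀⁻¹ * z ^ k * g₀ = z ^ k
        rw [mul_assoc, ← Subgroup.mem_center_iff.1 hzc g₀, inv_mul_cancel_left]
      rw [h3, map_pow])
    rw [h1, Units.val_pow_eq_pow_val, zpow_natCast, ← mul_pow, hβ₀z z hz hz', one_pow]

/-- the degree of `θ` lies in the ideal if `det θ` extends to `G` -/
theorem deg_mem [Finite G] [Finite Γ] (h : IsCover N θ π₁ ι π) (hθ : Cfsg.IsIrrCharacter N θ)
    {d : ℕ} (hd : θ 1 = d) (μ₀ : G →* ℂˣ) (hμN : ∀ n : N, (μ₀ n : ℂ) = Cfsg.detChar θ n) :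
    ((d : ℕ) : ℤ) ∈ h.idealI hθ := by
  classical
  have hπc : Cfsg.IsCharacter Γ π := isCharacter_of_isIrrCharacter h.irr
  obtain ⟨Δ, hΔ⟩ := detChar_hom hπc
  have hΔι : ∀ n : N, Δ (ι n) = μ₀ n := by
    intro n
    apply Units.ext
    have h1 : (Δ (ι n) : ℂ) = Cfsg.detChar π (ι n) := by rw [hΔ]
    have h2 := congrFun (detChar_comp hπc ι) n
    have h3 : π ∘ ι = θ := funext h.ext
    rw [h3] at h2
    rw [h1, hμN, h2]
    rfl
  have hΔz : ∀ z ∈ π₁.ker, (Δ z : ℂ) = h.nu z ^ d := by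
    intro z hz
    have h1 : (Δ z : ℂ) = Cfsg.detChar π z := by rw [hΔ]
    obtain ⟨m, σ, hσ, hσπ⟩ := h.irr
    have : σ.IsIrreducible := hσ
    have hm : m = d := by
      have h2 := h.pi_one
      rw [← hσπ, Representation.char_one, Module.finrank_fin_fun, hd] at h2
      exact_mod_cast h2
    subst hm
    obtain ⟨c, hc⟩ := schur_scalar σ (σ z) (fun g => by
      show σ z * σ g = σ g * σ z
      rw [← map_mul, ← map_mul, Subgroup.mem_center_iff.1 (h.ker_le hz) g])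
    have hm0 : (m : ℂ) ≠ 0 := by
      have := h.pi_one_ne hθ
      rw [h.pi_one, hd] at this
      exact this
    have h3 : h.nu z = c := by
      show π z / π 1 = c
      rw [← hσπ, Representation.char_one, Module.finrank_fin_fun]
      unfold Representation.character
      rw [hc, map_smul, LinearMap.trace_id, Module.finrank_fin_fun, smul_eq_mul]
      field_simp
    rw [h1, h3, ← hσπ, detChar_eq, hc, LinearMap.det_smul, LinearMap.det_id, mul_one,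
      Module.finrank_fin_fun]
  refine ⟨Δ⁻¹ * μ₀.comp π₁, fun n => ?_, fun z hz => ?_⟩
  · rw [MonoidHom.mul_apply, MonoidHom.inv_apply, MonoidHom.comp_apply, h.sect, hΔι,
      inv_mul_cancel]
  · rw [MonoidHom.mul_apply, MonoidHom.inv_apply, MonoidHom.comp_apply,
      MonoidHom.mem_ker.1 hz, map_one, mul_one, Units.val_inv_eq_inv_val, hΔz z hz,
      zpow_natCast]
    exact inv_mul_cancel₀ (pow_ne_zero d (h.nu_spec hθ hz).1)

end IsCover

/-- Gallagher: an invariant `θ` with `θ(1)` prime to `[G:N]` extends to `G` if `det θ` does. -/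
theorem extends_of_det_ext {G : Type u} [Group G] [Finite G] (N : Subgroup G) [hN : N.Normal]
    {θ : N → ℂ} (hθ : Cfsg.IsIrrCharacter N θ)
    (hinv : ∀ (g : G) (n : N), θ ⟨g * n * g⁻¹, hN.conj_mem (n : G) n.2 g⟩ = θ n)
    {d : ℕ} (hd : θ 1 = d) (hcop : Nat.Coprime N.index d) (μ₀ : G →* ℂˣ)
    (hμN : ∀ n : N, (μ₀ n : ℂ) = Cfsg.detChar θ n) :
    ∃ χ : G → ℂ, Cfsg.IsIrrCharacter G χ ∧ ∀ n : N, χ n = θ n := by
  obtain ⟨Γ, instG, instF, π₁, ι, π, h⟩ := exists_isCover N hθ hinv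
  apply h.extends_of_one_mem hθ
  have h1 := h.index_mem hθ N le_rfl hθ (fun n => rfl)
  have h2 := h.deg_mem hθ hd μ₀ hμN
  have hbez := Nat.gcd_eq_gcd_ab N.index d
  rw [Nat.Coprime.gcd_eq_one hcop] at hbez
  have h3 : (1 : ℤ) = Nat.gcdA N.index d • (N.index : ℤ) + Nat.gcdB N.index d • (d : ℤ) := by
    rw [smul_eq_mul, smul_eq_mul]
    push_cast at hbez
    linarith
  rw [h3]
  exact (h.idealI hθ).add_mem ((h.idealI hθ).zsmul_mem h1 _) ((h.idealI hθ).zsmul_mem h2 _)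

end Cfsg.Agent.Lib.Helper2
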