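import Mathlib
import Cfsg.Prelude
import Cfsg.Agent.Lib.Helper2.CharCover3

set_option autoImplicit false

namespace Cfsg.Agent.Lib.Helper2

open Representation Module

/-- If `ϑ` extends to `G` and `ϑ(1)` is prime to `[G:N]`, then for each linear `μ₀` extending
`det ϑ` there is exactly one extension of `ϑ` with determinant `μ₀`. -/
theorem unique_ext_det {G : Type*} [Group G] [Finite G] (N : Subgroup G) [hN : N.Normal]
    {ϑ : N → ℂ} (hϑ : Cfsg.IsIrrCharacter N ϑ) {d : ℕ} (hd : ϑ 1 = d)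
    (hcop : Nat.Coprime N.index d) {η : G → ℂ} (hη : Cfsg.IsIrrCharacter G η)
    (hηN : ∀ n : N, η n = ϑ n) (μ₀ : G →* ℂˣ)
    (hμN : ∀ n : N, (μ₀ n : ℂ) = Cfsg.detChar ϑ n) :
    ∃ χ : G → ℂ, (Cfsg.IsIrrCharacter G χ ∧ (∀ n : N, χ n = ϑ n) ∧
        Cfsg.detChar χ = fun g => (μ₀ g : ℂ)) ∧
      ∀ χ' : G → ℂ, Cfsg.IsIrrCharacter G χ' → (∀ n : N, χ' n = ϑ n) →
        Cfsg.detChar χ' = (fun g => (μ₀ g : ℂ)) → χ' = χ := by
  classical
  have := Fintype.ofFinite G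
  have := Fintype.ofFinite N
  have hηc : Cfsg.IsCharacter G η := isCharacter_of_isIrrCharacter hη
  obtain ⟨δ₀, hδ₀⟩ := detChar_hom hηc
  have hη1 : η 1 = d := by
    have := hηN 1
    rw [Subgroup.coe_one] at this
    rw [this, hd]
  obtain ⟨m, hm0, hm⟩ := irr_apply_one hϑ
  have hd0 : (d : ℂ) ≠ 0 := by
    rw [← hd, hm]
    exact_mod_cast hm0.ne'
  have hδN : ∀ n : N, (δ₀ n : ℂ) = Cfsg.detChar ϑ n := by
    intro n
    have h1 : ϑ = fun x : N => η x := funext (fun x => (hηN x).symm)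
    rw [h1, detChar_restrict hηc N n, hδ₀]
  have hμδ : ∀ n : N, μ₀ n = δ₀ n := fun n => Units.ext (by rw [hμN, hδN])
  have htriv : ∀ β : G →* ℂˣ, (∀ n : N, β n = 1) → ∀ g : G, β g ^ N.index = 1 := by
    intro β hβ g
    rw [← map_pow]
    exact hβ ⟨g ^ N.index, N.pow_index_mem g⟩
  have hεk : ∀ g : G, (μ₀ g * (δ₀ g)⁻¹) ^ N.index = 1 := by
    intro g
    have := htriv (μ₀ * δ₀⁻¹) (fun n => by
      rw [MonoidHom.mul_apply, MonoidHom.inv_apply, hμδ, mul_inv_cancel]) g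
    rwa [MonoidHom.mul_apply, MonoidHom.inv_apply] at this
  have hbez := Nat.gcd_eq_gcd_ab N.index d
  rw [Nat.Coprime.gcd_eq_one hcop] at hbez
  set A := Nat.gcdA N.index d with hA
  set B := Nat.gcdB N.index d with hB
  let β : G →* ℂˣ :=
    { toFun := fun g => (μ₀ g * (δ₀ g)⁻¹) ^ B
      map_one' := by simp
      map_mul' := by
        intro a b
        rw [map_mul, map_mul, mul_inv, ← mul_zpow]
        congr 1
        rw [mul_mul_mul_comm] }
  have hβdef : ∀ g : G, β g = (μ₀ g * (δ₀ g)⁻¹) ^ B := fun g => rfl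
  have hβN : ∀ n : N, β n = 1 := by
    intro n
    rw [hβdef, hμδ, mul_inv_cancel, one_zpow]
  have hβd : ∀ g : G, β g ^ d = μ₀ g * (δ₀ g)⁻¹ := by
    intro g
    have e2 : B * (d : ℤ) = 1 - (N.index : ℤ) * A := by
      have : ((1 : ℕ) : ℤ) = (N.index : ℤ) * A + (d : ℤ) * B := hbez
      push_cast at this
      linarith
    have e3 : (μ₀ g * (δ₀ g)⁻¹) ^ (N.index : ℤ) = 1 := by
      rw [zpow_natCast, hεk]
    rw [hβdef, ← zpow_natCast, ← zpow_mul, e2, zpow_sub, zpow_one, zpow_mul, e3, one_zpow]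
    simp
  have hβk : ∀ g : G, β g ^ N.index = 1 := htriv β hβN
  refine ⟨(fun g => (β g : ℂ)) * η, ⟨isIrrCharacter_hom_mul β hη, fun n => ?_, ?_⟩, ?_⟩
  · rw [Pi.mul_apply, hβN, hηN]
    simp
  · funext g
    rw [detChar_hom_mul β hηc hη1 g, hδ₀, ← Units.val_pow_eq_pow_val, hβd]
    simp
  · intro χ' hχ' hχ'N hdet
    have hnorm : N.subtype.range.Normal := by
      rw [Subgroup.range_subtype]
      exact hN
    have hcon : Cfsg.classInner (fun n : N => χ' (N.subtype n)) ϑ ≠ 0 := by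
      have : (fun n : N => χ' (N.subtype n)) = ϑ := funext hχ'N
      rw [this, classInner_irr_self hϑ]
      exact one_ne_zero
    obtain ⟨β', hβ', hβ'N, hβ'η⟩ := gallagher_cover N.subtype Subtype.val_injective hnorm hϑ hη
      hηN hχ' hcon
    have hχ'1 : χ' 1 = d := by
      have := hχ'N 1
      rw [Subgroup.coe_one] at this
      rw [this, hd]
    have hβ'1 : β' 1 = 1 := by
      have h1 := congrFun hβ'η 1
      rw [Pi.mul_apply, hη1, hχ'1] at h1
      have h2 : (β' 1 - 1) * (d : ℂ) = 0 := by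
        rw [sub_mul, one_mul]
        exact sub_eq_zero.2 h1
      rcases mul_eq_zero.1 h2 with h3 | h3
      · exact sub_eq_zero.1 h3
      · exact absurd h3 hd0
    obtain ⟨β'₀, rfl⟩ := hom_of_irr_deg_one hβ' hβ'1
    have hβ'₀N : ∀ n : N, β'₀ n = 1 := by
      intro n
      apply Units.ext
      exact (hβ'N n).trans (by simp)
    have hβ'k : ∀ g : G, β'₀ g ^ N.index = 1 := htriv β'₀ hβ'₀N
    have hβ'd : ∀ g : G, β'₀ g ^ d = μ₀ g * (δ₀ g)⁻¹ := by
      intro g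
      have h1 := detChar_hom_mul β'₀ hηc hη1 g
      rw [hβ'η, hdet, hδ₀] at h1
      have h1' : (μ₀ g : ℂ) = (β'₀ g : ℂ) ^ d * (δ₀ g : ℂ) := h1
      apply Units.ext
      rw [Units.val_pow_eq_pow_val, Units.val_mul, Units.val_inv_eq_inv_val, h1']
      have : (δ₀ g : ℂ) ≠ 0 := Units.ne_zero _
      field_simp
    have heq : ∀ g : G, β'₀ g = β g := by
      intro g
      have h1 : (β'₀ g * (β g)⁻¹) ^ d = 1 := by
        rw [mul_pow, inv_pow, hβ'd, hβd, mul_inv_cancel]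
      have h2 : (β'₀ g * (β g)⁻¹) ^ N.index = 1 := by
        rw [mul_pow, inv_pow, hβ'k, hβk, inv_one, mul_one]
      have hd1 : orderOf (β'₀ g * (β g)⁻¹) ∣ N.index := orderOf_dvd_of_pow_eq_one h2
      have hd2 : orderOf (β'₀ g * (β g)⁻¹) ∣ d := orderOf_dvd_of_pow_eq_one h1
      have h3 : orderOf (β'₀ g * (β g)⁻¹) = 1 := Nat.eq_one_of_dvd_coprimes hcop hd1 hd2
      rw [orderOf_eq_one_iff, mul_inv_eq_one] at h3
      exact h3
    rw [← hβ'η]
    funext g
    rw [Pi.mul_apply, Pi.mul_apply, heq]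

universe u

/-- If `[G:N]` is prime to `o(ϑ)ϑ(1)`, the invariant character `ϑ` has a unique extension
with determinantal order prime to `[G:N]`, and that order is `o(ϑ)`. -/
theorem unique_ext_coprime {G : Type u} [Group G] [Finite G] (N : Subgroup G) [hN : N.Normal]
    {ϑ : N → ℂ} (hϑ : Cfsg.IsIrrCharacter N ϑ)
    (hinv : ∀ (g : G) (n : N), ϑ ⟨g * n * g⁻¹, hN.conj_mem (n : G) n.2 g⟩ = ϑ n)
    {d : ℕ} (hd : ϑ 1 = d) (hcop : Nat.Coprime N.index (Cfsg.detOrder ϑ * d)) :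
    ∃ χ : G → ℂ, (Cfsg.IsIrrCharacter G χ ∧ (∀ n : N, χ n = ϑ n) ∧
        Cfsg.detOrder χ = Cfsg.detOrder ϑ) ∧
      ∀ χ' : G → ℂ, Cfsg.IsIrrCharacter G χ' → (∀ n : N, χ' n = ϑ n) →
        Nat.Coprime N.index (Cfsg.detOrder χ') → χ' = χ := by
  classical
  have hϑc : Cfsg.IsCharacter N ϑ := isCharacter_of_isIrrCharacter hϑ
  obtain ⟨lam, hlam⟩ := detChar_hom hϑc
  have hcop1 : Nat.Coprime N.index (Cfsg.detOrder ϑ) := Nat.Coprime.coprime_mul_right_right hcop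
  have hcop2 : Nat.Coprime N.index d := Nat.Coprime.coprime_mul_left_right hcop
  have hord0 : Cfsg.detOrder ϑ = orderOf lam := by
    unfold Cfsg.detOrder
    rw [hlam, orderOf_coe_hom]
  have hlaminv : ∀ (g : G) (n : N), lam ⟨g * n * g⁻¹, hN.conj_mem (n : G) n.2 g⟩ = lam n := by
    intro g n
    apply Units.ext
    have h1 := congrFun (detChar_comp hϑc (MulAut.conjNormal g : MulAut N).toMonoidHom) n
    have h2 : ϑ ∘ ((MulAut.conjNormal g : MulAut N).toMonoidHom) = ϑ := by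
      funext x
      exact hinv g x
    rw [h2, hlam] at h1
    exact h1.symm
  rw [hord0] at hcop1
  obtain ⟨μ₀, hμN, hord, huniq⟩ := hom_unique_ext N lam hlaminv hcop1
  have hμN' : ∀ n : N, (μ₀ n : ℂ) = Cfsg.detChar ϑ n := by
    intro n
    rw [hμN n, hlam]
  obtain ⟨η, hη, hηN⟩ := extends_of_det_ext N hϑ hinv hd hcop2 μ₀ hμN'
  obtain ⟨χ, ⟨hχ, hχN, hχdet⟩, hχuniq⟩ := unique_ext_det N hϑ hd hcop2 hη hηN μ₀ hμN'
  refine ⟨χ, ⟨hχ, hχN, ?_⟩, ?_⟩
  · rw [hord0, ← hord]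
    unfold Cfsg.detOrder
    rw [hχdet, orderOf_coe_hom]
  · intro χ' hχ' hχ'N hc'
    have hχ'c := isCharacter_of_isIrrCharacter hχ'
    obtain ⟨δ', hδ'⟩ := detChar_hom hχ'c
    have hδ'N : ∀ n : N, δ' n = lam n := by
      intro n
      apply Units.ext
      have h1 : ϑ = fun x : N => χ' x := funext (fun x => (hχ'N x).symm)
      have h2 := detChar_restrict hχ'c N n
      rw [← h1, hlam, hδ'] at h2
      exact h2.symm
    have hc'' : Nat.Coprime N.index (orderOf δ') := by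
      unfold Cfsg.detOrder at hc'
      rw [hδ', orderOf_coe_hom] at hc'
      exact hc'
    have := huniq δ' hδ'N hc''
    exact hχuniq χ' hχ' hχ'N (by rw [hδ', this])

end Cfsg.Agent.Lib.Helper2
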