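import Mathlib
import Cfsg.Prelude

set_option autoImplicit false

namespace Cfsg.Agent.Lib.Helper2

section relm

variable {G : Type*} [Group G]

/-- an abelian chief factor from solvability of the quotient -/
theorem comm_le_of_chief (L K : Subgroup G) [hL : L.Normal] [hK : K.Normal] (hLK : L < K)
    (hchief : ∀ M : Subgroup G, M.Normal → L ≤ M → M ≤ K → M = L ∨ M = K)
    (hsolv : Group.IsSolvable (G ⧸ L)) : ⁅K, K⁆ ≤ L := by
  have hcn : (⁅K, K⁆ : Subgroup G).Normal := inferInstance
  have hMn : (⁅K, K⁆ ⊔ L).Normal := inferInstance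
  have hMK : ⁅K, K⁆ ⊔ L ≤ K := sup_le (Subgroup.commutator_le_right K K) hLK.le
  rcases hchief _ hMn le_sup_right hMK with h | h
  · rw [← h]; exact le_sup_left
  · exfalso
    have h1 : (⁅K, K⁆).map (QuotientGroup.mk' L) = K.map (QuotientGroup.mk' L) := by
      conv_rhs => rw [← h]
      rw [Subgroup.map_sup, QuotientGroup.map_mk'_self, sup_bot_eq]
    rw [Subgroup.map_commutator] at h1
    have h2 : K.map (QuotientGroup.mk' L) ≠ ⊥ := by
      intro h0
      rw [Subgroup.map_eq_bot_iff, QuotientGroup.ker_mk'] at h0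
      exact (not_le_of_gt hLK) h0
    exact (Group.IsSolvable.commutator_lt_of_ne_bot h2).ne h1

/-- the quotient of a subgroup by the intersection with a normal subgroup with solvable
quotient is solvable -/
theorem solvable_subquot (N T : Subgroup G) [N.Normal] (h : Group.IsSolvable (G ⧸ N)) :
    Group.IsSolvable (T ⧸ N.subgroupOf T) := by
  let f : T ⧸ N.subgroupOf T →* G ⧸ N :=
    QuotientGroup.map (N.subgroupOf T) N T.subtype (fun x hx => hx)
  apply Group.isSolvable_of_isSolvable_injective (f := f)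
  rw [injective_iff_map_eq_one]
  intro x hx
  induction x using QuotientGroup.induction_on with
  | H x =>
    have hx' : ((T.subtype x : G) : G ⧸ N) = 1 := hx
    rw [QuotientGroup.eq_one_iff] at hx' ⊢
    exact hx'

/-- a quotient by a larger normal subgroup is solvable -/
theorem solvable_quot_of_le (N L : Subgroup G) [N.Normal] [L.Normal] (hNL : N ≤ L)
    (h : Group.IsSolvable (G ⧸ N)) : Group.IsSolvable (G ⧸ L) := by
  let f : G ⧸ N →* G ⧸ L := QuotientGroup.map N L (MonoidHom.id G) (fun x hx => hNL hx)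
  apply Group.isSolvable_of_surjective (f := f)
  intro y
  induction y using QuotientGroup.induction_on with
  | H y => exact ⟨QuotientGroup.mk y, rfl⟩

/-- the non-square chief factor hypothesis passes to subgroups containing `N` -/
theorem chief_transport (N T : Subgroup G) (hNT : N ≤ T)
    (hchief : ∀ (H K L : Subgroup G), N ≤ L → L < K → K ≤ H →
      (∀ h ∈ H, ∀ k ∈ K, h * k * h⁻¹ ∈ K) → (∀ h ∈ H, ∀ l ∈ L, h * l * h⁻¹ ∈ L) →
      (∀ M : Subgroup G, L ≤ M → M ≤ K → (∀ h ∈ H, ∀ m ∈ M, h * m * h⁻¹ ∈ M) → M = L ∨ M = K) →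
      ¬ IsSquare (L.relIndex K)) :
    ∀ (H K L : Subgroup T), N.subgroupOf T ≤ L → L < K → K ≤ H →
      (∀ h ∈ H, ∀ k ∈ K, h * k * h⁻¹ ∈ K) → (∀ h ∈ H, ∀ l ∈ L, h * l * h⁻¹ ∈ L) →
      (∀ M : Subgroup T, L ≤ M → M ≤ K → (∀ h ∈ H, ∀ m ∈ M, h * m * h⁻¹ ∈ M) → M = L ∨ M = K) →
      ¬ IsSquare (L.relIndex K) := by
  intro H K L hNL hLK hKH hK hL hM
  have hinj := T.subtype_injective
  have key := hchief (H.map T.subtype) (K.map T.subtype) (L.map T.subtype) ?_
    ((Subgroup.map_lt_map_iff_of_injective hinj).mpr hLK) (Subgroup.map_mono hKH) ?_ ?_ ?_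
  · rwa [Subgroup.relIndex_map_map_of_injective _ _ hinj] at key
  · intro x hx
    exact ⟨⟨x, hNT hx⟩, hNL (Subgroup.mem_subgroupOf.mpr hx), rfl⟩
  · rintro _ ⟨h, hh, rfl⟩ _ ⟨k, hk, rfl⟩
    exact ⟨h * k * h⁻¹, hK h hh k hk, by simp⟩
  · rintro _ ⟨h, hh, rfl⟩ _ ⟨k, hk, rfl⟩
    exact ⟨h * k * h⁻¹, hL h hh k hk, by simp⟩
  · intro M hLM hMK hMinv
    have h1 := hM (M.comap T.subtype) (Subgroup.map_le_iff_le_comap.mp hLM)
      (by
        intro x hx
        obtain ⟨k, hk, hkx⟩ := hMK (Subgroup.mem_comap.mp hx)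
        have : k = x := Subtype.ext hkx
        rwa [← this])
      (by
        intro h hh m hm
        rw [Subgroup.mem_comap] at hm ⊢
        have := hMinv (T.subtype h) ⟨h, hh, rfl⟩ _ hm
        simpa using this)
    have h2 : (M.comap T.subtype).map T.subtype = M := by
      apply Subgroup.map_comap_eq_self
      rw [Subgroup.range_subtype]
      intro x hx
      obtain ⟨k, -, rfl⟩ := hMK hx
      exact k.2
    rcases h1 with h | h
    · left; rw [← h2, h]
    · right; rw [← h2, h]

end relm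

end Cfsg.Agent.Lib.Helper2
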