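import Mathlib
import Cfsg.Prelude
import Cfsg.Agent.Lib.Helper2.RelMTools
import Cfsg.Agent.Lib.Helper6.PSolv
import Cfsg.Agent.S4227

set_option autoImplicit false

namespace Cfsg.Agent.Lib.Helper2

open scoped commutatorElement

variable {G : Type*} [Group G]

/-- a subgroup normalised by two subgroups generating the group is normal -/
theorem normal_of_conj_mem_of_sup (A B X : Subgroup G) (h : A ⊔ B = ⊤)
    (hA : ∀ a ∈ A, ∀ x ∈ X, a * x * a⁻¹ ∈ X) (hB : ∀ b ∈ B, ∀ x ∈ X, b * x * b⁻¹ ∈ X) :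
    X.Normal := by
  have key : ∀ (C : Subgroup G), (∀ c ∈ C, ∀ x ∈ X, c * x * c⁻¹ ∈ X) → C ≤ Subgroup.normalizer (X : Set G) := by
    intro C hC c hc
    rw [Subgroup.mem_normalizer_iff]
    intro x
    constructor
    · exact hC c hc x
    · intro hx
      have := hC c⁻¹ (C.inv_mem hc) _ hx
      simpa [mul_assoc] using this
  have h1 : (⊤ : Subgroup G) ≤ Subgroup.normalizer (X : Set G) := by
    rw [← h]
    exact sup_le (key A hA) (key B hB)
  exact Subgroup.normalizer_eq_top_iff.mp (top_le_iff.mp h1)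

/-- a minimal normal subgroup above a proper normal subgroup -/
theorem exists_min_above [Finite G] (L : Subgroup G) (hL : L ≠ ⊤) :
    ∃ M : Subgroup G, M.Normal ∧ L < M ∧
      ∀ C : Subgroup G, C.Normal → L < C → C ≤ M → C = M := by
  let S : Set (Subgroup G) := {M | M.Normal ∧ L < M}
  have hS : S.Nonempty := ⟨⊤, inferInstance, lt_top_iff_ne_top.mpr hL⟩
  obtain ⟨M, hM, hmin⟩ :=
    WellFounded.has_min (measure (fun M : Subgroup G => Nat.card M)).wf S hS
  refine ⟨M, hM.1, hM.2, ?_⟩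
  intro C hC hLC hCM
  have h1 : ¬ Nat.card C < Nat.card M := hmin C ⟨hC, hLC⟩
  exact Subgroup.eq_of_le_of_card_ge hCM (not_lt.mp h1)

/-- the order of the image in the quotient is the relative index -/
theorem card_map_mk_eq_relIndex (L K : Subgroup G) [L.Normal] :
    Nat.card (K.map (QuotientGroup.mk' L)) = L.relIndex K := by
  have h1 : L = (⊥ : Subgroup (G ⧸ L)).comap (QuotientGroup.mk' L) := by
    rw [MonoidHom.comap_bot, QuotientGroup.ker_mk']
  conv_rhs => rw [h1]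
  rw [Subgroup.relIndex_comap, Subgroup.relIndex_bot_left]

/-- a minimal normal subgroup above `L` with `G/L` solvable is abelian of prime power index -/
theorem chief_pow [Finite G] (L M : Subgroup G) [hL : L.Normal] [hM : M.Normal] (hLM : L < M)
    (hmin : ∀ C : Subgroup G, C.Normal → L < C → C ≤ M → C = M)
    (hsolv : Group.IsSolvable (G ⧸ L)) :
    ⁅M, M⁆ ≤ L ∧ ∃ p k : ℕ, p.Prime ∧ 0 < k ∧ L.relIndex M = p ^ k := by
  have hab : ⁅M, M⁆ ≤ L := by
    apply comm_le_of_chief L M hLM _ hsolv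
    intro C hC hLC hCM
    rcases eq_or_lt_of_le hLC with h | h
    · exact Or.inl h.symm
    · exact Or.inr (hmin C hC h hCM)
  refine ⟨hab, ?_⟩
  have hne1 : L.relIndex M ≠ 1 := by
    intro h1
    rw [Subgroup.relIndex_eq_one] at h1
    exact (not_le_of_gt hLM) h1
  obtain ⟨p, hp, hpd⟩ := Nat.exists_prime_and_dvd hne1
  haveI : Fact p.Prime := ⟨hp⟩
  -- the quotient `M / L`
  have hcomm : ∀ x ∈ M, ∀ y ∈ M,
      (QuotientGroup.mk x : G ⧸ L) * QuotientGroup.mk y = QuotientGroup.mk y * QuotientGroup.mk x := by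
    intro x hx y hy
    have h1 : ⁅x, y⁆ ∈ L := hab (Subgroup.commutator_mem_commutator hx hy)
    have h2 : (QuotientGroup.mk ⁅x, y⁆ : G ⧸ L) = 1 := (QuotientGroup.eq_one_iff _).mpr h1
    rw [commutatorElement_def] at h2
    have h3 : (QuotientGroup.mk x : G ⧸ L) * QuotientGroup.mk y * (QuotientGroup.mk x)⁻¹
        * (QuotientGroup.mk y)⁻¹ = 1 := by
      rw [← h2]; rfl
    rw [mul_inv_eq_one, mul_inv_eq_iff_eq_mul] at h3
    exact h3
  let P : Subgroup G :=
    { carrier := {x | x ∈ M ∧ x ^ p ∈ L}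
      one_mem' := ⟨M.one_mem, by rw [one_pow]; exact L.one_mem⟩
      mul_mem' := by
        rintro x y ⟨hx, hxp⟩ ⟨hy, hyp⟩
        refine ⟨M.mul_mem hx hy, ?_⟩
        rw [← QuotientGroup.eq_one_iff]
        have h1 : (QuotientGroup.mk ((x * y) ^ p) : G ⧸ L)
            = (QuotientGroup.mk x) ^ p * (QuotientGroup.mk y) ^ p := by
          rw [QuotientGroup.mk_pow, QuotientGroup.mk_mul]
          exact (show Commute (QuotientGroup.mk x : G ⧸ L) (QuotientGroup.mk y) from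
            hcomm x hx y hy).mul_pow p
        rw [h1, ← QuotientGroup.mk_pow, ← QuotientGroup.mk_pow,
          (QuotientGroup.eq_one_iff _).mpr hxp, (QuotientGroup.eq_one_iff _).mpr hyp, one_mul]
      inv_mem' := by
        rintro x ⟨hx, hxp⟩
        refine ⟨M.inv_mem hx, ?_⟩
        rw [inv_pow]
        exact L.inv_mem hxp }
  have hPn : P.Normal := by
    constructor
    rintro x ⟨hx, hxp⟩ g
    refine ⟨hM.conj_mem x hx g, ?_⟩
    rw [conj_pow]
    exact hL.conj_mem _ hxp g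
  have hPM : P ≤ M := fun x hx => hx.1
  have hLP : L ≤ P := fun x hx => ⟨hLM.le hx, L.pow_mem hx p⟩
  -- Cauchy in the quotient of `M` by `L`
  have hcard : Nat.card (M ⧸ L.subgroupOf M) = L.relIndex M := rfl
  obtain ⟨y, hy⟩ := exists_prime_orderOf_dvd_card' p (G := M ⧸ L.subgroupOf M)
    (by rw [hcard]; exact hpd)
  obtain ⟨x, hxy⟩ := QuotientGroup.mk_surjective y
  rw [← hxy] at hy
  have hxp : ((x : M) : G) ^ p ∈ L := by
    have h1 : (QuotientGroup.mk x : M ⧸ L.subgroupOf M) ^ p = 1 := by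
      rw [← hy]; exact pow_orderOf_eq_one _
    rw [← QuotientGroup.mk_pow, QuotientGroup.eq_one_iff, Subgroup.mem_subgroupOf] at h1
    exact h1
  have hxL : ((x : M) : G) ∉ L := by
    intro hx
    have h1 : (QuotientGroup.mk x : M ⧸ L.subgroupOf M) = 1 := by
      rw [QuotientGroup.eq_one_iff, Subgroup.mem_subgroupOf]
      exact hx
    rw [h1, orderOf_one] at hy
    exact hp.one_lt.ne hy
  have hLP' : L < P := by
    refine lt_of_le_of_ne hLP ?_
    intro h
    exact hxL (h ▸ (show ((x : M) : G) ∈ P from ⟨x.2, hxp⟩))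
  have hPeq : P = M := hmin P hPn hLP' hPM
  have hpg : IsPGroup p (M ⧸ L.subgroupOf M) := by
    intro y
    obtain ⟨x, rfl⟩ := QuotientGroup.mk_surjective y
    refine ⟨1, ?_⟩
    rw [pow_one, ← QuotientGroup.mk_pow, QuotientGroup.eq_one_iff, Subgroup.mem_subgroupOf]
    have : ((x : M) : G) ∈ P := by rw [hPeq]; exact x.2
    exact this.2
  obtain ⟨k, hk⟩ := IsPGroup.iff_card.mp hpg
  rw [hcard] at hk
  refine ⟨p, k, hp, ?_, hk⟩
  rcases Nat.eq_zero_or_pos k with h0 | h0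
  · rw [h0, pow_zero] at hk
    exact absurd hk hne1
  · exact h0

/-- a maximal subgroup and a minimal normal subgroup above its core -/
theorem coatom_sup_inf (L M H : Subgroup G) [L.Normal] [hM : M.Normal] (hLM : L < M)
    (hLH : L ≤ H) (hH : IsCoatom H)
    (hcore : ∀ C : Subgroup G, C.Normal → C ≤ H → C ≤ L) (hab : ⁅M, M⁆ ≤ L) :
    M ⊔ H = ⊤ ∧ M ⊓ H = L := by
  have hMH : ¬ M ≤ H := fun h => (not_le_of_gt hLM) (hcore M hM h)
  have hsup : M ⊔ H = ⊤ := by
    apply hH.2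
    refine lt_of_le_of_ne le_sup_right ?_
    intro h
    apply hMH
    rw [h]
    exact le_sup_left
  refine ⟨hsup, le_antisymm ?_ (le_inf hLM.le hLH)⟩
  apply hcore
  · apply normal_of_conj_mem_of_sup M H _ hsup
    · intro m hm x hx
      refine ⟨hM.conj_mem x hx.1 m, ?_⟩
      have h1 : m * x * m⁻¹ = ⁅m, x⁆ * x := by
        rw [commutatorElement_def]; group
      rw [h1]
      exact H.mul_mem (hLH (hab (Subgroup.commutator_mem_commutator hm hx.1))) hx.2
    · intro h hh x hx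
      exact ⟨hM.conj_mem x hx.1 h, H.mul_mem (H.mul_mem hh hx.2) (H.inv_mem hh)⟩
  · exact inf_le_right

universe u

/-- above a normal subgroup `L` with solvable quotient and properly contained in `H`, there is a
subgroup `K ≤ H` normalised by `H` with `K / L` a nontrivial `p`-group or `p'`-group -/
theorem exists_normal_sub_p_or_p' {G : Type u} [Group G] [Finite G] (p : ℕ) (hp : p.Prime)
    (L H : Subgroup G) [hL : L.Normal] (hLH : L < H)
    (hsolv : Group.IsSolvable (G ⧸ L)) :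
    ∃ K : Subgroup G, L < K ∧ K ≤ H ∧ (∀ h ∈ H, ∀ k ∈ K, h * k * h⁻¹ ∈ K) ∧
      ((∃ j : ℕ, L.relIndex K = p ^ j) ∨ (L.relIndex K).Coprime p) := by
  classical
  haveI : Fact p.Prime := ⟨hp⟩
  let Hb : Subgroup (G ⧸ L) := H.map (QuotientGroup.mk' L)
  have hsolH : Group.IsSolvable Hb := inferInstance
  have hps : Cfsg.IsPSolvable p Hb :=
    Cfsg.Agent.S4227.psolv_of_solv p hp (Nat.card Hb) Hb hsolH rfl
  obtain ⟨h₀, hh₀H, hh₀L⟩ := SetLike.exists_of_lt hLH
  have htop : (⊤ : Subgroup Hb) ≠ ⊥ := by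
    intro h
    have h1 : (⟨QuotientGroup.mk' L h₀, Subgroup.mem_map_of_mem _ hh₀H⟩ : Hb) ∈ (⊤ : Subgroup Hb) :=
      Subgroup.mem_top _
    rw [h, Subgroup.mem_bot] at h1
    have h2 := congrArg Subtype.val h1
    simp only [QuotientGroup.mk'_apply, OneMemClass.coe_one] at h2
    exact hh₀L ((QuotientGroup.eq_one_iff _).mp h2)
  obtain ⟨M₀, -, hM₀n, hM₀ne, hM₀p⟩ :=
    Cfsg.Agent.Lib.Helper6.exists_normal_p_or_p' hp hps ⊤ htop
  let A : Subgroup (G ⧸ L) := M₀.map Hb.subtype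
  let K : Subgroup G := A.comap (QuotientGroup.mk' L)
  have hLK : L ≤ K := by
    intro l hl
    show QuotientGroup.mk' L l ∈ A
    have : QuotientGroup.mk' L l = 1 := (QuotientGroup.eq_one_iff _).mpr hl
    rw [this]
    exact A.one_mem
  have hAH : A ≤ Hb := by
    rintro _ ⟨y, -, rfl⟩
    exact y.2
  have hKH : K ≤ H := by
    intro x hx
    have h1 : QuotientGroup.mk' L x ∈ Hb := hAH hx
    obtain ⟨h, hh, hhx⟩ := h1
    have h2 : h⁻¹ * x ∈ L := by
      rw [← QuotientGroup.eq_one_iff, QuotientGroup.mk_mul, QuotientGroup.mk_inv]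
      have : (QuotientGroup.mk h : G ⧸ L) = QuotientGroup.mk x := hhx
      rw [this, inv_mul_cancel]
    have h3 : x = h * (h⁻¹ * x) := by group
    rw [h3]
    exact H.mul_mem hh (hLH.le h2)
  have hcardA : Nat.card A = Nat.card M₀ :=
    Nat.card_congr (Subgroup.equivMapOfInjective M₀ Hb.subtype Hb.subtype_injective).symm.toEquiv
  have hrel : L.relIndex K = Nat.card M₀ := by
    rw [← card_map_mk_eq_relIndex, ← hcardA]
    show Nat.card ((A.comap (QuotientGroup.mk' L)).map (QuotientGroup.mk' L)) = Nat.card A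
    rw [Subgroup.map_comap_eq_self_of_surjective (QuotientGroup.mk'_surjective L)]
  have hne : L ≠ K := by
    intro h
    have h1 : L.relIndex K = 1 := by
      rw [Subgroup.relIndex_eq_one]; exact h.symm.le
    rw [hrel] at h1
    have h2 : 1 < Nat.card M₀ := (Subgroup.one_lt_card_iff_ne_bot M₀).mpr hM₀ne
    omega
  refine ⟨K, lt_of_le_of_ne hLK hne, hKH, ?_, ?_⟩
  · intro h hh k hk
    show QuotientGroup.mk' L (h * k * h⁻¹) ∈ A
    obtain ⟨y, hy, hyk⟩ := hk
    let hb : Hb := ⟨QuotientGroup.mk' L h, Subgroup.mem_map_of_mem _ hh⟩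
    refine ⟨hb * y * hb⁻¹, hM₀n.conj_mem y hy hb, ?_⟩
    rw [map_mul, map_mul, map_inv, map_mul, map_mul, map_inv, hyk]
    rfl
  · rw [hrel]
    rcases hM₀p with h | h
    · exact Or.inl (IsPGroup.iff_card.mp h)
    · exact Or.inr h

/-- the `p`-case: a subgroup `K ≤ H` over `L`, normalised by `H`, with `K / L` a `p`-group
is normalised by the chief `p`-factor `M / L` -/
theorem normalizes_of_p_case [Finite G] (p : ℕ) [hp : Fact p.Prime] (L M H K : Subgroup G)
    [hL : L.Normal] [hM : M.Normal] (hLM : L < M)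
    (hmin : ∀ C : Subgroup G, C.Normal → L < C → C ≤ M → C = M) (hab : ⁅M, M⁆ ≤ L)
    (hsup : M ⊔ H = ⊤) (hLK : L ≤ K) (hHK : ∀ h ∈ H, ∀ k ∈ K, h * k * h⁻¹ ∈ K)
    (hKp : ∃ j : ℕ, L.relIndex K = p ^ j) (hMp : ∃ k : ℕ, 0 < k ∧ L.relIndex M = p ^ k) :
    ∀ m ∈ M, ∀ k ∈ K, m * k * m⁻¹ ∈ K := by
  classical
  obtain ⟨j, hj⟩ := hKp
  obtain ⟨k, hk0, hk⟩ := hMp
  let mk : G →* G ⧸ L := QuotientGroup.mk' L
  let Mb : Subgroup (G ⧸ L) := M.map mk
  let Kb : Subgroup (G ⧸ L) := K.map mk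
  have hcomm : ∀ x ∈ M, ∀ y ∈ M, mk x * mk y = mk y * mk x := by
    intro x hx y hy
    have h1 : ⁅x, y⁆ ∈ L := hab (Subgroup.commutator_mem_commutator hx hy)
    have h2 : mk ⁅x, y⁆ = 1 := (QuotientGroup.eq_one_iff _).mpr h1
    rw [commutatorElement_def, map_mul, map_mul, map_mul, map_inv, map_inv] at h2
    rw [mul_inv_eq_one, mul_inv_eq_iff_eq_mul] at h2
    exact h2
  let C₀ : Subgroup G := M ⊓ (Subgroup.centralizer (Kb : Set (G ⧸ L))).comap mk
  have hC₀mem : ∀ x : G, x ∈ C₀ ↔ x ∈ M ∧ ∀ b ∈ Kb, b * mk x = mk x * b := by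
    intro x
    show x ∈ M ∧ mk x ∈ Subgroup.centralizer (Kb : Set (G ⧸ L)) ↔ _
    rw [Subgroup.mem_centralizer_iff]
    rfl
  have hC₀n : C₀.Normal := by
    apply normal_of_conj_mem_of_sup M H C₀ hsup
    · intro m hm x hx
      rw [hC₀mem] at hx ⊢
      refine ⟨hM.conj_mem x hx.1 m, ?_⟩
      have e : mk (m * x * m⁻¹) = mk x := by
        rw [map_mul, map_mul, map_inv, hcomm m hm x hx.1, mul_inv_cancel_right]
      rw [e]
      exact hx.2
    · intro h hh x hx
      rw [hC₀mem] at hx ⊢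
      refine ⟨hM.conj_mem x hx.1 h, ?_⟩
      rintro b ⟨y, hy, rfl⟩
      have h1 : h⁻¹ * y * h ∈ K := by
        have := hHK h⁻¹ (H.inv_mem hh) y hy
        rwa [inv_inv] at this
      have h2 := hx.2 (mk (h⁻¹ * y * h)) (Subgroup.mem_map_of_mem mk h1)
      have e1 : mk y * mk (h * x * h⁻¹) = mk h * (mk (h⁻¹ * y * h) * mk x) * (mk h)⁻¹ := by
        simp only [map_mul, map_inv]
        group
      have e2 : mk (h * x * h⁻¹) * mk y = mk h * (mk x * mk (h⁻¹ * y * h)) * (mk h)⁻¹ := by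
        simp only [map_mul, map_inv]
        group
      rw [e1, e2, h2]
  have hC₀M : C₀ ≤ M := inf_le_left
  have hLC₀ : L ≤ C₀ := by
    intro l hl
    rw [hC₀mem]
    refine ⟨hLM.le hl, ?_⟩
    intro b _
    have : mk l = 1 := (QuotientGroup.eq_one_iff _).mpr hl
    rw [this, mul_one, one_mul]
  -- a nontrivial fixed point
  haveI hMbn : Mb.Normal := hM.map mk (QuotientGroup.mk'_surjective L)
  let φ : Kb →* MulAut Mb := (MulAut.conjNormal (H := Mb)).comp Kb.subtype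
  letI : MulAction Kb Mb := MulAction.compHom Mb φ
  have hKbp : IsPGroup p Kb := IsPGroup.of_card (n := j) (by
    show Nat.card (K.map (QuotientGroup.mk' L)) = p ^ j
    rw [card_map_mk_eq_relIndex]; exact hj)
  have hfix := hKbp.card_modEq_card_fixedPoints Mb
  have hMbcard : Nat.card Mb = p ^ k := by
    show Nat.card (M.map (QuotientGroup.mk' L)) = p ^ k
    rw [card_map_mk_eq_relIndex]; exact hk
  have hdvd : p ∣ Nat.card (MulAction.fixedPoints Kb Mb) := by
    rw [hMbcard] at hfix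
    have h1 : p ^ k % p = 0 := Nat.mod_eq_zero_of_dvd (dvd_pow_self p hk0.ne')
    unfold Nat.ModEq at hfix
    rw [h1] at hfix
    exact Nat.dvd_of_mod_eq_zero hfix.symm
  have hone : (1 : Mb) ∈ MulAction.fixedPoints Kb Mb := by
    intro g
    show φ g 1 = 1
    exact map_one _
  have hex : ∃ y ∈ MulAction.fixedPoints Kb Mb, y ≠ 1 := by
    by_contra hcon
    push_neg at hcon
    have hsub : Subsingleton (MulAction.fixedPoints Kb Mb) :=
      ⟨fun a b => Subtype.ext (by rw [hcon a a.2, hcon b b.2])⟩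
    have h1 : Nat.card (MulAction.fixedPoints Kb Mb) ≤ 1 :=
      Finite.card_le_one_iff_subsingleton.mpr hsub
    haveI : Nonempty (MulAction.fixedPoints Kb Mb) := ⟨⟨1, hone⟩⟩
    have h2 : 0 < Nat.card (MulAction.fixedPoints Kb Mb) := Nat.card_pos
    have h3 : Nat.card (MulAction.fixedPoints Kb Mb) = 1 := by omega
    rw [h3] at hdvd
    exact hp.out.one_lt.ne' (Nat.dvd_one.mp hdvd)
  obtain ⟨y, hyfix, hy1⟩ := hex
  obtain ⟨x, hxM, hxy⟩ := y.2
  have hxL : x ∉ L := by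
    intro hx
    apply hy1
    apply Subtype.ext
    rw [← hxy]
    exact (QuotientGroup.eq_one_iff _).mpr hx
  have hxC : x ∈ C₀ := by
    rw [hC₀mem]
    refine ⟨hxM, ?_⟩
    intro b hb
    have h2 : b * (y : G ⧸ L) * b⁻¹ = (y : G ⧸ L) := congrArg Subtype.val (hyfix ⟨b, hb⟩)
    have hxy' : mk x = (y : G ⧸ L) := hxy
    rw [hxy']
    rw [mul_inv_eq_iff_eq_mul] at h2
    exact h2
  have hLC₀' : L < C₀ := by
    refine lt_of_le_of_ne hLC₀ ?_
    intro h
    exact hxL (h ▸ hxC)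
  have hC₀eq : C₀ = M := hmin C₀ hC₀n hLC₀' hC₀M
  intro m hm c hc
  have hmC : m ∈ C₀ := by rw [hC₀eq]; exact hm
  rw [hC₀mem] at hmC
  have h1 := hmC.2 (mk c) (Subgroup.mem_map_of_mem mk hc)
  have h2 : m * c * m⁻¹ * c⁻¹ ∈ L := by
    rw [← QuotientGroup.eq_one_iff]
    show mk (m * c * m⁻¹ * c⁻¹) = 1
    rw [map_mul, map_mul, map_mul, map_inv, map_inv, ← h1, mul_inv_cancel_right, mul_inv_cancel]
  have h3 : m * c * m⁻¹ = (m * c * m⁻¹ * c⁻¹) * c := by group
  rw [h3]
  exact K.mul_mem (hLK h2) hc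

/-- in the situation of a maximal subgroup `H` with core `L`, a subgroup `K ≤ H` normalised by
`H` and by `M` lies in `L` -/
theorem le_core_of_normalized (L M H K : Subgroup G) (hsup : M ⊔ H = ⊤)
    (hcore : ∀ C : Subgroup G, C.Normal → C ≤ H → C ≤ L) (hKH : K ≤ H)
    (hH : ∀ h ∈ H, ∀ k ∈ K, h * k * h⁻¹ ∈ K) (hMK : ∀ m ∈ M, ∀ k ∈ K, m * k * m⁻¹ ∈ K) :
    K ≤ L :=
  hcore K (normal_of_conj_mem_of_sup M H K hsup hMK hH) hKH

end Cfsg.Agent.Lib.Helper2
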