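import Mathlib

set_option autoImplicit false

/-! Elementary lemmas for the Glauberman correspondence: an integer variance bound and finite
Fourier analysis on `Z/p`. -/

namespace Cfsg.Agent.Lib.Helper2

open scoped ComplexConjugate

/-- variance bound: a non-constant integer family on `n` points has `n * Σ a² - (Σ a)² ≥ n - 1` -/
theorem int_var_bound {ι : Type*} [Fintype ι] (a : ι → ℤ) (i₀ k₀ : ι) (h : a i₀ ≠ a k₀) :
    (Fintype.card ι : ℤ) - 1 ≤ (Fintype.card ι : ℤ) * ∑ i, a i ^ 2 - (∑ i, a i) ^ 2 := by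
  classical
  set n : ℤ := (Fintype.card ι : ℤ) with hn
  set v : ℤ := a i₀ with hv
  let d : ι → ℤ := fun i => a i - v
  have hD : n * ∑ i, a i ^ 2 - (∑ i, a i) ^ 2 = n * ∑ i, d i ^ 2 - (∑ i, d i) ^ 2 := by
    have h1 : ∑ i, d i = ∑ i, a i - n * v := by
      simp only [d, Finset.sum_sub_distrib, Finset.sum_const, Finset.card_univ, nsmul_eq_mul, hn]
    have h2 : ∑ i, d i ^ 2 = ∑ i, a i ^ 2 - 2 * v * ∑ i, a i + n * v ^ 2 := by
      have : ∀ i, d i ^ 2 = a i ^ 2 - 2 * v * a i + v ^ 2 := fun i => by simp only [d]; ring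
      simp only [this, Finset.sum_add_distrib, Finset.sum_sub_distrib, Finset.sum_const,
        Finset.card_univ, nsmul_eq_mul, ← Finset.mul_sum, hn]
    rw [h1, h2]
    ring
  rw [hD]
  set s : Finset ι := Finset.univ.filter (fun i => d i ≠ 0) with hs
  have h3 : ∑ i, d i = ∑ i ∈ s, d i := (Finset.sum_filter_ne_zero _).symm
  have h4 : ∑ i, d i ^ 2 = ∑ i ∈ s, d i ^ 2 := by
    symm
    apply Finset.sum_filter_of_ne
    intro i _ hi h0
    apply hi
    rw [h0]
    ring
  have h5 : (∑ i ∈ s, d i) ^ 2 ≤ (s.card : ℤ) * ∑ i ∈ s, d i ^ 2 := sq_sum_le_card_mul_sum_sq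
  have h6 : (s.card : ℤ) ≤ ∑ i ∈ s, d i ^ 2 := by
    have : ∑ i ∈ s, (1 : ℤ) ≤ ∑ i ∈ s, d i ^ 2 := by
      apply Finset.sum_le_sum
      intro i hi
      have hi' : d i ≠ 0 := (Finset.mem_filter.mp hi).2
      have : 0 < d i ^ 2 := by positivity
      omega
    simpa using this
  have h7 : (1 : ℤ) ≤ s.card := by
    have : k₀ ∈ s := by
      simp only [hs, Finset.mem_filter, Finset.mem_univ, true_and, d]
      intro h0
      apply h
      rw [hv]
      omega
    have := Finset.card_pos.mpr ⟨k₀, this⟩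
    exact_mod_cast this
  have h8 : (s.card : ℤ) ≤ n - 1 := by
    have h9 : s ⊆ Finset.univ.erase i₀ := by
      intro i hi
      rw [Finset.mem_erase]
      refine ⟨?_, Finset.mem_univ _⟩
      intro h0
      have hi' : d i ≠ 0 := (Finset.mem_filter.mp hi).2
      apply hi'
      simp only [d, h0, hv, sub_self]
    have := Finset.card_le_card h9
    rw [Finset.card_erase_of_mem (Finset.mem_univ _), Finset.card_univ] at this
    have hpos : 0 < Fintype.card ι := Fintype.card_pos_iff.mpr ⟨i₀⟩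
    rw [hn]
    omega
  rw [h3, h4]
  nlinarith [h5, h6, h7, h8]

/-- Fourier analysis on `Z/p`: the sum of the transform and its Parseval identity -/
theorem zmod_fourier (p : ℕ) [hp : Fact p.Prime] (b : ZMod p → ℂ) :
    (∑ ψ : AddChar (ZMod p) ℂ, (p : ℂ)⁻¹ * ∑ j, conj (ψ j) * b j = b 0) ∧
    (∑ ψ : AddChar (ZMod p) ℂ, ((p : ℂ)⁻¹ * ∑ j, conj (ψ j) * b j)
        * conj ((p : ℂ)⁻¹ * ∑ j, conj (ψ j) * b j)
      = (p : ℂ)⁻¹ * ∑ j, b j * conj (b j)) := by
  classical
  have hp0 : (p : ℂ) ≠ 0 := Nat.cast_ne_zero.mpr hp.out.ne_zero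
  constructor
  · rw [← Finset.mul_sum, Finset.sum_comm]
    have h1 : ∀ j : ZMod p, ∑ ψ : AddChar (ZMod p) ℂ, conj (ψ j) * b j
        = if j = 0 then (p : ℂ) * b j else 0 := by
      intro j
      rw [← Finset.sum_mul]
      have : ∀ ψ : AddChar (ZMod p) ℂ, conj (ψ j) = ψ (-j) := fun ψ =>
        (AddChar.map_neg_eq_conj ψ j).symm
      simp only [this]
      rw [AddChar.sum_apply_eq_ite, ZMod.card]
      by_cases hj : j = 0
      · simp [hj]
      · simp [hj]
    simp only [h1]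
    rw [Finset.sum_ite_eq' Finset.univ (0 : ZMod p)]
    simp [hp0]
  · have h1 : ∀ ψ : AddChar (ZMod p) ℂ, ((p : ℂ)⁻¹ * ∑ j, conj (ψ j) * b j)
        * conj ((p : ℂ)⁻¹ * ∑ j, conj (ψ j) * b j)
        = (p : ℂ)⁻¹ * (p : ℂ)⁻¹ * ∑ j, ∑ k, (b j * conj (b k)) * ψ (k - j) := by
      intro ψ
      rw [map_mul, map_inv₀, Complex.conj_natCast, map_sum]
      rw [mul_mul_mul_comm, Finset.sum_mul_sum]
      congr 1
      apply Finset.sum_congr rfl
      intro j _
      apply Finset.sum_congr rfl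
      intro k _
      rw [map_mul, Complex.conj_conj, sub_eq_add_neg, AddChar.map_add_eq_mul,
        AddChar.map_neg_eq_conj]
      ring
    simp only [h1]
    rw [← Finset.mul_sum, Finset.sum_comm]
    have h2 : ∀ j : ZMod p, ∑ ψ : AddChar (ZMod p) ℂ, ∑ k, (b j * conj (b k)) * ψ (k - j)
        = (p : ℂ) * (b j * conj (b j)) := by
      intro j
      rw [Finset.sum_comm]
      have h3 : ∀ k : ZMod p, ∑ ψ : AddChar (ZMod p) ℂ, (b j * conj (b k)) * ψ (k - j)
          = if k = j then (p : ℂ) * (b j * conj (b k)) else 0 := by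
        intro k
        rw [← Finset.mul_sum, AddChar.sum_apply_eq_ite, ZMod.card]
        by_cases hk : k = j
        · simp [hk, mul_comm]
        · have : k - j ≠ 0 := sub_ne_zero.mpr hk
          simp [hk, this]
      simp only [h3]
      rw [Finset.sum_ite_eq' Finset.univ j]
      simp
    simp only [h2]
    rw [← Finset.mul_sum, ← mul_assoc, mul_assoc (p : ℂ)⁻¹, inv_mul_cancel₀ hp0, mul_one]

/-- a vanishing sum of squared absolute values -/
theorem eq_zero_of_sum_mul_conj {ι : Type*} (s : Finset ι) (z : ι → ℂ)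
    (h : ∑ i ∈ s, z i * conj (z i) = 0) : ∀ i ∈ s, z i = 0 := by
  have h1 : ∀ i, z i * conj (z i) = ((Complex.normSq (z i) : ℝ) : ℂ) := fun i =>
    Complex.mul_conj (z i)
  simp only [h1] at h
  rw [← Complex.ofReal_sum] at h
  have h2 : ∑ i ∈ s, Complex.normSq (z i) = 0 := by exact_mod_cast h
  intro i hi
  have h3 := (Finset.sum_eq_zero_iff_of_nonneg (fun i _ => Complex.normSq_nonneg (z i))).mp h2 i hi
  exact Complex.normSq_eq_zero.mp h3

end Cfsg.Agent.Lib.Helper2
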