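import Mathlib
import Cfsg.Prelude.Def_Characters
import Cfsg.Agent.Lib.Helper2.CharProd
import Cfsg.Agent.Lib.Helper2.CharDecomp
import Cfsg.Agent.Lib.Helper2.CharExpand
import Cfsg.Agent.Lib.Helper2.CharLinear
import Cfsg.Agent.Lib.Helper2.CharOrtho
import Cfsg.Agent.S0886
import Cfsg.Agent.S1489

set_option autoImplicit false

/-! Glauberman correspondence, the case of an automorphism of order dividing `p`:
the semidirect product of `G` with `Z/p` and coset orthogonality of extended characters. -/

namespace Cfsg.Agent.Lib.Helper2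

open scoped ComplexConjugate

section setup

variable {G : Type*} [Group G] (p : ℕ) [hp : Fact p.Prime] (α : MulAut G) (hα : α ^ p = 1)

/-- the action of `Z/p` on `G` through the powers of `α` -/
def glHom : Multiplicative (ZMod p) →* MulAut G where
  toFun j := α ^ (Multiplicative.toAdd j).val
  map_one' := by simp
  map_mul' a b := by
    show α ^ (Multiplicative.toAdd (a * b)).val
      = α ^ (Multiplicative.toAdd a).val * α ^ (Multiplicative.toAdd b).val
    rw [toAdd_mul, ZMod.val_add, ← pow_add, ← pow_eq_pow_mod _ hα]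

theorem glHom_apply (j : ZMod p) : glHom p α hα (Multiplicative.ofAdd j) = α ^ j.val := rfl

theorem glHom_one : glHom p α hα (Multiplicative.ofAdd (1 : ZMod p)) = α := by
  rw [glHom_apply, ZMod.val_one, pow_one]

/-- the semidirect product of `G` with `Z/p` acting through `α` -/
abbrev GlT := G ⋊[glHom p α hα] Multiplicative (ZMod p)

/-- the element `(g, j)` of the semidirect product -/
def glMk (g : G) (j : ZMod p) : GlT p α hα := ⟨g, Multiplicative.ofAdd j⟩

theorem glMk_left (g : G) (j : ZMod p) : (glMk p α hα g j).left = g := rfl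

theorem glMk_right (g : G) (j : ZMod p) : (glMk p α hα g j).right = Multiplicative.ofAdd j := rfl

theorem glMk_eq (g : G) (j : ZMod p) :
    glMk p α hα g j = SemidirectProduct.inl g * SemidirectProduct.inr (Multiplicative.ofAdd j) :=
  SemidirectProduct.mk_eq_inl_mul_inr _ _

theorem glMk_zero (g : G) : glMk p α hα g 0 = SemidirectProduct.inl g := by
  rw [glMk_eq]; simp

theorem glMk_surj (t : GlT p α hα) : t = glMk p α hα t.left (Multiplicative.toAdd t.right) := by
  ext <;> rfl

/-- conjugating `(g, j)` by an element of `G` -/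
theorem glMk_conj (a g : G) (j : ZMod p) :
    (SemidirectProduct.inl a : GlT p α hα) * glMk p α hα g j * (SemidirectProduct.inl a)⁻¹
      = glMk p α hα (a * g * (α ^ j.val) a⁻¹) j := by
  ext
  · simp [glMk, SemidirectProduct.mul_left, SemidirectProduct.inv_left, glHom_apply, mul_assoc]
  · simp [glMk, SemidirectProduct.mul_right, SemidirectProduct.inv_right]

/-- fintype structure on the semidirect product -/
@[reducible] noncomputable def glFintype [Fintype G] : Fintype (GlT p α hα) :=
  Fintype.ofEquiv _ SemidirectProduct.equivProd.symm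

attribute [local instance] glFintype

theorem gl_card [Fintype G] : Nat.card (GlT p α hα) = Nat.card G * p := by
  rw [SemidirectProduct.card, Nat.card_eq_fintype_card (α := Multiplicative (ZMod p)),
    Fintype.card_multiplicative, ZMod.card]

theorem gl_sum [Fintype G] (f : GlT p α hα → ℂ) :
    ∑ t : GlT p α hα, f t = ∑ j : ZMod p, ∑ g : G, f (glMk p α hα g j) := by
  rw [Finset.sum_comm, ← Fintype.sum_prod_type']
  apply Fintype.sum_equiv (SemidirectProduct.equivProd.trans
    (Equiv.prodCongr (Equiv.refl G) Multiplicative.toAdd))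
  intro t
  rfl

/-- the linear character of the semidirect product attached to a character of `Z/p` -/
noncomputable def glLin (ψ : AddChar (ZMod p) ℂ) : GlT p α hα → ℂ :=
  fun t => ψ (Multiplicative.toAdd t.right)

theorem glLin_isCharacter (ψ : AddChar (ZMod p) ℂ) :
    Cfsg.IsCharacter (GlT p α hα) (glLin p α hα ψ) := by
  have h := isIrrCharacter_of_hom
    ((ψ.toMonoidHom.toHomUnits).comp (SemidirectProduct.rightHom : GlT p α hα →* _))
  have h2 : (fun t : GlT p α hα => (((ψ.toMonoidHom.toHomUnits).comp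
      (SemidirectProduct.rightHom : GlT p α hα →* _)) t : ℂ)) = glLin p α hα ψ := by
    funext t
    simp [glLin, MonoidHom.coe_toHomUnits, AddChar.toMonoidHom_apply]
  rw [h2] at h
  exact isCharacter_of_isIrrCharacter h

theorem glLin_zero : glLin p α hα (0 : AddChar (ZMod p) ℂ) = fun _ => 1 := by
  funext t
  simp [glLin]

theorem glHom_inv_fun (χ : G → ℂ) (hinv : ∀ g, χ (α g) = χ g) (j : Multiplicative (ZMod p)) (g : G) :
    χ (glHom p α hα j g) = χ g := by
  have h : ∀ k : ℕ, ∀ g, χ ((α ^ k) g) = χ g := by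
    intro k
    induction k with
    | zero => intro g; simp
    | succ k ih =>
      intro g
      rw [pow_succ, MulAut.mul_apply, ih, hinv]
  exact h _ g

/-- an invariant irreducible character extends to the semidirect product -/
theorem gl_exists_ext [Fintype G] (χ : G → ℂ) (hχ : Cfsg.IsIrrCharacter G χ)
    (hinv : ∀ g, χ (α g) = χ g) :
    ∃ χh : GlT p α hα → ℂ, Cfsg.IsIrrCharacter (GlT p α hα) χh ∧
      ∀ g : G, χh (SemidirectProduct.inl g) = χ g := by
  classical
  let N : Subgroup (GlT p α hα) := (SemidirectProduct.rightHom : GlT p α hα →* _).ker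
  have hcyc : IsCyclic (GlT p α hα ⧸ N) :=
    (MulEquiv.isCyclic (QuotientGroup.quotientKerEquivOfSurjective
      (SemidirectProduct.rightHom : GlT p α hα →* _)
      SemidirectProduct.rightHom_surjective)).mpr inferInstance
  have hNr : ∀ n : N, (n : GlT p α hα).right = 1 := fun n => n.2
  let e : N ≃* G :=
    { toFun := fun n => (n : GlT p α hα).left
      invFun := fun g => ⟨SemidirectProduct.inl g, by
        show SemidirectProduct.rightHom (SemidirectProduct.inl g : GlT p α hα) = 1
        simp⟩
      left_inv := fun n => by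
        apply Subtype.ext
        ext
        · rfl
        · exact (hNr n).symm
      right_inv := fun g => rfl
      map_mul' := fun n m => by
        show ((n : GlT p α hα) * (m : GlT p α hα)).left = _
        rw [SemidirectProduct.mul_left, hNr n, map_one]
        rfl }
  have hϑ : Cfsg.IsIrrCharacter N (χ ∘ e) := Cfsg.Agent.S1489.isIrrCharacter_comp_iso hχ e
  have hcl := isClassFunction_of_isIrrCharacter hχ
  obtain ⟨χh, hχh, hres⟩ := Cfsg.Agent.S0886.result N hcyc (χ ∘ e) hϑ (by
    intro t n
    show χ ((t * (n : GlT p α hα) * t⁻¹).left) = χ ((n : GlT p α hα).left)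
    have h1 : (t * (n : GlT p α hα) * t⁻¹).left
        = t.left * (glHom p α hα t.right (n : GlT p α hα).left) * t.left⁻¹ := by
      simp [SemidirectProduct.mul_left, SemidirectProduct.inv_left, SemidirectProduct.mul_right,
        hNr n]
    rw [h1, hcl, glHom_inv_fun p α hα χ hinv])
  refine ⟨χh, hχh, fun g => ?_⟩
  exact hres (e.symm g)

/-- Fourier inversion on the cosets of `G` in the semidirect product -/
theorem gl_coset_sum [Fintype G] (F : GlT p α hα → ℂ) (j₀ : ZMod p) :
    ∑ ψ : AddChar (ZMod p) ℂ, ψ (-j₀) * ∑ t : GlT p α hα, F t * glLin p α hα ψ t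
      = (p : ℂ) * ∑ g : G, F (glMk p α hα g j₀) := by
  classical
  simp only [Finset.mul_sum]
  rw [Finset.sum_comm]
  rw [gl_sum]
  have h1 : ∀ (j : ZMod p) (g : G),
      ∑ ψ : AddChar (ZMod p) ℂ, ψ (-j₀) * (F (glMk p α hα g j) * glLin p α hα ψ (glMk p α hα g j))
        = if j = j₀ then (p : ℂ) * F (glMk p α hα g j) else 0 := by
    intro j g
    have h2 : ∀ ψ : AddChar (ZMod p) ℂ,
        ψ (-j₀) * (F (glMk p α hα g j) * glLin p α hα ψ (glMk p α hα g j))
          = F (glMk p α hα g j) * ψ (j - j₀) := by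
      intro ψ
      have : glLin p α hα ψ (glMk p α hα g j) = ψ j := rfl
      rw [this, sub_eq_add_neg, AddChar.map_add_eq_mul]
      ring
    simp only [h2]
    rw [← Finset.mul_sum, AddChar.sum_apply_eq_ite, ZMod.card]
    by_cases hj : j = j₀
    · simp [hj, mul_comm]
    · have : j - j₀ ≠ 0 := sub_ne_zero.mpr hj
      simp [hj, this]
  simp only [h1]
  rw [Finset.sum_eq_single j₀]
  · simp
  · intro j _ hj
    simp [hj]
  · intro h
    exact absurd (Finset.mem_univ _) h

theorem gl_coset_inner [Fintype G] (χh χh' : GlT p α hα → ℂ) (j₀ : ZMod p) :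
    ∑ g : G, χh (glMk p α hα g j₀) * conj (χh' (glMk p α hα g j₀))
      = (Nat.card G : ℂ) * ∑ ψ : AddChar (ZMod p) ℂ,
          ψ (-j₀) * Cfsg.classInner (χh * glLin p α hα ψ) χh' := by
  have h := gl_coset_sum p α hα (fun t => χh t * conj (χh' t)) j₀
  have hp0 : (p : ℂ) ≠ 0 := Nat.cast_ne_zero.mpr hp.out.ne_zero
  have hG0 : (Nat.card G : ℂ) ≠ 0 := card_ne_zero_complex G
  have h1 : ∀ ψ : AddChar (ZMod p) ℂ,
      ∑ t : GlT p α hα, (χh t * conj (χh' t)) * glLin p α hα ψ t
        = (Nat.card G : ℂ) * (p : ℂ) * Cfsg.classInner (χh * glLin p α hα ψ) χh' := by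
    intro ψ
    rw [classInner_def, gl_card]
    push_cast
    rw [← mul_assoc, mul_inv_cancel₀ (mul_ne_zero hG0 hp0), one_mul]
    apply Finset.sum_congr rfl
    intro t _
    simp only [Pi.mul_apply]
    ring
  simp only [h1] at h
  apply mul_left_cancel₀ hp0
  rw [← h, Finset.mul_sum, Finset.mul_sum]
  apply Finset.sum_congr rfl
  intro ψ _
  ring

theorem gl_sum_inner [Fintype G] (χh χh' : GlT p α hα → ℂ) :
    ∑ ψ : AddChar (ZMod p) ℂ, Cfsg.classInner (χh * glLin p α hα ψ) χh'
      = Cfsg.classInner (fun g : G => χh (SemidirectProduct.inl g))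
          (fun g : G => χh' (SemidirectProduct.inl g)) := by
  have h := gl_coset_inner p α hα χh χh' 0
  have hG0 : (Nat.card G : ℂ) ≠ 0 := card_ne_zero_complex G
  simp only [neg_zero, AddChar.map_zero_eq_one, one_mul, glMk_zero] at h
  rw [classInner_def, h, ← mul_assoc, inv_mul_cancel₀ hG0, one_mul]

/-- coset orthogonality: extensions of characters that are orthogonal on `G` -/
theorem gl_coset_orth [Fintype G] (χh χh' : GlT p α hα → ℂ)
    (h1 : Cfsg.IsCharacter (GlT p α hα) χh) (h2 : Cfsg.IsCharacter (GlT p α hα) χh')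
    (hres : Cfsg.classInner (fun g : G => χh (SemidirectProduct.inl g))
      (fun g : G => χh' (SemidirectProduct.inl g)) = 0) (j₀ : ZMod p) :
    ∑ g : G, χh (glMk p α hα g j₀) * conj (χh' (glMk p α hα g j₀)) = 0 := by
  classical
  have hn : ∀ ψ : AddChar (ZMod p) ℂ, ∃ n : ℕ,
      Cfsg.classInner (χh * glLin p α hα ψ) χh' = (n : ℂ) := fun ψ =>
    classInner_isCharacter_nat (IsCharacter.mul h1 (glLin_isCharacter p α hα ψ)) h2
  choose n hn using hn
  have hs := gl_sum_inner p α hα χh χh'
  rw [hres] at hs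
  simp only [hn] at hs
  have hs' : ∑ ψ : AddChar (ZMod p) ℂ, n ψ = 0 := by exact_mod_cast hs
  have h0 : ∀ ψ, n ψ = 0 := fun ψ => (Finset.sum_eq_zero_iff.mp hs') ψ (Finset.mem_univ _)
  rw [gl_coset_inner]
  simp [hn, h0]

/-- coset orthogonality: the norm of an irreducible extension of an irreducible character -/
theorem gl_coset_norm [Fintype G] (χh : GlT p α hα → ℂ)
    (h1 : Cfsg.IsIrrCharacter (GlT p α hα) χh)
    (hres : Cfsg.IsIrrCharacter G (fun g : G => χh (SemidirectProduct.inl g))) (j₀ : ZMod p) :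
    ∑ g : G, χh (glMk p α hα g j₀) * conj (χh (glMk p α hα g j₀)) = (Nat.card G : ℂ) := by
  classical
  have h1c := isCharacter_of_isIrrCharacter h1
  have hn : ∀ ψ : AddChar (ZMod p) ℂ, ∃ n : ℕ,
      Cfsg.classInner (χh * glLin p α hα ψ) χh = (n : ℂ) := fun ψ =>
    classInner_isCharacter_nat (IsCharacter.mul h1c (glLin_isCharacter p α hα ψ)) h1c
  choose n hn using hn
  have hs := gl_sum_inner p α hα χh χh
  rw [classInner_irr_self hres] at hs
  simp only [hn] at hs
  have hs' : ∑ ψ : AddChar (ZMod p) ℂ, n ψ = 1 := by exact_mod_cast hs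
  have hn0 : n 0 = 1 := by
    have := hn 0
    rw [glLin_zero] at this
    have h3 : χh * (fun _ => (1 : ℂ)) = χh := by
      funext t
      simp
    rw [h3, classInner_irr_self h1] at this
    exact_mod_cast this.symm
  have h0 : ∀ ψ, ψ ≠ 0 → n ψ = 0 := by
    intro ψ hψ
    rw [← Finset.add_sum_erase _ _ (Finset.mem_univ (0 : AddChar (ZMod p) ℂ)), hn0] at hs'
    have h4 : ∑ x ∈ Finset.univ.erase (0 : AddChar (ZMod p) ℂ), n x = 0 := by omega
    exact (Finset.sum_eq_zero_iff.mp h4) ψ (Finset.mem_erase.mpr ⟨hψ, Finset.mem_univ _⟩)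
  rw [gl_coset_inner]
  rw [Finset.sum_eq_single (0 : AddChar (ZMod p) ℂ)]
  · simp [hn, hn0]
  · intro ψ _ hψ
    simp [hn, h0 ψ hψ]
  · intro h
    exact absurd (Finset.mem_univ _) h

end setup

end Cfsg.Agent.Lib.Helper2
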