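import Mathlib
import Cfsg.Agent.Lib.Helper2.GlaubSetup
import Cfsg.Agent.S1496

set_option autoImplicit false

/-! Glauberman correspondence, order `p` case: the elements of a nontrivial coset of `G` in the
semidirect product are conjugate into the centraliser coset, with fibres of constant size. -/

namespace Cfsg.Agent.Lib.Helper2

open scoped ComplexConjugate

attribute [local instance] glFintype

section fiber

variable {G : Type*} [Group G] [Fintype G] (p : ℕ) [hp : Fact p.Prime] (α : MulAut G)
  (hα : α ^ p = 1) (hcop : ¬ p ∣ Nat.card G)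

include hα in
theorem gl_fix_pow (j : ZMod p) (hj : j ≠ 0) (g : G) : (α ^ j.val) g = g ↔ α g = g := by
  constructor
  · intro h
    have h1 : ∀ k : ℕ, ((α ^ j.val) ^ k) g = g := by
      intro k
      induction k with
      | zero => simp
      | succ k ih => rw [pow_succ, MulAut.mul_apply, h, ih]
    have h2 := h1 (j⁻¹).val
    rw [← pow_mul] at h2
    have h3 : (j.val * (j⁻¹).val) % p = 1 := by
      rw [← ZMod.val_mul, mul_inv_cancel₀ hj, ZMod.val_one]
    rw [pow_eq_pow_mod _ hα, h3, pow_one] at h2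
    exact h2
  · intro h
    have h1 : ∀ k : ℕ, (α ^ k) g = g := by
      intro k
      induction k with
      | zero => simp
      | succ k ih => rw [pow_succ, MulAut.mul_apply, h, ih]
    exact h1 _

include hcop in
/-- a power that kills `G` and fixes `Z/p` -/
theorem gl_pow_exists : ∃ N : ℕ, (∀ g : G, g ^ N = 1) ∧ ((N : ZMod p) = 1) := by
  refine ⟨Nat.card G ^ (p - 1), fun g => ?_, ?_⟩
  · have h1 : Nat.card G ∣ Nat.card G ^ (p - 1) :=
      dvd_pow_self _ (Nat.sub_ne_zero_of_lt hp.out.one_lt)
    obtain ⟨k, hk⟩ := h1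
    rw [hk, pow_mul, pow_card_eq_one', one_pow]
  · push_cast
    apply ZMod.pow_card_sub_one_eq_one
    intro h
    exact hcop ((ZMod.natCast_eq_zero_iff _ _).mp h)

include hα hcop in
/-- rigidity: an element of `G` conjugating one element of the centraliser coset to another
is itself fixed by `α` -/
theorem gl_rigid (j₀ : ZMod p) (hj : j₀ ≠ 0) (u a b : G) (ha : α a = a) (hb : α b = b)
    (h : b = u * a * (α ^ j₀.val) u⁻¹) : α u = u := by
  obtain ⟨N, hN1, hN2⟩ := gl_pow_exists p hcop (G := G)
  have hfix : ∀ x : G, α x = x → (α ^ j₀.val) x = x := fun x hx =>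
    (gl_fix_pow p α hα j₀ hj x).mpr hx
  have hcomm : ∀ x : G, α x = x →
      Commute (SemidirectProduct.inl x : GlT p α hα)
        (SemidirectProduct.inr (Multiplicative.ofAdd j₀)) := by
    intro x hx
    show _ * _ = _ * _
    ext
    · simp [SemidirectProduct.mul_left, glHom_apply, hfix x hx]
    · simp [SemidirectProduct.mul_right]
  have hpow : ∀ x : G, α x = x → (glMk p α hα x j₀) ^ N = glMk p α hα 1 j₀ := by
    intro x hx
    rw [glMk_eq, (hcomm x hx).mul_pow, ← map_pow, ← map_pow, hN1, map_one, one_mul, glMk_eq,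
      map_one, one_mul]
    congr 1
    rw [← ofAdd_nsmul, nsmul_eq_mul, hN2, one_mul]
  have h1 : (SemidirectProduct.inl u : GlT p α hα) * glMk p α hα a j₀ * (SemidirectProduct.inl u)⁻¹
      = glMk p α hα b j₀ := by
    rw [glMk_conj, h]
  have h2 := congrArg (fun t => t ^ N) h1
  simp only [conj_pow, hpow a ha, hpow b hb] at h2
  rw [glMk_conj] at h2
  have h3 := congrArg SemidirectProduct.left h2
  simp only [glMk_left, mul_one] at h3
  have h4 : (α ^ j₀.val) u = u := by
    have h5 : (α ^ j₀.val) u⁻¹ = u⁻¹ := by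
      rw [← mul_right_inj u, h3, mul_inv_cancel]
    rw [map_inv, inv_inj] at h5
    exact h5
  exact (gl_fix_pow p α hα j₀ hj u).mp h4

include hα hcop in
/-- every element of a nontrivial coset is conjugate under `G` into the centraliser coset -/
theorem gl_conj_exists (j₀ : ZMod p) (hj : j₀ ≠ 0) (x : G) :
    ∃ g c : G, α c = c ∧ x = g * c * (α ^ j₀.val) g⁻¹ := by
  classical
  let H : Subgroup (GlT p α hα) := (SemidirectProduct.inl : G →* GlT p α hα).range
  let r : GlT p α hα := SemidirectProduct.inr (Multiplicative.ofAdd j₀)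
  have hHn : H.Normal := by
    rw [show H = (SemidirectProduct.rightHom : GlT p α hα →* _).ker from
      SemidirectProduct.range_inl_eq_ker_rightHom]
    infer_instance
  have hr : r ∈ Subgroup.normalizer (H : Set (GlT p α hα)) := by
    rw [Subgroup.normalizer_eq_top_iff.mpr hHn]
    exact Subgroup.mem_top _
  have hrp : r ^ p = 1 := by
    show (SemidirectProduct.inr (Multiplicative.ofAdd j₀) : GlT p α hα) ^ p = 1
    rw [← map_pow, ← ofAdd_nsmul]
    simp
  have hcard : Nat.card H = Nat.card G :=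
    (Nat.card_congr (Equiv.ofInjective _ SemidirectProduct.inl_injective)).symm
  have hco : Nat.Coprime (orderOf r) (Nat.card H) := by
    rw [hcard]
    apply Nat.Coprime.coprime_dvd_left (orderOf_dvd_of_pow_eq_one hrp)
    exact (Nat.Prime.coprime_iff_not_dvd hp.out).mpr hcop
  obtain ⟨y, hy, c, hc, hcr, hyc⟩ := Cfsg.Agent.S1496.result H r hr hco
    (SemidirectProduct.inl x) ⟨x, rfl⟩
  obtain ⟨y, rfl⟩ := hy
  obtain ⟨c, rfl⟩ := hc
  have hcfix : (α ^ j₀.val) c = c := by
    have h1 := congrArg SemidirectProduct.left hcr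
    simp only [r, SemidirectProduct.mul_left, SemidirectProduct.left_inl,
      SemidirectProduct.left_inr, SemidirectProduct.right_inl, SemidirectProduct.right_inr,
      map_one, mul_one, one_mul, glHom_apply] at h1
    exact h1.symm
  refine ⟨y⁻¹, c, (gl_fix_pow p α hα j₀ hj c).mp hcfix, ?_⟩
  have h2 : (SemidirectProduct.inl x : GlT p α hα) * r = glMk p α hα x j₀ := (glMk_eq p α hα x j₀).symm
  have h3 : (SemidirectProduct.inl c : GlT p α hα) * r = glMk p α hα c j₀ := (glMk_eq p α hα c j₀).symm
  rw [h2, h3] at hyc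
  have h4 : glMk p α hα x j₀
      = (SemidirectProduct.inl y⁻¹ : GlT p α hα) * glMk p α hα c j₀ * (SemidirectProduct.inl y⁻¹)⁻¹ := by
    rw [← hyc, map_inv]
    group
  rw [glMk_conj] at h4
  exact congrArg SemidirectProduct.left h4

variable {C : Type*} [Group C] [Fintype C] (κ : C →* G) (hκ : Function.Injective κ)
  (hκr : ∀ g, g ∈ κ.range ↔ α g = g)

include hα hcop hκ hκr in
/-- fibre counting: a function on `G` invariant under twisted conjugation sums over `G` to
`|G| / |C|` times its sum over the fixed points -/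
theorem gl_fiber_sum (j₀ : ZMod p) (hj : j₀ ≠ 0) (F : G → ℂ)
    (hF : ∀ a x : G, F (a * x * (α ^ j₀.val) a⁻¹) = F x) :
    (Nat.card C : ℂ) * ∑ x : G, F x = (Nat.card G : ℂ) * ∑ c : C, F (κ c) := by
  classical
  let Ψ : G × C → G := fun y => y.1 * κ y.2 * (α ^ j₀.val) y.1⁻¹
  have hfix : ∀ c : C, (α ^ j₀.val) (κ c) = κ c := fun c =>
    (gl_fix_pow p α hα j₀ hj _).mpr ((hκr _).mp ⟨c, rfl⟩)
  have h1 : ∑ y : G × C, F (Ψ y) = (Nat.card G : ℂ) * ∑ c : C, F (κ c) := by
    rw [Fintype.sum_prod_type]
    simp only [Ψ, hF]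
    rw [Finset.sum_const, Finset.card_univ, nsmul_eq_mul, Nat.card_eq_fintype_card]
  have h2 : ∑ y : G × C, F (Ψ y) = (Nat.card C : ℂ) * ∑ x : G, F x := by
    rw [Finset.sum_comp F Ψ]
    have himg : Finset.univ.image Ψ = Finset.univ := by
      ext x
      simp only [Finset.mem_image, Finset.mem_univ, true_and, iff_true]
      obtain ⟨g, c, hc, hx⟩ := gl_conj_exists p α hα hcop j₀ hj x
      obtain ⟨c', rfl⟩ := (hκr c).mpr hc
      exact ⟨(g, c'), hx.symm⟩
    rw [himg, Finset.mul_sum]
    apply Finset.sum_congr rfl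
    intro x _
    have hcard : (Finset.univ.filter (fun y => Ψ y = x)).card = Fintype.card C := by
      obtain ⟨g₀, c₀', hc, hx⟩ := gl_conj_exists p α hα hcop j₀ hj x
      obtain ⟨c₀, rfl⟩ := (hκr c₀').mpr hc
      rw [← Finset.card_univ (α := C)]
      symm
      apply Finset.card_bij (fun h _ => (g₀ * (κ h)⁻¹, h * c₀ * h⁻¹))
      · intro h _
        simp only [Finset.mem_filter, Finset.mem_univ, true_and, Ψ]
        rw [hx]
        simp only [map_mul, map_inv, mul_inv_rev, inv_inv, hfix]
        group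
      · intro h _ h' _ heq
        have h3 := congrArg Prod.fst heq
        simp only [mul_right_inj, inv_inj] at h3
        exact hκ h3
      · intro y hy
        simp only [Finset.mem_filter, Finset.mem_univ, true_and, Ψ] at hy
        obtain ⟨g, c⟩ := y
        simp only at hy
        have h4 : κ c = (g⁻¹ * g₀) * κ c₀ * (α ^ j₀.val) (g⁻¹ * g₀)⁻¹ := by
          have h5 : κ c = g⁻¹ * (g * κ c * (α ^ j₀.val) g⁻¹) * (α ^ j₀.val) g := by
            simp only [map_inv]
            group
          rw [h5, hy, hx]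
          simp only [map_mul, map_inv, mul_inv_rev, inv_inv]
          group
        have h6 : α (g⁻¹ * g₀) = g⁻¹ * g₀ :=
          gl_rigid p α hα hcop j₀ hj (g⁻¹ * g₀) (κ c₀) (κ c) ((hκr _).mp ⟨c₀, rfl⟩)
            ((hκr _).mp ⟨c, rfl⟩) h4
        obtain ⟨h, hh⟩ := (hκr _).mpr h6
        refine ⟨h, Finset.mem_univ _, ?_⟩
        apply Prod.ext
        · simp only [hh]
          group
        · simp only
          apply hκ
          rw [h4, map_mul, map_mul, map_inv, hh]
          have h7 : (α ^ j₀.val) (g⁻¹ * g₀)⁻¹ = (g⁻¹ * g₀)⁻¹ := by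
            rw [map_inv, (gl_fix_pow p α hα j₀ hj _).mpr h6]
          rw [h7]
    rw [hcard, nsmul_eq_mul, Nat.card_eq_fintype_card]
  rw [← h1, ← h2]

include hα hcop hκ hκr in
/-- the coset form: a class function of the semidirect product summed over a nontrivial coset -/
theorem gl_coset_fixed (j₀ : ZMod p) (hj : j₀ ≠ 0) (F : GlT p α hα → ℂ)
    (hF : ∀ a t : GlT p α hα, F (a * t * a⁻¹) = F t) :
    (Nat.card C : ℂ) * ∑ x : G, F (glMk p α hα x j₀)
      = (Nat.card G : ℂ) * ∑ c : C, F (glMk p α hα (κ c) j₀) := by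
  apply gl_fiber_sum p α hα hcop κ hκ hκr j₀ hj (fun x => F (glMk p α hα x j₀))
  intro a x
  show F (glMk p α hα (a * x * (α ^ j₀.val) a⁻¹) j₀) = F (glMk p α hα x j₀)
  rw [← glMk_conj, hF]

end fiber

end Cfsg.Agent.Lib.Helper2
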