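import Mathlib
import Cfsg.Agent.Lib.Helper2.GlaubFiber
import Cfsg.Agent.Lib.Helper2.GlaubAux

set_option autoImplicit false

/-! Glauberman correspondence, order `p` case: the multiplicities of the restriction of an
invariant irreducible character to the fixed points. -/

namespace Cfsg.Agent.Lib.Helper2

open scoped ComplexConjugate

attribute [local instance] glFintype

section main

variable {G : Type*} [Group G] [Fintype G] (p : ℕ) [hp : Fact p.Prime] (α : MulAut G)
  (hα : α ^ p = 1) (hcop : ¬ p ∣ Nat.card G)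
  {C : Type*} [Group C] [Fintype C] (κ : C →* G) (hκ : Function.Injective κ)
  (hκr : ∀ g, g ∈ κ.range ↔ α g = g)

omit [Fintype G] in
theorem gl_pow_fix (k : ℕ) (g : G) (h : α g = g) : (α ^ k) g = g := by
  induction k with
  | zero => simp
  | succ k ih => rw [pow_succ, MulAut.mul_apply, h, ih]

/-- the function on the fixed points given by a function of the semidirect product on the
coset `j` -/
def glB (χh : GlT p α hα → ℂ) (j : ZMod p) : C → ℂ := fun c => χh (glMk p α hα (κ c) j)

omit [Fintype G] [Fintype C] in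
theorem glB_zero (χh : GlT p α hα → ℂ) :
    glB p α hα κ χh 0 = fun c => χh (SemidirectProduct.inl (κ c)) := by
  funext c
  show χh (glMk p α hα (κ c) 0) = _
  rw [glMk_zero]

omit [Fintype G] [Fintype C] in
include hκr in
theorem glB_class (χh : GlT p α hα → ℂ) (hχh : Cfsg.IsClassFunction (GlT p α hα) χh)
    (j : ZMod p) : Cfsg.IsClassFunction C (glB p α hα κ χh j) := by
  intro c h
  show χh (glMk p α hα (κ (h * c * h⁻¹)) j) = χh (glMk p α hα (κ c) j)
  have hfix : (α ^ j.val) (κ h)⁻¹ = (κ h)⁻¹ := by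
    rw [map_inv, gl_pow_fix α _ _ ((hκr _).mp ⟨h, rfl⟩)]
  have h1 : glMk p α hα (κ (h * c * h⁻¹)) j
      = SemidirectProduct.inl (κ h) * glMk p α hα (κ c) j * (SemidirectProduct.inl (κ h))⁻¹ := by
    rw [glMk_conj, hfix, map_mul, map_mul, map_inv]
  rw [h1, hχh]

include hα hcop hκ hκr in
theorem glB_norm (χh : GlT p α hα → ℂ) (h1 : Cfsg.IsIrrCharacter (GlT p α hα) χh)
    (hres : Cfsg.IsIrrCharacter G (fun g : G => χh (SemidirectProduct.inl g)))
    (j : ZMod p) (hj : j ≠ 0) :
    Cfsg.classInner (glB p α hα κ χh j) (glB p α hα κ χh j) = 1 := by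
  have hcl := isClassFunction_of_isIrrCharacter h1
  have h2 := gl_coset_fixed p α hα hcop κ hκ hκr j hj (fun t => χh t * conj (χh t)) (by
    intro a t
    simp only [hcl t a])
  rw [gl_coset_norm p α hα χh h1 hres j] at h2
  have hG0 : (Nat.card G : ℂ) ≠ 0 := card_ne_zero_complex G
  have hC0 : (Nat.card C : ℂ) ≠ 0 := card_ne_zero_complex C
  rw [classInner_def]
  have h3 : ∑ c : C, glB p α hα κ χh j c * conj (glB p α hα κ χh j c) = (Nat.card C : ℂ) := by
    apply mul_left_cancel₀ hG0
    rw [mul_comm (Nat.card G : ℂ) (Nat.card C : ℂ)]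
    exact h2.symm
  rw [h3, inv_mul_cancel₀ hC0]

include hα hcop hκ hκr in
theorem glB_orth (χh χh' : GlT p α hα → ℂ) (h1 : Cfsg.IsCharacter (GlT p α hα) χh)
    (h2 : Cfsg.IsCharacter (GlT p α hα) χh')
    (hres : Cfsg.classInner (fun g : G => χh (SemidirectProduct.inl g))
      (fun g : G => χh' (SemidirectProduct.inl g)) = 0) (j : ZMod p) (hj : j ≠ 0) :
    Cfsg.classInner (glB p α hα κ χh j) (glB p α hα κ χh' j) = 0 := by
  have hcl := isClassFunction_of_isCharacter h1
  have hcl' := isClassFunction_of_isCharacter h2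
  have h3 := gl_coset_fixed p α hα hcop κ hκ hκr j hj (fun t => χh t * conj (χh' t)) (by
    intro a t
    simp only [hcl t a, hcl' t a])
  rw [gl_coset_orth p α hα χh χh' h1 h2 hres j, mul_zero] at h3
  have hG0 : (Nat.card G : ℂ) ≠ 0 := card_ne_zero_complex G
  rw [classInner_def]
  have h4 : ∑ c : C, glB p α hα κ χh j c * conj (glB p α hα κ χh' j c) = 0 := by
    rcases mul_eq_zero.mp h3.symm with h | h
    · exact absurd h hG0
    · exact h
  rw [h4, mul_zero]

/-- the homomorphism from `C × Z/p` into the semidirect product -/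
def glProd (hfix : ∀ c, α (κ c) = κ c) : C × Multiplicative (ZMod p) →* GlT p α hα :=
  MonoidHom.noncommCoprod ((SemidirectProduct.inl).comp κ) SemidirectProduct.inr (by
    intro c j
    show _ * _ = _ * _
    ext
    · have : (glHom p α hα j) (κ c) = κ c := gl_pow_fix α _ _ (hfix c)
      simp [SemidirectProduct.mul_left, this]
    · simp [SemidirectProduct.mul_right])

omit [Fintype G] [Fintype C] in
theorem glProd_apply (hfix : ∀ c, α (κ c) = κ c) (c : C) (j : ZMod p) :
    glProd p α hα κ hfix (c, Multiplicative.ofAdd j) = glMk p α hα (κ c) j := by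
  rw [glMk_eq]
  rfl

omit [Fintype G] in
theorem gl_mult_eq (hfix : ∀ c, α (κ c) = κ c) (χh : GlT p α hα → ℂ) (β : C → ℂ)
    (ψ : AddChar (ZMod p) ℂ) :
    Cfsg.classInner (χh ∘ glProd p α hα κ hfix)
        (fun y : C × Multiplicative (ZMod p) => β y.1 * ψ (Multiplicative.toAdd y.2))
      = (p : ℂ)⁻¹ * ∑ j : ZMod p, conj (ψ j) * Cfsg.classInner (glB p α hα κ χh j) β := by
  have h1 : ∑ y : C × Multiplicative (ZMod p), (χh ∘ glProd p α hα κ hfix) y
        * conj (β y.1 * ψ (Multiplicative.toAdd y.2))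
      = ∑ j : ZMod p, conj (ψ j) * ∑ c : C, glB p α hα κ χh j c * conj (β c) := by
    rw [Fintype.sum_prod_type, Finset.sum_comm]
    apply Fintype.sum_equiv Multiplicative.toAdd
    intro y
    rw [Finset.mul_sum]
    apply Finset.sum_congr rfl
    intro c _
    have h2 : glProd p α hα κ hfix (c, y) = glMk p α hα (κ c) (Multiplicative.toAdd y) :=
      glProd_apply p α hα κ hfix c (Multiplicative.toAdd y)
    simp only [Function.comp, h2, map_mul, glB]
    ring
  have hcard : Nat.card (Multiplicative (ZMod p)) = p := by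
    rw [Nat.card_eq_fintype_card, Fintype.card_multiplicative, ZMod.card]
  rw [classInner_def, h1, Nat.card_prod, hcard]
  simp only [classInner_def]
  push_cast
  rw [mul_inv, mul_comm (Nat.card C : ℂ)⁻¹, mul_assoc, Finset.mul_sum (a := (Nat.card C : ℂ)⁻¹)]
  congr 1
  apply Finset.sum_congr rfl
  intro j _
  ring

omit [Fintype G] in
theorem gl_mult_nat (hfix : ∀ c, α (κ c) = κ c) (χh : GlT p α hα → ℂ)
    (hχh : Cfsg.IsCharacter (GlT p α hα) χh) (β : C → ℂ) (hβ : Cfsg.IsIrrCharacter C β)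
    (ψ : AddChar (ZMod p) ℂ) :
    ∃ n : ℕ, (p : ℂ)⁻¹ * ∑ j : ZMod p, conj (ψ j) * Cfsg.classInner (glB p α hα κ χh j) β
      = (n : ℂ) := by
  rw [← gl_mult_eq p α hα κ hfix]
  apply classInner_isCharacter_nat (IsCharacter.comp_hom hχh _)
  apply isCharacter_prod (isCharacter_of_isIrrCharacter hβ)
  have h := isIrrCharacter_of_hom (ψ.toMonoidHom.toHomUnits)
  have h2 : (fun g : Multiplicative (ZMod p) => ((ψ.toMonoidHom.toHomUnits g : ℂˣ) : ℂ))
      = fun j => ψ (Multiplicative.toAdd j) := by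
    funext j
    simp [MonoidHom.coe_toHomUnits, AddChar.toMonoidHom_apply]
  rw [h2] at h
  exact isCharacter_of_isIrrCharacter h

omit [Fintype G] in
/-- the multiplicity data of one irreducible character of the fixed points -/
theorem gl_beta_data (hfix : ∀ c, α (κ c) = κ c) (χh : GlT p α hα → ℂ)
    (hχh : Cfsg.IsCharacter (GlT p α hα) χh) (β : C → ℂ) (hβ : Cfsg.IsIrrCharacter C β) :
    ∃ n : AddChar (ZMod p) ℂ → ℕ,
      Cfsg.classInner (glB p α hα κ χh 0) β = ((∑ ψ, n ψ : ℕ) : ℂ) ∧
      ∑ j ∈ Finset.univ.erase (0 : ZMod p), Cfsg.classInner (glB p α hα κ χh j) β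
          * conj (Cfsg.classInner (glB p α hα κ χh j) β)
        = (((p : ℤ) * ∑ ψ, (n ψ : ℤ) ^ 2 - (∑ ψ, (n ψ : ℤ)) ^ 2 : ℤ) : ℂ) := by
  classical
  have hn := fun ψ => gl_mult_nat p α hα κ hfix χh hχh β hβ ψ
  choose n hn using hn
  refine ⟨n, ?_, ?_⟩
  · have h1 := (zmod_fourier p (fun j => Cfsg.classInner (glB p α hα κ χh j) β)).1
    simp only [hn] at h1
    rw [← h1]
    push_cast
    rfl
  · have h1 := (zmod_fourier p (fun j => Cfsg.classInner (glB p α hα κ χh j) β)).1
    have h2 := (zmod_fourier p (fun j => Cfsg.classInner (glB p α hα κ χh j) β)).2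
    simp only [hn, Complex.conj_natCast] at h1 h2
    have hp0 : (p : ℂ) ≠ 0 := Nat.cast_ne_zero.mpr hp.out.ne_zero
    rw [← Finset.add_sum_erase _ _ (Finset.mem_univ (0 : ZMod p))] at h2
    have h3 : ∑ j ∈ Finset.univ.erase (0 : ZMod p), Cfsg.classInner (glB p α hα κ χh j) β
          * conj (Cfsg.classInner (glB p α hα κ χh j) β)
        = (p : ℂ) * ∑ ψ : AddChar (ZMod p) ℂ, (n ψ : ℂ) * (n ψ : ℂ)
          - Cfsg.classInner (glB p α hα κ χh 0) β
            * conj (Cfsg.classInner (glB p α hα κ χh 0) β) := by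
      rw [h2]
      field_simp
      ring
    rw [h3, ← h1, map_sum]
    simp only [Complex.conj_natCast]
    push_cast
    ring_nf

end main

end Cfsg.Agent.Lib.Helper2
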