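import Mathlib
import Cfsg.Agent.Lib.Helper2.GlaubMain

set_option autoImplicit false

/-! Glauberman correspondence, order `p` case: existence, uniqueness and injectivity of the
correspondent. -/

namespace Cfsg.Agent.Lib.Helper2

open scoped ComplexConjugate

attribute [local instance] glFintype

section base

variable {G : Type*} [Group G] [Fintype G] (p : ℕ) [hp : Fact p.Prime] (α : MulAut G)
  (hα : α ^ p = 1) (hcop : ¬ p ∣ Nat.card G)
  {C : Type*} [Group C] [Fintype C] (κ : C →* G) (hκ : Function.Injective κ)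
  (hκr : ∀ g, g ∈ κ.range ↔ α g = g)

include hα hcop hκ hκr in
/-- the multiplicities of an irreducible extension on the fixed points -/
theorem gl_analysis (χh : GlT p α hα → ℂ) (h1 : Cfsg.IsIrrCharacter (GlT p α hα) χh)
    (hres : Cfsg.IsIrrCharacter G (fun g : G => χh (SemidirectProduct.inl g))) :
    ∃ β₀ : Cfsg.IrrCharacter C,
      (∃ m : ℕ, Cfsg.classInner (glB p α hα κ χh 0) β₀ = (m : ℂ) ∧
        ((m : ℤ) ≡ 1 [ZMOD p] ∨ (m : ℤ) ≡ -1 [ZMOD p])) ∧
      (∀ β : Cfsg.IrrCharacter C, β ≠ β₀ →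
        (∃ m : ℕ, Cfsg.classInner (glB p α hα κ χh 0) β = (m : ℂ) ∧ p ∣ m) ∧
          ∀ j : ZMod p, j ≠ 0 → Cfsg.classInner (glB p α hα κ χh j) β = 0) ∧
      (∀ j : ZMod p, j ≠ 0 → Cfsg.classInner (glB p α hα κ χh j) β₀ ≠ 0) := by
  classical
  haveI := Fintype.ofFinite (Cfsg.IrrCharacter C)
  have hfix : ∀ c, α (κ c) = κ c := fun c => (hκr _).mp ⟨c, rfl⟩
  have h1c := isCharacter_of_isIrrCharacter h1
  have hcl := isClassFunction_of_isIrrCharacter h1
  have hdata := fun β : Cfsg.IrrCharacter C => gl_beta_data p α hα κ hfix χh h1c β β.2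
  choose n hn0 hnD using hdata
  set D : Cfsg.IrrCharacter C → ℤ :=
    fun β => (p : ℤ) * ∑ ψ, (n β ψ : ℤ) ^ 2 - (∑ ψ, (n β ψ : ℤ)) ^ 2 with hD
  have hp1 : (1 : ℕ) ≤ p := hp.out.one_lt.le
  have hp2 : (2 : ℤ) ≤ p := by exact_mod_cast hp.out.two_le
  have hParseval : ∀ j : ZMod p, j ≠ 0 →
      ∑ β : Cfsg.IrrCharacter C, Cfsg.classInner (glB p α hα κ χh j) β
        * conj (Cfsg.classInner (glB p α hα κ χh j) β) = 1 := by
    intro j hj
    rw [← classInner_eq_sum _ _ (glB_class p α hα κ hκr χh hcl j),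
      glB_norm p α hα hcop κ hκ hκr χh h1 hres j hj]
  have hsum : ∑ β, D β = (p : ℤ) - 1 := by
    have h2 : ∑ β, (D β : ℂ) = (p : ℂ) - 1 := by
      calc ∑ β, (D β : ℂ)
          = ∑ β : Cfsg.IrrCharacter C, ∑ j ∈ Finset.univ.erase (0 : ZMod p),
              Cfsg.classInner (glB p α hα κ χh j) β
                * conj (Cfsg.classInner (glB p α hα κ χh j) β) := by
            apply Finset.sum_congr rfl
            intro β _
            exact (hnD β).symm
        _ = ∑ j ∈ Finset.univ.erase (0 : ZMod p), ∑ β : Cfsg.IrrCharacter C,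
              Cfsg.classInner (glB p α hα κ χh j) β
                * conj (Cfsg.classInner (glB p α hα κ χh j) β) := Finset.sum_comm
        _ = ∑ j ∈ Finset.univ.erase (0 : ZMod p), (1 : ℂ) := by
            apply Finset.sum_congr rfl
            intro j hj
            exact hParseval j (Finset.ne_of_mem_erase hj)
        _ = (p : ℂ) - 1 := by
            rw [Finset.sum_const, Finset.card_erase_of_mem (Finset.mem_univ _), Finset.card_univ,
              ZMod.card, nsmul_eq_mul, mul_one, Nat.cast_sub hp1, Nat.cast_one]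
    exact_mod_cast h2
  have hc : Fintype.card (AddChar (ZMod p) ℂ) = p := by rw [AddChar.card_eq, ZMod.card]
  have hdich : ∀ β, (∀ ψ ψ', n β ψ = n β ψ') ∨ (p : ℤ) - 1 ≤ D β := by
    intro β
    by_cases h : ∀ ψ ψ', n β ψ = n β ψ'
    · exact Or.inl h
    · right
      push Not at h
      obtain ⟨ψ, ψ', hne⟩ := h
      have h3 := int_var_bound (fun ψ => (n β ψ : ℤ)) ψ ψ' (by exact_mod_cast hne)
      rw [hc] at h3
      exact h3
  have hconst : ∀ β, (∀ ψ ψ', n β ψ = n β ψ') → D β = 0 ∧ p ∣ ∑ ψ, n β ψ := by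
    intro β h
    have h2 : ∀ ψ, n β ψ = n β 0 := fun ψ => h ψ 0
    constructor
    · simp only [hD]
      have h3 : ∑ ψ, (n β ψ : ℤ) ^ 2 = (p : ℤ) * (n β 0 : ℤ) ^ 2 := by
        rw [Finset.sum_congr rfl (fun ψ _ => by rw [h2 ψ]), Finset.sum_const, Finset.card_univ, hc,
          nsmul_eq_mul]
      have h4 : ∑ ψ, (n β ψ : ℤ) = (p : ℤ) * (n β 0 : ℤ) := by
        rw [Finset.sum_congr rfl (fun ψ _ => by rw [h2 ψ]), Finset.sum_const, Finset.card_univ, hc,
          nsmul_eq_mul]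
      rw [h3, h4]
      ring
    · rw [Finset.sum_congr rfl (fun ψ _ => h2 ψ), Finset.sum_const, Finset.card_univ, hc,
        smul_eq_mul]
      exact dvd_mul_right _ _
  have hD0 : ∀ β, 0 ≤ D β := by
    intro β
    rcases hdich β with h | h
    · rw [(hconst β h).1]
    · omega
  have hex : ∃ β₀, (p : ℤ) - 1 ≤ D β₀ := by
    by_contra hno
    push Not at hno
    have h0 : ∀ β, D β = 0 := fun β => by
      rcases hdich β with h | h
      · exact (hconst β h).1
      · exact absurd h (not_le.mpr (hno β))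
    rw [Finset.sum_eq_zero (fun β _ => h0 β)] at hsum
    omega
  obtain ⟨β₀, hβ₀⟩ := hex
  have hother : ∀ β, β ≠ β₀ → ∀ ψ ψ', n β ψ = n β ψ' := by
    intro β hβ
    rcases hdich β with h | h
    · exact h
    · exfalso
      have h5 : D β₀ + D β ≤ ∑ β, D β := by
        rw [← Finset.add_sum_erase _ _ (Finset.mem_univ β₀)]
        have : D β ≤ ∑ x ∈ Finset.univ.erase β₀, D x :=
          Finset.single_le_sum (fun x _ => hD0 x) (Finset.mem_erase.mpr ⟨hβ, Finset.mem_univ _⟩)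
        omega
      omega
  have hDβ₀ : D β₀ = (p : ℤ) - 1 := by
    rw [← hsum, ← Finset.add_sum_erase _ _ (Finset.mem_univ β₀),
      Finset.sum_eq_zero (fun β hβ => (hconst β (hother β (Finset.ne_of_mem_erase hβ))).1),
      add_zero]
  have hvan : ∀ β, β ≠ β₀ → ∀ j : ZMod p, j ≠ 0 →
      Cfsg.classInner (glB p α hα κ χh j) β = 0 := by
    intro β hβ j hj
    have h6 := hnD β
    have h7 : (p : ℤ) * ∑ ψ, (n β ψ : ℤ) ^ 2 - (∑ ψ, (n β ψ : ℤ)) ^ 2 = 0 :=
      (hconst β (hother β hβ)).1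
    rw [h7] at h6
    exact eq_zero_of_sum_mul_conj _ _ (by simpa using h6) j
      (Finset.mem_erase.mpr ⟨hj, Finset.mem_univ _⟩)
  refine ⟨β₀, ?_, ?_, ?_⟩
  · refine ⟨∑ ψ, n β₀ ψ, hn0 β₀, ?_⟩
    have hm : (p : ℤ) ∣ (((∑ ψ, n β₀ ψ : ℕ) : ℤ) - 1) * (((∑ ψ, n β₀ ψ : ℕ) : ℤ) + 1) := by
      have h8 : (((∑ ψ, n β₀ ψ : ℕ) : ℤ) - 1) * (((∑ ψ, n β₀ ψ : ℕ) : ℤ) + 1)
          = p * (∑ ψ, (n β₀ ψ : ℤ) ^ 2 - 1) := by
        have h9 := hDβ₀
        simp only [hD] at h9
        push_cast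
        linarith
      rw [h8]
      exact dvd_mul_right _ _
    rcases (Nat.prime_iff_prime_int.mp hp.out).dvd_or_dvd hm with h | h
    · left
      exact (Int.modEq_iff_dvd.mpr h).symm
    · right
      refine (Int.modEq_iff_dvd.mpr ?_).symm
      rwa [sub_neg_eq_add]
  · intro β hβ
    exact ⟨⟨∑ ψ, n β ψ, hn0 β, (hconst β (hother β hβ)).2⟩, hvan β hβ⟩
  · intro j hj h0
    have hP := hParseval j hj
    rw [Finset.sum_eq_zero] at hP
    · exact zero_ne_one hP
    · intro β _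
      by_cases hβ : β = β₀
      · rw [hβ, h0, zero_mul]
      · rw [hvan β hβ j hj, zero_mul]

include hα hcop hκ hκr in
theorem gl_inj_aux (χh χh' : GlT p α hα → ℂ) (h1 : Cfsg.IsIrrCharacter (GlT p α hα) χh)
    (h1' : Cfsg.IsIrrCharacter (GlT p α hα) χh')
    (hres : Cfsg.IsIrrCharacter G (fun g : G => χh (SemidirectProduct.inl g)))
    (hres' : Cfsg.IsIrrCharacter G (fun g : G => χh' (SemidirectProduct.inl g)))
    (hne : (fun g : G => χh (SemidirectProduct.inl g)) ≠ (fun g : G => χh' (SemidirectProduct.inl g)))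
    (β : Cfsg.IrrCharacter C) (m m' : ℕ)
    (hm : Cfsg.classInner (glB p α hα κ χh 0) β = (m : ℂ)) (hpm : ¬ p ∣ m)
    (hm' : Cfsg.classInner (glB p α hα κ χh' 0) β = (m' : ℂ)) (hpm' : ¬ p ∣ m') : False := by
  classical
  haveI := Fintype.ofFinite (Cfsg.IrrCharacter C)
  obtain ⟨β₀, -, hoth, hnv⟩ := gl_analysis p α hα hcop κ hκ hκr χh h1 hres
  obtain ⟨β₀', -, hoth', hnv'⟩ := gl_analysis p α hα hcop κ hκ hκr χh' h1' hres'
  have hβ : β₀ = β := by
    by_contra h
    obtain ⟨⟨m₁, hm₁, hd⟩, -⟩ := hoth β (fun h' => h h'.symm)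
    rw [hm] at hm₁
    have : m = m₁ := by exact_mod_cast hm₁
    exact hpm (this ▸ hd)
  have hβ' : β₀' = β := by
    by_contra h
    obtain ⟨⟨m₁, hm₁, hd⟩, -⟩ := hoth' β (fun h' => h h'.symm)
    rw [hm'] at hm₁
    have : m' = m₁ := by exact_mod_cast hm₁
    exact hpm' (this ▸ hd)
  rw [hβ] at hoth hnv
  rw [hβ'] at hoth' hnv'
  have h1ne : (1 : ZMod p) ≠ 0 := by
    haveI : Fact (1 < p) := ⟨hp.out.one_lt⟩
    exact one_ne_zero
  have hcl := isClassFunction_of_isIrrCharacter h1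
  have horth := glB_orth p α hα hcop κ hκ hκr χh χh' (isCharacter_of_isIrrCharacter h1)
    (isCharacter_of_isIrrCharacter h1') (classInner_irr_ne hres hres' hne) 1 h1ne
  rw [classInner_eq_sum _ _ (glB_class p α hα κ hκr χh hcl 1)] at horth
  rw [Finset.sum_eq_single β] at horth
  · rcases mul_eq_zero.mp horth with h | h
    · exact hnv 1 h1ne h
    · exact hnv' 1 h1ne ((map_eq_zero _).mp h)
  · intro γ _ hγ
    rw [(hoth γ hγ).2 1 h1ne, zero_mul]
  · intro h
    exact absurd (Finset.mem_univ _) h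

include hα hcop hκ hκr in
/-- order `p` case, existence: an invariant irreducible character has exactly one irreducible
constituent on the fixed points whose multiplicity is prime to `p`, and it is `±1` mod `p` -/
theorem glaub_base_exists (χ : G → ℂ) (hχ : Cfsg.IsIrrCharacter G χ) (hinv : ∀ g, χ (α g) = χ g) :
    ∃ β₀ : Cfsg.IrrCharacter C,
      (∃ m : ℕ, Cfsg.classInner (χ ∘ κ) β₀ = (m : ℂ) ∧
        ((m : ℤ) ≡ 1 [ZMOD p] ∨ (m : ℤ) ≡ -1 [ZMOD p])) ∧
      ∀ β : Cfsg.IrrCharacter C, β ≠ β₀ →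
        ∃ m : ℕ, Cfsg.classInner (χ ∘ κ) β = (m : ℂ) ∧ p ∣ m := by
  obtain ⟨χh, h1, hext⟩ := gl_exists_ext p α hα χ hχ hinv
  have hres : (fun g : G => χh (SemidirectProduct.inl g)) = χ := funext hext
  have h0 : glB p α hα κ χh 0 = χ ∘ κ := by
    rw [glB_zero]
    funext c
    exact hext (κ c)
  obtain ⟨β₀, hβ₀, hoth, -⟩ := gl_analysis p α hα hcop κ hκ hκr χh h1 (hres ▸ hχ)
  rw [h0] at hβ₀
  refine ⟨β₀, hβ₀, fun β hβ => ?_⟩
  have := (hoth β hβ).1
  rwa [h0] at this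

include hα hcop hκ hκr in
/-- order `p` case, injectivity -/
theorem glaub_base_inj (χ χ' : G → ℂ) (hχ : Cfsg.IsIrrCharacter G χ)
    (hχ' : Cfsg.IsIrrCharacter G χ') (hinv : ∀ g, χ (α g) = χ g) (hinv' : ∀ g, χ' (α g) = χ' g)
    (β : Cfsg.IrrCharacter C) (m m' : ℕ)
    (hm : Cfsg.classInner (χ ∘ κ) β = (m : ℂ)) (hpm : ¬ p ∣ m)
    (hm' : Cfsg.classInner (χ' ∘ κ) β = (m' : ℂ)) (hpm' : ¬ p ∣ m') : χ = χ' := by
  by_contra hne
  obtain ⟨χh, h1, hext⟩ := gl_exists_ext p α hα χ hχ hinv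
  obtain ⟨χh', h1', hext'⟩ := gl_exists_ext p α hα χ' hχ' hinv'
  have hres : (fun g : G => χh (SemidirectProduct.inl g)) = χ := funext hext
  have hres' : (fun g : G => χh' (SemidirectProduct.inl g)) = χ' := funext hext'
  have h0 : glB p α hα κ χh 0 = χ ∘ κ := by
    rw [glB_zero]
    funext c
    exact hext (κ c)
  have h0' : glB p α hα κ χh' 0 = χ' ∘ κ := by
    rw [glB_zero]
    funext c
    exact hext' (κ c)
  exact gl_inj_aux p α hα hcop κ hκ hκr χh χh' h1 h1' (hres ▸ hχ) (hres' ▸ hχ')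
    (by rw [hres, hres']; exact hne) β m m' (h0 ▸ hm) hpm (h0' ▸ hm') hpm'

end base

end Cfsg.Agent.Lib.Helper2
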