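import Mathlib

set_option autoImplicit false

/-! Coprime action of a `p`-group: conjugacy classes and fixed points. -/

namespace Cfsg.Agent.Lib.Helper2

section classes

variable {P G : Type*} [Group P] [Group G] [Finite G] (p : ℕ) [hp : Fact p.Prime]
  (hP : IsPGroup p P) (φ : P →* MulAut G) (hcop : ¬ p ∣ Nat.card G)

include hP hcop in
/-- fixed elements that are conjugate in `G` are conjugate by a fixed element -/
theorem fixed_conj (c c' : G) (hc : ∀ a, φ a c = c) (hc' : ∀ a, φ a c' = c') (h : IsConj c c') :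
    ∃ y : G, (∀ a, φ a y = y) ∧ y * c * y⁻¹ = c' := by
  obtain ⟨x, hx⟩ := isConj_iff.mp h
  let Y : Type _ := {y : G // y * c * y⁻¹ = c'}
  letI : MulAction P Y :=
    { smul := fun a y => ⟨φ a y.1, by
        have h1 : φ a y.1 * c * (φ a y.1)⁻¹ = φ a (y.1 * c * y.1⁻¹) := by
          rw [map_mul, map_mul, map_inv, hc a]
        rw [h1, y.2, hc' a]⟩
      one_smul := fun y => Subtype.ext (by
        show φ 1 y.1 = y.1
        rw [map_one]
        rfl)
      mul_smul := fun a b y => Subtype.ext (by
        show φ (a * b) y.1 = φ a (φ b y.1)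
        rw [map_mul]
        rfl) }
  have hcard : Nat.card Y = Nat.card (Subgroup.centralizer ({c} : Set G)) := by
    apply Nat.card_congr
    exact
      { toFun := fun y => ⟨x⁻¹ * y.1, by
          rw [Subgroup.mem_centralizer_iff]
          intro d hd
          rw [Set.mem_singleton_iff] at hd
          subst hd
          have h2 : y.1 * d * y.1⁻¹ = x * d * x⁻¹ := by rw [y.2, hx]
          have h3 : d * (x⁻¹ * y.1) = x⁻¹ * (x * d * x⁻¹) * y.1 := by group
          rw [h3, ← h2]
          group⟩
        invFun := fun z => ⟨x * z.1, by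
          have h2 := (Subgroup.mem_centralizer_iff.mp z.2) c (Set.mem_singleton c)
          have h3 : x * z.1 * c * (x * z.1)⁻¹ = x * (z.1 * c) * z.1⁻¹ * x⁻¹ := by group
          rw [h3, ← h2, ← hx]
          group⟩
        left_inv := fun y => Subtype.ext (by simp)
        right_inv := fun z => Subtype.ext (by simp) }
  have hnd : ¬ p ∣ Nat.card Y := by
    rw [hcard]
    intro hd
    exact hcop (hd.trans (Subgroup.card_subgroup_dvd_card _))
  obtain ⟨y, hy⟩ := hP.nonempty_fixed_point_of_prime_not_dvd_card Y hnd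
  refine ⟨y.1, fun a => ?_, y.2⟩
  exact congrArg Subtype.val (hy a)

include hP hcop in
/-- a conjugacy class that is mapped to itself contains a fixed element -/
theorem exists_fixed_of_class (g : G) (hg : ∀ a, IsConj (φ a g) g) :
    ∃ c : G, (∀ a, φ a c = c) ∧ IsConj c g := by
  let K : Type _ := {k : G // IsConj g k}
  letI : MulAction P K :=
    { smul := fun a k => ⟨φ a k.1, (hg a).symm.trans ((φ a).toMonoidHom.map_isConj k.2)⟩
      one_smul := fun k => Subtype.ext (by
        show φ 1 k.1 = k.1
        rw [map_one]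
        rfl)
      mul_smul := fun a b k => Subtype.ext (by
        show φ (a * b) k.1 = φ a (φ b k.1)
        rw [map_mul]
        rfl) }
  have hcard : Nat.card K = (MulAction.stabilizer (ConjAct G) g).index := by
    rw [MulAction.index_stabilizer, ← Nat.card_coe_set_eq]
    apply Nat.card_congr
    apply Equiv.subtypeEquivRight
    intro k
    rw [ConjAct.mem_orbit_conjAct]
    exact isConj_comm
  have hnd : ¬ p ∣ Nat.card K := by
    rw [hcard]
    intro hd
    apply hcop
    have h1 := hd.trans (Subgroup.index_dvd_card (MulAction.stabilizer (ConjAct G) g))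
    rwa [Nat.card_congr (ConjAct.toConjAct (G := G)).toEquiv.symm] at h1
  obtain ⟨k, hk⟩ := hP.nonempty_fixed_point_of_prime_not_dvd_card K hnd
  refine ⟨k.1, fun a => ?_, k.2.symm⟩
  exact congrArg Subtype.val (hk a)

end classes

theorem not_dvd_of_pm_one (p : ℕ) (hp : p.Prime) (m : ℕ)
    (h : (m : ℤ) ≡ 1 [ZMOD p] ∨ (m : ℤ) ≡ -1 [ZMOD p]) : ¬ p ∣ m := by
  intro hd
  have hd' : (p : ℤ) ∣ (m : ℤ) := by exact_mod_cast hd
  have h1 : (p : ℤ) ∣ 1 := by
    rcases h with h | h
    · have h2 := Int.modEq_iff_dvd.mp h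
      have h3 := dvd_add h2 hd'
      simpa using h3
    · have h2 := Int.modEq_iff_dvd.mp h
      have h3 := dvd_add h2 hd'
      have h4 : (-1 - (m : ℤ) + m) = -1 := by ring
      rw [h4] at h3
      exact (dvd_neg).mp h3
  have h5 := Int.eq_one_of_dvd_one (by positivity) h1
  have := hp.one_lt
  omega

end Cfsg.Agent.Lib.Helper2
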