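import Mathlib
import Cfsg.Agent.Lib.Helper2.GlaubBase
import Cfsg.Agent.Lib.Helper2.GlaubClass

set_option autoImplicit false

/-! Glauberman correspondence: the packaged statement, the case of an automorphism of order
dividing `p`, and composition of correspondences. -/

namespace Cfsg.Agent.Lib.Helper2

open scoped ComplexConjugate

/-- `IsGlaub p κ inv`: along the embedding `κ : C → G`, every irreducible character `χ` of `G`
with `inv χ` has exactly one irreducible constituent on `C` of multiplicity prime to `p`, that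
multiplicity is `±1` mod `p`, and this is a bijection onto the irreducible characters of `C`. -/
def IsGlaub (p : ℕ) {G C : Type*} [Group G] [Fintype G] [Group C] [Fintype C] (κ : C →* G)
    (inv : (G → ℂ) → Prop) : Prop :=
  (∀ χ : G → ℂ, Cfsg.IsIrrCharacter G χ → inv χ → ∃ β₀ : Cfsg.IrrCharacter C,
      (∃ m : ℕ, Cfsg.classInner (χ ∘ κ) β₀ = (m : ℂ) ∧
        ((m : ℤ) ≡ 1 [ZMOD p] ∨ (m : ℤ) ≡ -1 [ZMOD p])) ∧
      ∀ β : Cfsg.IrrCharacter C, β ≠ β₀ →
        ∃ m : ℕ, Cfsg.classInner (χ ∘ κ) β = (m : ℂ) ∧ p ∣ m) ∧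
  (∀ χ χ' : G → ℂ, Cfsg.IsIrrCharacter G χ → Cfsg.IsIrrCharacter G χ' → inv χ → inv χ' →
      ∀ β : Cfsg.IrrCharacter C, ∀ m m' : ℕ, Cfsg.classInner (χ ∘ κ) β = (m : ℂ) → ¬ p ∣ m →
        Cfsg.classInner (χ' ∘ κ) β = (m' : ℂ) → ¬ p ∣ m' → χ = χ') ∧
  (∀ β : Cfsg.IrrCharacter C, ∃ χ : G → ℂ, Cfsg.IsIrrCharacter G χ ∧ inv χ ∧
      ∃ m : ℕ, Cfsg.classInner (χ ∘ κ) β = (m : ℂ) ∧ ¬ p ∣ m)

section base

variable {G : Type*} [Group G] [Fintype G] (p : ℕ) [hp : Fact p.Prime] (α : MulAut G)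
  (hα : α ^ p = 1) (hcop : ¬ p ∣ Nat.card G)
  {C : Type*} [Group C] [Fintype C] (κ : C →* G) (hκ : Function.Injective κ)
  (hκr : ∀ g, g ∈ κ.range ↔ α g = g)

include hα hcop hκ hκr in
/-- the classes of `G` mapped to themselves by `α` correspond to the classes of the fixed
points -/
theorem gl_card_classes :
    Nat.card (ConjClasses C)
      = Nat.card {K : ConjClasses G // ∀ g : G, ConjClasses.mk g = K → IsConj (α g) g} := by
  have hPg : IsPGroup p (Multiplicative (ZMod p)) := by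
    apply IsPGroup.of_card (n := 1)
    rw [pow_one, Nat.card_eq_fintype_card, Fintype.card_multiplicative, ZMod.card]
  have hfixall : ∀ g : G, α g = g → ∀ a : Multiplicative (ZMod p), glHom p α hα a g = g :=
    fun g hg a => gl_pow_fix α _ g hg
  let f : ConjClasses C → {K : ConjClasses G // ∀ g : G, ConjClasses.mk g = K → IsConj (α g) g} :=
    fun K => ⟨ConjClasses.map κ K, by
      obtain ⟨c, rfl⟩ := ConjClasses.mk_surjective K
      intro g hg
      have h1 : IsConj g (κ c) := ConjClasses.mk_eq_mk_iff_isConj.mp hg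
      have h2 : IsConj (α g) (α (κ c)) := α.toMonoidHom.map_isConj h1
      rw [(hκr _).mp ⟨c, rfl⟩] at h2
      exact h2.trans h1.symm⟩
  apply Nat.card_eq_of_bijective f
  constructor
  · intro K K' hKK
    obtain ⟨c, rfl⟩ := ConjClasses.mk_surjective K
    obtain ⟨c', rfl⟩ := ConjClasses.mk_surjective K'
    have h1 : IsConj (κ c) (κ c') :=
      ConjClasses.mk_eq_mk_iff_isConj.mp (congrArg Subtype.val hKK)
    obtain ⟨y, hy, hyc⟩ := fixed_conj p hPg (glHom p α hα) hcop (κ c) (κ c')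
      (hfixall _ ((hκr _).mp ⟨c, rfl⟩)) (hfixall _ ((hκr _).mp ⟨c', rfl⟩)) h1
    have hy1 : α y = y := by
      have := hy (Multiplicative.ofAdd 1)
      rwa [glHom_one] at this
    obtain ⟨h, rfl⟩ := (hκr y).mpr hy1
    apply ConjClasses.mk_eq_mk_iff_isConj.mpr
    apply isConj_iff.mpr
    refine ⟨h, hκ ?_⟩
    rw [map_mul, map_mul, map_inv, hyc]
  · rintro ⟨K, hK⟩
    obtain ⟨g, rfl⟩ := ConjClasses.mk_surjective K
    have h1 : IsConj (α g) g := hK g rfl
    have h2 : ∀ k : ℕ, IsConj ((α ^ k) g) g := by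
      intro k
      induction k with
      | zero => exact IsConj.refl g
      | succ k ih =>
        rw [pow_succ, MulAut.mul_apply]
        exact ((α ^ k).toMonoidHom.map_isConj h1).trans ih
    obtain ⟨c', hc', hcg⟩ := exists_fixed_of_class p hPg (glHom p α hα) hcop g
      (fun a => h2 _)
    have hc1 : α c' = c' := by
      have := hc' (Multiplicative.ofAdd 1)
      rwa [glHom_one] at this
    obtain ⟨c, rfl⟩ := (hκr c').mpr hc1
    refine ⟨ConjClasses.mk c, Subtype.ext ?_⟩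
    exact ConjClasses.mk_eq_mk_iff_isConj.mpr hcg

include hα hcop hκ hκr in
/-- the order `p` case of the Glauberman correspondence -/
theorem isGlaub_base : IsGlaub p κ (fun χ => ∀ g, χ (α g) = χ g) := by
  classical
  have hex := glaub_base_exists p α hα hcop κ hκ hκr
  have hinj := glaub_base_inj p α hα hcop κ hκ hκr
  refine ⟨hex, hinj, ?_⟩
  -- surjectivity by counting
  let X : Type _ := {χ : Cfsg.IrrCharacter G // (χ : G → ℂ) ∘ α = (χ : G → ℂ)}
  have hXinv : ∀ χ : X, ∀ g, (χ.1 : G → ℂ) (α g) = (χ.1 : G → ℂ) g := fun χ g =>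
    congrFun χ.2 g
  let Φ : X → Cfsg.IrrCharacter C := fun χ => (hex χ.1.1 χ.1.2 (hXinv χ)).choose
  have hΦ : ∀ χ : X, ∃ m : ℕ, Cfsg.classInner ((χ.1 : G → ℂ) ∘ κ) (Φ χ) = (m : ℂ) ∧
      ((m : ℤ) ≡ 1 [ZMOD p] ∨ (m : ℤ) ≡ -1 [ZMOD p]) := fun χ =>
    (hex χ.1.1 χ.1.2 (hXinv χ)).choose_spec.1
  have hΦinj : Function.Injective Φ := by
    intro χ χ' h
    obtain ⟨m, hm, hm1⟩ := hΦ χ
    obtain ⟨m', hm', hm1'⟩ := hΦ χ'
    rw [← h] at hm'
    apply Subtype.ext
    apply Subtype.ext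
    exact hinj _ _ χ.1.2 χ'.1.2 (hXinv χ) (hXinv χ') (Φ χ) m m' hm
      (not_dvd_of_pm_one p hp.out m hm1) hm' (not_dvd_of_pm_one p hp.out m' hm1')
  have hcard : Nat.card (Cfsg.IrrCharacter C) ≤ Nat.card X := by
    have h1 := card_fixed_irr_eq_card_fixed_classes (G := G) (fun g => α g)
      (fun χ hχ => isIrrCharacter_comp_mulEquiv hχ α)
      (fun g h hgh => α.toMonoidHom.map_isConj hgh)
    have h2 := gl_card_classes p α hα hcop κ hκ hκr
    have h3 := card_irr_eq_card_conjClasses (G := C)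
    have h4 : Nat.card X = Nat.card {χ : Cfsg.IrrCharacter G //
        (χ : G → ℂ) ∘ (fun g => α g) = (χ : G → ℂ)} := rfl
    rw [h4, h1, ← h2, h3]
  have hbij := hΦinj.bijective_of_nat_card_le hcard
  intro β
  obtain ⟨χ, rfl⟩ := hbij.2 β
  obtain ⟨m, hm, hm1⟩ := hΦ χ
  exact ⟨χ.1.1, χ.1.2, hXinv χ, m, hm, not_dvd_of_pm_one p hp.out m hm1⟩

end base

end Cfsg.Agent.Lib.Helper2
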