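import Mathlib
import Cfsg.Agent.Lib.Helper2.GlaubCorr

set_option autoImplicit false

/-! Glauberman correspondence: composition of two correspondences. -/

namespace Cfsg.Agent.Lib.Helper2

open scoped ComplexConjugate

section comp

variable {G C₁ C : Type*} [Group G] [Fintype G] [Group C₁] [Fintype C₁] [Group C] [Fintype C]
  (p : ℕ) [hp : Fact p.Prime] (κ₁ : C₁ →* G) (κ₂ : C →* C₁)

omit [Fintype G] hp in
/-- multiplicities through an intermediate subgroup, modulo `p` -/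
theorem glaub_comp_mult (χ : G → ℂ) (hχ : Cfsg.IsCharacter G χ) (γ₀ : Cfsg.IrrCharacter C₁)
    (m₁ : ℕ) (hm₁ : Cfsg.classInner (χ ∘ κ₁) γ₀ = (m₁ : ℂ))
    (hoth : ∀ γ : Cfsg.IrrCharacter C₁, γ ≠ γ₀ →
      ∃ m : ℕ, Cfsg.classInner (χ ∘ κ₁) γ = (m : ℂ) ∧ p ∣ m)
    (β : C → ℂ) (hβ : Cfsg.IsCharacter C β) :
    ∃ e M : ℕ, Cfsg.classInner ((γ₀ : C₁ → ℂ) ∘ κ₂) β = (e : ℂ) ∧
      Cfsg.classInner (χ ∘ (κ₁.comp κ₂)) β = (M : ℂ) ∧ (M : ℤ) ≡ (m₁ : ℤ) * e [ZMOD p] := by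
  classical
  haveI := Fintype.ofFinite (Cfsg.IrrCharacter C₁)
  have hcl : Cfsg.IsClassFunction C₁ (χ ∘ κ₁) :=
    isClassFunction_of_isCharacter (IsCharacter.comp_hom hχ κ₁)
  have hexp := class_fun_expand (χ ∘ κ₁) hcl
  have he : ∀ γ : Cfsg.IrrCharacter C₁, ∃ e : ℕ,
      Cfsg.classInner ((γ : C₁ → ℂ) ∘ κ₂) β = (e : ℂ) := fun γ =>
    classInner_isCharacter_nat (IsCharacter.comp_hom (isCharacter_of_isIrrCharacter γ.2) κ₂) hβ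
  choose e he using he
  have ha : ∀ γ : Cfsg.IrrCharacter C₁, ∃ a : ℕ,
      Cfsg.classInner (χ ∘ κ₁) γ = (a : ℂ) ∧ (γ ≠ γ₀ → p ∣ a) := by
    intro γ
    by_cases h : γ = γ₀
    · exact ⟨m₁, h ▸ hm₁, fun h' => absurd h h'⟩
    · obtain ⟨m, hm, hd⟩ := hoth γ h
      exact ⟨m, hm, fun _ => hd⟩
  choose a ha had using ha
  have ha0 : a γ₀ = m₁ := by
    have := ha γ₀
    rw [hm₁] at this
    exact_mod_cast this.symm
  have hM : Cfsg.classInner (χ ∘ (κ₁.comp κ₂)) β = ((∑ γ, a γ * e γ : ℕ) : ℂ) := by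
    have h1 : χ ∘ (κ₁.comp κ₂)
        = ∑ γ : Cfsg.IrrCharacter C₁, Cfsg.classInner (χ ∘ κ₁) γ • ((γ : C₁ → ℂ) ∘ κ₂) := by
      funext c
      have h2 := congrFun hexp (κ₂ c)
      simp only [Function.comp, MonoidHom.comp_apply, Finset.sum_apply, Pi.smul_apply] at h2 ⊢
      exact h2
    rw [h1, classInner_sum_left]
    push_cast
    apply Finset.sum_congr rfl
    intro γ _
    rw [classInner_smul_left, ha, he]
  refine ⟨e γ₀, ∑ γ, a γ * e γ, he γ₀, hM, ?_⟩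
  rw [Int.modEq_iff_dvd, ← Finset.add_sum_erase _ _ (Finset.mem_univ γ₀), ha0]
  push_cast
  have h3 : (m₁ : ℤ) * e γ₀ - ((m₁ : ℤ) * e γ₀ + ∑ x ∈ Finset.univ.erase γ₀, (a x : ℤ) * e x)
      = -∑ x ∈ Finset.univ.erase γ₀, (a x : ℤ) * e x := by ring
  rw [h3, dvd_neg]
  apply Finset.dvd_sum
  intro γ hγ
  have h4 := had γ (Finset.ne_of_mem_erase hγ)
  exact Dvd.dvd.mul_right (by exact_mod_cast h4) _

/-- composition of two correspondences -/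
theorem IsGlaub.comp (inv₁ : (G → ℂ) → Prop) (inv₂ : (C₁ → ℂ) → Prop) (inv : (G → ℂ) → Prop)
    (h₁ : IsGlaub p κ₁ inv₁) (h₂ : IsGlaub p κ₂ inv₂)
    (hc1 : ∀ χ, Cfsg.IsIrrCharacter G χ → inv χ → inv₁ χ)
    (hc2 : ∀ χ, Cfsg.IsIrrCharacter G χ → inv χ → ∀ β₁ : Cfsg.IrrCharacter C₁, ∀ m : ℕ,
      Cfsg.classInner (χ ∘ κ₁) β₁ = (m : ℂ) → ¬ p ∣ m → inv₂ β₁)
    (hc3 : ∀ χ, Cfsg.IsIrrCharacter G χ → inv₁ χ → ∀ β₁ : Cfsg.IrrCharacter C₁, ∀ m : ℕ,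
      Cfsg.classInner (χ ∘ κ₁) β₁ = (m : ℂ) → ¬ p ∣ m → inv₂ β₁ → inv χ) :
    IsGlaub p (κ₁.comp κ₂) inv := by
  obtain ⟨hex₁, hinj₁, hsur₁⟩ := h₁
  obtain ⟨hex₂, hinj₂, hsur₂⟩ := h₂
  have hpp := hp.out
  have hdvd : ∀ (M m e : ℕ), (M : ℤ) ≡ (m : ℤ) * e [ZMOD p] → p ∣ e → p ∣ M := by
    intro M m e hmod hd
    have h1 : (M : ℤ) ≡ 0 [ZMOD p] := hmod.trans (Int.modEq_zero_iff_dvd.mpr
      (Dvd.dvd.mul_left (by exact_mod_cast hd) _))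
    exact_mod_cast Int.modEq_zero_iff_dvd.mp h1
  refine ⟨?_, ?_, ?_⟩
  · intro χ hχ hinv
    obtain ⟨γ₀, ⟨m₁, hm₁, hm₁'⟩, hoth₁⟩ := hex₁ χ hχ (hc1 χ hχ hinv)
    have hnd₁ := not_dvd_of_pm_one p hpp m₁ hm₁'
    obtain ⟨β₀, ⟨e₀, he₀, he₀'⟩, hoth₂⟩ := hex₂ γ₀ γ₀.2 (hc2 χ hχ hinv γ₀ m₁ hm₁ hnd₁)
    refine ⟨β₀, ?_, ?_⟩
    · obtain ⟨e, M, he, hM, hmod⟩ := glaub_comp_mult p κ₁ κ₂ χ
        (isCharacter_of_isIrrCharacter hχ) γ₀ m₁ hm₁ hoth₁ β₀ (isCharacter_of_isIrrCharacter β₀.2)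
      have hee : e = e₀ := by
        rw [he₀] at he
        exact_mod_cast he.symm
      subst hee
      refine ⟨M, hM, ?_⟩
      rcases hm₁' with h | h <;> rcases he₀' with h' | h'
      · left
        exact hmod.trans (by simpa using Int.ModEq.mul h h')
      · right
        exact hmod.trans (by simpa using Int.ModEq.mul h h')
      · right
        exact hmod.trans (by simpa using Int.ModEq.mul h h')
      · left
        exact hmod.trans (by simpa using Int.ModEq.mul h h')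
    · intro β hβ
      obtain ⟨e, M, he, hM, hmod⟩ := glaub_comp_mult p κ₁ κ₂ χ
        (isCharacter_of_isIrrCharacter hχ) γ₀ m₁ hm₁ hoth₁ β (isCharacter_of_isIrrCharacter β.2)
      obtain ⟨e', he', hd⟩ := hoth₂ β hβ
      have hee : e = e' := by
        rw [he'] at he
        exact_mod_cast he.symm
      subst hee
      exact ⟨M, hM, hdvd M m₁ e hmod hd⟩
  · intro χ χ' hχ hχ' hinv hinv' β M M' hM hMd hM' hMd'
    obtain ⟨γ₀, ⟨m₁, hm₁, hm₁'⟩, hoth₁⟩ := hex₁ χ hχ (hc1 χ hχ hinv)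
    obtain ⟨γ₀', ⟨m₂, hm₂, hm₂'⟩, hoth₁'⟩ := hex₁ χ' hχ' (hc1 χ' hχ' hinv')
    have hnd₁ := not_dvd_of_pm_one p hpp m₁ hm₁'
    have hnd₂ := not_dvd_of_pm_one p hpp m₂ hm₂'
    obtain ⟨e, M₁, he, hM₁, hmod⟩ := glaub_comp_mult p κ₁ κ₂ χ
      (isCharacter_of_isIrrCharacter hχ) γ₀ m₁ hm₁ hoth₁ β (isCharacter_of_isIrrCharacter β.2)
    obtain ⟨e', M₂, he', hM₂, hmod'⟩ := glaub_comp_mult p κ₁ κ₂ χ'
      (isCharacter_of_isIrrCharacter hχ') γ₀' m₂ hm₂ hoth₁' β (isCharacter_of_isIrrCharacter β.2)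
    have hMM : M₁ = M := by
      rw [hM] at hM₁
      exact_mod_cast hM₁.symm
    have hMM' : M₂ = M' := by
      rw [hM'] at hM₂
      exact_mod_cast hM₂.symm
    subst hMM
    subst hMM'
    have hed : ¬ p ∣ e := fun hd => hMd (hdvd M₁ m₁ e hmod hd)
    have hed' : ¬ p ∣ e' := fun hd => hMd' (hdvd M₂ m₂ e' hmod' hd)
    have hγ : (γ₀ : C₁ → ℂ) = (γ₀' : C₁ → ℂ) := hinj₂ γ₀ γ₀' γ₀.2 γ₀'.2
      (hc2 χ hχ hinv γ₀ m₁ hm₁ hnd₁) (hc2 χ' hχ' hinv' γ₀' m₂ hm₂ hnd₂) β e e' he hed he' hed'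
    have hγ' : γ₀ = γ₀' := Subtype.ext hγ
    subst hγ'
    exact hinj₁ χ χ' hχ hχ' (hc1 χ hχ hinv) (hc1 χ' hχ' hinv') γ₀ m₁ m₂ hm₁ hnd₁ hm₂ hnd₂
  · intro β
    obtain ⟨γ, hγ, hγinv, e, he, hed⟩ := hsur₂ β
    obtain ⟨χ, hχ, hχinv₁, m, hm, hmd⟩ := hsur₁ ⟨γ, hγ⟩
    have hinvχ : inv χ := hc3 χ hχ hχinv₁ ⟨γ, hγ⟩ m hm hmd hγinv
    refine ⟨χ, hχ, hinvχ, ?_⟩
    obtain ⟨γ₀, ⟨m₁, hm₁, hm₁'⟩, hoth₁⟩ := hex₁ χ hχ hχinv₁
    have hγ₀ : γ₀ = ⟨γ, hγ⟩ := by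
      by_contra hne
      obtain ⟨m', hm', hd'⟩ := hoth₁ ⟨γ, hγ⟩ (fun h => hne h.symm)
      rw [hm] at hm'
      have hmm : m = m' := by exact_mod_cast hm'
      exact hmd (hmm ▸ hd')
    subst hγ₀
    obtain ⟨e₁, M, he₁, hM, hmod⟩ := glaub_comp_mult p κ₁ κ₂ χ
      (isCharacter_of_isIrrCharacter hχ) _ m₁ hm₁ hoth₁ β (isCharacter_of_isIrrCharacter β.2)
    have hee : e₁ = e := by
      rw [he] at he₁
      exact_mod_cast he₁.symm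
    subst hee
    refine ⟨M, hM, ?_⟩
    intro hd
    have h1 : (p : ℤ) ∣ (m₁ : ℤ) * e₁ := by
      have h2 : (M : ℤ) ≡ 0 [ZMOD p] := Int.modEq_zero_iff_dvd.mpr (by exact_mod_cast hd)
      exact Int.modEq_zero_iff_dvd.mp (hmod.symm.trans h2)
    rcases (Nat.prime_iff_prime_int.mp hpp).dvd_or_dvd h1 with h | h
    · exact not_dvd_of_pm_one p hpp m₁ hm₁' (by exact_mod_cast h)
    · exact hed (by exact_mod_cast h)

end comp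

end Cfsg.Agent.Lib.Helper2
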