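import Mathlib
import Cfsg.Agent.Lib.Helper2.GlaubComp
import Cfsg.Agent.Lib.Helper21.HallCount

set_option autoImplicit false

/-! Glauberman correspondence for a `p`-group of operators inside an ambient finite group. -/

namespace Cfsg.Agent.Lib.Helper2

open scoped ComplexConjugate

section pgroup

variable {Γ : Type*} [Group Γ]

/-- invariance of a function on the subgroup `G` under conjugation by the elements of `S` -/
def SInv (G S : Subgroup Γ) (χ : G → ℂ) : Prop :=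
  ∀ s ∈ S, ∀ g g' : G, (g' : Γ) = s * g * s⁻¹ → χ g' = χ g

/-- conjugation by an element normalising the subgroup `H` -/
def conjAut (H : Subgroup Γ) (s : Γ) (hs : ∀ h ∈ H, s * h * s⁻¹ ∈ H)
    (hs' : ∀ h ∈ H, s⁻¹ * h * s ∈ H) : MulAut H where
  toFun h := ⟨s * h * s⁻¹, hs h h.2⟩
  invFun h := ⟨s⁻¹ * h * s, hs' h h.2⟩
  left_inv h := Subtype.ext (by simp [mul_assoc])
  right_inv h := Subtype.ext (by simp [mul_assoc])
  map_mul' a b := Subtype.ext (by simp [mul_assoc])

theorem conjAut_apply (H : Subgroup Γ) (s : Γ) (hs : ∀ h ∈ H, s * h * s⁻¹ ∈ H)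
    (hs' : ∀ h ∈ H, s⁻¹ * h * s ∈ H) (h : H) :
    ((conjAut H s hs hs' h : H) : Γ) = s * h * s⁻¹ := rfl

theorem conjAut_pow (H : Subgroup Γ) (s : Γ) (hs : ∀ h ∈ H, s * h * s⁻¹ ∈ H)
    (hs' : ∀ h ∈ H, s⁻¹ * h * s ∈ H) (k : ℕ) (h : H) :
    (((conjAut H s hs hs') ^ k) h : Γ) = s ^ k * h * (s ^ k)⁻¹ := by
  induction k generalizing h with
  | zero => simp
  | succ k ih =>
    rw [pow_succ, MulAut.mul_apply, ih, conjAut_apply, pow_succ]
    group

theorem IsGlaub.congr {G C : Type*} [Group G] [Fintype G] [Group C] [Fintype C] {p : ℕ}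
    {κ : C →* G} {inv inv' : (G → ℂ) → Prop} (h : IsGlaub p κ inv)
    (hi : ∀ χ, Cfsg.IsIrrCharacter G χ → (inv χ ↔ inv' χ)) : IsGlaub p κ inv' := by
  obtain ⟨h1, h2, h3⟩ := h
  refine ⟨fun χ hχ hinv => h1 χ hχ ((hi χ hχ).mpr hinv), ?_, ?_⟩
  · intro χ χ' hχ hχ' hinv hinv'
    exact h2 χ χ' hχ hχ' ((hi χ hχ).mpr hinv) ((hi χ' hχ').mpr hinv')
  · intro β
    obtain ⟨χ, hχ, hinv, hm⟩ := h3 β
    exact ⟨χ, hχ, (hi χ hχ).mp hinv, hm⟩

/-- a group of order `p ^ (n + 1)` has a normal subgroup of index `p`, and is generated by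
it and one more element -/
theorem pgroup_step [Finite Γ] (p : ℕ) [hp : Fact p.Prime] (n : ℕ)
    (S : Subgroup Γ) (hS : Nat.card S = p ^ (n + 1)) :
    ∃ (S₁ : Subgroup Γ) (s : Γ), S₁ ≤ S ∧ Nat.card S₁ = p ^ n ∧ s ∈ S ∧ s ^ p ∈ S₁ ∧
      (∀ t ∈ S, ∀ x ∈ S₁, t * x * t⁻¹ ∈ S₁) ∧ (∀ t ∈ S, ∃ k : ℕ, ∃ x ∈ S₁, t = s ^ k * x) := by
  have hPG : IsPGroup p S := IsPGroup.of_card hS
  haveI : Group.IsNilpotent S := hPG.isNilpotent
  haveI : Nontrivial S := by
    rw [← Finite.one_lt_card_iff_nontrivial, hS]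
    exact Nat.one_lt_pow (Nat.succ_ne_zero n) hp.out.one_lt
  obtain ⟨M, hMn, hMi⟩ := Cfsg.Agent.Lib.Helper21.exists_normal_index_prime (G := S)
  haveI := hMn
  have hMp : M.index = p := by
    have h1 : M.index ∣ p ^ (n + 1) := by
      rw [← hS]
      exact Subgroup.index_dvd_card M
    exact (Nat.prime_dvd_prime_iff_eq hMi hp.out).mp (hMi.dvd_of_dvd_pow h1)
  have hMc : Nat.card M = p ^ n := by
    have h1 := Subgroup.index_mul_card M
    rw [hMp, hS, pow_succ, mul_comm] at h1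
    exact Nat.eq_of_mul_eq_mul_right hp.out.pos h1
  have hne : M ≠ ⊤ := by
    intro h
    rw [← Subgroup.index_eq_one, hMp] at h
    exact hp.out.one_lt.ne' h
  obtain ⟨s', -, hs'⟩ := SetLike.exists_of_lt (lt_top_iff_ne_top.mpr hne)
  refine ⟨M.map S.subtype, s'.1, ?_, ?_, s'.2, ?_, ?_, ?_⟩
  · rintro x ⟨y, -, rfl⟩
    exact y.2
  · rw [Subgroup.card_subtype, hMc]
  · refine ⟨s' ^ p, ?_, by simp⟩
    rw [← hMp]
    exact Subgroup.pow_index_mem M s'
  · rintro t ht x ⟨y, hy, rfl⟩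
    exact ⟨⟨t, ht⟩ * y * ⟨t, ht⟩⁻¹, hMn.conj_mem y hy ⟨t, ht⟩, by simp⟩
  · intro t ht
    have hcard : Nat.card (S ⧸ M) = p := by rw [← Subgroup.index_eq_card, hMp]
    have hs1 : (QuotientGroup.mk s' : S ⧸ M) ≠ 1 := by
      rw [Ne, QuotientGroup.eq_one_iff]
      exact hs'
    have htop := zpowers_eq_top_of_prime_card hcard hs1
    have hmem : (QuotientGroup.mk ⟨t, ht⟩ : S ⧸ M)
        ∈ Subgroup.zpowers (QuotientGroup.mk s' : S ⧸ M) := by
      rw [htop]
      trivial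
    rw [← mem_powers_iff_mem_zpowers] at hmem
    obtain ⟨k, hk⟩ := hmem
    refine ⟨k, ((s' ^ k)⁻¹ * ⟨t, ht⟩ : S).1, ⟨(s' ^ k)⁻¹ * ⟨t, ht⟩, ?_, rfl⟩, by simp⟩
    rw [SetLike.mem_coe, ← QuotientGroup.eq_one_iff, QuotientGroup.mk_mul, QuotientGroup.mk_inv,
      QuotientGroup.mk_pow, ← hk]
    simp

/-- Glauberman correspondence for a `p`-subgroup `S` normalising `G`, by induction on the
order of `S` -/
theorem glaub_pgroup_aux [Finite Γ] (p : ℕ) [hp : Fact p.Prime] :
    ∀ (n : ℕ) (S : Subgroup Γ), Nat.card S = p ^ n →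
      ∀ (G C : Subgroup Γ) [Fintype G] [Fintype C]
      (_ : ∀ s ∈ S, ∀ g ∈ G, s * g * s⁻¹ ∈ G) (_ : ¬ p ∣ Nat.card G)
      (_ : C = G ⊓ Subgroup.centralizer (S : Set Γ)) (hCG : C ≤ G),
      IsGlaub p (Subgroup.inclusion hCG) (SInv G S) := by
  intro n
  induction n with
  | zero =>
    intro S hS G C _ _ hnorm hcop hC hCG
    have hSb : S = ⊥ := Subgroup.eq_bot_of_card_eq _ (by simpa using hS)
    subst hSb
    have hCeq : C = G := by
      rw [hC]
      apply le_antisymm inf_le_left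
      intro g hg
      refine Subgroup.mem_inf.mpr ⟨hg, ?_⟩
      rw [Subgroup.mem_centralizer_iff]
      intro x hx
      have hx1 : x = 1 := by simpa using hx
      rw [hx1]
      simp
    have hbase := isGlaub_base p (1 : MulAut G) (one_pow p) hcop (Subgroup.inclusion hCG)
      (Subgroup.inclusion_injective hCG) (by
        intro g
        simp only [MulAut.one_apply, iff_true]
        exact ⟨⟨g.1, hCeq ▸ g.2⟩, Subtype.ext rfl⟩)
    refine hbase.congr (fun χ _ => ?_)
    constructor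
    · intro _ s hs g g' hg
      rw [Subgroup.mem_bot] at hs
      subst hs
      have : g' = g := Subtype.ext (by simpa using hg)
      rw [this]
    · intro _ g
      rfl
  | succ n ih =>
    intro S hS G C _ _ hnorm hcop hC hCG
    classical
    obtain ⟨S₁, s, hS₁S, hS₁c, hsS, hsp, hS₁n, hgen⟩ := pgroup_step p n S hS
    obtain ⟨C₁, hC₁⟩ : ∃ C₁ : Subgroup Γ, C₁ = G ⊓ Subgroup.centralizer (S₁ : Set Γ) := ⟨_, rfl⟩
    haveI : Fintype C₁ := Fintype.ofFinite C₁
    have hC₁G : C₁ ≤ G := hC₁ ▸ inf_le_left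
    have hC₁mem : ∀ c : Γ, c ∈ C₁ ↔ c ∈ G ∧ c ∈ Subgroup.centralizer (S₁ : Set Γ) := by
      intro c
      rw [hC₁, Subgroup.mem_inf]
    have hCmem : ∀ c : Γ, c ∈ C ↔ c ∈ G ∧ c ∈ Subgroup.centralizer (S : Set Γ) := by
      intro c
      rw [hC, Subgroup.mem_inf]
    have h₁ := ih S₁ hS₁c G C₁ (fun t ht g hg => hnorm t (hS₁S ht) g hg) hcop hC₁ hC₁G
    have hCC₁ : C ≤ C₁ := by
      rw [hC, hC₁]
      exact inf_le_inf_left G (Subgroup.centralizer_le hS₁S)
    have hsinv : s⁻¹ ∈ S := S.inv_mem hsS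
    have hnC₁ : ∀ t ∈ S, ∀ c ∈ C₁, t * c * t⁻¹ ∈ C₁ := by
      intro t ht c hc
      rw [hC₁mem] at hc ⊢
      refine ⟨hnorm t ht c hc.1, ?_⟩
      rw [Subgroup.mem_centralizer_iff]
      intro x hx
      have hx' : t⁻¹ * x * t ∈ S₁ := by
        have := hS₁n t⁻¹ (S.inv_mem ht) x hx
        simpa using this
      have hcomm := (Subgroup.mem_centralizer_iff.mp hc.2) _ hx'
      have e1 : x * (t * c * t⁻¹) = t * ((t⁻¹ * x * t) * c) * t⁻¹ := by group
      have e2 : t * c * t⁻¹ * x = t * (c * (t⁻¹ * x * t)) * t⁻¹ := by group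
      rw [e1, e2, hcomm]
    let α : MulAut C₁ := conjAut C₁ s (hnC₁ s hsS) (by
      intro c hc
      have := hnC₁ s⁻¹ hsinv c hc
      simpa using this)
    have hα : α ^ p = 1 := by
      ext c
      rw [conjAut_pow]
      have hcomm := (Subgroup.mem_centralizer_iff.mp ((hC₁mem _).mp c.2).2) _ hsp
      simp only [MulAut.one_apply]
      rw [hcomm]
      group
    have hcop₁ : ¬ p ∣ Nat.card C₁ := fun hd => hcop (hd.trans (Subgroup.card_dvd_of_le hC₁G))
    have hκr : ∀ g : C₁, g ∈ (Subgroup.inclusion hCC₁).range ↔ α g = g := by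
      intro g
      constructor
      · rintro ⟨c, rfl⟩
        apply Subtype.ext
        rw [conjAut_apply]
        have hcomm := (Subgroup.mem_centralizer_iff.mp ((hCmem _).mp c.2).2) s hsS
        show s * (c : Γ) * s⁻¹ = (c : Γ)
        rw [hcomm]
        group
      · intro hg
        have hgs : s * (g : Γ) = (g : Γ) * s := by
          have h1 := congrArg Subtype.val hg
          rw [conjAut_apply] at h1
          calc s * (g : Γ) = (s * (g : Γ) * s⁻¹) * s := by group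
            _ = (g : Γ) * s := by rw [h1]
        have hgC : (g : Γ) ∈ C := by
          rw [hCmem]
          refine ⟨((hC₁mem _).mp g.2).1, ?_⟩
          rw [Subgroup.mem_centralizer_iff]
          intro t ht
          obtain ⟨k, x, hx, rfl⟩ := hgen t ht
          have hxg := (Subgroup.mem_centralizer_iff.mp ((hC₁mem _).mp g.2).2) x hx
          have hsk : s ^ k * (g : Γ) = (g : Γ) * s ^ k :=
            Commute.pow_left (show Commute s (g : Γ) from hgs) k
          calc s ^ k * x * (g : Γ) = s ^ k * (x * g) := by group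
            _ = s ^ k * (g * x) := by rw [hxg]
            _ = (s ^ k * g) * x := by group
            _ = (g * s ^ k) * x := by rw [hsk]
            _ = g * (s ^ k * x) := by group
        exact ⟨⟨g, hgC⟩, Subtype.ext rfl⟩
    have h₂ := isGlaub_base p α hα hcop₁ (Subgroup.inclusion hCC₁)
      (Subgroup.inclusion_injective hCC₁) hκr
    have hc1 : ∀ χ : G → ℂ, Cfsg.IsIrrCharacter G χ → SInv G S χ → SInv G S₁ χ :=
      fun χ _ h t ht => h t (hS₁S ht)
    have hres : ∀ χ : G → ℂ, (∀ g g' : G, (g' : Γ) = s * g * s⁻¹ → χ g' = χ g) →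
        (χ ∘ Subgroup.inclusion hC₁G) ∘ α = χ ∘ Subgroup.inclusion hC₁G := by
      intro χ h
      funext c
      exact h (Subgroup.inclusion hC₁G c) (Subgroup.inclusion hC₁G (α c)) rfl
    have hcomp := IsGlaub.comp p (Subgroup.inclusion hC₁G) (Subgroup.inclusion hCC₁)
      (SInv G S₁) (fun χ => ∀ g, χ (α g) = χ g) (SInv G S) h₁ h₂ hc1 ?_ ?_
    · exact hcomp
    · intro χ hχ hinv β₁ m hm hmd
      have e1 := hres χ (hinv s hsS)
      have hβα : Cfsg.IsIrrCharacter C₁ ((β₁ : C₁ → ℂ) ∘ α) := isIrrCharacter_comp_mulEquiv β₁.2 α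
      have hm' : Cfsg.classInner (χ ∘ Subgroup.inclusion hC₁G) ((β₁ : C₁ → ℂ) ∘ α) = (m : ℂ) := by
        have h3 := Cfsg.Agent.S1489.classInner_comp_iso α (χ ∘ Subgroup.inclusion hC₁G)
          (β₁ : C₁ → ℂ)
        rw [e1] at h3
        exact h3.trans hm
      obtain ⟨β₀, -, hoth⟩ := h₁.1 χ hχ (hc1 χ hχ hinv)
      have hb1 : β₁ = β₀ := by
        by_contra hne
        obtain ⟨m₂, hm₂, hd⟩ := hoth β₁ hne
        rw [hm] at hm₂
        have hmm : m = m₂ := by exact_mod_cast hm₂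
        exact hmd (hmm ▸ hd)
      have hb2 : (⟨(β₁ : C₁ → ℂ) ∘ α, hβα⟩ : Cfsg.IrrCharacter C₁) = β₀ := by
        by_contra hne
        obtain ⟨m₂, hm₂, hd⟩ := hoth _ hne
        rw [hm'] at hm₂
        have hmm : m = m₂ := by exact_mod_cast hm₂
        exact hmd (hmm ▸ hd)
      have hb3 : (β₁ : C₁ → ℂ) ∘ α = (β₁ : C₁ → ℂ) := congrArg Subtype.val (hb2.trans hb1.symm)
      exact fun g => congrFun hb3 g
    · intro χ hχ hinv₁ β₁ m hm hmd hβinv
      let αG : MulAut G := conjAut G s (hnorm s hsS) (by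
        intro c hc
        have := hnorm s⁻¹ hsinv c hc
        simpa using this)
      have hχs : Cfsg.IsIrrCharacter G (χ ∘ αG) := isIrrCharacter_comp_mulEquiv hχ αG
      have hinvs : SInv G S₁ (χ ∘ αG) := by
        intro x hx g g' hg
        show χ (αG g') = χ (αG g)
        apply hinv₁ (s * x * s⁻¹) (hS₁n s hsS x hx) (αG g) (αG g')
        rw [conjAut_apply, conjAut_apply, hg]
        group
      have e2 : (χ ∘ αG) ∘ Subgroup.inclusion hC₁G = (χ ∘ Subgroup.inclusion hC₁G) ∘ α := rfl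
      have hβeq : (β₁ : C₁ → ℂ) ∘ α = (β₁ : C₁ → ℂ) := funext hβinv
      have hm' : Cfsg.classInner ((χ ∘ αG) ∘ Subgroup.inclusion hC₁G) β₁ = (m : ℂ) := by
        rw [e2]
        have h3 := Cfsg.Agent.S1489.classInner_comp_iso α (χ ∘ Subgroup.inclusion hC₁G)
          (β₁ : C₁ → ℂ)
        rw [hβeq] at h3
        exact h3.trans hm
      have hχeq : χ ∘ αG = χ := h₁.2.1 (χ ∘ αG) χ hχs hχ hinvs hinv₁ β₁ m m hm' hmd hm hmd
      have hs_inv : ∀ g g' : G, (g' : Γ) = s * g * s⁻¹ → χ g' = χ g := by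
        intro g g' hg
        have h4 : g' = αG g := Subtype.ext hg
        rw [h4]
        exact congrFun hχeq g
      have hs_pow : ∀ k : ℕ, ∀ g g' : G, (g' : Γ) = s ^ k * g * (s ^ k)⁻¹ → χ g' = χ g := by
        intro k
        induction k with
        | zero =>
          intro g g' hg
          have h4 : g' = g := Subtype.ext (by simpa using hg)
          rw [h4]
        | succ k ihk =>
          intro g g' hg
          have h5 : χ (⟨s ^ k * g * (s ^ k)⁻¹, hnorm (s ^ k) (S.pow_mem hsS k) g g.2⟩ : G) = χ g :=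
            ihk g _ rfl
          rw [← h5]
          apply hs_inv
          rw [hg, pow_succ']
          group
      intro t ht g g' hg
      obtain ⟨k, x, hx, rfl⟩ := hgen t ht
      have h6 : χ (⟨x * g * x⁻¹, hnorm x (hS₁S hx) g g.2⟩ : G) = χ g := hinv₁ x hx g _ rfl
      rw [← h6]
      apply hs_pow k
      rw [hg]
      group

theorem isGlaub_of_bijective {G C : Type*} [Group G] [Fintype G] [Group C] [Fintype C] (p : ℕ)
    (hp : p.Prime) (κ : C →* G) (hκ : Function.Bijective κ) (inv : (G → ℂ) → Prop)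
    (hinv : ∀ χ, Cfsg.IsIrrCharacter G χ → inv χ) : IsGlaub p κ inv := by
  let e : C ≃* G := MulEquiv.ofBijective κ hκ
  have hirr : ∀ χ : G → ℂ, Cfsg.IsIrrCharacter G χ → Cfsg.IsIrrCharacter C (χ ∘ κ) :=
    fun χ hχ => Cfsg.Agent.S1489.isIrrCharacter_comp_iso hχ e
  refine ⟨?_, ?_, ?_⟩
  · intro χ hχ _
    refine ⟨⟨χ ∘ κ, hirr χ hχ⟩, ⟨1, ?_, Or.inl (by simp)⟩, ?_⟩
    · rw [classInner_irr_self (hirr χ hχ)]
      simp
    · intro β hβ
      refine ⟨0, ?_, dvd_zero p⟩
      rw [classInner_irr_ne (hirr χ hχ) β.2 (fun h => hβ (Subtype.ext h.symm))]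
      simp
  · intro χ χ' hχ hχ' _ _ β m m' hm hmd hm' hmd'
    have h1 : χ ∘ κ = (β : C → ℂ) := by
      by_contra hne
      rw [classInner_irr_ne (hirr χ hχ) β.2 hne] at hm
      have : m = 0 := by exact_mod_cast hm.symm
      exact hmd (this ▸ dvd_zero p)
    have h2 : χ' ∘ κ = (β : C → ℂ) := by
      by_contra hne
      rw [classInner_irr_ne (hirr χ' hχ') β.2 hne] at hm'
      have : m' = 0 := by exact_mod_cast hm'.symm
      exact hmd' (this ▸ dvd_zero p)
    funext g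
    obtain ⟨c, rfl⟩ := hκ.2 g
    exact congrFun (h1.trans h2.symm) c
  · intro β
    have hχ : Cfsg.IsIrrCharacter G ((β : C → ℂ) ∘ e.symm) :=
      Cfsg.Agent.S1489.isIrrCharacter_comp_iso β.2 e.symm
    have hcomp : ((β : C → ℂ) ∘ e.symm) ∘ κ = (β : C → ℂ) := by
      funext c
      show (β : C → ℂ) (e.symm (e c)) = (β : C → ℂ) c
      rw [e.symm_apply_apply]
    refine ⟨(β : C → ℂ) ∘ e.symm, hχ, hinv _ hχ, 1, ?_, ?_⟩
    · rw [hcomp, classInner_irr_self β.2]
      simp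
    · intro h
      exact hp.one_lt.ne' (Nat.dvd_one.mp h)

/-- **Glauberman correspondence for a `p`-group of operators**: `S` a `p`-subgroup of a finite
group normalising the subgroup `G` of coprime order, `C` the fixed points. -/
theorem glaub_pgroup [Finite Γ] (p : ℕ) [hp : Fact p.Prime] (G S C : Subgroup Γ) [Fintype G]
    [Fintype C] (hnorm : ∀ s ∈ S, ∀ g ∈ G, s * g * s⁻¹ ∈ G) (hS : IsPGroup p S)
    (hcop : (Nat.card G).Coprime (Nat.card S))
    (hC : C = G ⊓ Subgroup.centralizer (S : Set Γ)) (hCG : C ≤ G) :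
    IsGlaub p (Subgroup.inclusion hCG) (SInv G S) := by
  obtain ⟨n, hn⟩ := IsPGroup.iff_card.mp hS
  rcases Nat.eq_zero_or_pos n with h0 | hpos
  · subst h0
    have hSb : S = ⊥ := Subgroup.eq_bot_of_card_eq _ (by simpa using hn)
    subst hSb
    have hCeq : C = G := by
      rw [hC]
      apply le_antisymm inf_le_left
      intro g hg
      refine Subgroup.mem_inf.mpr ⟨hg, ?_⟩
      rw [Subgroup.mem_centralizer_iff]
      intro x hx
      have hx1 : x = 1 := by simpa using hx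
      rw [hx1]
      simp
    apply isGlaub_of_bijective p hp.out _ ⟨Subgroup.inclusion_injective hCG, ?_⟩
    · intro χ _ s hs g g' hg
      rw [Subgroup.mem_bot] at hs
      subst hs
      have : g' = g := Subtype.ext (by simpa using hg)
      rw [this]
    · intro g
      exact ⟨⟨g.1, hCeq ▸ g.2⟩, Subtype.ext rfl⟩
  · have hcop' : ¬ p ∣ Nat.card G := by
      intro hd
      have h1 : p ∣ Nat.card S := by
        rw [hn]
        exact dvd_pow_self p hpos.ne'
      have h2 := Nat.dvd_gcd hd h1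
      rw [Nat.Coprime.gcd_eq_one hcop] at h2
      exact hp.out.one_lt.ne' (Nat.dvd_one.mp h2)
    exact glaub_pgroup_aux p n S hn G C hnorm hcop' hC hCG

end pgroup

end Cfsg.Agent.Lib.Helper2
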