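import Mathlib
import Cfsg.Agent.Lib.Helper2.GlaubPGroup
import Cfsg.Agent.Lib.Helper2.BergerGrp

set_option autoImplicit false

/-! Glauberman correspondence for a group of operators acting through a `p`-group quotient. -/

namespace Cfsg.Agent.Lib.Helper2

open scoped ComplexConjugate

section pquot

variable {Γ : Type*} [Group Γ]

/-- `S` acting on `G` through a quotient of order `p ^ (n + 1)`: a normal subgroup of index `p`
containing the kernel, and one more generator -/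
theorem pquot_step [Finite Γ] (p : ℕ) [hp : Fact p.Prime] (n : ℕ) (S K : Subgroup Γ)
    (hKS : K ≤ S) (hKn : ∀ t ∈ S, ∀ x ∈ K, t * x * t⁻¹ ∈ K) (hS : K.relIndex S = p ^ (n + 1)) :
    ∃ (S₁ : Subgroup Γ) (s : Γ), K ≤ S₁ ∧ S₁ ≤ S ∧ K.relIndex S₁ = p ^ n ∧ s ∈ S ∧ s ^ p ∈ S₁ ∧
      (∀ t ∈ S, ∀ x ∈ S₁, t * x * t⁻¹ ∈ S₁) ∧ (∀ t ∈ S, ∃ k : ℕ, ∃ x ∈ S₁, t = s ^ k * x) := by
  let L : Subgroup S := K.subgroupOf S
  haveI hLn : L.Normal := ⟨fun x hx t => by
    rw [Subgroup.mem_subgroupOf] at hx ⊢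
    exact hKn t t.2 x hx⟩
  have hQc : Nat.card (S ⧸ L) = p ^ (n + 1) := by
    rw [← Subgroup.index_eq_card]
    exact hS
  have hPG : IsPGroup p (S ⧸ L) := IsPGroup.of_card hQc
  haveI : Group.IsNilpotent (S ⧸ L) := hPG.isNilpotent
  haveI : Nontrivial (S ⧸ L) := by
    rw [← Finite.one_lt_card_iff_nontrivial, hQc]
    exact Nat.one_lt_pow (Nat.succ_ne_zero n) hp.out.one_lt
  obtain ⟨Mb, hMbn, hMbi⟩ := Cfsg.Agent.Lib.Helper21.exists_normal_index_prime (G := S ⧸ L)
  have hMbp : Mb.index = p := by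
    have h1 : Mb.index ∣ p ^ (n + 1) := by
      rw [← hQc]
      exact Subgroup.index_dvd_card Mb
    exact (Nat.prime_dvd_prime_iff_eq hMbi hp.out).mp (hMbi.dvd_of_dvd_pow h1)
  let M : Subgroup S := Mb.comap (QuotientGroup.mk' L)
  haveI hMn : M.Normal := hMbn.comap _
  have hMp : M.index = p := by
    rw [Subgroup.index_comap_of_surjective _ (QuotientGroup.mk'_surjective L)]
    exact hMbp
  have hLM : L ≤ M := by
    intro x hx
    show QuotientGroup.mk' L x ∈ Mb
    have h1 : QuotientGroup.mk' L x = 1 := (QuotientGroup.eq_one_iff x).mpr hx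
    rw [h1]
    exact Mb.one_mem
  have hne : M ≠ ⊤ := by
    intro h
    rw [← Subgroup.index_eq_one, hMp] at h
    exact hp.out.one_lt.ne' h
  obtain ⟨s', -, hs'⟩ := SetLike.exists_of_lt (lt_top_iff_ne_top.mpr hne)
  have hKS₁ : K ≤ M.map S.subtype := by
    intro x hx
    exact ⟨⟨x, hKS hx⟩, hLM (Subgroup.mem_subgroupOf.mpr hx), rfl⟩
  have hS₁S : M.map S.subtype ≤ S := by
    rintro x ⟨y, -, rfl⟩
    exact y.2
  refine ⟨M.map S.subtype, s'.1, hKS₁, hS₁S, ?_, s'.2, ?_, ?_, ?_⟩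
  · have h1 := Subgroup.relIndex_mul_relIndex K (M.map S.subtype) S hKS₁ hS₁S
    have h2 : (M.map S.subtype).relIndex S = p := by
      have h3 := Subgroup.relIndex_map_map_of_injective M ⊤ S.subtype_injective
      rw [Subgroup.relIndex_top_right, hMp, ← MonoidHom.range_eq_map, Subgroup.range_subtype] at h3
      exact h3
    rw [h2, hS, pow_succ] at h1
    exact Nat.eq_of_mul_eq_mul_right hp.out.pos h1
  · refine ⟨s' ^ p, ?_, by simp⟩
    rw [← hMp]
    exact Subgroup.pow_index_mem M s'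
  · rintro t ht x ⟨y, hy, rfl⟩
    exact ⟨⟨t, ht⟩ * y * ⟨t, ht⟩⁻¹, hMn.conj_mem y hy ⟨t, ht⟩, by simp⟩
  · intro t ht
    have hcard : Nat.card (S ⧸ M) = p := by rw [← Subgroup.index_eq_card, hMp]
    have hs1 : (QuotientGroup.mk s' : S ⧸ M) ≠ 1 := by
      rw [Ne, QuotientGroup.eq_one_iff]
      exact hs'
    have htop := zpowers_eq_top_of_prime_card hcard hs1
    have hmem : (QuotientGroup.mk ⟨t, ht⟩ : S ⧸ M)
        ∈ Subgroup.zpowers (QuotientGroup.mk s' : S ⧸ M) := by
      rw [htop]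
      trivial
    rw [← mem_powers_iff_mem_zpowers] at hmem
    obtain ⟨k, hk⟩ := hmem
    refine ⟨k, ((s' ^ k)⁻¹ * ⟨t, ht⟩ : S).1, ⟨(s' ^ k)⁻¹ * ⟨t, ht⟩, ?_, rfl⟩, by simp⟩
    rw [SetLike.mem_coe, ← QuotientGroup.eq_one_iff, QuotientGroup.mk_mul, QuotientGroup.mk_inv,
      QuotientGroup.mk_pow, ← hk]
    simp

/-- Glauberman correspondence for operators `S` acting on `G` through a `p`-group quotient,
by induction on the order of the quotient -/
theorem glaub_pquot_aux [Finite Γ] (p : ℕ) [hp : Fact p.Prime] :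
    ∀ (n : ℕ) (G S C : Subgroup Γ) [Fintype G] [Fintype C]
      (_ : ∀ s ∈ S, ∀ g ∈ G, s * g * s⁻¹ ∈ G) (_ : ¬ p ∣ Nat.card G)
      (_ : (S ⊓ Subgroup.centralizer (G : Set Γ)).relIndex S = p ^ n)
      (_ : C = G ⊓ Subgroup.centralizer (S : Set Γ)) (hCG : C ≤ G),
      IsGlaub p (Subgroup.inclusion hCG) (SInv G S) := by
  intro n
  induction n with
  | zero =>
    intro G S C _ _ hnorm hcop hrel hC hCG
    have hScent : S ≤ Subgroup.centralizer (G : Set Γ) := by
      have h1 : S ≤ S ⊓ Subgroup.centralizer (G : Set Γ) :=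
        Subgroup.relIndex_eq_one.mp (by simpa using hrel)
      exact h1.trans inf_le_right
    have hcomm : ∀ s ∈ S, ∀ g ∈ G, g * s = s * g := fun s hs g hg =>
      (Subgroup.mem_centralizer_iff.mp (hScent hs)) g hg
    have hCeq : C = G := by
      rw [hC]
      apply le_antisymm inf_le_left
      intro g hg
      refine Subgroup.mem_inf.mpr ⟨hg, ?_⟩
      rw [Subgroup.mem_centralizer_iff]
      intro x hx
      exact (hcomm x hx g hg).symm
    apply isGlaub_of_bijective p hp.out _ ⟨Subgroup.inclusion_injective hCG, ?_⟩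
    · intro χ _ s hs g g' hg
      have h2 : g' = g := Subtype.ext (by
        rw [hg, ← hcomm s hs g g.2]
        group)
      rw [h2]
    · intro g
      exact ⟨⟨g.1, hCeq ▸ g.2⟩, Subtype.ext rfl⟩
  | succ n ih =>
    intro G S C _ _ hnorm hcop hrel hC hCG
    classical
    obtain ⟨K, hK⟩ : ∃ K : Subgroup Γ, K = S ⊓ Subgroup.centralizer (G : Set Γ) := ⟨_, rfl⟩
    have hKS : K ≤ S := hK ▸ inf_le_left
    have hKcent : K ≤ Subgroup.centralizer (G : Set Γ) := hK ▸ inf_le_right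
    have hKn : ∀ t ∈ S, ∀ x ∈ K, t * x * t⁻¹ ∈ K := by
      intro t ht x hx
      rw [hK]
      refine Subgroup.mem_inf.mpr ⟨S.mul_mem (S.mul_mem ht (hKS hx)) (S.inv_mem ht), ?_⟩
      rw [Subgroup.mem_centralizer_iff]
      intro g hg
      have hg' : t⁻¹ * g * t ∈ G := by
        have := hnorm t⁻¹ (S.inv_mem ht) g hg
        simpa using this
      have hcomm := (Subgroup.mem_centralizer_iff.mp (hKcent hx)) _ hg'
      have e1 : g * (t * x * t⁻¹) = t * ((t⁻¹ * g * t) * x) * t⁻¹ := by group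
      have e2 : t * x * t⁻¹ * g = t * (x * (t⁻¹ * g * t)) * t⁻¹ := by group
      rw [e1, e2, hcomm]
    obtain ⟨S₁, s, hKS₁, hS₁S, hS₁c, hsS, hsp, hS₁n, hgen⟩ :=
      pquot_step p n S K hKS hKn (hK ▸ hrel)
    have hK₁ : S₁ ⊓ Subgroup.centralizer (G : Set Γ) = K := by
      apply le_antisymm
      · rw [hK]
        exact inf_le_inf_right _ hS₁S
      · exact le_inf hKS₁ hKcent
    obtain ⟨C₁, hC₁⟩ : ∃ C₁ : Subgroup Γ, C₁ = G ⊓ Subgroup.centralizer (S₁ : Set Γ) := ⟨_, rfl⟩
    haveI : Fintype C₁ := Fintype.ofFinite C₁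
    have hC₁G : C₁ ≤ G := hC₁ ▸ inf_le_left
    have hC₁mem : ∀ c : Γ, c ∈ C₁ ↔ c ∈ G ∧ c ∈ Subgroup.centralizer (S₁ : Set Γ) := by
      intro c
      rw [hC₁, Subgroup.mem_inf]
    have hCmem : ∀ c : Γ, c ∈ C ↔ c ∈ G ∧ c ∈ Subgroup.centralizer (S : Set Γ) := by
      intro c
      rw [hC, Subgroup.mem_inf]
    have h₁ := ih G S₁ C₁ (fun t ht g hg => hnorm t (hS₁S ht) g hg) hcop (hK₁.symm ▸ hS₁c) hC₁ hC₁G
    have hCC₁ : C ≤ C₁ := by
      rw [hC, hC₁]
      exact inf_le_inf_left G (Subgroup.centralizer_le hS₁S)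
    have hsinv : s⁻¹ ∈ S := S.inv_mem hsS
    have hnC₁ : ∀ t ∈ S, ∀ c ∈ C₁, t * c * t⁻¹ ∈ C₁ := by
      intro t ht c hc
      rw [hC₁mem] at hc ⊢
      refine ⟨hnorm t ht c hc.1, ?_⟩
      rw [Subgroup.mem_centralizer_iff]
      intro x hx
      have hx' : t⁻¹ * x * t ∈ S₁ := by
        have := hS₁n t⁻¹ (S.inv_mem ht) x hx
        simpa using this
      have hcomm := (Subgroup.mem_centralizer_iff.mp hc.2) _ hx'
      have e1 : x * (t * c * t⁻¹) = t * ((t⁻¹ * x * t) * c) * t⁻¹ := by group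
      have e2 : t * c * t⁻¹ * x = t * (c * (t⁻¹ * x * t)) * t⁻¹ := by group
      rw [e1, e2, hcomm]
    let α : MulAut C₁ := conjAut C₁ s (hnC₁ s hsS) (by
      intro c hc
      have := hnC₁ s⁻¹ hsinv c hc
      simpa using this)
    have hα : α ^ p = 1 := by
      ext c
      rw [conjAut_pow]
      have hcomm := (Subgroup.mem_centralizer_iff.mp ((hC₁mem _).mp c.2).2) _ hsp
      simp only [MulAut.one_apply]
      rw [hcomm]
      group
    have hcop₁ : ¬ p ∣ Nat.card C₁ := fun hd => hcop (hd.trans (Subgroup.card_dvd_of_le hC₁G))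
    have hκr : ∀ g : C₁, g ∈ (Subgroup.inclusion hCC₁).range ↔ α g = g := by
      intro g
      constructor
      · rintro ⟨c, rfl⟩
        apply Subtype.ext
        rw [conjAut_apply]
        have hcomm := (Subgroup.mem_centralizer_iff.mp ((hCmem _).mp c.2).2) s hsS
        show s * (c : Γ) * s⁻¹ = (c : Γ)
        rw [hcomm]
        group
      · intro hg
        have hgs : s * (g : Γ) = (g : Γ) * s := by
          have h1 := congrArg Subtype.val hg
          rw [conjAut_apply] at h1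
          calc s * (g : Γ) = (s * (g : Γ) * s⁻¹) * s := by group
            _ = (g : Γ) * s := by rw [h1]
        have hgC : (g : Γ) ∈ C := by
          rw [hCmem]
          refine ⟨((hC₁mem _).mp g.2).1, ?_⟩
          rw [Subgroup.mem_centralizer_iff]
          intro t ht
          obtain ⟨k, x, hx, rfl⟩ := hgen t ht
          have hxg := (Subgroup.mem_centralizer_iff.mp ((hC₁mem _).mp g.2).2) x hx
          have hsk : s ^ k * (g : Γ) = (g : Γ) * s ^ k :=
            Commute.pow_left (show Commute s (g : Γ) from hgs) k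
          calc s ^ k * x * (g : Γ) = s ^ k * (x * g) := by group
            _ = s ^ k * (g * x) := by rw [hxg]
            _ = (s ^ k * g) * x := by group
            _ = (g * s ^ k) * x := by rw [hsk]
            _ = g * (s ^ k * x) := by group
        exact ⟨⟨g, hgC⟩, Subtype.ext rfl⟩
    have h₂ := isGlaub_base p α hα hcop₁ (Subgroup.inclusion hCC₁)
      (Subgroup.inclusion_injective hCC₁) hκr
    have hc1 : ∀ χ : G → ℂ, Cfsg.IsIrrCharacter G χ → SInv G S χ → SInv G S₁ χ :=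
      fun χ _ h t ht => h t (hS₁S ht)
    have hres : ∀ χ : G → ℂ, (∀ g g' : G, (g' : Γ) = s * g * s⁻¹ → χ g' = χ g) →
        (χ ∘ Subgroup.inclusion hC₁G) ∘ α = χ ∘ Subgroup.inclusion hC₁G := by
      intro χ h
      funext c
      exact h (Subgroup.inclusion hC₁G c) (Subgroup.inclusion hC₁G (α c)) rfl
    have hcomp := IsGlaub.comp p (Subgroup.inclusion hC₁G) (Subgroup.inclusion hCC₁)
      (SInv G S₁) (fun χ => ∀ g, χ (α g) = χ g) (SInv G S) h₁ h₂ hc1 ?_ ?_
    · exact hcomp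
    · intro χ hχ hinv β₁ m hm hmd
      have e1 := hres χ (hinv s hsS)
      have hβα : Cfsg.IsIrrCharacter C₁ ((β₁ : C₁ → ℂ) ∘ α) := isIrrCharacter_comp_mulEquiv β₁.2 α
      have hm' : Cfsg.classInner (χ ∘ Subgroup.inclusion hC₁G) ((β₁ : C₁ → ℂ) ∘ α) = (m : ℂ) := by
        have h3 := Cfsg.Agent.S1489.classInner_comp_iso α (χ ∘ Subgroup.inclusion hC₁G)
          (β₁ : C₁ → ℂ)
        rw [e1] at h3
        exact h3.trans hm
      obtain ⟨β₀, -, hoth⟩ := h₁.1 χ hχ (hc1 χ hχ hinv)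
      have hb1 : β₁ = β₀ := by
        by_contra hne
        obtain ⟨m₂, hm₂, hd⟩ := hoth β₁ hne
        rw [hm] at hm₂
        have hmm : m = m₂ := by exact_mod_cast hm₂
        exact hmd (hmm ▸ hd)
      have hb2 : (⟨(β₁ : C₁ → ℂ) ∘ α, hβα⟩ : Cfsg.IrrCharacter C₁) = β₀ := by
        by_contra hne
        obtain ⟨m₂, hm₂, hd⟩ := hoth _ hne
        rw [hm'] at hm₂
        have hmm : m = m₂ := by exact_mod_cast hm₂
        exact hmd (hmm ▸ hd)
      have hb3 : (β₁ : C₁ → ℂ) ∘ α = (β₁ : C₁ → ℂ) := congrArg Subtype.val (hb2.trans hb1.symm)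
      exact fun g => congrFun hb3 g
    · intro χ hχ hinv₁ β₁ m hm hmd hβinv
      let αG : MulAut G := conjAut G s (hnorm s hsS) (by
        intro c hc
        have := hnorm s⁻¹ hsinv c hc
        simpa using this)
      have hχs : Cfsg.IsIrrCharacter G (χ ∘ αG) := isIrrCharacter_comp_mulEquiv hχ αG
      have hinvs : SInv G S₁ (χ ∘ αG) := by
        intro x hx g g' hg
        show χ (αG g') = χ (αG g)
        apply hinv₁ (s * x * s⁻¹) (hS₁n s hsS x hx) (αG g) (αG g')
        rw [conjAut_apply, conjAut_apply, hg]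
        group
      have e2 : (χ ∘ αG) ∘ Subgroup.inclusion hC₁G = (χ ∘ Subgroup.inclusion hC₁G) ∘ α := rfl
      have hβeq : (β₁ : C₁ → ℂ) ∘ α = (β₁ : C₁ → ℂ) := funext hβinv
      have hm' : Cfsg.classInner ((χ ∘ αG) ∘ Subgroup.inclusion hC₁G) β₁ = (m : ℂ) := by
        rw [e2]
        have h3 := Cfsg.Agent.S1489.classInner_comp_iso α (χ ∘ Subgroup.inclusion hC₁G)
          (β₁ : C₁ → ℂ)
        rw [hβeq] at h3
        exact h3.trans hm
      have hχeq : χ ∘ αG = χ := h₁.2.1 (χ ∘ αG) χ hχs hχ hinvs hinv₁ β₁ m m hm' hmd hm hmd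
      have hs_inv : ∀ g g' : G, (g' : Γ) = s * g * s⁻¹ → χ g' = χ g := by
        intro g g' hg
        have h4 : g' = αG g := Subtype.ext hg
        rw [h4]
        exact congrFun hχeq g
      have hs_pow : ∀ k : ℕ, ∀ g g' : G, (g' : Γ) = s ^ k * g * (s ^ k)⁻¹ → χ g' = χ g := by
        intro k
        induction k with
        | zero =>
          intro g g' hg
          have h4 : g' = g := Subtype.ext (by simpa using hg)
          rw [h4]
        | succ k ihk =>
          intro g g' hg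
          have h5 : χ (⟨s ^ k * g * (s ^ k)⁻¹, hnorm (s ^ k) (S.pow_mem hsS k) g g.2⟩ : G) = χ g :=
            ihk g _ rfl
          rw [← h5]
          apply hs_inv
          rw [hg, pow_succ']
          group
      intro t ht g g' hg
      obtain ⟨k, x, hx, rfl⟩ := hgen t ht
      have h6 : χ (⟨x * g * x⁻¹, hnorm x (hS₁S hx) g g.2⟩ : G) = χ g := hinv₁ x hx g _ rfl
      rw [← h6]
      apply hs_pow k
      rw [hg]
      group

/-- **Glauberman correspondence** for operators acting through a `p`-group quotient: `S`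
normalises `G`, `p` does not divide the order of `G`, and the kernel of the action of `S` on
`G` has `p`-power index in `S`. -/
theorem glaub_pquot [Finite Γ] (p : ℕ) [hp : Fact p.Prime] (n : ℕ) (G S C : Subgroup Γ)
    [Fintype G] [Fintype C] (hnorm : ∀ s ∈ S, ∀ g ∈ G, s * g * s⁻¹ ∈ G)
    (hcop : ¬ p ∣ Nat.card G)
    (hrel : (S ⊓ Subgroup.centralizer (G : Set Γ)).relIndex S = p ^ n)
    (hC : C = G ⊓ Subgroup.centralizer (S : Set Γ)) (hCG : C ≤ G) :
    IsGlaub p (Subgroup.inclusion hCG) (SInv G S) :=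
  glaub_pquot_aux p n G S C hnorm hcop hrel hC hCG

end pquot

end Cfsg.Agent.Lib.Helper2
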