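import Mathlib
import Cfsg.Agent.Lib.Helper2.GlaubPQuot

set_option autoImplicit false

/-! Glauberman correspondence: equivariance under a larger group of operators, and the normal
subgroups acting through a `p`-group quotient in a solvable group of operators. -/

namespace Cfsg.Agent.Lib.Helper2

open scoped ComplexConjugate

section equiv

variable {Γ : Type*} [Group Γ]

/-- the conjugation action of `P` on a subgroup `G` that it normalises -/
def conjHom (G P : Subgroup Γ) (h : ∀ s ∈ P, ∀ g ∈ G, s * g * s⁻¹ ∈ G) : P →* MulAut G where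
  toFun x := conjAut G x (h x x.2) (by
    intro g hg
    have := h (x : Γ)⁻¹ (P.inv_mem x.2) g hg
    simpa using this)
  map_one' := by
    ext g
    simp [conjAut_apply]
  map_mul' x y := by
    ext g
    simp [conjAut_apply, mul_assoc]

theorem conjHom_apply (G P : Subgroup Γ) (h : ∀ s ∈ P, ∀ g ∈ G, s * g * s⁻¹ ∈ G) (x : P)
    (g : G) : ((conjHom G P h x g : G) : Γ) = x * g * (x : Γ)⁻¹ := rfl

theorem conjHom_ker (G P : Subgroup Γ) (h : ∀ s ∈ P, ∀ g ∈ G, s * g * s⁻¹ ∈ G) :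
    (conjHom G P h).ker = (P ⊓ Subgroup.centralizer (G : Set Γ)).subgroupOf P := by
  ext x
  rw [MonoidHom.mem_ker, Subgroup.mem_subgroupOf, Subgroup.mem_inf]
  constructor
  · intro hx
    refine ⟨x.2, ?_⟩
    rw [Subgroup.mem_centralizer_iff]
    intro g hg
    have h1 := congrArg (fun a : MulAut G => ((a ⟨g, hg⟩ : G) : Γ)) hx
    simp only [conjHom_apply, MulAut.one_apply] at h1
    calc g * (x : Γ) = (x * g * (x : Γ)⁻¹) * x := by rw [h1]
      _ = x * g := by group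
  · rintro ⟨-, hx⟩
    ext g
    rw [conjHom_apply, MulAut.one_apply]
    have h1 := (Subgroup.mem_centralizer_iff.mp hx) g g.2
    rw [← h1]
    group

theorem isPGroup_conjRange (p : ℕ) (G P : Subgroup Γ)
    (h : ∀ s ∈ P, ∀ g ∈ G, s * g * s⁻¹ ∈ G) (k : ℕ)
    (hrel : (P ⊓ Subgroup.centralizer (G : Set Γ)).relIndex P = p ^ k) :
    IsPGroup p (conjHom G P h).range := by
  apply IsPGroup.of_card (n := k)
  rw [← Subgroup.index_ker, conjHom_ker]
  exact hrel

/-- in a solvable group of operators acting nontrivially, some normal subgroup acts through a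
nontrivial `p`-group quotient -/
theorem exists_normal_pquot [Finite Γ] (S K : Subgroup Γ) (hsolv : Group.IsSolvable S)
    (hKS : K ≤ S) (hKn : ∀ t ∈ S, ∀ x ∈ K, t * x * t⁻¹ ∈ K) (hne : ¬ S ≤ K) :
    ∃ (p k : ℕ) (P : Subgroup Γ), p.Prime ∧ 0 < k ∧ K ≤ P ∧ P ≤ S ∧
      (∀ t ∈ S, ∀ x ∈ P, t * x * t⁻¹ ∈ P) ∧ K.relIndex P = p ^ k := by
  let L : Subgroup S := K.subgroupOf S
  haveI hLn : L.Normal := ⟨fun x hx t => by
    rw [Subgroup.mem_subgroupOf] at hx ⊢
    exact hKn t t.2 x hx⟩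
  have hL : L ≠ ⊤ := by
    intro h
    apply hne
    intro x hx
    have h1 : (⟨x, hx⟩ : S) ∈ L := h ▸ Subgroup.mem_top _
    exact Subgroup.mem_subgroupOf.mp h1
  obtain ⟨M, hMn, hLM, hmin⟩ := exists_min_above L hL
  haveI := hMn
  haveI := hsolv
  obtain ⟨-, p, k, hp, hk, hrel⟩ := chief_pow L M hLM hmin inferInstance
  refine ⟨p, k, M.map S.subtype, hp, hk, ?_, ?_, ?_, ?_⟩
  · intro x hx
    exact ⟨⟨x, hKS hx⟩, hLM.le (Subgroup.mem_subgroupOf.mpr hx), rfl⟩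
  · rintro x ⟨y, -, rfl⟩
    exact y.2
  · rintro t ht x ⟨y, hy, rfl⟩
    exact ⟨⟨t, ht⟩ * y * ⟨t, ht⟩⁻¹, hMn.conj_mem y hy ⟨t, ht⟩, by simp⟩
  · have h3 := Subgroup.relIndex_map_map_of_injective L M S.subtype_injective
    rw [Subgroup.map_subgroupOf_eq_of_le hKS] at h3
    rw [h3]
    exact hrel

/-- the centraliser in `G` of a normal subgroup of the operators is normalised by the
operators -/
theorem normalizes_cent (G S P C : Subgroup Γ) (hnorm : ∀ s ∈ S, ∀ g ∈ G, s * g * s⁻¹ ∈ G)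
    (hPn : ∀ t ∈ S, ∀ x ∈ P, t * x * t⁻¹ ∈ P)
    (hC : C = G ⊓ Subgroup.centralizer (P : Set Γ)) : ∀ t ∈ S, ∀ c ∈ C, t * c * t⁻¹ ∈ C := by
  intro t ht c hc
  rw [hC, Subgroup.mem_inf] at hc ⊢
  refine ⟨hnorm t ht c hc.1, ?_⟩
  rw [Subgroup.mem_centralizer_iff]
  intro x hx
  have hx' : t⁻¹ * x * t ∈ P := by
    have := hPn t⁻¹ (S.inv_mem ht) x hx
    simpa using this
  have hcomm := (Subgroup.mem_centralizer_iff.mp hc.2) _ hx'
  have e1 : x * (t * c * t⁻¹) = t * ((t⁻¹ * x * t) * c) * t⁻¹ := by group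
  have e2 : t * c * t⁻¹ * x = t * (c * (t⁻¹ * x * t)) * t⁻¹ := by group
  rw [e1, e2, hcomm]

variable (p : ℕ) (G S P C : Subgroup Γ) [Fintype G] [Fintype C]
  (hnorm : ∀ s ∈ S, ∀ g ∈ G, s * g * s⁻¹ ∈ G) (hPS : P ≤ S)
  (hPn : ∀ t ∈ S, ∀ x ∈ P, t * x * t⁻¹ ∈ P)
  (hC : C = G ⊓ Subgroup.centralizer (P : Set Γ)) (hCG : C ≤ G)
  (hGl : IsGlaub p (Subgroup.inclusion hCG) (SInv G P))

include hnorm hPS hPn hC hGl in
/-- the correspondent of a character invariant under the larger group is invariant -/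
theorem glaub_inv_down (χ : G → ℂ) (hχ : Cfsg.IsIrrCharacter G χ) (hinv : SInv G S χ)
    (β : Cfsg.IrrCharacter C) (m : ℕ)
    (hm : Cfsg.classInner (χ ∘ Subgroup.inclusion hCG) β = (m : ℂ)) (hmd : ¬ p ∣ m) :
    SInv C S β := by
  intro t ht c c' hc
  have hnC := normalizes_cent G S P C hnorm hPn hC
  let αC : MulAut C := conjAut C t (hnC t ht) (by
    intro c hc
    have := hnC t⁻¹ (S.inv_mem ht) c hc
    simpa using this)
  have hc' : c' = αC c := Subtype.ext hc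
  have hβα : Cfsg.IsIrrCharacter C ((β : C → ℂ) ∘ αC) := isIrrCharacter_comp_mulEquiv β.2 αC
  have e1 : (χ ∘ Subgroup.inclusion hCG) ∘ αC = χ ∘ Subgroup.inclusion hCG := by
    funext c
    exact hinv t ht (Subgroup.inclusion hCG c) (Subgroup.inclusion hCG (αC c)) rfl
  have hm' : Cfsg.classInner (χ ∘ Subgroup.inclusion hCG) ((β : C → ℂ) ∘ αC) = (m : ℂ) := by
    have h3 := Cfsg.Agent.S1489.classInner_comp_iso αC (χ ∘ Subgroup.inclusion hCG) (β : C → ℂ)
    rw [e1] at h3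
    exact h3.trans hm
  obtain ⟨β₀, -, hoth⟩ := hGl.1 χ hχ (fun x hx => hinv x (hPS hx))
  have hb1 : β = β₀ := by
    by_contra hne
    obtain ⟨m₂, hm₂, hd⟩ := hoth β hne
    rw [hm] at hm₂
    have hmm : m = m₂ := by exact_mod_cast hm₂
    exact hmd (hmm ▸ hd)
  have hb2 : (⟨(β : C → ℂ) ∘ αC, hβα⟩ : Cfsg.IrrCharacter C) = β₀ := by
    by_contra hne
    obtain ⟨m₂, hm₂, hd⟩ := hoth _ hne
    rw [hm'] at hm₂
    have hmm : m = m₂ := by exact_mod_cast hm₂
    exact hmd (hmm ▸ hd)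
  have hb3 : (β : C → ℂ) ∘ αC = (β : C → ℂ) := congrArg Subtype.val (hb2.trans hb1.symm)
  rw [hc']
  exact congrFun hb3 c

include hnorm hPn hC hGl in
/-- a character whose correspondent is invariant under the larger group is invariant -/
theorem glaub_inv_up (χ : G → ℂ) (hχ : Cfsg.IsIrrCharacter G χ) (hinvP : SInv G P χ)
    (β : Cfsg.IrrCharacter C) (hβ : SInv C S β) (m : ℕ)
    (hm : Cfsg.classInner (χ ∘ Subgroup.inclusion hCG) β = (m : ℂ)) (hmd : ¬ p ∣ m) :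
    SInv G S χ := by
  intro t ht g g' hg
  have hnC := normalizes_cent G S P C hnorm hPn hC
  let αC : MulAut C := conjAut C t (hnC t ht) (by
    intro c hc
    have := hnC t⁻¹ (S.inv_mem ht) c hc
    simpa using this)
  let αG : MulAut G := conjAut G t (hnorm t ht) (by
    intro c hc
    have := hnorm t⁻¹ (S.inv_mem ht) c hc
    simpa using this)
  have hχs : Cfsg.IsIrrCharacter G (χ ∘ αG) := isIrrCharacter_comp_mulEquiv hχ αG
  have hinvs : SInv G P (χ ∘ αG) := by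
    intro x hx g g' hg
    show χ (αG g') = χ (αG g)
    apply hinvP (t * x * t⁻¹) (hPn t ht x hx) (αG g) (αG g')
    rw [conjAut_apply, conjAut_apply, hg]
    group
  have e2 : (χ ∘ αG) ∘ Subgroup.inclusion hCG = (χ ∘ Subgroup.inclusion hCG) ∘ αC := rfl
  have hβeq : (β : C → ℂ) ∘ αC = (β : C → ℂ) := by
    funext c
    exact hβ t ht c (αC c) rfl
  have hm' : Cfsg.classInner ((χ ∘ αG) ∘ Subgroup.inclusion hCG) β = (m : ℂ) := by
    rw [e2]
    have h3 := Cfsg.Agent.S1489.classInner_comp_iso αC (χ ∘ Subgroup.inclusion hCG) (β : C → ℂ)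
    rw [hβeq] at h3
    exact h3.trans hm
  have hχeq : χ ∘ αG = χ := hGl.2.1 (χ ∘ αG) χ hχs hχ hinvs hinvP β m m hm' hmd hm hmd
  have h4 : g' = αG g := Subtype.ext hg
  rw [h4]
  exact congrFun hχeq g

include hnorm hPS hPn hC hGl in
/-- the characters invariant under the larger group correspond to the invariant characters of
the fixed points -/
theorem card_inv_irr_eq (hp : p.Prime) :
    Nat.card {χ : Cfsg.IrrCharacter G // SInv G S χ}
      = Nat.card {β : Cfsg.IrrCharacter C // SInv C S β} := by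
  have hP : ∀ χ : {χ : Cfsg.IrrCharacter G // SInv G S χ}, SInv G P (χ.1 : G → ℂ) :=
    fun χ x hx => χ.2 x (hPS hx)
  have hspec := fun χ : {χ : Cfsg.IrrCharacter G // SInv G S χ} =>
    (hGl.1 χ.1.1 χ.1.2 (hP χ)).choose_spec
  let f : {χ : Cfsg.IrrCharacter G // SInv G S χ} → {β : Cfsg.IrrCharacter C // SInv C S β} :=
    fun χ => ⟨(hGl.1 χ.1.1 χ.1.2 (hP χ)).choose, by
      obtain ⟨m, hm, hm1⟩ := (hspec χ).1
      exact glaub_inv_down p G S P C hnorm hPS hPn hC hCG hGl χ.1.1 χ.1.2 χ.2 _ m hm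
        (not_dvd_of_pm_one p hp m hm1)⟩
  apply Nat.card_eq_of_bijective f
  constructor
  · intro χ χ' h
    have h1 : (f χ).1 = (f χ').1 := congrArg Subtype.val h
    obtain ⟨m, hm, hm1⟩ := (hspec χ).1
    obtain ⟨m', hm', hm1'⟩ := (hspec χ').1
    have h2 : (hGl.1 χ.1.1 χ.1.2 (hP χ)).choose = (hGl.1 χ'.1.1 χ'.1.2 (hP χ')).choose := h1
    rw [← h2] at hm'
    apply Subtype.ext
    apply Subtype.ext
    exact hGl.2.1 _ _ χ.1.2 χ'.1.2 (hP χ) (hP χ') _ m m' hm (not_dvd_of_pm_one p hp m hm1) hm'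
      (not_dvd_of_pm_one p hp m' hm1')
  · rintro ⟨β, hβ⟩
    obtain ⟨χ, hχ, hinvP, m, hm, hmd⟩ := hGl.2.2 β
    have hχS : SInv G S χ :=
      glaub_inv_up p G S P C hnorm hPn hC hCG hGl χ hχ hinvP β hβ m hm hmd
    refine ⟨⟨⟨χ, hχ⟩, hχS⟩, Subtype.ext ?_⟩
    show (hGl.1 χ hχ (hP ⟨⟨χ, hχ⟩, hχS⟩)).choose = β
    by_contra hne
    obtain ⟨m₂, hm₂, hd⟩ := (hGl.1 χ hχ (hP ⟨⟨χ, hχ⟩, hχS⟩)).choose_spec.2 β (fun h => hne h.symm)
    rw [hm] at hm₂
    have hmm : m = m₂ := by exact_mod_cast hm₂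
    exact hmd (hmm ▸ hd)

end equiv

end Cfsg.Agent.Lib.Helper2
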