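import Mathlib
import Cfsg.Agent.Lib.Helper2.GlaubEquiv

set_option autoImplicit false

/-! Coprime action of a solvable group: the numbers of invariant irreducible characters and of
invariant conjugacy classes agree. -/

namespace Cfsg.Agent.Lib.Helper2

open scoped ComplexConjugate

section count

variable {Γ : Type*} [Group Γ]

/-- a conjugacy class of the subgroup `G` mapped to itself by conjugation by the elements of
`S` -/
def ClInv (G S : Subgroup Γ) (K : ConjClasses G) : Prop :=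
  ∀ s ∈ S, ∀ g g' : G, (g' : Γ) = s * g * s⁻¹ → ConjClasses.mk g = K → ConjClasses.mk g' = K

section cl

variable (p : ℕ) [hp : Fact p.Prime] (k : ℕ) (G P C : Subgroup Γ)
  (hnormP : ∀ s ∈ P, ∀ g ∈ G, s * g * s⁻¹ ∈ G)
  (hrel : (P ⊓ Subgroup.centralizer (G : Set Γ)).relIndex P = p ^ k)
  (hcop : ¬ p ∣ Nat.card G) (hC : C = G ⊓ Subgroup.centralizer (P : Set Γ))

include hC in
omit hp in
theorem cl_fixed_iff (g : G) :
    (∀ a : (conjHom G P hnormP).range, (a : MulAut G) g = g) ↔ (g : Γ) ∈ C := by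
  rw [hC, Subgroup.mem_inf]
  constructor
  · intro h
    refine ⟨g.2, ?_⟩
    rw [Subgroup.mem_centralizer_iff]
    intro x hx
    have h1 := congrArg Subtype.val (h ⟨conjHom G P hnormP ⟨x, hx⟩, ⟨⟨x, hx⟩, rfl⟩⟩)
    simp only [conjHom_apply] at h1
    calc x * (g : Γ) = (x * g * x⁻¹) * x := by group
      _ = g * x := by rw [h1]
  · rintro ⟨-, h⟩ ⟨a, ⟨x, rfl⟩⟩
    apply Subtype.ext
    show ((conjHom G P hnormP x g : G) : Γ) = g
    rw [conjHom_apply]
    have h1 := (Subgroup.mem_centralizer_iff.mp h) x x.2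
    rw [h1]
    group

include hnormP hrel hcop hC in
/-- two elements of the fixed points conjugate in `G` are conjugate in the fixed points -/
theorem cl_fixed_conj [Finite Γ] (c c' : G) (hc : (c : Γ) ∈ C) (hc' : (c' : Γ) ∈ C)
    (h : IsConj c c') : ∃ y : G, (y : Γ) ∈ C ∧ y * c * y⁻¹ = c' := by
  have hQ := isPGroup_conjRange p G P hnormP k hrel
  obtain ⟨y, hy, hyc⟩ := fixed_conj p hQ (conjHom G P hnormP).range.subtype hcop c c'
    ((cl_fixed_iff G P C hnormP hC c).mpr hc) ((cl_fixed_iff G P C hnormP hC c').mpr hc') h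
  exact ⟨y, (cl_fixed_iff G P C hnormP hC y).mp hy, hyc⟩

include hrel hcop hC in
/-- a class of `G` mapped to itself by `P` meets the fixed points -/
theorem cl_exists_fixed [Finite Γ] (g : G)
    (hg : ∀ x (hx : x ∈ P), IsConj (⟨x * g * x⁻¹, hnormP x hx g g.2⟩ : G) g) :
    ∃ c : G, (c : Γ) ∈ C ∧ IsConj c g := by
  have hQ := isPGroup_conjRange p G P hnormP k hrel
  obtain ⟨c, hc, hcg⟩ := exists_fixed_of_class p hQ (conjHom G P hnormP).range.subtype hcop g (by
    rintro ⟨a, ⟨x, rfl⟩⟩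
    exact hg x x.2)
  exact ⟨c, (cl_fixed_iff G P C hnormP hC c).mp hc, hcg⟩

end cl

/-- the invariant classes of `G` correspond to the invariant classes of the fixed points of a
normal subgroup of the operators acting through a `p`-group quotient -/
theorem card_inv_cl_eq [Finite Γ] (p : ℕ) [hp : Fact p.Prime] (k : ℕ) (G S P C : Subgroup Γ)
    (hnorm : ∀ s ∈ S, ∀ g ∈ G, s * g * s⁻¹ ∈ G) (hPS : P ≤ S)
    (hPn : ∀ t ∈ S, ∀ x ∈ P, t * x * t⁻¹ ∈ P)
    (hrel : (P ⊓ Subgroup.centralizer (G : Set Γ)).relIndex P = p ^ k)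
    (hcop : ¬ p ∣ Nat.card G) (hC : C = G ⊓ Subgroup.centralizer (P : Set Γ)) (hCG : C ≤ G) :
    Nat.card {K' : ConjClasses C // ClInv C S K'} = Nat.card {K : ConjClasses G // ClInv G S K} := by
  have hnormP : ∀ s ∈ P, ∀ g ∈ G, s * g * s⁻¹ ∈ G := fun s hs => hnorm s (hPS hs)
  have hnC := normalizes_cent G S P C hnorm hPn hC
  -- conjugacy in `C` from conjugacy in `G`
  have hdown : ∀ c c' : C, IsConj (Subgroup.inclusion hCG c) (Subgroup.inclusion hCG c') →
      IsConj c c' := by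
    intro c c' h
    obtain ⟨y, hy, hyc⟩ := cl_fixed_conj p k G P C hnormP hrel hcop hC _ _ c.2 c'.2 h
    apply isConj_iff.mpr
    refine ⟨⟨y, hy⟩, Subtype.ext ?_⟩
    have h1 := congrArg (fun z : G => (z : Γ)) hyc
    exact h1
  have hup : ∀ c c' : C, IsConj c c' →
      IsConj (Subgroup.inclusion hCG c) (Subgroup.inclusion hCG c') :=
    fun c c' h => (Subgroup.inclusion hCG).map_isConj h
  -- conjugation by `t` preserves conjugacy in `G`
  have hconjt : ∀ t (ht : t ∈ S) (g h : G), IsConj g h →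
      IsConj (⟨t * g * t⁻¹, hnorm t ht g g.2⟩ : G) ⟨t * h * t⁻¹, hnorm t ht h h.2⟩ := by
    intro t ht g h hgh
    obtain ⟨y, hy⟩ := isConj_iff.mp hgh
    apply isConj_iff.mpr
    refine ⟨⟨t * y * t⁻¹, hnorm t ht y y.2⟩, Subtype.ext ?_⟩
    have hy' : (y : Γ) * g * (y : Γ)⁻¹ = h := congrArg Subtype.val hy
    show t * y * t⁻¹ * (t * g * t⁻¹) * (t * y * t⁻¹)⁻¹ = t * h * t⁻¹
    rw [← hy']
    group
  let f : {K' : ConjClasses C // ClInv C S K'} → {K : ConjClasses G // ClInv G S K} :=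
    fun K' => ⟨ConjClasses.map (Subgroup.inclusion hCG) K'.1, by
      obtain ⟨K', hK'⟩ := K'
      obtain ⟨c, rfl⟩ := ConjClasses.mk_surjective K'
      intro t ht g g' hg hgK
      have h1 : IsConj g (Subgroup.inclusion hCG c) := ConjClasses.mk_eq_mk_iff_isConj.mp hgK
      have h2 : ConjClasses.mk (⟨t * c * t⁻¹, hnC t ht c c.2⟩ : C) = ConjClasses.mk c :=
        hK' t ht c _ rfl rfl
      have h3 := hup _ _ (ConjClasses.mk_eq_mk_iff_isConj.mp h2)
      have h4 := hconjt t ht g (Subgroup.inclusion hCG c) h1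
      have h5 : g' = (⟨t * g * t⁻¹, hnorm t ht g g.2⟩ : G) := Subtype.ext hg
      apply ConjClasses.mk_eq_mk_iff_isConj.mpr
      rw [h5]
      exact h4.trans h3⟩
  apply Nat.card_eq_of_bijective f
  constructor
  · rintro ⟨K₁, hK₁⟩ ⟨K₂, hK₂⟩ h
    obtain ⟨c, rfl⟩ := ConjClasses.mk_surjective K₁
    obtain ⟨c', rfl⟩ := ConjClasses.mk_surjective K₂
    apply Subtype.ext
    apply ConjClasses.mk_eq_mk_iff_isConj.mpr
    exact hdown c c' (ConjClasses.mk_eq_mk_iff_isConj.mp (congrArg Subtype.val h))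
  · rintro ⟨K, hK⟩
    obtain ⟨g, rfl⟩ := ConjClasses.mk_surjective K
    obtain ⟨c, hc, hcg⟩ := cl_exists_fixed p k G P C hnormP hrel hcop hC g (by
      intro x hx
      exact ConjClasses.mk_eq_mk_iff_isConj.mp (hK x (hPS hx) g _ rfl rfl))
    have hinvK : ClInv C S (ConjClasses.mk (⟨c, hc⟩ : C)) := by
      intro t ht d d' hd hdK
      have h1 : IsConj d (⟨c, hc⟩ : C) := ConjClasses.mk_eq_mk_iff_isConj.mp hdK
      have h2 : IsConj (Subgroup.inclusion hCG d) g := (hup _ _ h1).trans hcg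
      have h3 : ConjClasses.mk (Subgroup.inclusion hCG d') = ConjClasses.mk g :=
        hK t ht (Subgroup.inclusion hCG d) (Subgroup.inclusion hCG d') hd
          (ConjClasses.mk_eq_mk_iff_isConj.mpr h2)
      have h4 : IsConj (Subgroup.inclusion hCG d') (Subgroup.inclusion hCG (⟨c, hc⟩ : C)) :=
        (ConjClasses.mk_eq_mk_iff_isConj.mp h3).trans hcg.symm
      exact ConjClasses.mk_eq_mk_iff_isConj.mpr (hdown _ _ h4)
    refine ⟨⟨ConjClasses.mk (⟨c, hc⟩ : C), hinvK⟩, Subtype.ext ?_⟩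
    exact ConjClasses.mk_eq_mk_iff_isConj.mpr hcg

/-- the kernel of the action of `S` on `G` is normalised by `S` -/
theorem kernel_normal (G S K : Subgroup Γ) (hnorm : ∀ s ∈ S, ∀ g ∈ G, s * g * s⁻¹ ∈ G)
    (hK : K = S ⊓ Subgroup.centralizer (G : Set Γ)) : ∀ t ∈ S, ∀ x ∈ K, t * x * t⁻¹ ∈ K := by
  intro t ht x hx
  rw [hK, Subgroup.mem_inf] at hx ⊢
  refine ⟨S.mul_mem (S.mul_mem ht hx.1) (S.inv_mem ht), ?_⟩
  rw [Subgroup.mem_centralizer_iff]
  intro g hg
  have hg' : t⁻¹ * g * t ∈ G := by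
    have := hnorm t⁻¹ (S.inv_mem ht) g hg
    simpa using this
  have hcomm := (Subgroup.mem_centralizer_iff.mp hx.2) _ hg'
  have e1 : g * (t * x * t⁻¹) = t * ((t⁻¹ * g * t) * x) * t⁻¹ := by group
  have e2 : t * x * t⁻¹ * g = t * (x * (t⁻¹ * g * t)) * t⁻¹ := by group
  rw [e1, e2, hcomm]

/-- passing to the fixed points of a normal subgroup `P` of the operators acting nontrivially:
the kernel of the action grows -/
theorem kernel_index_lt [Finite Γ] (G S P C : Subgroup Γ) (p k : ℕ) (hp : p.Prime) (hk : 0 < k)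
    (hPS : P ≤ S) (hKP : S ⊓ Subgroup.centralizer (G : Set Γ) ≤ P)
    (hrelP : (S ⊓ Subgroup.centralizer (G : Set Γ)).relIndex P = p ^ k)
    (hC : C = G ⊓ Subgroup.centralizer (P : Set Γ)) :
    (S ⊓ Subgroup.centralizer (C : Set Γ)).relIndex S
        < (S ⊓ Subgroup.centralizer (G : Set Γ)).relIndex S ∧
      (S ⊓ Subgroup.centralizer (C : Set Γ)).relIndex S
        ∣ (S ⊓ Subgroup.centralizer (G : Set Γ)).relIndex S := by
  have hCG : C ≤ G := hC ▸ inf_le_left
  have hKK' : S ⊓ Subgroup.centralizer (G : Set Γ) ≤ S ⊓ Subgroup.centralizer (C : Set Γ) :=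
    inf_le_inf_left S (Subgroup.centralizer_le hCG)
  have hPK' : P ≤ S ⊓ Subgroup.centralizer (C : Set Γ) := by
    refine le_inf hPS ?_
    intro x hx
    rw [Subgroup.mem_centralizer_iff]
    intro c hc
    have hc' : c ∈ G ⊓ Subgroup.centralizer (P : Set Γ) := hC ▸ hc
    exact ((Subgroup.mem_centralizer_iff.mp hc'.2) x hx).symm
  have h1 := Subgroup.relIndex_mul_relIndex (S ⊓ Subgroup.centralizer (G : Set Γ))
    (S ⊓ Subgroup.centralizer (C : Set Γ)) S hKK' inf_le_left
  have h2 := Subgroup.relIndex_mul_relIndex (S ⊓ Subgroup.centralizer (G : Set Γ)) P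
    (S ⊓ Subgroup.centralizer (C : Set Γ)) hKP hPK'
  have rne : ∀ H K : Subgroup Γ, H.relIndex K ≠ 0 := fun H K => Subgroup.index_ne_zero_of_finite
  have ha : 2 ≤ (S ⊓ Subgroup.centralizer (G : Set Γ)).relIndex
      (S ⊓ Subgroup.centralizer (C : Set Γ)) := by
    have h3 : (S ⊓ Subgroup.centralizer (G : Set Γ)).relIndex
        (S ⊓ Subgroup.centralizer (C : Set Γ)) ≠ 0 := rne _ _
    have h4 : p ^ k ∣ (S ⊓ Subgroup.centralizer (G : Set Γ)).relIndex
        (S ⊓ Subgroup.centralizer (C : Set Γ)) := by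
      rw [← hrelP]
      exact Dvd.intro _ h2
    have h5 : 2 ≤ p ^ k := by
      calc 2 ≤ p := hp.two_le
        _ = p ^ 1 := (pow_one p).symm
        _ ≤ p ^ k := Nat.pow_le_pow_right hp.pos hk
    exact h5.trans (Nat.le_of_dvd (Nat.pos_of_ne_zero h3) h4)
  constructor
  · have hb : (S ⊓ Subgroup.centralizer (C : Set Γ)).relIndex S ≠ 0 := rne _ _
    rw [← h1]
    nlinarith [Nat.pos_of_ne_zero hb]
  · exact Dvd.intro_left _ h1

/-- **coprime solvable action**: the number of invariant irreducible characters equals the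
number of invariant classes; by induction on the index of the kernel of the action -/
theorem card_inv_eq_aux [Finite Γ] : ∀ (n : ℕ) (G S : Subgroup Γ) [Fintype G]
    (_ : ∀ s ∈ S, ∀ g ∈ G, s * g * s⁻¹ ∈ G) (_ : Group.IsSolvable S)
    (_ : (S ⊓ Subgroup.centralizer (G : Set Γ)).relIndex S = n)
    (_ : (Nat.card G).Coprime n),
    Nat.card {χ : Cfsg.IrrCharacter G // SInv G S χ}
      = Nat.card {K : ConjClasses G // ClInv G S K} := by
  intro n
  induction n using Nat.strong_induction_on with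
  | _ n ih =>
    intro G S _ hnorm hsolv hrel hcop
    by_cases h1 : S ≤ Subgroup.centralizer (G : Set Γ)
    · have hfix : ∀ s ∈ S, ∀ g g' : G, (g' : Γ) = s * g * s⁻¹ → g' = g := by
        intro s hs g g' hg
        apply Subtype.ext
        rw [hg, ← (Subgroup.mem_centralizer_iff.mp (h1 hs)) g g.2]
        group
      have hall : ∀ χ : Cfsg.IrrCharacter G, SInv G S χ := by
        intro χ s hs g g' hg
        rw [hfix s hs g g' hg]
      have hallK : ∀ K : ConjClasses G, ClInv G S K := by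
        intro K s hs g g' hg hgK
        rw [hfix s hs g g' hg]
        exact hgK
      rw [Nat.card_congr (Equiv.subtypeUnivEquiv hall),
        Nat.card_congr (Equiv.subtypeUnivEquiv hallK)]
      exact card_irr_eq_card_conjClasses
    · obtain ⟨K, hK⟩ : ∃ K : Subgroup Γ, K = S ⊓ Subgroup.centralizer (G : Set Γ) := ⟨_, rfl⟩
      have hKS : K ≤ S := hK ▸ inf_le_left
      have hKn := kernel_normal G S K hnorm hK
      have hne : ¬ S ≤ K := fun h => h1 (h.trans (hK ▸ inf_le_right))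
      obtain ⟨p, k, P, hp, hk, hKP, hPS, hPn, hrelP⟩ := exists_normal_pquot S K hsolv hKS hKn hne
      haveI : Fact p.Prime := ⟨hp⟩
      have hKP' : P ⊓ Subgroup.centralizer (G : Set Γ) = K := by
        rw [hK]
        exact le_antisymm (inf_le_inf_right _ hPS) (le_inf (hK ▸ hKP) inf_le_right)
      have hpn : p ∣ n := by
        have h2 := Subgroup.relIndex_mul_relIndex K P S hKP hPS
        rw [← hrel, ← hK, ← h2, hrelP]
        exact Dvd.dvd.mul_right (dvd_pow_self p hk.ne') _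
      have hcopG : ¬ p ∣ Nat.card G := by
        intro hd
        have h3 := Nat.dvd_gcd hd hpn
        rw [Nat.Coprime.gcd_eq_one hcop] at h3
        exact hp.one_lt.ne' (Nat.dvd_one.mp h3)
      obtain ⟨C, hC⟩ : ∃ C : Subgroup Γ, C = G ⊓ Subgroup.centralizer (P : Set Γ) := ⟨_, rfl⟩
      haveI : Fintype C := Fintype.ofFinite C
      have hCG : C ≤ G := hC ▸ inf_le_left
      have hnormP : ∀ s ∈ P, ∀ g ∈ G, s * g * s⁻¹ ∈ G := fun s hs => hnorm s (hPS hs)
      have hrelP' : (P ⊓ Subgroup.centralizer (G : Set Γ)).relIndex P = p ^ k := by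
        rw [hKP']
        exact hrelP
      have hGl := glaub_pquot p k G P C hnormP hcopG hrelP' hC hCG
      have h_irr := card_inv_irr_eq p G S P C hnorm hPS hPn hC hCG hGl hp
      have h_cl := card_inv_cl_eq p k G S P C hnorm hPS hPn hrelP' hcopG hC hCG
      obtain ⟨hlt, hdvd⟩ := kernel_index_lt G S P C p k hp hk hPS (hK ▸ hKP) (hK ▸ hrelP) hC
      rw [hrel] at hlt hdvd
      have hcop' : (Nat.card C).Coprime ((S ⊓ Subgroup.centralizer (C : Set Γ)).relIndex S) :=
        Nat.Coprime.coprime_dvd_left (Subgroup.card_dvd_of_le hCG)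
          (Nat.Coprime.coprime_dvd_right hdvd hcop)
      have h_ih := ih _ hlt C S (normalizes_cent G S P C hnorm hPn hC) hsolv rfl hcop'
      exact h_irr.trans (h_ih.trans h_cl)

end count

end Cfsg.Agent.Lib.Helper2
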