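import Mathlib
import Cfsg.Agent.Lib.Helper2.GlaubCount

set_option autoImplicit false

/-! Coprime action of a solvable group: the number of invariant irreducible characters equals
the number of irreducible characters of the fixed-point subgroup. -/

namespace Cfsg.Agent.Lib.Helper2

open scoped ComplexConjugate

section cent

variable {Γ : Type*} [Group Γ]

/-- **coprime solvable action**: the number of invariant irreducible characters equals the
number of irreducible characters of the centraliser; by induction on the index of the kernel of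
the action -/
theorem card_inv_irr_cent [Finite Γ] : ∀ (n : ℕ) (G S D : Subgroup Γ) [Fintype G]
    (_ : ∀ s ∈ S, ∀ g ∈ G, s * g * s⁻¹ ∈ G) (_ : Group.IsSolvable S)
    (_ : (S ⊓ Subgroup.centralizer (G : Set Γ)).relIndex S = n)
    (_ : (Nat.card G).Coprime n) (_ : D = G ⊓ Subgroup.centralizer (S : Set Γ)),
    Nat.card {χ : Cfsg.IrrCharacter G // SInv G S χ} = Nat.card (Cfsg.IrrCharacter D) := by
  intro n
  induction n using Nat.strong_induction_on with
  | _ n ih =>
    intro G S D _ hnorm hsolv hrel hcop hD
    by_cases h1 : S ≤ Subgroup.centralizer (G : Set Γ)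
    · have hfix : ∀ s ∈ S, ∀ g g' : G, (g' : Γ) = s * g * s⁻¹ → g' = g := by
        intro s hs g g' hg
        apply Subtype.ext
        rw [hg, ← (Subgroup.mem_centralizer_iff.mp (h1 hs)) g g.2]
        group
      have hall : ∀ χ : Cfsg.IrrCharacter G, SInv G S χ := by
        intro χ s hs g g' hg
        rw [hfix s hs g g' hg]
      have hDG : D = G := by
        rw [hD]
        exact inf_eq_left.mpr (Subgroup.le_centralizer_iff.mp h1)
      subst hDG
      exact Nat.card_congr (Equiv.subtypeUnivEquiv hall)
    · obtain ⟨K, hK⟩ : ∃ K : Subgroup Γ, K = S ⊓ Subgroup.centralizer (G : Set Γ) := ⟨_, rfl⟩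
      have hKS : K ≤ S := hK ▸ inf_le_left
      have hKn := kernel_normal G S K hnorm hK
      have hne : ¬ S ≤ K := fun h => h1 (h.trans (hK ▸ inf_le_right))
      obtain ⟨p, k, P, hp, hk, hKP, hPS, hPn, hrelP⟩ := exists_normal_pquot S K hsolv hKS hKn hne
      haveI : Fact p.Prime := ⟨hp⟩
      have hKP' : P ⊓ Subgroup.centralizer (G : Set Γ) = K := by
        rw [hK]
        exact le_antisymm (inf_le_inf_right _ hPS) (le_inf (hK ▸ hKP) inf_le_right)
      have hpn : p ∣ n := by
        have h2 := Subgroup.relIndex_mul_relIndex K P S hKP hPS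
        rw [← hrel, ← hK, ← h2, hrelP]
        exact Dvd.dvd.mul_right (dvd_pow_self p hk.ne') _
      have hcopG : ¬ p ∣ Nat.card G := by
        intro hd
        have h3 := Nat.dvd_gcd hd hpn
        rw [Nat.Coprime.gcd_eq_one hcop] at h3
        exact hp.one_lt.ne' (Nat.dvd_one.mp h3)
      obtain ⟨C, hC⟩ : ∃ C : Subgroup Γ, C = G ⊓ Subgroup.centralizer (P : Set Γ) := ⟨_, rfl⟩
      haveI : Fintype C := Fintype.ofFinite C
      have hCG : C ≤ G := hC ▸ inf_le_left
      have hnormP : ∀ s ∈ P, ∀ g ∈ G, s * g * s⁻¹ ∈ G := fun s hs => hnorm s (hPS hs)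
      have hrelP' : (P ⊓ Subgroup.centralizer (G : Set Γ)).relIndex P = p ^ k := by
        rw [hKP']
        exact hrelP
      have hGl := glaub_pquot p k G P C hnormP hcopG hrelP' hC hCG
      have h_irr := card_inv_irr_eq p G S P C hnorm hPS hPn hC hCG hGl hp
      obtain ⟨hlt, hdvd⟩ := kernel_index_lt G S P C p k hp hk hPS (hK ▸ hKP) (hK ▸ hrelP) hC
      rw [hrel] at hlt hdvd
      have hcop' : (Nat.card C).Coprime ((S ⊓ Subgroup.centralizer (C : Set Γ)).relIndex S) :=
        Nat.Coprime.coprime_dvd_left (Subgroup.card_dvd_of_le hCG)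
          (Nat.Coprime.coprime_dvd_right hdvd hcop)
      have hD' : D = C ⊓ Subgroup.centralizer (S : Set Γ) := by
        rw [hD, hC, inf_assoc]
        congr 1
        exact (inf_eq_right.mpr (Subgroup.centralizer_le hPS)).symm
      have h_ih := ih _ hlt C S D (normalizes_cent G S P C hnorm hPn hC) hsolv rfl hcop' hD'
      exact h_irr.trans h_ih

end cent

end Cfsg.Agent.Lib.Helper2
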