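import Mathlib
import Cfsg.Prelude
import Cfsg.Agent.Lib.Helper2.CharClifford
import Cfsg.Agent.Lib.Helper2.CharIto
import Cfsg.Agent.Lib.Helper2.CharDecomp
import Cfsg.Agent.Lib.Helper2.CharMore
import Cfsg.Agent.Lib.Helper2.CharCover2

set_option autoImplicit false

namespace Cfsg.Agent.Lib.Helper2

open scoped ComplexConjugate

section goingdown

variable {K : Type*} [Group K] [Fintype K]

/-- Clifford's theorem: the restriction of an irreducible character to a normal subgroup is a
multiple of the sum of the distinct conjugates of a constituent. -/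
theorem clifford_sum (L : Subgroup K) [hL : L.Normal] [Fintype L] [DecidableEq (L → ℂ)]
    {θ : K → ℂ} (hθ : Cfsg.IsIrrCharacter K θ) {φ : L → ℂ} (hφ : Cfsg.IsIrrCharacter L φ)
    (hcon : Cfsg.classInner (fun n : L => θ n) φ ≠ 0) :
    ∃ e : ℕ, e ≠ 0 ∧ (fun n : L => θ n)
      = (e : ℂ) • ∑ ψ ∈ Finset.univ.image (fun k : K => conjFun L φ k), ψ := by
  classical
  have := Fintype.ofFinite (Cfsg.IrrCharacter L)
  have hΘ : Cfsg.IsCharacter L (fun n : L => θ n) :=
    IsCharacter.restrict (isCharacter_of_isIrrCharacter hθ) L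
  obtain ⟨e, he⟩ := classInner_isCharacter_nat hΘ (isCharacter_of_isIrrCharacter hφ)
  refine ⟨e, ?_, ?_⟩
  · rintro rfl
    apply hcon
    rw [he]; simp
  set F := Finset.univ.image (fun k : K => conjFun L φ k) with hF
  have hFirr : ∀ ψ ∈ F, Cfsg.IsIrrCharacter L ψ := by
    intro ψ hψ
    rw [hF, Finset.mem_image] at hψ
    obtain ⟨k, -, rfl⟩ := hψ
    exact conjFun_irr L hφ k
  have hcoef : ∀ ψ : Cfsg.IrrCharacter L, Cfsg.classInner (fun n : L => θ n) ψ
      = if (ψ : L → ℂ) ∈ F then (e : ℂ) else 0 := by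
    intro ψ
    by_cases hψ : (ψ : L → ℂ) ∈ F
    · rw [if_pos hψ]
      rw [hF, Finset.mem_image] at hψ
      obtain ⟨k, -, hk⟩ := hψ
      rw [← hk, classInner_restrict_conjFun L (isClassFunction_of_isIrrCharacter hθ) φ k, he]
    · rw [if_neg hψ]
      apply clifford_conj L hθ hφ hcon ψ.2
      intro g hg
      apply hψ
      rw [hF, Finset.mem_image]
      exact ⟨g, Finset.mem_univ _, hg.symm⟩
  have hexp := class_fun_expand (fun n : L => θ n) (isClassFunction_of_isCharacter hΘ)
  rw [hexp]
  rw [Finset.sum_congr rfl (fun ψ _ => by rw [hcoef ψ])]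
  rw [Finset.smul_sum]
  have h1 : ∑ ψ : Cfsg.IrrCharacter L, (if (ψ : L → ℂ) ∈ F then (e : ℂ) else 0) • (ψ : L → ℂ)
      = ∑ ψ ∈ (Finset.univ : Finset (Cfsg.IrrCharacter L)).map (Function.Embedding.subtype _),
          (if ψ ∈ F then (e : ℂ) else 0) • ψ := by
    rw [Finset.sum_map]
    rfl
  rw [h1]
  have h2 : ∀ ψ ∈ (Finset.univ : Finset (Cfsg.IrrCharacter L)).map (Function.Embedding.subtype _),
      (if ψ ∈ F then (e : ℂ) else 0) • ψ = if ψ ∈ F then (e : ℂ) • ψ else 0 := by
    intro ψ _
    split_ifs <;> simp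
  rw [Finset.sum_congr rfl h2, ← Finset.sum_filter]
  apply Finset.sum_congr _ (fun _ _ => rfl)
  ext ψ
  simp only [Finset.mem_filter, Finset.mem_map, Finset.mem_univ, true_and,
    Function.Embedding.subtype_apply]
  constructor
  · rintro ⟨-, h⟩; exact h
  · intro h
    exact ⟨⟨⟨ψ, hFirr ψ h⟩, rfl⟩, h⟩

/-- norm of a multiple of a sum of distinct irreducible characters -/
theorem classInner_smul_sum_irr {L : Type*} [Group L] [Fintype L] [DecidableEq (L → ℂ)] (e : ℕ)
    (F : Finset (L → ℂ)) (hF : ∀ ψ ∈ F, Cfsg.IsIrrCharacter L ψ) :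
    Cfsg.classInner ((e : ℂ) • ∑ ψ ∈ F, ψ) ((e : ℂ) • ∑ ψ ∈ F, ψ) = ((e ^ 2 * F.card : ℕ) : ℂ) := by
  rw [classInner_smul_left, classInner_smul_right, classInner_sum_left]
  have h1 : ∀ ψ ∈ F, Cfsg.classInner ψ (∑ ψ' ∈ F, ψ') = 1 := by
    intro ψ hψ
    rw [classInner_sum_right]
    rw [Finset.sum_eq_single ψ]
    · exact classInner_irr_self (hF ψ hψ)
    · intro ψ' hψ' hne
      exact classInner_irr_ne (hF ψ hψ) (hF ψ' hψ') (Ne.symm hne)
    · intro h; exact absurd hψ h
  rw [Finset.sum_congr rfl h1]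
  simp only [Finset.sum_const, nsmul_eq_mul, mul_one, map_natCast]
  push_cast
  ring


/-- orbit–stabilizer for the conjugates of a function on a normal subgroup -/
theorem card_conj_mul_card_inertia (L : Subgroup K) [hL : L.Normal] [DecidableEq (L → ℂ)]
    (φ : L → ℂ) :
    (Finset.univ.image (fun k : K => conjFun L φ k)).card * Nat.card (inertia L φ)
      = Nat.card K := by
  classical
  rw [Nat.card_eq_fintype_card (α := K), Nat.card_eq_fintype_card, ← Finset.card_univ (α := K)]
  rw [Finset.card_eq_sum_card_fiberwise (f := fun k : K => conjFun L φ k)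
    (t := Finset.univ.image (fun k : K => conjFun L φ k))
    (fun x _ => Finset.mem_image_of_mem _ (Finset.mem_univ x))]
  symm
  apply Finset.sum_const_nat
  intro b hb
  obtain ⟨k₀, -, rfl⟩ := Finset.mem_image.mp hb
  symm
  rw [← Finset.card_univ]
  apply Finset.card_bij (fun (t : inertia L φ) _ => (t : K) * k₀)
  · intro t _
    simp only [Finset.mem_filter, Finset.mem_univ, true_and]
    rw [conjFun_mul, (mem_inertia L φ t).mp t.2]
  · intro a _ b _ h
    exact Subtype.ext (mul_right_cancel h)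
  · intro k hk
    simp only [Finset.mem_filter, Finset.mem_univ, true_and] at hk
    refine ⟨⟨k * k₀⁻¹, ?_⟩, Finset.mem_univ _, by simp⟩
    rw [mem_inertia, conjFun_mul, hk, ← conjFun_mul, mul_inv_cancel, conjFun_one]

/-- the sum of `θ * conj θ` over a subgroup, as a sum over the group -/
theorem sum_subgroup_eq_filter (L : Subgroup K) [Fintype L] [DecidablePred (· ∈ L)] (F : K → ℂ) :
    ∑ x : L, F x = ∑ g ∈ Finset.univ.filter (· ∈ L), F g := by
  rw [Finset.sum_subtype (Finset.univ.filter (· ∈ L)) (p := (· ∈ L)) (fun x => by simp) F]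

/-- the norm of the restriction of an irreducible character to a subgroup is at most the
index, with equality when the character vanishes off the subgroup -/
theorem restrict_norm_le (L : Subgroup K) [Fintype L] {θ : K → ℂ}
    (hθ : Cfsg.IsIrrCharacter K θ) :
    ∃ r : ℝ, Cfsg.classInner (fun n : L => θ n) (fun n : L => θ n) = (r : ℂ) ∧
      r ≤ L.index ∧ ((∀ x : K, x ∉ L → θ x = 0) → r = L.index) := by
  classical
  have h1 := classInner_irr_self hθ
  rw [classInner_def] at h1
  have hK0 : (Nat.card K : ℂ) ≠ 0 := card_ne_zero_complex K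
  have hL0 : (Nat.card L : ℝ) ≠ 0 := by
    exact_mod_cast (Nat.card_pos (α := L)).ne'
  have h2 : ∑ g : K, θ g * conj (θ g) = (Nat.card K : ℂ) := by
    field_simp at h1
    exact h1
  have h3 : ∀ g : K, θ g * conj (θ g) = ((Complex.normSq (θ g) : ℝ) : ℂ) :=
    fun g => Complex.mul_conj (θ g)
  set a : ℝ := ∑ g ∈ Finset.univ.filter (· ∈ L), Complex.normSq (θ g) with ha
  set c : ℝ := ∑ g ∈ Finset.univ.filter (fun g => ¬ g ∈ L), Complex.normSq (θ g) with hc
  have hac : a + c = Nat.card K := by
    have h4 : ((a + c : ℝ) : ℂ) = ((Nat.card K : ℝ) : ℂ) := by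
      rw [ha, hc, Finset.sum_filter_add_sum_filter_not]
      push_cast
      rw [← h2]
      exact Finset.sum_congr rfl (fun g _ => (h3 g).symm)
    exact_mod_cast h4
  have hc0 : 0 ≤ c := Finset.sum_nonneg (fun g _ => Complex.normSq_nonneg _)
  have hidx : (L.index : ℝ) * (Nat.card L : ℝ) = Nat.card K := by
    exact_mod_cast L.index_mul_card
  refine ⟨a / Nat.card L, ?_, ?_, ?_⟩
  · rw [classInner_def, sum_subgroup_eq_filter L (fun g => θ g * conj (θ g))]
    rw [Finset.sum_congr rfl (fun g _ => h3 g), ha]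
    push_cast
    rw [div_eq_inv_mul]
  · rw [div_le_iff₀ (by positivity)]
    rw [hidx]
    linarith
  · intro hv
    have hc' : c = 0 := by
      rw [hc]
      apply Finset.sum_eq_zero
      intro g hg
      rw [Finset.mem_filter] at hg
      rw [hv g hg.2]
      simp
    rw [div_eq_iff hL0, hidx]
    linarith

/-- the sum of the values of all characters of a finite abelian group at a point -/
theorem sum_dual_apply {Q : Type*} [CommGroup Q] [Finite Q] [Fintype (Q →* ℂˣ)]
    [DecidableEq Q] (a : Q) :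
    ∑ lam : Q →* ℂˣ, (lam a : ℂ) = if a = 1 then (Nat.card Q : ℂ) else 0 := by
  split_ifs with h
  · subst h
    simp only [map_one, Units.val_one, Finset.sum_const, Finset.card_univ, nsmul_eq_mul, mul_one]
    rw [← Nat.card_eq_fintype_card, CommGroup.card_monoidHom_of_hasEnoughRootsOfUnity Q ℂ]
  · obtain ⟨μ, hμ⟩ := CommGroup.exists_apply_ne_one_of_hasEnoughRootsOfUnity Q ℂ h
    have h1 : ∑ lam : Q →* ℂˣ, (lam a : ℂ) = (μ a : ℂ) * ∑ lam : Q →* ℂˣ, (lam a : ℂ) := by
      rw [Finset.mul_sum]
      exact Fintype.sum_equiv (Equiv.mulLeft μ⁻¹) _ _ (fun lam => by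
        simp only [Equiv.coe_mulLeft, MonoidHom.mul_apply, MonoidHom.inv_apply, Units.val_mul]
        rw [← mul_assoc, ← Units.val_mul, mul_inv_cancel, Units.val_one, one_mul])
    have h2 : ((μ a : ℂ) - 1) * ∑ lam : Q →* ℂˣ, (lam a : ℂ) = 0 := by
      linear_combination -h1
    rcases mul_eq_zero.mp h2 with h3 | h3
    · exfalso
      apply hμ
      ext
      rw [Units.val_one]
      exact sub_eq_zero.mp h3
    · exact h3

/-- summing the inner products of the twists of `θ` with `θ` over the dual of an abelian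
quotient gives the norm of the restriction to the kernel -/
theorem sum_dual_inner {Q : Type*} [CommGroup Q] [Finite Q] (f : K →* Q)
    (hf : Function.Surjective f) (L : Subgroup K) (hL : ∀ k, f k = 1 ↔ k ∈ L) [Fintype L]
    [Fintype (Q →* ℂˣ)] (θ : K → ℂ) :
    ∑ lam : Q →* ℂˣ, Cfsg.classInner (fun k => (lam (f k) : ℂ) * θ k) θ
      = Cfsg.classInner (fun x : L => θ x) (fun x : L => θ x) := by
  classical
  have hcard : Nat.card K = Nat.card Q * Nat.card L := by
    have h1 : L = f.ker := by
      ext k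
      rw [MonoidHom.mem_ker, hL]
    have h2 := Subgroup.index_ker f
    rw [MonoidHom.range_eq_top.mpr hf, Subgroup.card_top] at h2
    rw [← h2, h1]
    exact (Subgroup.index_mul_card f.ker).symm
  have hL0 : (Nat.card L : ℂ) ≠ 0 := card_ne_zero_complex L
  have hQ0 : (Nat.card Q : ℂ) ≠ 0 := card_ne_zero_complex Q
  simp only [classInner_def]
  rw [← Finset.mul_sum, Finset.sum_comm]
  have h3 : ∀ k : K, ∑ lam : Q →* ℂˣ, (lam (f k) : ℂ) * θ k * conj (θ k)
      = if k ∈ L then (Nat.card Q : ℂ) * (θ k * conj (θ k)) else 0 := by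
    intro k
    have : ∑ lam : Q →* ℂˣ, (lam (f k) : ℂ) * θ k * conj (θ k)
        = (∑ lam : Q →* ℂˣ, (lam (f k) : ℂ)) * (θ k * conj (θ k)) := by
      rw [Finset.sum_mul]
      exact Finset.sum_congr rfl (fun _ _ => by ring)
    rw [this, sum_dual_apply]
    by_cases hk : k ∈ L
    · rw [if_pos ((hL k).mpr hk), if_pos hk]
    · rw [if_neg (fun h => hk ((hL k).mp h)), if_neg hk, zero_mul]
  rw [Finset.sum_congr rfl (fun k _ => h3 k), ← Finset.sum_filter, ← Finset.mul_sum,
    ← sum_subgroup_eq_filter L (fun g => θ g * conj (θ g)), hcard]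
  push_cast
  field_simp

/-- the commutative group structure on a quotient containing all commutators -/
@[reducible] def quotComm (L : Subgroup K) [L.Normal] (hab : ∀ a b : K, a * b * a⁻¹ * b⁻¹ ∈ L) :
    CommGroup (K ⧸ L) :=
  { (inferInstance : Group (K ⧸ L)) with
    mul_comm := by
      intro x y
      induction x using QuotientGroup.induction_on with
      | H a =>
        induction y using QuotientGroup.induction_on with
        | H b =>
          rw [← QuotientGroup.mk_mul, ← QuotientGroup.mk_mul, QuotientGroup.eq]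
          have := hab b⁻¹ a⁻¹
          simpa [mul_assoc] using this }


/-- Going down (Isaacs 6.18), abstract form: `L` normal in `K` with abelian quotient, `𝒜` a
group of automorphisms of `K` preserving `L`, fixing the irreducible character `θ`, and such
that no `𝒜`-invariant subgroup lies strictly between `L` and `K`. -/
theorem going_down (L : Subgroup K) [hL : L.Normal]
    (hab : ∀ a b : K, a * b * a⁻¹ * b⁻¹ ∈ L)
    (𝒜 : Subgroup (MulAut K))
    (hAL : ∀ α ∈ 𝒜, ∀ x ∈ L, α x ∈ L)
    (hchief : ∀ M : Subgroup K, L ≤ M → (∀ α ∈ 𝒜, ∀ x ∈ M, α x ∈ M) → M = L ∨ M = ⊤)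
    (θ : K → ℂ) (hθ : Cfsg.IsIrrCharacter K θ) (hinv : ∀ α ∈ 𝒜, ∀ x, θ (α x) = θ x) :
    Cfsg.IsIrrCharacter L (fun x : L => θ x) ∨
    (∃ (φ : L → ℂ) (e : ℕ), Cfsg.IsIrrCharacter L φ ∧ (fun x : L => θ x) = (e : ℂ) • φ ∧
      e ^ 2 = L.index) ∨
    (∃ F : Finset (L → ℂ), (∀ φ ∈ F, Cfsg.IsIrrCharacter L φ) ∧ F.card = L.index ∧
      (fun x : L => θ x) = ∑ φ ∈ F, φ) := by
  classical
  have hΘ : Cfsg.IsCharacter L (fun x : L => θ x) :=
    IsCharacter.restrict (isCharacter_of_isIrrCharacter hθ) L
  have hΘ0 : (fun x : L => θ x) ≠ 0 := by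
    intro h0
    have h1 := congrFun h0 1
    obtain ⟨n, hn0, hn⟩ := irr_apply_one hθ
    simp only [OneMemClass.coe_one, Pi.zero_apply] at h1
    rw [hn] at h1
    exact hn0.ne' (by exact_mod_cast h1)
  obtain ⟨φ, hφ, hcon⟩ := exists_irr_constituent hΘ hΘ0
  obtain ⟨e, he0, hsum⟩ := clifford_sum L hθ hφ hcon
  set F := Finset.univ.image (fun k : K => conjFun L φ k) with hF
  have hFirr : ∀ ψ ∈ F, Cfsg.IsIrrCharacter L ψ := by
    intro ψ hψ
    rw [hF, Finset.mem_image] at hψ
    obtain ⟨k, -, rfl⟩ := hψ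
    exact conjFun_irr L hφ k
  obtain ⟨r, hr, hrle, hreq⟩ := restrict_norm_le L hθ
  have hnorm : ((e ^ 2 * F.card : ℕ) : ℂ) = (r : ℂ) := by
    rw [← hr, ← classInner_smul_sum_irr e F hFirr, ← hsum]
  have hnorm' : ((e ^ 2 * F.card : ℕ) : ℝ) = r := by exact_mod_cast hnorm
  have hle : e ^ 2 * F.card ≤ L.index := by
    have : ((e ^ 2 * F.card : ℕ) : ℝ) ≤ (L.index : ℝ) := by rw [hnorm']; exact hrle
    exact_mod_cast this
  set T := inertia L φ with hT
  have hLT : L ≤ T := fun g hg => (mem_inertia L φ g).mpr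
    (conjFun_of_mem L (isClassFunction_of_isIrrCharacter hφ) hg)
  have hTn : ∀ k : K, ∀ t ∈ T, k * t * k⁻¹ ∈ T := by
    intro k t ht
    have : k * t * k⁻¹ = (k * t * k⁻¹ * t⁻¹) * t := by group
    rw [this]
    exact T.mul_mem (hLT (hab k t)) ht
  have hTA : ∀ α ∈ 𝒜, ∀ t ∈ T, α t ∈ T := by
    intro α hα t ht
    have hα' : ∀ x ∈ L, α⁻¹ x ∈ L := hAL α⁻¹ (𝒜.inv_mem hα)
    let αL : L ≃* L :=
      { toFun := fun x => ⟨α x, hAL α hα x x.2⟩
        invFun := fun x => ⟨α⁻¹ x, hα' x x.2⟩
        left_inv := fun x => by ext; simp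
        right_inv := fun x => by ext; simp
        map_mul' := fun x y => by ext; simp }
    have hαL : ∀ x : L, ((αL x : L) : K) = α x := fun x => rfl
    have hφα : Cfsg.IsIrrCharacter L (φ ∘ αL) := isIrrCharacter_comp_mulEquiv hφ αL
    have hconα : Cfsg.classInner (fun n : L => θ n) (φ ∘ αL) ≠ 0 := by
      have h1 : Cfsg.classInner (fun n : L => θ n) (φ ∘ αL)
          = Cfsg.classInner (fun n : L => θ n) φ := by
        rw [classInner_def, classInner_def]
        congr 1
        apply Fintype.sum_equiv αL.toEquiv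
        intro n
        show θ n * conj (φ (αL n)) = θ ((αL n : L) : K) * conj (φ (αL n))
        rw [hαL, hinv α hα n]
      rw [h1]; exact hcon
    obtain ⟨k, hk⟩ : ∃ k : K, φ ∘ αL = conjFun L φ k := by
      by_contra hno
      push Not at hno
      exact hconα (clifford_conj L hθ hφ hcon hφα hno)
    rw [hT, mem_inertia]
    funext x
    obtain ⟨y, rfl⟩ := αL.surjective x
    rw [conjFun_apply]
    have e1 : (⟨α t * ((αL y : L) : K) * (α t)⁻¹, hL.conj_mem _ (αL y).2 (α t)⟩ : L)
        = αL ⟨t * y * t⁻¹, hL.conj_mem y y.2 t⟩ := by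
      apply Subtype.ext
      show α t * α y * (α t)⁻¹ = α (t * y * t⁻¹)
      simp
    rw [e1]
    have e2 : φ (αL ⟨t * y * t⁻¹, hL.conj_mem y y.2 t⟩)
        = conjFun L φ k ⟨t * y * t⁻¹, hL.conj_mem y y.2 t⟩ := congrFun hk _
    have e3 : φ (αL y) = conjFun L φ k y := congrFun hk y
    rw [e2, e3, conjFun_apply, conjFun_apply]
    have e4 := (mem_inertia L φ _).mp (hTn k t ht)
    have e5 := congrFun e4 ⟨k * y * k⁻¹, hL.conj_mem y y.2 k⟩
    rw [conjFun_apply] at e5
    rw [← e5]
    congr 1
    apply Subtype.ext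
    simp only
    group
  have hcardF := card_conj_mul_card_inertia L φ
  rw [← hF, ← hT] at hcardF
  have hidx := L.index_mul_card
  have hLpos : 0 < Nat.card L := Nat.card_pos
  have hipos : 0 < L.index := Nat.pos_of_ne_zero Subgroup.index_ne_zero_of_finite
  rcases hchief T hLT hTA with hTL | hTtop
  · -- inertia group is `L`: sum of `[K:L]` distinct conjugates
    right; right
    have hFc : F.card = L.index := by
      rw [hTL, ← hidx] at hcardF
      exact Nat.eq_of_mul_eq_mul_right hLpos hcardF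
    have he1 : e = 1 := by
      rw [hFc] at hle
      have h1 : e ^ 2 ≤ 1 := by
        by_contra hlt
        push Not at hlt
        nlinarith
      have h2 : e ≤ 1 := by nlinarith
      omega
    refine ⟨F, hFirr, hFc, ?_⟩
    rw [hsum, he1]
    simp
  · -- `φ` is invariant in `K`
    have hFeq : F = {φ} := by
      rw [hF]
      ext ψ
      simp only [Finset.mem_image, Finset.mem_univ, true_and, Finset.mem_singleton]
      constructor
      · rintro ⟨k, rfl⟩
        have : k ∈ T := by rw [hTtop]; exact Subgroup.mem_top k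
        exact (mem_inertia L φ k).mp this
      · rintro rfl
        exact ⟨1, conjFun_one L ψ⟩
    have hsum' : (fun x : L => θ x) = (e : ℂ) • φ := by
      rw [hsum, hFeq, Finset.sum_singleton]
    have hnormφ : ((e ^ 2 : ℕ) : ℂ) = (r : ℂ) := by
      rw [← hnorm, hFeq, Finset.card_singleton, mul_one]
    -- the dual group of `K ⧸ L`
    let _ : CommGroup (K ⧸ L) := quotComm L hab
    have := Fintype.ofFinite ((K ⧸ L) →* ℂˣ)
    have hmk : ∀ k : K, (QuotientGroup.mk' L) k = 1 ↔ k ∈ L := fun k =>
      QuotientGroup.eq_one_iff k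
    have hdual := sum_dual_inner (QuotientGroup.mk' L) (QuotientGroup.mk'_surjective L) L hmk θ
    rw [hr, ← hnormφ] at hdual
    by_cases hS : ∀ lam : (K ⧸ L) →* ℂˣ, lam ≠ 1 →
        (fun k => (lam (QuotientGroup.mk' L k) : ℂ) * θ k) ≠ θ
    · -- restriction irreducible
      left
      have h1 : ∀ lam : (K ⧸ L) →* ℂˣ, lam ≠ 1 →
          Cfsg.classInner (fun k => (lam (QuotientGroup.mk' L k) : ℂ) * θ k) θ = 0 := by
        intro lam hlam
        exact classInner_irr_ne (isIrrCharacter_hom_mul (lam.comp (QuotientGroup.mk' L)) hθ) hθ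
          (hS lam hlam)
      rw [Finset.sum_eq_single (1 : (K ⧸ L) →* ℂˣ) (fun lam _ hlam => h1 lam hlam)
        (fun h => absurd (Finset.mem_univ _) h)] at hdual
      have h2 : (fun k => (((1 : (K ⧸ L) →* ℂˣ) (QuotientGroup.mk' L k) : ℂˣ) : ℂ) * θ k) = θ := by
        funext k
        simp
      rw [h2, classInner_irr_self hθ] at hdual
      have h3 : e ^ 2 = 1 := by exact_mod_cast hdual.symm
      have h4 : e = 1 := by
        rcases Nat.eq_zero_or_pos e with h | h
        · exact absurd h he0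
        · nlinarith
      rw [hsum', h4]
      simpa using hφ
    · -- `θ` vanishes off `L`
      right; left
      push Not at hS
      obtain ⟨lam, hlam1, hlamθ⟩ := hS
      let M : Subgroup K :=
        { carrier := {x | ∀ α ∈ 𝒜, lam (QuotientGroup.mk' L (α x)) = 1}
          one_mem' := fun α _ => by simp
          mul_mem' := fun {a b} ha hb α hα => by
            rw [map_mul, map_mul, map_mul, ha α hα, hb α hα, one_mul]
          inv_mem' := fun {a} ha α hα => by
            rw [map_inv, map_inv, map_inv, ha α hα, inv_one] }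
      have hLM : L ≤ M := by
        intro x hx α hα
        have : QuotientGroup.mk' L (α x) = 1 := (hmk _).mpr (hAL α hα x hx)
        rw [this, map_one]
      have hMA : ∀ α ∈ 𝒜, ∀ x ∈ M, α x ∈ M := by
        intro α hα x hx β hβ
        have := hx (β * α) (𝒜.mul_mem hβ hα)
        simpa using this
      have hMne : M ≠ ⊤ := by
        intro hM
        apply hlam1
        ext q
        have hk : q ∈ M := by rw [hM]; exact Subgroup.mem_top q
        have h5 := hk 1 𝒜.one_mem
        have h6 : lam (QuotientGroup.mk' L q) = 1 := h5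
        show ((lam (QuotientGroup.mk' L q) : ℂˣ) : ℂ) = ((1 : ℂˣ) : ℂ)
        rw [h6]
      have hML : M = L := (hchief M hLM hMA).resolve_right hMne
      have hvan : ∀ x : K, x ∉ L → θ x = 0 := by
        intro x hx
        have hxM : x ∉ M := by rw [hML]; exact hx
        have : ∃ α ∈ 𝒜, lam (QuotientGroup.mk' L (α x)) ≠ 1 := by
          by_contra hno
          push Not at hno
          exact hxM hno
        obtain ⟨α, hα, hne⟩ := this
        have h1 : (lam (QuotientGroup.mk' L (α x)) : ℂ) * θ (α x) = θ (α x) :=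
          congrFun hlamθ (α x)
        have h2 : ((lam (QuotientGroup.mk' L (α x)) : ℂ) - 1) * θ (α x) = 0 := by
          linear_combination h1
        rcases mul_eq_zero.mp h2 with h3 | h3
        · exfalso
          apply hne
          ext
          rw [Units.val_one]
          exact sub_eq_zero.mp h3
        · rw [← hinv α hα x]; exact h3
      have hreq' := hreq hvan
      refine ⟨φ, e, hφ, hsum', ?_⟩
      have : ((e ^ 2 : ℕ) : ℝ) = (L.index : ℝ) := by
        rw [← hreq']
        exact_mod_cast hnormφ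
      exact_mod_cast this

end goingdown

end Cfsg.Agent.Lib.Helper2
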