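import Mathlib
import Cfsg.Prelude
import Cfsg.Agent.Lib.Helper2.CharOrtho
import Cfsg.Agent.Lib.Helper2.CharIto
import Cfsg.Agent.Lib.Helper2.GoingDown
import Cfsg.Agent.Lib.Helper2.CharIntegral
import Cfsg.Agent.Lib.Helper2.CharCover
import Cfsg.Agent.Lib.Helper6.PSolv
import Cfsg.Agent.S4387

set_option autoImplicit false

namespace Cfsg.Agent.Lib.Helper2

open Representation Module

open scoped ComplexConjugate

section sep

variable {G : Type*} [Group G] [Fintype G]

/-- irreducible characters separate conjugacy classes -/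
theorem isConj_of_irr_eq (a b : G) (h : ∀ χ : G → ℂ, Cfsg.IsIrrCharacter G χ → χ a = χ b) :
    IsConj a b := by
  classical
  have := Fintype.ofFinite (Cfsg.IrrCharacter G)
  by_contra hnc
  have h1 := column_orthogonality a b
  have h2 := column_orthogonality b b
  rw [colFun_of_not_isConj hnc] at h1
  rw [colFun_of_isConj (IsConj.refl b)] at h2
  have h3 : ∑ χ : Cfsg.IrrCharacter G, (χ : G → ℂ) a * conj ((χ : G → ℂ) b)
      = ∑ χ : Cfsg.IrrCharacter G, (χ : G → ℂ) b * conj ((χ : G → ℂ) b) :=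
    Finset.sum_congr rfl (fun χ _ => by rw [h χ.1 χ.2])
  rw [h1, h2] at h3
  have : (Nat.card (Subgroup.centralizer ({b} : Set G)) : ℂ) ≠ 0 := card_ne_zero_complex _
  exact this h3.symm

/-- a group all of whose irreducible characters are linear is abelian -/
theorem comm_of_all_linear (h : ∀ χ : G → ℂ, Cfsg.IsIrrCharacter G χ → χ 1 = 1) (x y : G) :
    x * y = y * x := by
  have h1 : IsConj (x * y * x⁻¹ * y⁻¹) 1 := by
    apply isConj_of_irr_eq
    intro χ hχ
    obtain ⟨lam, hlam⟩ := hom_of_irr_deg_one hχ (h χ hχ)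
    rw [hlam]
    simp
  have h2 : x * y * x⁻¹ * y⁻¹ = 1 := isConj_one_left.mp h1
  calc x * y = x * y * x⁻¹ * y⁻¹ * (y * x) := by group
    _ = y * x := by rw [h2, one_mul]

/-- an irreducible character of a subgroup lies under an irreducible character of the group -/
theorem exists_irr_over (H : Subgroup G) [Fintype H] {θ : H → ℂ}
    (hθ : Cfsg.IsIrrCharacter H θ) :
    ∃ χ : G → ℂ, Cfsg.IsIrrCharacter G χ ∧ Cfsg.classInner (fun h : H => χ h) θ ≠ 0 := by
  classical
  have hΦ : Cfsg.IsCharacter G (Cfsg.indFun H θ) :=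
    indFun_isCharacter H (isCharacter_of_isIrrCharacter hθ)
  have hne : Cfsg.indFun H θ ≠ 0 := by
    intro h0
    have h1 := congrFun h0 1
    rw [indFun_apply_one] at h1
    obtain ⟨d, hd0, hd⟩ := irr_apply_one hθ
    rw [hd] at h1
    have hidx : (H.index : ℂ) ≠ 0 := by
      have : H.index ≠ 0 := Subgroup.index_ne_zero_of_finite
      exact_mod_cast this
    have hdc : (d : ℂ) ≠ 0 := by exact_mod_cast hd0.ne'
    exact (mul_ne_zero hidx hdc) h1
  obtain ⟨χ, hχ, hcon⟩ := exists_irr_constituent hΦ hne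
  refine ⟨χ, hχ, ?_⟩
  rw [frobenius_reciprocity H θ χ (isClassFunction_of_isIrrCharacter hχ)] at hcon
  intro h0
  apply hcon
  rw [← classInner_conj_symm, h0, map_zero]

/-- the degree of an irreducible character divides the group order -/
theorem irr_deg_dvd_card' {χ : G → ℂ} (hχ : Cfsg.IsIrrCharacter G χ) (d : ℕ)
    (hd : χ 1 = (d : ℂ)) : d ∣ Nat.card G := by
  obtain ⟨m, ρ, hρ, rfl⟩ := hχ
  have := hρ
  have h1 := irr_degree_dvd_card ρ
  have h2 : ρ.character 1 = (finrank ℂ (Fin m → ℂ) : ℂ) := Representation.char_one ρ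
  rw [hd] at h2
  have h3 : d = finrank ℂ (Fin m → ℂ) := by exact_mod_cast h2
  rw [h3]
  exact h1

/-- Clifford: degrees -/
theorem clifford_degree (L : Subgroup G) [hL : L.Normal] [Fintype L]
    {θ : G → ℂ} (hθ : Cfsg.IsIrrCharacter G θ) {φ : L → ℂ} (hφ : Cfsg.IsIrrCharacter L φ)
    (hcon : Cfsg.classInner (fun n : L => θ n) φ ≠ 0) (dθ dφ : ℕ) (h1 : θ 1 = (dθ : ℂ))
    (h2 : φ 1 = (dφ : ℂ)) : ∃ e : ℕ, dθ = e * ((inertia L φ).index * dφ) := by
  classical
  obtain ⟨e, he0, he⟩ := clifford_sum L hθ hφ hcon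
  refine ⟨e, ?_⟩
  have h3 := congrFun he 1
  have h4 : ∀ ψ ∈ Finset.univ.image (fun k : G => conjFun L φ k), ψ 1 = (dφ : ℂ) := by
    intro ψ hψ
    obtain ⟨k, -, rfl⟩ := Finset.mem_image.mp hψ
    rw [conjFun_apply, ← h2]
    congr 1
    apply Subtype.ext
    simp
  simp only [Pi.smul_apply, Finset.sum_apply, Subgroup.coe_one] at h3
  rw [Finset.sum_congr rfl h4, h1, Finset.sum_const] at h3
  have horb := card_conj_mul_card_inertia L φ
  have hidx : (inertia L φ).index = (Finset.univ.image (fun k : G => conjFun L φ k)).card := by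
    have h5 := Subgroup.card_mul_index (inertia L φ)
    have h6 : 0 < Nat.card (inertia L φ) := Nat.card_pos
    rw [← horb, mul_comm] at h5
    exact Nat.eq_of_mul_eq_mul_right h6 h5
  rw [hidx]
  have h7 : (dθ : ℂ) = ((e * ((Finset.univ.image (fun k : G => conjFun L φ k)).card * dφ) : ℕ) : ℂ) := by
    rw [h3]
    push_cast
    simp [nsmul_eq_mul]
  exact_mod_cast h7

end sep

/-- a coprime action of a `p`-group preserving every conjugacy class is trivial -/
theorem coprime_class_preserving {N Q : Type*} [Group N] [Finite N] [Group Q] [Finite Q]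
    {p : ℕ} [hp : Fact p.Prime] (hQ : IsPGroup p Q) (hN : (Nat.card N).Coprime p)
    (φ : Q →* MulAut N) (hcl : ∀ (q : Q) (n : N), IsConj n (φ q n)) (q : Q) (n : N) :
    φ q n = n := by
  classical
  have := Fintype.ofFinite N
  let C : Subgroup N :=
    { carrier := {n | ∀ q : Q, φ q n = n}
      mul_mem' := fun {a b} ha hb q => by rw [map_mul, ha q, hb q]
      one_mem' := fun q => map_one _
      inv_mem' := fun {a} ha q => by rw [map_inv, ha q] }
  have hC : C = ⊤ := by
    by_contra hne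
    obtain ⟨g, hg⟩ := Cfsg.Agent.S4387.exists_derangement C hne
    letI : MulAction Q N := MulAction.compHom N φ
    have hsmul : ∀ (q : Q) (n : N), q • n = φ q n := fun q n => rfl
    let S : SubMulAction Q N :=
      { carrier := {n | IsConj g n}
        smul_mem' := fun q n hn => by
          show IsConj g (q • n)
          rw [hsmul]
          exact IsConj.trans hn (hcl q n) }
    have hcard : ¬ p ∣ Nat.card S := by
      have h1 : Nat.card S = Nat.card {h : N // IsConj g h} :=
        Nat.card_congr (Equiv.subtypeEquivRight (fun x => Iff.rfl))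
      rw [h1, Nat.card_eq_fintype_card, Fintype.card_subtype, card_isConj_eq_index]
      intro hdvd
      have h2 : p ∣ Nat.card N := hdvd.trans (Subgroup.index_dvd_card _)
      exact (Nat.Prime.coprime_iff_not_dvd hp.out).mp hN.symm h2
    obtain ⟨⟨k, hk⟩, hfix⟩ := hQ.nonempty_fixed_point_of_prime_not_dvd_card S hcard
    have hkC : k ∈ C := fun q => by
      have h1 := MulAction.mem_fixedPoints.mp hfix q
      exact congrArg Subtype.val h1
    have hk' : IsConj g k := hk
    obtain ⟨c, hc⟩ := isConj_iff.mp hk'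
    apply hg c⁻¹
    rw [inv_inv, hc]
    exact hkC
  have hn : n ∈ C := by
    rw [hC]
    exact Subgroup.mem_top n
  exact hn q

universe u

/-- Ito's converse for `p`-solvable groups -/
theorem ito_conv_aux (p : ℕ) [hp : Fact p.Prime] :
    ∀ (n : ℕ) (G : Type u) [Group G] [Finite G], Nat.card G ≤ n → Cfsg.IsPSolvable p G →
    (∀ χ : G → ℂ, Cfsg.IsIrrCharacter G χ → ∀ d : ℕ, χ 1 = (d : ℂ) → ¬ p ∣ d) →
    ∀ P : Sylow p G, (P : Subgroup G).Normal ∧
      ∀ x ∈ (P : Subgroup G), ∀ y ∈ (P : Subgroup G), x * y = y * x := by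
  intro n
  induction n with
  | zero =>
    intro G _ _ hcard
    have := Nat.card_pos (α := G)
    omega
  | succ n ih =>
    intro G _ _ hcard hsolv hdeg P
    classical
    have := Fintype.ofFinite G
    by_cases htop : (⊤ : Subgroup G) = ⊥
    · have hsub : ∀ x : G, x = 1 := fun x => by
        have h1 : x ∈ (⊤ : Subgroup G) := Subgroup.mem_top x
        rw [htop] at h1
        exact Subgroup.mem_bot.mp h1
      refine ⟨⟨fun x hx g => by rw [hsub (g * x * g⁻¹)]; exact one_mem _⟩,
        fun x _ y _ => by rw [hsub x, hsub y]⟩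
    obtain ⟨M, -, hMn, hMne, hMp⟩ :=
      Cfsg.Agent.Lib.Helper6.exists_normal_p_or_p' hp.out hsolv ⊤ htop
    have hcardQ : Nat.card (G ⧸ M) ≤ n := by
      have h1 : Nat.card M * Nat.card (G ⧸ M) = Nat.card G := by
        rw [← Subgroup.index_eq_card]
        exact Subgroup.card_mul_index M
      have h2 : 1 < Nat.card M := (Subgroup.one_lt_card_iff_ne_bot M).mpr hMne
      have h3 : 0 < Nat.card (G ⧸ M) := Nat.card_pos
      nlinarith
    have hsolvQ : Cfsg.IsPSolvable p (G ⧸ M) :=
      Cfsg.Agent.Lib.Helper6.isPSolvable_quotient hp.out M hsolv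
    have hdegQ : ∀ χ : G ⧸ M → ℂ, Cfsg.IsIrrCharacter (G ⧸ M) χ →
        ∀ d : ℕ, χ 1 = (d : ℂ) → ¬ p ∣ d := by
      intro χ hχ d hd
      have h1 := isIrrCharacter_comp_of_surjective hχ (QuotientGroup.mk' M)
        (QuotientGroup.mk'_surjective M)
      refine hdeg _ h1 d ?_
      show χ (QuotientGroup.mk' M 1) = _
      rw [map_one]
      exact hd
    let P' : Sylow p (G ⧸ M) := P.mapSurjective (QuotientGroup.mk'_surjective M)
    obtain ⟨hP'n, hP'c⟩ := ih (G ⧸ M) hcardQ hsolvQ hdegQ P'
    have hP'mem : ∀ y : G, (QuotientGroup.mk' M y) ∈ (P' : Subgroup (G ⧸ M)) ↔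
        ∃ x ∈ (P : Subgroup G), x⁻¹ * y ∈ M := by
      intro y
      show QuotientGroup.mk' M y ∈ (P : Subgroup G).map (QuotientGroup.mk' M) ↔ _
      rw [Subgroup.mem_map]
      constructor
      · rintro ⟨x, hx, hxy⟩
        exact ⟨x, hx, QuotientGroup.eq.mp hxy⟩
      · rintro ⟨x, hx, hxy⟩
        exact ⟨x, hx, QuotientGroup.eq.mpr hxy⟩
    have hconjP : ∀ (g : G) (x : G), x ∈ (P : Subgroup G) →
        ∃ x' ∈ (P : Subgroup G), x'⁻¹ * (g * x * g⁻¹) ∈ M := by
      intro g x hx
      apply (hP'mem _).mp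
      have h1 : QuotientGroup.mk' M x ∈ (P' : Subgroup (G ⧸ M)) :=
        (hP'mem x).mpr ⟨x, hx, by simp⟩
      have h2 := hP'n.conj_mem _ h1 (QuotientGroup.mk' M g)
      rw [← map_inv, ← map_mul, ← map_mul] at h2
      exact h2
    rcases hMp with hMp | hMp
    · -- the normal subgroup is a `p`-group
      have hMP : M ≤ (P : Subgroup G) := hMp.le_sylow_of_normal P
      have hPn : (P : Subgroup G).Normal := by
        refine ⟨fun x hx g => ?_⟩
        obtain ⟨x', hx', hm⟩ := hconjP g x hx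
        have h1 : g * x * g⁻¹ = x' * (x'⁻¹ * (g * x * g⁻¹)) := by group
        rw [h1]
        exact mul_mem hx' (hMP hm)
      refine ⟨hPn, ?_⟩
      have := Fintype.ofFinite (P : Subgroup G)
      have hlin : ∀ θ : ↥(P : Subgroup G) → ℂ, Cfsg.IsIrrCharacter ↥(P : Subgroup G) θ →
          θ 1 = 1 := by
        intro θ hθ
        obtain ⟨χ, hχ, hcon⟩ := exists_irr_over (P : Subgroup G) hθ
        obtain ⟨dθ, hdθ0, hdθ⟩ := irr_apply_one hθ
        obtain ⟨dχ, hdχ0, hdχ⟩ := irr_apply_one hχ
        obtain ⟨e, he⟩ := clifford_degree (P : Subgroup G) hχ hθ hcon dχ dθ hdχ hdθ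
        have hnd : ¬ p ∣ dχ := hdeg χ hχ dχ hdχ
        have hdvd : dθ ∣ dχ := ⟨e * (inertia (P : Subgroup G) θ).index, by rw [he]; ring⟩
        have hdP : dθ ∣ Nat.card (P : Subgroup G) := irr_deg_dvd_card' hθ dθ hdθ
        obtain ⟨k, hk⟩ := IsPGroup.iff_card.mp P.isPGroup'
        rw [hk] at hdP
        obtain ⟨j, hj, rfl⟩ := (Nat.dvd_prime_pow hp.out).mp hdP
        have hj0 : j = 0 := by
          by_contra hj0
          exact hnd ((dvd_pow_self p hj0).trans hdvd)
        rw [hdθ, hj0]
        simp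
      intro x hx y hy
      have h1 := comm_of_all_linear hlin (⟨x, hx⟩ : (P : Subgroup G)) ⟨y, hy⟩
      exact congrArg Subtype.val h1
    · -- the normal subgroup is a `p'`-group
      have := Fintype.ofFinite M
      have hord : ∀ m ∈ M, ∀ k : ℕ, m ^ p ^ k = 1 → m = 1 := by
        intro m hm k hk
        have h2 : orderOf m ∣ p ^ k := orderOf_dvd_of_pow_eq_one hk
        have h3 : orderOf m ∣ Nat.card M := by
          have h := orderOf_dvd_natCard (⟨m, hm⟩ : M)
          rwa [Subgroup.orderOf_mk] at h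
        have h4 : Nat.Coprime (Nat.card M) (p ^ k) := Nat.Coprime.pow_right _ hMp
        have h5 : orderOf m = 1 := Nat.eq_one_of_dvd_coprimes h4 h3 h2
        exact orderOf_eq_one_iff.mp h5
      have hPM : ∀ x, x ∈ (P : Subgroup G) → x ∈ M → x = 1 := by
        intro x hxP hxM
        obtain ⟨k, hk⟩ := P.isPGroup' ⟨x, hxP⟩
        have h1 : x ^ p ^ k = 1 := by simpa using congrArg Subtype.val hk
        exact hord x hxM k h1
      have hinert : ∀ (lam : M → ℂ), Cfsg.IsIrrCharacter M lam →
          ∀ x ∈ (P : Subgroup G), x ∈ inertia M lam := by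
        intro lam hlam x hx
        obtain ⟨χ, hχ, hcon⟩ := exists_irr_over M hlam
        obtain ⟨dl, hdl0, hdl⟩ := irr_apply_one hlam
        obtain ⟨dχ, hdχ0, hdχ⟩ := irr_apply_one hχ
        obtain ⟨e, he⟩ := clifford_degree M hχ hlam hcon dχ dl hdχ hdl
        set T := inertia M lam with hT
        have hnd : ¬ p ∣ T.index := by
          intro hdvd
          apply hdeg χ hχ dχ hdχ
          rw [he]
          exact (hdvd.mul_right _).mul_left _
        have hcardq : ¬ p ∣ Nat.card (G ⧸ T) := by rwa [← Subgroup.index_eq_card]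
        obtain ⟨a, ha⟩ := P.isPGroup'.nonempty_fixed_point_of_prime_not_dvd_card (G ⧸ T) hcardq
        obtain ⟨g, rfl⟩ := QuotientGroup.mk_surjective a
        have hgT : ∀ y ∈ (P : Subgroup G), g⁻¹ * y * g ∈ T := by
          intro y hy
          have h1 := MulAction.mem_fixedPoints.mp ha ⟨y, hy⟩
          have h2 : ((y * g : G) : G ⧸ T) = (g : G ⧸ T) := h1
          have h3 := QuotientGroup.eq.mp h2
          have h4 : g⁻¹ * y * g = ((y * g)⁻¹ * g)⁻¹ := by group
          rw [h4]
          exact inv_mem h3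
        have hMT : M ≤ T := fun m hm =>
          (mem_inertia M lam m).mpr
            (conjFun_of_mem M (isClassFunction_of_isIrrCharacter hlam) hm)
        obtain ⟨x', hx', hm⟩ := hconjP g x hx
        have h5 : x = (g⁻¹ * x' * g) * (g⁻¹ * (x'⁻¹ * (g * x * g⁻¹)) * g⁻¹⁻¹) := by group
        rw [h5]
        exact mul_mem (hgT x' hx') (hMT (hMn.conj_mem _ hm g⁻¹))
      have hcent : ∀ x ∈ (P : Subgroup G), ∀ m ∈ M, x * m * x⁻¹ = m := by
        intro x hx m hm
        let φ : (P : Subgroup G) →* MulAut M :=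
          (MulAut.conjNormal (H := M)).comp (P : Subgroup G).subtype
        have hcl : ∀ (q : (P : Subgroup G)) (k : M), IsConj k (φ q k) := by
          intro q k
          apply isConj_of_irr_eq
          intro lam hlam
          have h1 := hinert lam hlam q q.2
          have h2 := congrFun ((mem_inertia M lam q).mp h1) k
          exact h2.symm
        have h1 := coprime_class_preserving P.isPGroup' hMp φ hcl ⟨x, hx⟩ ⟨m, hm⟩
        have h2 := congrArg Subtype.val h1
        exact h2
      have hPn : (P : Subgroup G).Normal := by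
        refine ⟨fun x hx g => ?_⟩
        obtain ⟨x', hx', hm⟩ := hconjP g x hx
        have hcomm : Commute x' (x'⁻¹ * (g * x * g⁻¹)) := by
          have h1 := hcent x' hx' _ hm
          show x' * (x'⁻¹ * (g * x * g⁻¹)) = (x'⁻¹ * (g * x * g⁻¹)) * x'
          calc x' * (x'⁻¹ * (g * x * g⁻¹))
              = x' * (x'⁻¹ * (g * x * g⁻¹)) * x'⁻¹ * x' := by group
            _ = (x'⁻¹ * (g * x * g⁻¹)) * x' := by rw [h1]
        obtain ⟨k1, hk1⟩ := P.isPGroup' ⟨x, hx⟩
        obtain ⟨k2, hk2⟩ := P.isPGroup' ⟨x', hx'⟩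
        have hx1 : x ^ p ^ k1 = 1 := by simpa using congrArg Subtype.val hk1
        have hx2 : x' ^ p ^ k2 = 1 := by simpa using congrArg Subtype.val hk2
        have hy1 : (g * x * g⁻¹) ^ p ^ (k1 + k2) = 1 := by
          rw [conj_pow, pow_add, pow_mul, hx1, one_pow]
          group
        have hx3 : x' ^ p ^ (k1 + k2) = 1 := by
          rw [pow_add, mul_comm, pow_mul, hx2, one_pow]
        have hym : g * x * g⁻¹ = x' * (x'⁻¹ * (g * x * g⁻¹)) := by group
        have hm1 : (x'⁻¹ * (g * x * g⁻¹)) ^ p ^ (k1 + k2) = 1 := by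
          have h1 := hcomm.mul_pow (p ^ (k1 + k2))
          rw [← hym, hy1, hx3, one_mul] at h1
          exact h1.symm
        have hm2 := hord _ hm _ hm1
        rw [hym, hm2, mul_one]
        exact hx'
      refine ⟨hPn, ?_⟩
      intro x hx y hy
      have h1 := hP'c (QuotientGroup.mk' M x) ((hP'mem x).mpr ⟨x, hx, by simp⟩)
        (QuotientGroup.mk' M y) ((hP'mem y).mpr ⟨y, hy, by simp⟩)
      rw [← map_mul, ← map_mul] at h1
      have h2 : (x * y)⁻¹ * (y * x) ∈ M := QuotientGroup.eq.mp h1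
      have h3 : (x * y)⁻¹ * (y * x) ∈ (P : Subgroup G) :=
        mul_mem (inv_mem (mul_mem hx hy)) (mul_mem hy hx)
      have h4 := hPM _ h3 h2
      exact inv_mul_eq_one.mp h4

end Cfsg.Agent.Lib.Helper2
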