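import Mathlib
import Cfsg.Agent.Lib.Helper2.GlaubCent
import Cfsg.Agent.Lib.Helper2.DetExt
import Cfsg.Agent.Lib.Helper2.CharRatio
import Cfsg.Agent.Lib.Helper2.CharCover2
import Cfsg.Agent.Lib.Helper2.CharMore
import Cfsg.Agent.Lib.Helper2.ItoConv
import Cfsg.Agent.S0856

set_option autoImplicit false

/-! Characters of degree prime to the index of a normal Hall subgroup with solvable
complement. -/

namespace Cfsg.Agent.Lib.Helper2

open scoped ComplexConjugate

universe u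

section samedeg

variable {G : Type*} [Group G] [Fintype G]

/-- a character with an irreducible constituent of the same degree equals it -/
theorem eq_of_constituent_same_degree {ψ θ : G → ℂ} (hψ : Cfsg.IsCharacter G ψ)
    (hθ : Cfsg.IsIrrCharacter G θ) (h : Cfsg.classInner ψ θ ≠ 0) (h1 : ψ 1 = θ 1) : ψ = θ := by
  classical
  have := Fintype.ofFinite (Cfsg.IrrCharacter G)
  have hnat : ∀ η : Cfsg.IrrCharacter G, ∃ n : ℕ, Cfsg.classInner ψ η = (n : ℂ) :=
    fun η => classInner_isCharacter_nat hψ (isCharacter_of_isIrrCharacter η.2)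
  choose m hm using hnat
  have hdeg : ∀ η : Cfsg.IrrCharacter G, ∃ n : ℕ, 0 < n ∧ (η : G → ℂ) 1 = (n : ℂ) :=
    fun η => irr_apply_one η.2
  choose d hdpos hd using hdeg
  have hsum := char_apply_one_eq_sum hψ
  simp only [hm, hd] at hsum
  have hθ1 : θ 1 = (d ⟨θ, hθ⟩ : ℂ) := hd ⟨θ, hθ⟩
  rw [h1, hθ1] at hsum
  have hsumN : d ⟨θ, hθ⟩ = ∑ η : Cfsg.IrrCharacter G, m η * d η := by exact_mod_cast hsum
  have hmθ : m ⟨θ, hθ⟩ ≠ 0 := by
    intro h0
    apply h
    have := hm ⟨θ, hθ⟩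
    rw [h0] at this
    simpa using this
  rw [← Finset.add_sum_erase Finset.univ (fun η => m η * d η)
    (Finset.mem_univ (⟨θ, hθ⟩ : Cfsg.IrrCharacter G))] at hsumN
  beta_reduce at hsumN
  have hpos := hdpos ⟨θ, hθ⟩
  have hge : d ⟨θ, hθ⟩ ≤ m ⟨θ, hθ⟩ * d ⟨θ, hθ⟩ :=
    Nat.le_mul_of_pos_left _ (Nat.pos_of_ne_zero hmθ)
  have h3 := hsumN.symm.le.trans hge
  have hrest := Nat.le_zero.mp ((add_le_iff_nonpos_right _).mp h3)
  rw [hrest, add_zero] at hsumN
  have hmθ1 : m ⟨θ, hθ⟩ = 1 :=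
    Nat.eq_of_mul_eq_mul_right hpos (by rw [one_mul]; exact hsumN.symm)
  have hzero : ∀ η : Cfsg.IrrCharacter G, η ≠ ⟨θ, hθ⟩ → m η = 0 := by
    intro η hη
    have h2 := (Finset.sum_eq_zero_iff.mp hrest) η (Finset.mem_erase.mpr ⟨hη, Finset.mem_univ _⟩)
    rcases Nat.mul_eq_zero.mp h2 with h3 | h3
    · exact h3
    · exact absurd h3 (hdpos η).ne'
  have hexp := class_fun_expand ψ (isClassFunction_of_isCharacter hψ)
  rw [hexp, Finset.sum_eq_single (⟨θ, hθ⟩ : Cfsg.IrrCharacter G)]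
  · rw [hm, hmθ1]
    simp
  · intro η _ hη
    rw [hm, hzero η hη]
    simp
  · intro h2
    exact absurd (Finset.mem_univ _) h2

end samedeg

/-- the determinantal order divides the group order -/
theorem detOrder_dvd_card {N : Type*} [Group N] [Finite N] {θ : N → ℂ}
    (hθ : Cfsg.IsCharacter N θ) : Cfsg.detOrder θ ∣ Nat.card N := by
  obtain ⟨δ, hδ⟩ := detChar_hom hθ
  unfold Cfsg.detOrder
  rw [hδ, orderOf_coe_hom]
  apply orderOf_dvd_of_pow_eq_one
  ext g
  rw [MonoidHom.pow_apply, ← map_pow, pow_card_eq_one', map_one]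
  rfl

section hall

variable {G : Type u} [Group G] [Fintype G] (K : Subgroup G) [hK : K.Normal] [Fintype K]

/-- invariance of a function on the normal subgroup `K` under conjugation by the whole group -/
def GInv (θ : K → ℂ) : Prop :=
  ∀ (g : G) (n : K), θ ⟨g * n * g⁻¹, hK.conj_mem (n : G) n.2 g⟩ = θ n

/-- an invariant irreducible character of a normal Hall subgroup extends -/
theorem exists_ext_of_coprime (hcop : (Nat.card K).Coprime K.index) (θ : K → ℂ)
    (hθ : Cfsg.IsIrrCharacter K θ) (hinv : GInv K θ) :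
    ∃ χ : G → ℂ, Cfsg.IsIrrCharacter G χ ∧ ∀ n : K, χ n = θ n := by
  obtain ⟨d, hdpos, hd⟩ := irr_apply_one hθ
  have hdK : d ∣ Nat.card K := irr_deg_dvd_card' hθ d hd
  have hoK : Cfsg.detOrder θ ∣ Nat.card K :=
    detOrder_dvd_card (isCharacter_of_isIrrCharacter hθ)
  have hc : Nat.Coprime K.index (Cfsg.detOrder θ * d) :=
    Nat.Coprime.mul_right (Nat.Coprime.coprime_dvd_right hoK hcop.symm)
      (Nat.Coprime.coprime_dvd_right hdK hcop.symm)
  obtain ⟨χ, ⟨hχ, hext, -⟩, -⟩ := unique_ext_coprime K hθ hinv hd hc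
  exact ⟨χ, hχ, hext⟩

/-- the irreducible characters of degree prime to the index of a normal Hall subgroup `K` are
the products of the extensions of the invariant irreducible characters of `K` with the linear
characters trivial on `K` -/
theorem card_coprime_degree (hcop : (Nat.card K).Coprime K.index) :
    Nat.card {χ : Cfsg.IrrCharacter G // (Cfsg.charDegree (χ : G → ℂ)).Coprime K.index}
      = Nat.card {θ : Cfsg.IrrCharacter K // GInv K θ}
        * Nat.card {Λ : G →* ℂˣ // K ≤ Λ.ker} := by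
  classical
  have hex : ∀ θ : {θ : Cfsg.IrrCharacter K // GInv K θ}, ∃ χ : G → ℂ,
      Cfsg.IsIrrCharacter G χ ∧ ∀ n : K, χ n = (θ.1 : K → ℂ) n :=
    fun θ => exists_ext_of_coprime K hcop θ.1.1 θ.1.2 θ.2
  choose ext hext_irr hext using hex
  have hdeg : ∀ (θ : {θ : Cfsg.IrrCharacter K // GInv K θ})
      (Λ : {Λ : G →* ℂˣ // K ≤ Λ.ker}),
      (Cfsg.charDegree ((fun g => ((Λ.1 g : ℂˣ) : ℂ)) * ext θ)).Coprime K.index := by
    intro θ Λ
    obtain ⟨d, hdpos, hd⟩ := irr_apply_one θ.1.2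
    have hdK : d ∣ Nat.card K := irr_deg_dvd_card' θ.1.2 d hd
    have h1 : ((fun g => ((Λ.1 g : ℂˣ) : ℂ)) * ext θ) 1 = (d : ℂ) := by
      rw [Pi.mul_apply, map_one, Units.val_one, one_mul, ← hd]
      exact hext θ 1
    have h2 : Cfsg.charDegree ((fun g => ((Λ.1 g : ℂˣ) : ℂ)) * ext θ) = d := by
      unfold Cfsg.charDegree
      rw [h1]
      simp
    rw [h2]
    exact Nat.Coprime.coprime_dvd_left hdK hcop
  let F : {θ : Cfsg.IrrCharacter K // GInv K θ} × {Λ : G →* ℂˣ // K ≤ Λ.ker} →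
      {χ : Cfsg.IrrCharacter G // (Cfsg.charDegree (χ : G → ℂ)).Coprime K.index} :=
    fun x => ⟨⟨(fun g => ((x.2.1 g : ℂˣ) : ℂ)) * ext x.1,
      isIrrCharacter_hom_mul x.2.1 (hext_irr x.1)⟩, hdeg x.1 x.2⟩
  have hFval : ∀ x, ((F x).1 : G → ℂ) = (fun g => ((x.2.1 g : ℂˣ) : ℂ)) * ext x.1 :=
    fun x => rfl
  have hone : Cfsg.IsIrrCharacter K (fun _ => (1 : ℂ)) := isIrrCharacter_one
  have hsrc : ∀ Λ : {Λ : G →* ℂˣ // K ≤ Λ.ker},
      (fun g => ((Λ.1 g : ℂˣ) : ℂ)) ∈ {β : G → ℂ | Cfsg.IsIrrCharacter G β ∧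
        Cfsg.classInner (Cfsg.indFun K (fun _ => (1 : ℂ))) β ≠ 0} := by
    intro Λ
    refine ⟨isIrrCharacter_of_hom Λ.1, ?_⟩
    rw [frobenius_reciprocity K _ _
      (isClassFunction_of_isIrrCharacter (isIrrCharacter_of_hom Λ.1))]
    have h1 : (fun h : K => ((Λ.1 (h : G) : ℂˣ) : ℂ)) = fun _ => (1 : ℂ) := by
      funext h
      have h2 := Λ.2 h.2
      rw [MonoidHom.mem_ker] at h2
      rw [h2]
      rfl
    rw [h1, classInner_irr_self hone]
    exact one_ne_zero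
  have hmul1 : ∀ θ : K → ℂ, (fun _ => (1 : ℂ)) * θ = θ := by
    intro θ
    funext n
    simp
  have hgal : ∀ θ : {θ : Cfsg.IrrCharacter K // GInv K θ},
      Set.BijOn (fun β : G → ℂ => β * ext θ)
        {β : G → ℂ | Cfsg.IsIrrCharacter G β ∧
          Cfsg.classInner (Cfsg.indFun K (fun _ => (1 : ℂ))) β ≠ 0}
        {ψ : G → ℂ | Cfsg.IsIrrCharacter G ψ ∧
          Cfsg.classInner (Cfsg.indFun K ((fun _ => (1 : ℂ)) * (θ.1 : K → ℂ))) ψ ≠ 0} :=
    fun θ => Cfsg.Agent.S0856.result K (fun _ => (1 : ℂ)) (θ.1 : K → ℂ) hone θ.1.2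
      (fun _ _ => rfl) θ.2 (by rw [hmul1]; exact θ.1.2) (ext θ) (hext_irr θ) (hext θ)
  have hinj : Function.Injective F := by
    rintro ⟨θ₁, Λ₁⟩ ⟨θ₂, Λ₂⟩ h
    have hv : (fun g => ((Λ₁.1 g : ℂˣ) : ℂ)) * ext θ₁
        = (fun g => ((Λ₂.1 g : ℂˣ) : ℂ)) * ext θ₂ :=
      congrArg (fun x => (x.1 : G → ℂ)) h
    have hθ : θ₁ = θ₂ := by
      apply Subtype.ext
      apply Subtype.ext
      funext n
      have h1 := congrFun hv n
      rw [Pi.mul_apply, Pi.mul_apply] at h1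
      have e1 : Λ₁.1 (n : G) = 1 := MonoidHom.mem_ker.mp (Λ₁.2 n.2)
      have e2 : Λ₂.1 (n : G) = 1 := MonoidHom.mem_ker.mp (Λ₂.2 n.2)
      rw [e1, e2, Units.val_one, one_mul, one_mul, hext, hext] at h1
      exact h1
    subst hθ
    have hΛ := (hgal θ₁).injOn (hsrc Λ₁) (hsrc Λ₂) hv
    have hΛ' : Λ₁ = Λ₂ := by
      apply Subtype.ext
      ext g
      exact congrFun hΛ g
    rw [hΛ']
  have hsurj : Function.Surjective F := by
    rintro ⟨χ, hχcop⟩
    have hχc := isCharacter_of_isIrrCharacter χ.2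
    have hres : Cfsg.IsCharacter K (fun n : K => (χ : G → ℂ) n) :=
      IsCharacter.comp_hom hχc K.subtype
    obtain ⟨D, hDpos, hD⟩ := irr_apply_one χ.2
    have hresne : (fun n : K => (χ : G → ℂ) n) ≠ 0 := by
      intro h0
      have h2 := congrFun h0 1
      simp only [Pi.zero_apply, OneMemClass.coe_one] at h2
      rw [hD] at h2
      exact hDpos.ne' (by exact_mod_cast h2)
    obtain ⟨θ, hθ, hcon⟩ := exists_irr_constituent hres hresne
    obtain ⟨b, hb, hbdvd⟩ := degree_ratio K χ.2 hθ hcon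
    obtain ⟨d, hdpos, hd⟩ := irr_apply_one hθ
    have hDeg : Cfsg.charDegree (χ : G → ℂ) = D := by
      unfold Cfsg.charDegree
      rw [hD]
      simp
    rw [hDeg] at hχcop
    have hDbd : D = b * d := by
      rw [hD, hd] at hb
      exact_mod_cast hb
    have hb1 : b = 1 := by
      have h1 : b ∣ D := ⟨d, hDbd⟩
      have h2 := Nat.dvd_gcd h1 hbdvd
      rw [Nat.Coprime.gcd_eq_one hχcop] at h2
      exact Nat.dvd_one.mp h2
    have hχ1 : (χ : G → ℂ) 1 = θ 1 := by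
      rw [hb, hb1]
      simp
    have hresθ : (fun n : K => (χ : G → ℂ) n) = θ :=
      eq_of_constituent_same_degree hres hθ hcon (by simpa using hχ1)
    have hθinv : GInv K θ := by
      intro g n
      rw [← hresθ]
      exact isClassFunction_of_isIrrCharacter χ.2 (n : G) g
    let θ' : {θ : Cfsg.IrrCharacter K // GInv K θ} := ⟨⟨θ, hθ⟩, hθinv⟩
    have htgt : (χ : G → ℂ) ∈ {ψ : G → ℂ | Cfsg.IsIrrCharacter G ψ ∧
        Cfsg.classInner (Cfsg.indFun K ((fun _ => (1 : ℂ)) * ((θ'.1 : K → ℂ)))) ψ ≠ 0} := by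
      refine ⟨χ.2, ?_⟩
      rw [frobenius_reciprocity K _ _ (isClassFunction_of_isIrrCharacter χ.2), hresθ, hmul1]
      show Cfsg.classInner θ θ ≠ 0
      rw [classInner_irr_self hθ]
      exact one_ne_zero
    obtain ⟨β, ⟨hβ, hβne⟩, hβχ⟩ := (hgal θ').surjOn htgt
    have hβ1 : β 1 = 1 := by
      have h1 := congrFun hβχ 1
      simp only [Pi.mul_apply] at h1
      have h2 : ext θ' 1 = θ 1 := hext θ' 1
      rw [h2, hχ1] at h1
      have h3 : θ 1 ≠ 0 := by
        rw [hd]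
        exact_mod_cast hdpos.ne'
      exact mul_right_cancel₀ h3 (by rw [h1, one_mul])
    obtain ⟨Λ, hΛ⟩ := hom_of_irr_deg_one hβ hβ1
    have hker : K ≤ Λ.ker := by
      intro k hk
      rw [MonoidHom.mem_ker]
      rw [frobenius_reciprocity K _ _ (isClassFunction_of_isIrrCharacter hβ)] at hβne
      have hirrK : Cfsg.IsIrrCharacter K (fun h : K => β h) := by
        rw [hΛ]
        exact isIrrCharacter_of_hom (Λ.comp K.subtype)
      have heq : (fun _ : K => (1 : ℂ)) = fun h : K => β h := by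
        by_contra hne
        exact hβne (classInner_irr_ne hone hirrK hne)
      have h2 := congrFun heq ⟨k, hk⟩
      rw [hΛ] at h2
      exact Units.ext h2.symm
    refine ⟨(θ', ⟨Λ, hker⟩), ?_⟩
    apply Subtype.ext
    apply Subtype.ext
    rw [hFval]
    show (fun g => ((Λ g : ℂˣ) : ℂ)) * ext θ' = (χ : G → ℂ)
    rw [← hΛ]
    exact hβχ
  rw [← Nat.card_prod]
  exact (Nat.card_congr (Equiv.ofBijective F ⟨hinj, hsurj⟩)).symm

end hall

end Cfsg.Agent.Lib.Helper2
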