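import Mathlib
import Cfsg.Agent.Lib.Helper2.MaxClass

/-!
`2`-groups of maximal class and the commutator quotient (Taussky).
-/

namespace Cfsg.Agent.Lib.Helper2

open scoped commutatorElement

universe u

/-- The derived subgroup of a quotient is the image of the derived subgroup. -/
theorem commutator_quotient_eq_map {X : Type*} [Group X] (N : Subgroup X) [N.Normal] :
    commutator (X ⧸ N) = (commutator X).map (QuotientGroup.mk' N) := by
  rw [commutator_def, commutator_def, Subgroup.map_commutator,
    Subgroup.map_top_of_surjective _ (QuotientGroup.mk'_surjective N)]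

theorem commutator_ne_bot_of_class {X : Type*} [Group X] [Group.IsNilpotent X]
    (h : 2 ≤ Group.nilpotencyClass X) : commutator X ≠ ⊥ := by
  intro h0
  rw [commutator_eq_bot_iff_center_eq_top] at h0
  have := nilpotencyClass_le_one_of_center_eq_top h0
  omega

/-- In a `2`-group of maximal class the derived subgroup has index `4` and contains all
squares. -/
theorem maxClass_two_abelianization : ∀ (n : ℕ), 3 ≤ n → ∀ (X : Type u) [Group X] [Finite X],
    Nat.card X = 2 ^ n → Group.nilpotencyClass X = n - 1 →
    (commutator X).index = 4 ∧ ∀ g : X, g ^ 2 ∈ commutator X := by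
  intro n hn
  induction n, hn using Nat.le_induction with
  | base =>
    intro X _ _ hX hc
    have hXp : IsPGroup 2 X := IsPGroup.of_card hX
    have hnil := hXp.isNilpotent
    have hZcard : Nat.card (Subgroup.center X) = 2 := card_center_of_maxClass 3 le_rfl hX hc
    have hQcard : Nat.card (X ⧸ Subgroup.center X) = 4 := by
      have h1 := Subgroup.card_eq_card_quotient_mul_card_subgroup (Subgroup.center X)
      rw [hX, hZcard] at h1
      omega
    have hQcomm : IsMulCommutative (X ⧸ Subgroup.center X) :=
      IsPGroup.isMulCommutative_of_card_eq_prime_sq (p := 2) (by rw [hQcard]; norm_num)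
    have hle : commutator X ≤ Subgroup.center X := by
      rw [commutator_def, Subgroup.commutator_le]
      intro g _ h _
      rw [← QuotientGroup.ker_mk' (Subgroup.center X), MonoidHom.mem_ker, map_commutatorElement,
        commutatorElement_eq_one_iff_mul_comm]
      exact hQcomm.is_comm.comm _ _
    have hne : commutator X ≠ ⊥ := commutator_ne_bot_of_class (by omega)
    have heq : commutator X = Subgroup.center X := by
      apply Subgroup.eq_of_le_of_card_ge hle
      rw [hZcard]
      by_contra hlt
      push Not at hlt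
      have h1 : Nat.card (commutator X) = 1 := by
        have := Nat.card_pos (α := commutator X)
        omega
      exact hne (Subgroup.card_eq_one.mp h1)
    constructor
    · rw [heq]
      have := Subgroup.card_mul_index (Subgroup.center X)
      rw [hZcard, hX] at this
      omega
    · intro g
      rw [heq]
      by_contra hg
      have h1 : (QuotientGroup.mk' (Subgroup.center X) g) ^ 2 ≠ 1 := by
        intro h
        apply hg
        rw [← map_pow] at h
        exact (QuotientGroup.eq_one_iff _).mp h
      have hdvd : orderOf (QuotientGroup.mk' (Subgroup.center X) g) ∣ 2 ^ 2 := by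
        have := orderOf_dvd_natCard (QuotientGroup.mk' (Subgroup.center X) g)
        rw [hQcard] at this
        exact this
      obtain ⟨j, hj, hjo⟩ := (Nat.dvd_prime_pow Nat.prime_two).mp hdvd
      interval_cases j
      · rw [pow_zero, orderOf_eq_one_iff] at hjo
        exact h1 (by rw [hjo, one_pow])
      · apply h1
        rw [pow_one] at hjo
        rw [← hjo, pow_orderOf_eq_one]
      · have hcyc : IsCyclic (X ⧸ Subgroup.center X) :=
          isCyclic_of_orderOf_eq_card _ (by rw [hjo, hQcard]; norm_num)
        have := nilpotencyClass_le_one_of_center_eq_top (center_eq_top_of_isCyclic_quotient hcyc)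
        omega
  | succ n hn ih =>
    intro X _ _ hX hc
    have hXp : IsPGroup 2 X := IsPGroup.of_card hX
    have hnil := hXp.isNilpotent
    have hZcard : Nat.card (Subgroup.center X) = 2 :=
      card_center_of_maxClass (n + 1) (by omega) hX hc
    have hQcard : Nat.card (X ⧸ Subgroup.center X) = 2 ^ n := by
      have h1 := Subgroup.card_eq_card_quotient_mul_card_subgroup (Subgroup.center X)
      rw [hX, hZcard, pow_succ] at h1
      omega
    have hQc : Group.nilpotencyClass (X ⧸ Subgroup.center X) = n - 1 := by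
      rw [Group.nilpotencyClass_quotient_center, hc]; omega
    obtain ⟨hQi, hQsq⟩ := ih (X ⧸ Subgroup.center X) hQcard hQc
    have hne : commutator X ≠ ⊥ := commutator_ne_bot_of_class (by omega)
    have hZsq : ∀ z ∈ Subgroup.center X, z ^ 2 = 1 := by
      intro z hz
      have h1 : (⟨z, hz⟩ : Subgroup.center X) ^ Nat.card (Subgroup.center X) = 1 :=
        pow_card_eq_one'
      rw [hZcard] at h1
      exact congrArg Subtype.val h1
    have hZle : Subgroup.center X ≤ commutator X := by
      obtain ⟨w, hwD, hwZ, hw1⟩ :=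
        Cfsg.Agent.Lib.Helper21.exists_mem_center_of_normal hXp (commutator X) hne
      have hwz : Subgroup.zpowers w = Subgroup.center X := by
        apply Subgroup.eq_of_le_of_card_ge (Subgroup.zpowers_le.mpr hwZ)
        rw [hZcard, Nat.card_zpowers, orderOf_eq_prime (hZsq w hwZ) hw1]
      rw [← hwz, Subgroup.zpowers_le]
      exact hwD
    rw [commutator_quotient_eq_map] at hQi hQsq
    constructor
    · rw [← hQi]
      exact (Subgroup.index_map_eq _ (QuotientGroup.mk'_surjective _)
        (by rw [QuotientGroup.ker_mk']; exact hZle)).symm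
    · intro g
      have h1 := hQsq (QuotientGroup.mk' _ g)
      rw [← map_pow] at h1
      have h2 : g ^ 2 ∈ ((commutator X).map (QuotientGroup.mk' (Subgroup.center X))).comap
          (QuotientGroup.mk' (Subgroup.center X)) := h1
      rw [Subgroup.comap_map_eq, QuotientGroup.ker_mk', sup_eq_left.mpr hZle] at h2
      exact h2

/-- Inductive step for Taussky's theorem. -/
theorem taussky_step (k : ℕ) (X : Type u) [Group X] [Finite X]
    (hX : Nat.card X = 2 ^ (k + 3)) (hi : (commutator X).index = 4)
    (ih : ∀ (Q : Type u) [Group Q] [Finite Q], Nat.card Q = 2 ^ (k + 2) →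
      (commutator Q).index = 4 →
      Group.nilpotencyClass Q = k + 1 ∧ ∃ c : Q, (Subgroup.zpowers c).index = 2) :
    Group.nilpotencyClass X = k + 2 := by
  have hXp : IsPGroup 2 X := IsPGroup.of_card hX
  have hnil := hXp.isNilpotent
  have hnt : Nontrivial X := by
    rw [← Finite.one_lt_card_iff_nontrivial, hX]
    exact Nat.one_lt_pow (by omega) (by norm_num)
  have hDcard : Nat.card (commutator X) = 2 ^ (k + 1) := by
    have h1 := Subgroup.card_mul_index (commutator X)
    rw [hi, hX] at h1
    have h2 : 2 ^ (k + 3) = 2 ^ (k + 1) * 4 := by ring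
    omega
  have hne : commutator X ≠ ⊥ := by
    intro h
    rw [h, Subgroup.card_bot] at hDcard
    have : 2 ^ 1 ≤ 2 ^ (k + 1) := Nat.pow_le_pow_right (by norm_num) (by omega)
    omega
  -- a central involution in the derived subgroup
  obtain ⟨w₀, hw₀D, hw₀Z, hw₀1⟩ :=
    Cfsg.Agent.Lib.Helper21.exists_mem_center_of_normal hXp (commutator X) hne
  have hw₀o : 2 ∣ orderOf w₀ := by
    obtain ⟨j, hj⟩ := (Nat.dvd_prime_pow Nat.prime_two).mp
      (hX ▸ orderOf_dvd_natCard w₀ : orderOf w₀ ∣ 2 ^ (k + 3))
    rw [hj.2]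
    apply dvd_pow_self
    rintro rfl
    rw [pow_zero, orderOf_eq_one_iff] at hj
    exact hw₀1 hj.2
  obtain ⟨w, hw⟩ : ∃ w, w = w₀ ^ (orderOf w₀ / 2) := ⟨_, rfl⟩
  have hwo : orderOf w = 2 := by
    rw [hw]; exact orderOf_pow_orderOf_div (orderOf_pos w₀).ne' hw₀o
  have hwD : w ∈ commutator X := by rw [hw]; exact Subgroup.pow_mem _ hw₀D _
  have hwZ : w ∈ Subgroup.center X := by rw [hw]; exact Subgroup.pow_mem _ hw₀Z _
  obtain ⟨N, hN⟩ : ∃ N : Subgroup X, N = Subgroup.zpowers w := ⟨_, rfl⟩
  have hNcard : Nat.card N = 2 := by rw [hN, Nat.card_zpowers, hwo]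
  have hNZ : N ≤ Subgroup.center X := by rw [hN, Subgroup.zpowers_le]; exact hwZ
  have hND : N ≤ commutator X := by rw [hN, Subgroup.zpowers_le]; exact hwD
  have hNn : N.Normal := by
    constructor
    intro n hn g
    have hc := Subgroup.mem_center_iff.mp (hNZ hn) g
    rw [hc, mul_inv_cancel_right]
    exact hn
  have hQcard : Nat.card (X ⧸ N) = 2 ^ (k + 2) := by
    have h1 := Subgroup.card_eq_card_quotient_mul_card_subgroup N
    rw [hX, hNcard, pow_succ] at h1
    omega
  have hQi : (commutator (X ⧸ N)).index = 4 := by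
    rw [commutator_quotient_eq_map, ← hi]
    exact Subgroup.index_map_eq _ (QuotientGroup.mk'_surjective _)
      (by rw [QuotientGroup.ker_mk']; exact hND)
  obtain ⟨hQc, cbar, hcbar⟩ := ih (X ⧸ N) hQcard hQi
  obtain ⟨c, rfl⟩ := QuotientGroup.mk'_surjective N cbar
  obtain ⟨A, hA⟩ : ∃ A : Subgroup X, A = Subgroup.zpowers c ⊔ N := ⟨_, rfl⟩
  have hAidx : A.index = 2 := by
    have hCeq : (Subgroup.zpowers (QuotientGroup.mk' N c)).comap (QuotientGroup.mk' N) = A := by
      rw [hA, ← MonoidHom.map_zpowers, Subgroup.comap_map_eq, QuotientGroup.ker_mk']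
    rw [← hCeq, Subgroup.index_comap_of_surjective _ (QuotientGroup.mk'_surjective _)]
    exact hcbar
  have hAn : A.Normal := Subgroup.normal_of_index_eq_two hAidx
  have hAcard : Nat.card A = 2 ^ (k + 2) := by
    have h1 := Subgroup.card_mul_index A
    rw [hAidx, hX, pow_succ] at h1
    omega
  have hAc : ∀ a ∈ A, ∀ b ∈ A, a * b = b * a := by
    have h1 : A ≤ Subgroup.centralizer {c} := by
      rw [hA]
      exact sup_le (by
        rw [Subgroup.zpowers_le]; exact Subgroup.mem_centralizer_singleton_iff.mpr rfl)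
        (hNZ.trans (Subgroup.center_le_centralizer _))
    have h2 : A ≤ Subgroup.centralizer (A : Set X) := by
      rw [hA]
      apply sup_le
      · rw [Subgroup.zpowers_le, Subgroup.mem_centralizer_iff]
        intro h hh
        rw [← hA] at hh
        exact (Subgroup.mem_centralizer_singleton_iff.mp (h1 hh))
      · exact hNZ.trans (Subgroup.center_le_centralizer _)
    intro a ha b hb
    exact (Subgroup.mem_centralizer_iff.mp (h2 hb) a ha)
  obtain ⟨x, hx⟩ : ∃ x, x ∉ A := by
    by_contra hall
    push Not at hall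
    have : A = ⊤ := (Subgroup.eq_top_iff' _).mpr hall
    rw [this, Subgroup.index_top] at hAidx
    omega
  have hgen : ∀ y, y ∉ A → ∀ K : Subgroup X, A ≤ K → y ∈ K → K = ⊤ := by
    intro y hy K hAK hyK
    exact Cfsg.Agent.Lib.Lead.eq_top_of_index_prime hAK (by rw [hAidx]; exact Nat.prime_two)
      (fun h => hy (h hyK))
  have hconjA : ∀ a ∈ A, x * a * x⁻¹ ∈ A := fun a ha => hAn.conj_mem a ha x
  have hcommA : ∀ a ∈ A, ⁅a, x⁆ ∈ A := by
    intro a ha
    have e : ⁅a, x⁆ = a * (x * a⁻¹ * x⁻¹) := by
      simp only [commutatorElement_def]; group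
    rw [e]
    exact A.mul_mem ha (hconjA _ (A.inv_mem ha))
  let δ : A →* A :=
    { toFun := fun a => ⟨⁅(a : X), x⁆, hcommA a a.2⟩
      map_one' := by
        apply Subtype.ext
        simp [commutatorElement_def]
      map_mul' := by
        intro a b
        apply Subtype.ext
        show ⁅(a : X) * (b : X), x⁆ = ⁅(a : X), x⁆ * ⁅(b : X), x⁆
        have e : ⁅(a : X) * (b : X), x⁆ = (a : X) * ⁅(b : X), x⁆ * (a : X)⁻¹ * ⁅(a : X), x⁆ := by
          simp only [commutatorElement_def]; group
        rw [e, hAc _ a.2 _ (hcommA b b.2), mul_inv_cancel_right,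
          hAc _ (hcommA b b.2) _ (hcommA a a.2)] }
  have hδ : ∀ a : A, ((δ a : A) : X) = ⁅(a : X), x⁆ := fun a => rfl
  have hmemR : ∀ u ∈ A, ⁅u, x⁆ ∈ δ.range.map A.subtype := by
    intro u hu
    exact ⟨δ ⟨u, hu⟩, ⟨⟨u, hu⟩, rfl⟩, rfl⟩
  have hcase : ∀ g : X, g ∉ A → g * x⁻¹ ∈ A := by
    intro g hg
    rw [Subgroup.mul_mem_iff_of_index_two hAidx]
    constructor
    · intro h; exact absurd h hg
    · intro h; exact absurd (by simpa using A.inv_mem h) hx
  have hAx : ∀ a ∈ A, ∀ h : X, h ∉ A → ⁅a, h⁆ ∈ δ.range.map A.subtype := by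
    intro a ha h hh
    have hb := hcase h hh
    have e : ⁅a, h⁆ = a * (h * x⁻¹) * (x * a⁻¹ * x⁻¹) * (h * x⁻¹)⁻¹ := by
      simp only [commutatorElement_def]; group
    have e2 : a * (h * x⁻¹) * (x * a⁻¹ * x⁻¹) * (h * x⁻¹)⁻¹ = ⁅a, x⁆ := by
      rw [hAc a ha _ hb, mul_assoc (h * x⁻¹) a, hAc _ hb _ (A.mul_mem ha (hconjA _ (A.inv_mem ha))),
        mul_inv_cancel_right]
      simp only [commutatorElement_def]; group
    rw [e, e2]
    exact hmemR a ha
  have hDR : commutator X ≤ δ.range.map A.subtype := by
    rw [commutator_def, Subgroup.commutator_le]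
    intro g _ h _
    by_cases hg : g ∈ A
    · by_cases hh : h ∈ A
      · have : ⁅g, h⁆ = 1 := by
          rw [commutatorElement_eq_one_iff_mul_comm]; exact hAc g hg h hh
        rw [this]; exact Subgroup.one_mem _
      · exact hAx g hg h hh
    · by_cases hh : h ∈ A
      · rw [← commutatorElement_inv]
        exact Subgroup.inv_mem _ (hAx h hh g hg)
      · have ha := hcase g hg
        have hb := hcase h hh
        have hu : (h * x⁻¹) * (g * x⁻¹)⁻¹ ∈ A := A.mul_mem hb (A.inv_mem ha)
        have e : ⁅g, h⁆ = (g * x⁻¹) * (x * ((h * x⁻¹) * (g * x⁻¹)⁻¹) * x⁻¹) * (h * x⁻¹)⁻¹ := by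
          simp only [commutatorElement_def]; group
        have e2 : (g * x⁻¹) * (x * ((h * x⁻¹) * (g * x⁻¹)⁻¹) * x⁻¹) * (h * x⁻¹)⁻¹ =
            (⁅(h * x⁻¹) * (g * x⁻¹)⁻¹, x⁆)⁻¹ := by
          rw [hAc _ ha _ (hconjA _ hu)]
          simp only [commutatorElement_def]; group
        rw [e, e2]
        exact Subgroup.inv_mem _ (hmemR _ hu)
  have hker : Nat.card δ.ker ≤ 2 := by
    have h1 := Subgroup.card_mul_index δ.ker
    rw [Subgroup.index_ker, hAcard] at h1
    have h2 : 2 ^ (k + 1) ≤ Nat.card δ.range := by
      rw [← hDcard, ← Subgroup.card_map_of_injective A.subtype_injective (K := δ.range)]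
      exact Subgroup.card_le_of_le hDR
    have h3 : 2 ^ (k + 2) = 2 * 2 ^ (k + 1) := by ring
    rw [h3] at h1
    by_contra hlt
    push Not at hlt
    have h4 : 3 * 2 ^ (k + 1) ≤ Nat.card δ.ker * Nat.card δ.range := Nat.mul_le_mul hlt h2
    have h5 : 0 < 2 ^ (k + 1) := by positivity
    omega
  have hZA : Subgroup.center X ≤ A := by
    by_contra hnot
    obtain ⟨z, hzZ, hzA⟩ := SetLike.not_le_iff_exists.mp hnot
    have h1 : Subgroup.centralizer (A : Set X) = ⊤ := by
      apply hgen z hzA
      · intro a ha
        rw [Subgroup.mem_centralizer_iff]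
        intro b hb
        exact hAc b hb a ha
      · exact Subgroup.center_le_centralizer _ hzZ
    have h2 : Subgroup.center X = ⊤ := by
      apply hgen z hzA _ _ hzZ
      intro a ha
      rw [Subgroup.mem_center_iff]
      intro g
      have hg : g ∈ Subgroup.centralizer (A : Set X) := by rw [h1]; trivial
      exact (Subgroup.mem_centralizer_iff.mp hg a ha).symm
    exact hne ((commutator_eq_bot_iff_center_eq_top X).mpr h2)
  have hZcard : Nat.card (Subgroup.center X) ≤ 2 := by
    refine le_trans ?_ hker
    have hmem : ∀ z : Subgroup.center X, (⟨(z : X), hZA z.2⟩ : A) ∈ δ.ker := by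
      intro z
      rw [MonoidHom.mem_ker]
      apply Subtype.ext
      rw [hδ]
      show ⁅(z : X), x⁆ = 1
      rw [commutatorElement_eq_one_iff_mul_comm]
      exact (Subgroup.mem_center_iff.mp z.2 x).symm
    exact Nat.card_le_card_of_injective
      (fun z : Subgroup.center X => (⟨⟨(z : X), hZA z.2⟩, hmem z⟩ : δ.ker))
      (by
        intro z z' h
        apply Subtype.ext
        exact congrArg (fun t : δ.ker => ((t : A) : X)) h)
  have hNeq : N = Subgroup.center X :=
    Subgroup.eq_of_le_of_card_ge hNZ (by rw [hNcard]; exact hZcard)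
  subst hNeq
  rw [Group.nilpotencyClass_eq_quotient_center_plus_one, hQc]

/-- Taussky: a `2`-group of order at least `8` whose derived subgroup has index `4` is of
maximal class. -/
theorem taussky : ∀ (k : ℕ) (X : Type u) [Group X] [Finite X],
    Nat.card X = 2 ^ (k + 3) → (commutator X).index = 4 → Group.nilpotencyClass X = k + 2 := by
  intro k
  induction k with
  | zero =>
    intro X _ _ hX hi
    apply taussky_step 0 X hX hi
    intro Q _ _ hQ hQi
    have hQp : IsPGroup 2 Q := IsPGroup.of_card hQ
    have hnil := hQp.isNilpotent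
    have hQcomm : IsMulCommutative Q :=
      IsPGroup.isMulCommutative_of_card_eq_prime_sq (p := 2) hQ
    constructor
    · have h1 := nilpotencyClass_le_one_of_center_eq_top
        (center_eq_top_of_comm (fun a b : Q => hQcomm.is_comm.comm a b))
      have h2 : Group.nilpotencyClass Q ≠ 0 := by
        intro h0
        rw [Group.nilpotencyClass_zero_iff_subsingleton] at h0
        have : Nat.card Q = 1 := Nat.card_of_subsingleton 1
        rw [hQ] at this
        norm_num at this
      omega
    · have : Fact (Nat.Prime 2) := ⟨Nat.prime_two⟩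
      obtain ⟨c, hc⟩ := exists_prime_orderOf_dvd_card' (G := Q) 2 (by rw [hQ]; norm_num)
      refine ⟨c, ?_⟩
      have h1 := Subgroup.card_mul_index (Subgroup.zpowers c)
      rw [Nat.card_zpowers, hc, hQ] at h1
      omega
  | succ k ih =>
    intro X _ _ hX hi
    apply taussky_step (k + 1) X hX hi
    intro Q _ _ hQ hQi
    have hc := ih Q hQ hQi
    exact ⟨hc, exists_zpowers_index_two (k + 3) (by omega) Q hQ hc⟩

end Cfsg.Agent.Lib.Helper2
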