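import Mathlib
import Cfsg.Prelude.Def_Characters
import Cfsg.Agent.Lib.Helper2.BrauerLocal

set_option autoImplicit false

namespace Cfsg.Agent.Lib.Helper2

open Representation Module

open scoped commutatorElement

theorem IsQE.exists_not_mem_normal_sup {p : ℕ} (hp : p.Prime) {K : Type*} [Group K] [Finite K]
    (h : IsQE p K) (Z : Subgroup K) [hZn : Z.Normal] (hZ : Z ≠ ⊤) :
    ∃ x : K, x ∉ Z ∧ (Z ⊔ Subgroup.zpowers x).Normal := by
  obtain ⟨C, hCn, hCc, -, k, hk⟩ := h
  by_cases hCZ : C ≤ Z
  · have : Fact p.Prime := ⟨hp⟩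
    have hpg : IsPGroup p (K ⧸ Z) := by
      have h1 : Z.index ∣ p ^ k := hk ▸ Subgroup.index_dvd_of_le hCZ
      obtain ⟨j, -, hj⟩ := (Nat.dvd_prime_pow hp).mp h1
      exact IsPGroup.of_card (n := j) hj
    have hnt : Nontrivial (K ⧸ Z) := by
      rw [← Finite.one_lt_card_iff_nontrivial]
      have h1 : Z.index ≠ 1 := fun h => hZ (Subgroup.index_eq_one.mp h)
      have hpos : 0 < Nat.card (K ⧸ Z) := Nat.card_pos
      have h2 : Nat.card (K ⧸ Z) ≠ 1 := h1
      omega
    have hcn := hpg.center_nontrivial
    obtain ⟨q, hq⟩ := exists_ne (1 : Subgroup.center (K ⧸ Z))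
    obtain ⟨x, hx⟩ := QuotientGroup.mk_surjective (q : K ⧸ Z)
    refine ⟨x, ?_, ?_⟩
    · intro hxZ
      apply hq
      apply Subtype.ext
      rw [← hx]
      exact (QuotientGroup.eq_one_iff x).mpr hxZ
    · apply normal_sup_of_commutator_le
      rw [Subgroup.commutator_le]
      intro a ha b _
      obtain ⟨i, rfl⟩ := Subgroup.mem_zpowers_iff.mp ha
      have hcomm : ∀ g : K ⧸ Z, Commute (QuotientGroup.mk x : K ⧸ Z) g := by
        intro g
        rw [hx]
        exact (Subgroup.mem_center_iff.mp q.2 g).symm
      have h2 : (QuotientGroup.mk' Z) ⁅x ^ i, b⁆ = 1 := by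
        rw [map_commutatorElement, commutatorElement_eq_one_iff_commute, map_zpow]
        exact (hcomm _).zpow_left i
      exact (QuotientGroup.eq_one_iff _).mp h2
  · obtain ⟨c, hc⟩ := IsCyclic.exists_generator (α := ↥C)
    have hCz : Subgroup.zpowers (c : K) = C := by
      apply le_antisymm
      · rw [Subgroup.zpowers_le]
        exact c.2
      · intro y hy
        obtain ⟨i, hi⟩ := Subgroup.mem_zpowers_iff.mp (hc ⟨y, hy⟩)
        rw [Subgroup.mem_zpowers_iff]
        refine ⟨i, ?_⟩
        have h1 := congrArg Subtype.val hi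
        simpa using h1
    refine ⟨c, ?_, ?_⟩
    · intro hcZ
      apply hCZ
      rw [← hCz, Subgroup.zpowers_le]
      exact hcZ
    · rw [hCz]
      infer_instance

/-- quasi-elementary groups are monomial -/
theorem monomial_qe_aux.{u} (p : ℕ) (hp : p.Prime) (n : ℕ) :
    ∀ (G : Type u) [Group G] [Fintype G], IsQE p G →
    Nat.card G ≤ n → ∀ χ : G → ℂ, Cfsg.IsIrrCharacter G χ →
    ∃ (H : Subgroup G) (lam : H →* ℂˣ), χ = Cfsg.indFun H (fun h => (lam h : ℂ)) := by
  induction n with
  | zero =>
    intro G _ _ _ hG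
    have := Nat.card_pos (α := G)
    omega
  | succ n ih =>
    intro G _ _ hQ hG χ hχ
    classical
    have hχ' := hχ
    obtain ⟨m, ρ, hρ, hρχ⟩ := hχ'
    have : ρ.IsIrreducible := hρ
    by_cases hZ : scalarSubgroup ρ = ⊤
    · have hdvd := degree_dvd_index_of_scalar ρ ⊤ (fun z _ => by
        have : z ∈ scalarSubgroup ρ := by rw [hZ]; trivial
        exact this)
      rw [Subgroup.index_top, Nat.dvd_one, Module.finrank_fin_fun] at hdvd
      have h1 : χ 1 = 1 := by
        rw [← hρχ, Representation.char_one, Module.finrank_fin_fun, hdvd]; simp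
      obtain ⟨lam, hlam⟩ := hom_of_irr_deg_one hχ h1
      refine ⟨⊤, lam.comp (⊤ : Subgroup G).subtype, ?_⟩
      have h2 := indFun_top (isClassFunction_of_isIrrCharacter hχ)
      rw [← h2]
      congr 1
      funext h
      rw [hlam]
      rfl
    · obtain ⟨x, hx, hAn⟩ := hQ.exists_not_mem_normal_sup hp (scalarSubgroup ρ) hZ
      have hdec : ∀ a ∈ scalarSubgroup ρ ⊔ Subgroup.zpowers x,
          ∃ (c : ℂ) (k : ℤ), ρ a = c • ρ (x ^ k) := by
        intro a ha
        have ha' : a ∈ ((scalarSubgroup ρ ⊔ Subgroup.zpowers x : Subgroup G) : Set G) := ha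
        rw [Subgroup.normal_mul] at ha'
        obtain ⟨z, hz, y, hy, rfl⟩ := Set.mem_mul.mp ha'
        obtain ⟨c, hc⟩ := hz
        obtain ⟨k, rfl⟩ := Subgroup.mem_zpowers_iff.mp hy
        refine ⟨c, k, ?_⟩
        rw [map_mul, hc]
        ext v
        simp
      have hcommA : ∀ a ∈ scalarSubgroup ρ ⊔ Subgroup.zpowers x,
          ∀ b ∈ scalarSubgroup ρ ⊔ Subgroup.zpowers x, ρ (a * b) = ρ (b * a) := by
        intro a ha b hb
        obtain ⟨c, k, hc⟩ := hdec a ha
        obtain ⟨d, l, hd⟩ := hdec b hb
        rw [map_mul, map_mul, hc, hd, smul_mul_smul_comm, smul_mul_smul_comm, ← map_mul,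
          ← map_mul, ← zpow_add, ← zpow_add, mul_comm c d, add_comm k l]
      generalize hA : scalarSubgroup ρ ⊔ Subgroup.zpowers x = A at hAn hdec hcommA
      have := Fintype.ofFinite A
      have hres : Cfsg.IsCharacter A (fun a : A => χ a) :=
        IsCharacter.restrict (isCharacter_of_isIrrCharacter hχ) A
      have hmpos := irr_finrank_pos ρ
      rw [Module.finrank_fin_fun] at hmpos
      have hχ1 : χ 1 = (m : ℂ) := by
        rw [← hρχ, Representation.char_one, Module.finrank_fin_fun]
      have hne : (fun a : A => χ a) ≠ 0 := by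
        intro h0
        have h1 := congrFun h0 1
        simp only [Pi.zero_apply, Subgroup.coe_one] at h1
        rw [hχ1] at h1
        have : m = 0 := by exact_mod_cast h1
        omega
      obtain ⟨θ, hθ, hinner⟩ := exists_irr_constituent hres hne
      have hθ1 : θ 1 = 1 := by
        have hθ' := hθ
        obtain ⟨k, σ, hσ, hσθ⟩ := hθ'
        have : σ.IsIrreducible := hσ
        have hσcomm : ∀ a b : A, σ (a * b) = σ (b * a) := by
          intro a b
          have h1 : θ ((a * b) * (b * a)⁻¹) = θ 1 := by
            apply constituent_apply_eq hres hθ hinner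
            show χ (((a * b) * (b * a)⁻¹ : A) : G) = χ ((1 : A) : G)
            rw [← hρχ]
            show LinearMap.trace ℂ _ (ρ _) = LinearMap.trace ℂ _ (ρ _)
            congr 1
            simp only [Subgroup.coe_mul, Subgroup.coe_inv, Subgroup.coe_one]
            have h2 := hcommA a a.2 b b.2
            have h3 : ρ ((a : G) * (b : G) * ((b : G) * (a : G))⁻¹)
                = ρ ((a : G) * (b : G)) * ρ (((b : G) * (a : G))⁻¹) := map_mul _ _ _
            rw [h3, h2, ← map_mul, mul_inv_cancel]
          rw [← hσθ, Representation.char_one] at h1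
          have h2 := (char_eq_finrank_iff σ _).mp h1
          have h3 : σ (a * b) = σ ((a * b) * (b * a)⁻¹) * σ (b * a) := by
            rw [← map_mul, inv_mul_cancel_right]
          rw [h3, h2]
          rfl
        have hscal : ∀ z ∈ (⊤ : Subgroup A),
            ∃ c : ℂ, σ z = c • (LinearMap.id : (Fin k → ℂ) →ₗ[ℂ] (Fin k → ℂ)) := by
          intro z _
          apply schur_scalar σ (σ z)
          intro g
          have := hσcomm z g
          rw [map_mul, map_mul] at this
          exact this
        have hd := degree_dvd_index_of_scalar σ ⊤ hscal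
        rw [Subgroup.index_top, Nat.dvd_one, Module.finrank_fin_fun] at hd
        rw [← hσθ, Representation.char_one, Module.finrank_fin_fun, hd]
        simp
      obtain ⟨lam, hlam⟩ := hom_of_irr_deg_one hθ hθ1
      have hθnorm : ∀ h : A, ‖θ h‖ = 1 := by
        intro h
        rw [hlam]
        apply norm_eq_one_of_pow_eq_one (orderOf_pos h)
        have : (lam h) ^ orderOf h = 1 := by rw [← map_pow, pow_orderOf_eq_one, map_one]
        have h2 := congrArg (fun u : ℂˣ => (u : ℂ)) this
        simpa using h2
      have hxA : x ∈ A := by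
        rw [← hA]
        exact (le_sup_right : Subgroup.zpowers x ≤ _) (Subgroup.mem_zpowers x)
      have := Fintype.ofFinite (inertia A θ)
      by_cases hT : inertia A θ = ⊤
      · exfalso
        apply hx
        have hinv : ∀ t : G, conjFun A θ t = θ := by
          intro t
          have : t ∈ inertia A θ := by rw [hT]; trivial
          exact this
        have hres2 := Cfsg.Agent.S1489.restrict_eq_smul A hθ hinv hχ hinner
        have e1 := congrFun hres2 1
        have ex := congrFun hres2 ⟨x, hxA⟩
        simp only [Pi.smul_apply, smul_eq_mul, Subgroup.coe_one] at e1 ex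
        rw [hθ1, mul_one, hχ1] at e1
        rw [← e1] at ex
        rw [mem_scalarSubgroup]
        apply (norm_char_eq_iff ρ x).mp
        rw [hρχ, ex, norm_mul, hθnorm, mul_one, Module.finrank_fin_fun, Complex.norm_natCast]
      · obtain ⟨ψ, hψ, hind⟩ := exists_clifford_correspondent A hχ hθ hinner
        have hlt : Nat.card (inertia A θ) < Nat.card G := by
          apply lt_of_le_of_ne (Subgroup.card_le_card_group _)
          intro h
          exact hT ((Subgroup.card_eq_iff_eq_top _).mp h)
        obtain ⟨H', lam', hψeq⟩ := ih (inertia A θ) (hQ.subgroup hp _) (by omega) ψ hψ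
        refine ⟨H'.map (inertia A θ).subtype,
          lam'.comp (Subgroup.equivMapOfInjective H' (inertia A θ).subtype
            (inertia A θ).subtype_injective).symm.toMonoidHom, ?_⟩
        rw [← hind, hψeq, indFun_trans_map]
        rfl

theorem isElementary_of_mulEquiv {p : ℕ} {E E' : Type*} [Group E] [Group E'] (e : E ≃* E')
    (h : Cfsg.IsElementary p E) : Cfsg.IsElementary p E' := by
  obtain ⟨x, hx, hco, k, hk⟩ := h
  refine ⟨e x, ?_, ?_, k, ?_⟩
  · rw [Subgroup.mem_center_iff] at hx ⊢
    intro g
    obtain ⟨g', rfl⟩ := e.surjective g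
    rw [← map_mul, ← map_mul, hx g']
  · rw [MulEquiv.orderOf_eq]
    exact hco
  · rw [← hk, ← Subgroup.index_map_equiv (Subgroup.zpowers x) e, MonoidHom.map_zpowers]
    rfl

/-- elementary for some prime -/
def ElemSub (G : Type*) [Group G] (E : Subgroup G) : Prop :=
  ∃ p : ℕ, p.Prime ∧ Cfsg.IsElementary p E

theorem elemSub_map {G : Type*} [Group G] (T : Subgroup G) (E : Subgroup T) (h : ElemSub T E) :
    ElemSub G (E.map T.subtype) := by
  obtain ⟨p, hp, hE⟩ := h
  exact ⟨p, hp, isElementary_of_mulEquiv
    (Subgroup.equivMapOfInjective E T.subtype T.subtype_injective) hE⟩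

/-- the elementary subgroup of a quasi-elementary group detecting the trivial linear character -/
theorem IsQE.exists_elementary {p : ℕ} (hp : p.Prime) {K : Type*} [Group K] [Finite K]
    (h : IsQE p K) :
    ∃ E : Subgroup K, Cfsg.IsElementary p E ∧
      ∀ lam : K →* ℂˣ, (∀ e ∈ E, lam e = 1) → lam = 1 := by
  classical
  have : Fact p.Prime := ⟨hp⟩
  obtain ⟨C, hCn, hCc, hcop, k, hk⟩ := h
  let P : Sylow p K := default
  obtain ⟨i, hi⟩ := IsPGroup.iff_card.mp P.2
  set Z : Subgroup K := C ⊓ Subgroup.center K with hZ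
  have hZn : Z.Normal := Subgroup.normal_inf_normal C (Subgroup.center K)
  have hZc : IsCyclic Z :=
    isCyclic_of_injective (Subgroup.inclusion (inf_le_left : Z ≤ C))
      (Subgroup.inclusion_injective _)
  obtain ⟨g, hg⟩ := IsCyclic.exists_generator (α := ↥Z)
  have hgz : Subgroup.zpowers (g : K) = Z := by
    apply le_antisymm
    · rw [Subgroup.zpowers_le]
      exact g.2
    · intro y hy
      obtain ⟨m, hm⟩ := Subgroup.mem_zpowers_iff.mp (hg ⟨y, hy⟩)
      rw [Subgroup.mem_zpowers_iff]
      refine ⟨m, ?_⟩
      have h1 := congrArg Subtype.val hm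
      simpa using h1
  refine ⟨Z ⊔ (P : Subgroup K), ?_, ?_⟩
  · have hgE : (g : K) ∈ Z ⊔ (P : Subgroup K) := Subgroup.mem_sup_left g.2
    refine ⟨⟨g, hgE⟩, ?_, ?_, ?_⟩
    · rw [Subgroup.mem_center_iff]
      intro y
      apply Subtype.ext
      have h1 : (g : K) ∈ Subgroup.center K := (inf_le_right : Z ≤ Subgroup.center K) g.2
      exact Subgroup.mem_center_iff.mp h1 y
    · rw [Subgroup.orderOf_mk]
      have h1 : orderOf (g : K) ∣ Nat.card C := by
        have hgC : (g : K) ∈ C := (inf_le_left : Z ≤ C) g.2
        have h2 := orderOf_dvd_natCard (⟨g, hgC⟩ : C)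
        rwa [Subgroup.orderOf_mk] at h2
      exact Nat.Coprime.coprime_dvd_left h1 hcop
    · have h1 : Subgroup.zpowers (⟨g, hgE⟩ : ↥(Z ⊔ (P : Subgroup K)))
          = Z.subgroupOf (Z ⊔ (P : Subgroup K)) := by
        have hmemZ : ∀ w : K, w ∈ Z ↔ w ∈ Subgroup.zpowers (g : K) := fun w => by rw [hgz]
        ext y
        rw [Subgroup.mem_subgroupOf, hmemZ, Subgroup.mem_zpowers_iff, Subgroup.mem_zpowers_iff]
        constructor
        · rintro ⟨m, rfl⟩
          exact ⟨m, by simp⟩
        · rintro ⟨m, hm⟩
          exact ⟨m, Subtype.ext (by simpa using hm)⟩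
      rw [h1]
      have h2 : Z.relIndex (Z ⊔ (P : Subgroup K)) = Z.relIndex (P : Subgroup K) :=
        Subgroup.relIndex_sup_left _ _
      have h3 := Subgroup.relIndex_dvd_card Z (P : Subgroup K)
      rw [hi] at h3
      obtain ⟨j, -, hj⟩ := (Nat.dvd_prime_pow hp).mp h3
      exact ⟨j, h2.trans hj⟩
  · intro lam hlam
    have hCP : C ⊔ (P : Subgroup K) = ⊤ := by
      rw [← Subgroup.index_eq_one]
      have h1 := Subgroup.relIndex_mul_index (le_sup_left : C ≤ C ⊔ (P : Subgroup K))
      rw [Subgroup.relIndex_sup_left, hk] at h1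
      have h2 : C.relIndex (P : Subgroup K) = Nat.card P := by
        have hdis : C ⊓ (P : Subgroup K) = ⊥ :=
          (Subgroup.disjoint_of_coprime_natCard
            (by rw [hi]; exact Nat.Coprime.pow_right i hcop)).eq_bot
        rw [← Subgroup.inf_relIndex_right, hdis, Subgroup.relIndex_bot_left]
      rw [h2] at h1
      have h3 : p ^ k ∣ Nat.card P := by
        apply P.pow_dvd_card_of_pow_dvd_card
        rw [← hk]
        exact ⟨Nat.card C, (Subgroup.card_mul_index C).symm.trans (mul_comm _ _)⟩
      obtain ⟨m, hm⟩ := h3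
      rw [hm] at h1
      have hpos : 0 < p ^ k := pow_pos hp.pos k
      have h4 : m * (C ⊔ (P : Subgroup K)).index = 1 := by
        apply Nat.eq_of_mul_eq_mul_left hpos
        rw [← mul_assoc, h1, mul_one]
      exact Nat.eq_one_of_mul_eq_one_left h4
    have hC1 : ∀ c ∈ C, lam c = 1 := by
      intro c hc
      let _ : CommGroup ↥C := IsCyclic.commGroup
      have := Fintype.ofFinite P
      set Nc : ↥C := ∏ x : P, (⟨(x : K) * c * (x : K)⁻¹, hCn.conj_mem c hc x⟩ : ↥C) with hNc
      have hNcen : (Nc : K) ∈ Subgroup.center K := by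
        have hle : (⊤ : Subgroup K) ≤ Subgroup.centralizer {(Nc : K)} := by
          rw [← hCP]
          apply sup_le
          · intro y hy
            rw [Subgroup.mem_centralizer_iff]
            intro z hz
            rw [Set.mem_singleton_iff] at hz
            rw [hz]
            have h1 := mul_comm Nc ⟨y, hy⟩
            exact congrArg Subtype.val h1
          · intro y hy
            rw [Subgroup.mem_centralizer_iff]
            intro z hz
            rw [Set.mem_singleton_iff] at hz
            rw [hz]
            have h1 : (MulAut.conjNormal y : ↥C ≃* ↥C) Nc = Nc := by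
              rw [hNc, map_prod]
              refine Fintype.prod_equiv (Equiv.mulLeft (⟨y, hy⟩ : P)) _ _ ?_
              intro x
              apply Subtype.ext
              rw [MulAut.conjNormal_apply]
              simp [mul_assoc]
            have h2 := congrArg Subtype.val h1
            rw [MulAut.conjNormal_apply] at h2
            calc (Nc : K) * y = y * Nc * y⁻¹ * y := by rw [h2]
              _ = y * Nc := by group
        rw [Subgroup.mem_center_iff]
        intro y
        have h1 := hle (Subgroup.mem_top y)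
        rw [Subgroup.mem_centralizer_iff] at h1
        exact (h1 _ rfl).symm
      have hNZ : (Nc : K) ∈ Z ⊔ (P : Subgroup K) := Subgroup.mem_sup_left ⟨Nc.2, hNcen⟩
      have h1 := hlam _ hNZ
      have h2 : lam (Nc : K) = (lam c) ^ Nat.card P := by
        have h0 : lam (Nc : K) = (lam.comp C.subtype) Nc := rfl
        rw [h0, hNc, map_prod]
        have h3 : ∀ x : P, (lam.comp C.subtype)
            (⟨(x : K) * c * (x : K)⁻¹, hCn.conj_mem c hc x⟩ : ↥C) = lam c := by
          intro x
          show lam ((x : K) * c * (x : K)⁻¹) = lam c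
          rw [map_mul, map_mul, map_inv, mul_comm, inv_mul_cancel_left]
        simp only [h3, Finset.prod_const, Finset.card_univ, Nat.card_eq_fintype_card]
      have h3 : (lam c) ^ Nat.card C = 1 := by
        have h4 : (⟨c, hc⟩ : C) ^ Nat.card C = 1 := pow_card_eq_one'
        have h5 : c ^ Nat.card C = 1 := congrArg Subtype.val h4
        rw [← map_pow, h5, map_one]
      have h4 : (lam c) ^ (Nat.card P).gcd (Nat.card C) = 1 :=
        pow_gcd_eq_one.mpr ⟨h2 ▸ h1, h3⟩
      have h5 : (Nat.card P).gcd (Nat.card C) = 1 := by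
        rw [hi]
        exact Nat.Coprime.pow_left i hcop.symm
      rwa [h5, pow_one] at h4
    have hP1 : ∀ y ∈ (P : Subgroup K), lam y = 1 :=
      fun y hy => hlam y (Subgroup.mem_sup_right hy)
    have hker : (⊤ : Subgroup K) ≤ lam.ker := by
      rw [← hCP]
      exact sup_le (fun c hc => MonoidHom.mem_ker.mpr (hC1 c hc))
        (fun y hy => MonoidHom.mem_ker.mpr (hP1 y hy))
    ext y
    have h1 := hker (Subgroup.mem_top y)
    rw [MonoidHom.mem_ker] at h1
    rw [h1]
    rfl

/-- irreducible characters of quasi-elementary groups are integer combinations of characters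
induced from linear characters of elementary subgroups -/
theorem qe_irr_linSpan.{u} (p : ℕ) (hp : p.Prime) (n : ℕ) :
    ∀ (K : Type u) [Group K] [Fintype K], IsQE p K → Nat.card K ≤ n →
    ∀ χ : K → ℂ, Cfsg.IsIrrCharacter K χ → LinSpan K (ElemSub K) χ := by
  induction n with
  | zero =>
    intro K _ _ _ hK
    have := Nat.card_pos (α := K)
    omega
  | succ n ih =>
    intro K _ _ hQ hK χ hχ
    classical
    have claimA : ∀ (L : Subgroup K) (mu : L →* ℂˣ), L ≠ ⊤ →
        LinSpan K (ElemSub K) (Cfsg.indFun L (fun h => (mu h : ℂ))) := by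
      intro L mu hL
      have := Fintype.ofFinite L
      have hlt : Nat.card L < Nat.card K := by
        apply lt_of_le_of_ne (Subgroup.card_le_card_group _)
        intro h
        exact hL ((Subgroup.card_eq_iff_eq_top _).mp h)
      have h1 := ih L (hQ.subgroup hp L) (by omega) _ (isIrrCharacter_of_hom mu)
      exact linSpan_indFun L (elemSub_map L) h1
    have hmono : ∀ ψ : K → ℂ, Cfsg.IsIrrCharacter K ψ →
        LinSpan K (ElemSub K) ψ ∨ ∃ lam : K →* ℂˣ, ψ = fun g => (lam g : ℂ) := by
      intro ψ hψ
      obtain ⟨L, mu, hLmu⟩ := monomial_qe_aux p hp (Nat.card K) K hQ le_rfl ψ hψ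
      by_cases hL : L = ⊤
      · right
        subst hL
        have h1 : ψ 1 = 1 := by
          rw [hLmu, indFun_apply_one]
          simp
        exact hom_of_irr_deg_one hψ h1
      · left
        rw [hLmu]
        exact claimA L mu hL
    have claimB : LinSpan K (ElemSub K) (fun _ => (1 : ℂ)) := by
      obtain ⟨E, hE, hEtriv⟩ := hQ.exists_elementary hp
      have := Fintype.ofFinite E
      have := Fintype.ofFinite (Cfsg.IrrCharacter K)
      set Θ : K → ℂ := Cfsg.indFun E (fun _ => (1 : ℂ)) with hΘ
      have hΘc : Cfsg.IsCharacter K Θ :=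
        indFun_isCharacter E (isCharacter_of_isIrrCharacter isIrrCharacter_one)
      have hΘs : LinSpan K (ElemSub K) Θ := by
        have h1 := linSpan_hom (P := ElemSub K) E ⟨p, hp, hE⟩ (1 : E →* ℂˣ)
        simpa using h1
      have hexp := class_fun_expand Θ (isClassFunction_of_isCharacter hΘc)
      set ψ₁ : Cfsg.IrrCharacter K := ⟨fun _ => 1, isIrrCharacter_one⟩ with hψ₁
      have hin1 : Cfsg.classInner Θ (ψ₁ : K → ℂ) = 1 := by
        rw [hΘ, frobenius_reciprocity E _ _ (isClassFunction_of_isIrrCharacter isIrrCharacter_one)]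
        exact classInner_irr_self (isIrrCharacter_one (G := E))
      have h1 : (fun _ => (1 : ℂ))
          = Θ - ∑ ψ ∈ Finset.univ.erase ψ₁, Cfsg.classInner Θ ψ • (ψ : K → ℂ) := by
        have h2 := Finset.add_sum_erase Finset.univ
          (fun ψ : Cfsg.IrrCharacter K => Cfsg.classInner Θ ψ • (ψ : K → ℂ)) (Finset.mem_univ ψ₁)
        rw [← hexp, hin1, one_smul] at h2
        exact (sub_eq_iff_eq_add.mpr h2.symm).symm
      rw [h1]
      apply linSpan_sub hΘs
      apply linSpan_sum
      intro ψ hψmem
      have hne : ψ ≠ ψ₁ := Finset.ne_of_mem_erase hψmem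
      obtain ⟨m, hm⟩ := classInner_isCharacter_nat hΘc (isCharacter_of_isIrrCharacter ψ.2)
      rw [hm]
      rcases hmono ψ ψ.2 with h | ⟨lam, hlam⟩
      · have h2 := linSpan_zsmul (m : ℤ) h
        simpa using h2
      · by_cases hm0 : m = 0
        · rw [hm0]
          simpa using (linSpan_zero (G := K) (P := ElemSub K))
        · exfalso
          apply hne
          apply Subtype.ext
          show (ψ : K → ℂ) = fun _ => 1
          have h2 : Cfsg.classInner Θ (ψ : K → ℂ) ≠ 0 := by
            rw [hm]
            exact_mod_cast hm0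
          rw [hΘ, frobenius_reciprocity E _ _ (isClassFunction_of_isIrrCharacter ψ.2)] at h2
          have h3 : (fun e : E => (ψ : K → ℂ) e)
              = fun e : E => ((lam.comp E.subtype) e : ℂ) := by
            funext e
            rw [hlam]
            rfl
          rw [h3, classInner_irr isIrrCharacter_one
            (isIrrCharacter_of_hom (lam.comp E.subtype))] at h2
          have h4 : (fun _ : E => (1 : ℂ)) = fun e : E => ((lam.comp E.subtype) e : ℂ) := by
            by_contra hcon
            exact h2 (if_neg hcon)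
          have h5 : lam = 1 := by
            apply hEtriv
            intro e he
            have h6 := congrFun h4 ⟨e, he⟩
            apply Units.ext
            simpa using h6.symm
          rw [hlam, h5]
          rfl
    rcases hmono χ hχ with h | ⟨lam, hlam⟩
    · exact h
    · have h1 := linSpan_mul_hom claimB lam
      have e : ((fun _ => (1 : ℂ)) * fun g => (lam g : ℂ)) = χ := by
        rw [hlam]
        funext g
        simp
      rwa [e] at h1

/-- characters of quasi-elementary groups -/
theorem qe_char_linSpan {p : ℕ} (hp : p.Prime) {K : Type*} [Group K] [Fintype K]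
    (hK : IsQE p K) {Θ : K → ℂ} (hΘ : Cfsg.IsCharacter K Θ) : LinSpan K (ElemSub K) Θ := by
  classical
  have := Fintype.ofFinite (Cfsg.IrrCharacter K)
  rw [class_fun_expand Θ (isClassFunction_of_isCharacter hΘ)]
  apply linSpan_sum
  intro ψ _
  obtain ⟨m, hm⟩ := classInner_isCharacter_nat hΘ (isCharacter_of_isIrrCharacter ψ.2)
  rw [hm]
  have h2 := linSpan_zsmul (m : ℤ) (qe_irr_linSpan p hp (Nat.card K) K hK le_rfl ψ ψ.2)
  simpa using h2

/-- Solomon's theorem in the form needed: the trivial character is an integer combination of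
characters induced from quasi-elementary subgroups -/
theorem one_mem_qe_span {G : Type*} [Group G] [Fintype G] :
    (1 : G → ℂ) ∈ AddSubgroup.closure (indCharSet G (fun H => ∃ p : ℕ, p.Prime ∧ IsQE p H)) := by
  apply one_mem_of_local _ (fun f hf g hg => indCharSpan_mul hf hg)
  intro x p hp
  obtain ⟨H, hH, hnd⟩ := exists_qe_not_dvd x p hp
  refine ⟨fun g => (Nat.card (MulAction.fixedBy (G ⧸ H) g) : ℤ), ?_, ?_⟩
  · apply AddSubgroup.subset_closure
    refine ⟨H, fun _ => 1, ⟨p, hp, hH⟩, isCharacter_of_isIrrCharacter isIrrCharacter_one, ?_⟩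
    funext g
    rw [indFun_one_apply]
    simp
  · intro h
    exact hnd (Int.natCast_dvd_natCast.mp h)

/-- Brauer's induction theorem -/
theorem brauer_char {G : Type*} [Group G] [Fintype G] {χ : G → ℂ} (hχ : Cfsg.IsCharacter G χ) :
    LinSpan G (ElemSub G) χ := by
  have h1 := indCharSpan_mul_char one_mem_qe_span hχ
  rw [one_mul] at h1
  clear hχ
  induction h1 using AddSubgroup.closure_induction with
  | mem x hx =>
    obtain ⟨H, ψ, ⟨p, hp, hH⟩, hψ, rfl⟩ := hx
    have := Fintype.ofFinite H
    exact linSpan_indFun H (elemSub_map H) (qe_char_linSpan hp hH hψ)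
  | zero => exact linSpan_zero
  | add x y _ _ hx hy => exact linSpan_add hx hy
  | neg x _ hx => exact linSpan_neg hx

end Cfsg.Agent.Lib.Helper2
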