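import Mathlib
import Cfsg.Agent.Lib.Helper2.BrauerQE

set_option autoImplicit false

/-! The `p`-local form of Brauer's induction theorem: a multiple of the trivial character,
prime to `p`, is an integer combination of characters induced from linear characters of
`p`-elementary subgroups. -/

namespace Cfsg.Agent.Lib.Helper2

open Representation Module

open scoped ComplexConjugate

/-- the `p`-local form of Banaschewski's lemma -/
theorem local_banaschewski {X : Type*} [Finite X] (R : AddSubgroup (X → ℤ))
    (hmul : ∀ f ∈ R, ∀ g ∈ R, f * g ∈ R) (p : ℕ) (hp : p.Prime)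
    (hloc : ∀ x : X, ∃ f ∈ R, ¬ (p : ℤ) ∣ f x) :
    ∃ m : ℤ, ¬ (p : ℤ) ∣ m ∧ (fun _ => m) ∈ R := by
  classical
  have := Fintype.ofFinite X
  choose F hF hFx using hloc
  have h2 : ∀ s : Finset X,
      (fun _ => ∏ x ∈ s, F x x) - ∏ x ∈ s, ((fun _ => F x x) - F x) ∈ R := by
    intro s
    induction s using Finset.induction_on with
    | empty =>
      have : ((fun _ => ∏ x ∈ (∅ : Finset X), F x x) : X → ℤ)
          - ∏ x ∈ (∅ : Finset X), ((fun _ => F x x) - F x) = 0 := by
        funext y
        simp
      rw [this]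
      exact R.zero_mem
    | insert a s ha ih =>
      set r := (fun _ => ∏ x ∈ s, F x x) - ∏ x ∈ s, ((fun _ => F x x) - F x) with hr
      have e : ((fun _ => ∏ x ∈ insert a s, F x x) : X → ℤ)
          - ∏ x ∈ insert a s, ((fun _ => F x x) - F x)
          = (F a a) • r + (∏ x ∈ s, F x x) • F a - F a * r := by
        funext y
        simp only [Pi.sub_apply, Pi.mul_apply, Pi.add_apply, Pi.smul_apply, smul_eq_mul, hr,
          Finset.prod_insert ha, Finset.prod_apply]
        ring
      rw [e]
      exact R.sub_mem (R.add_mem (R.zsmul_mem ih _) (R.zsmul_mem (hF a) _)) (hmul _ (hF a) _ ih)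
  have h3 : ∏ x : X, ((fun _ => F x x) - F x) = 0 := by
    funext y
    rw [Finset.prod_apply]
    apply Finset.prod_eq_zero (Finset.mem_univ y)
    simp
  have h4 := h2 Finset.univ
  rw [h3, sub_zero] at h4
  refine ⟨∏ x : X, F x x, ?_, h4⟩
  intro hd
  obtain ⟨x, -, hx⟩ := (Prime.dvd_finsetProd_iff (Nat.prime_iff_prime_int.mp hp) _).mp hd
  exact hFx x hx

/-- complex form of the local Banaschewski lemma -/
theorem const_mem_of_local {X : Type*} [Finite X] (S : AddSubgroup (X → ℂ))
    (hmul : ∀ f ∈ S, ∀ g ∈ S, f * g ∈ S) (p : ℕ) (hp : p.Prime)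
    (hloc : ∀ x : X, ∃ f : X → ℤ, (fun g => (f g : ℂ)) ∈ S ∧ ¬ (p : ℤ) ∣ f x) :
    ∃ m : ℤ, ¬ (p : ℤ) ∣ m ∧ (fun _ => (m : ℂ)) ∈ S := by
  have hmulR : ∀ f ∈ S.comap ((Int.castAddHom ℂ).compLeft X),
      ∀ g ∈ S.comap ((Int.castAddHom ℂ).compLeft X),
      f * g ∈ S.comap ((Int.castAddHom ℂ).compLeft X) := by
    intro f hf g hg
    have hf' : ((Int.castAddHom ℂ).compLeft X) f ∈ S := hf
    have hg' : ((Int.castAddHom ℂ).compLeft X) g ∈ S := hg
    have e : ((Int.castAddHom ℂ).compLeft X) (f * g)
        = ((Int.castAddHom ℂ).compLeft X) f * ((Int.castAddHom ℂ).compLeft X) g := by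
      funext y; simp
    show ((Int.castAddHom ℂ).compLeft X) (f * g) ∈ S
    rw [e]
    exact hmul _ hf' _ hg'
  have hlocR : ∀ x : X, ∃ f ∈ S.comap ((Int.castAddHom ℂ).compLeft X), ¬ (p : ℤ) ∣ f x := by
    intro x
    obtain ⟨f, hf, hfx⟩ := hloc x
    exact ⟨f, hf, hfx⟩
  obtain ⟨m, hm, hmem⟩ := local_banaschewski _ hmulR p hp hlocR
  exact ⟨m, hm, hmem⟩

/-- the subgroups elementary for the fixed prime `p` -/
def PElemSub (p : ℕ) (G : Type*) [Group G] (E : Subgroup G) : Prop :=
  Cfsg.IsElementary p E

theorem pElemSub_map (p : ℕ) {G : Type*} [Group G] (T : Subgroup G) (E : Subgroup T)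
    (h : PElemSub p T E) : PElemSub p G (E.map T.subtype) :=
  isElementary_of_mulEquiv (Subgroup.equivMapOfInjective E T.subtype T.subtype_injective) h

/-- irreducible characters of `p`-quasi-elementary groups are integer combinations of
characters induced from linear characters of `p`-elementary subgroups -/
theorem qe_irr_linSpan_p.{u} (p : ℕ) (hp : p.Prime) (n : ℕ) :
    ∀ (K : Type u) [Group K] [Fintype K], IsQE p K → Nat.card K ≤ n →
    ∀ χ : K → ℂ, Cfsg.IsIrrCharacter K χ → LinSpan K (PElemSub p K) χ := by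
  induction n with
  | zero =>
    intro K _ _ _ hK
    have := Nat.card_pos (α := K)
    omega
  | succ n ih =>
    intro K _ _ hQ hK χ hχ
    classical
    have claimA : ∀ (L : Subgroup K) (mu : L →* ℂˣ), L ≠ ⊤ →
        LinSpan K (PElemSub p K) (Cfsg.indFun L (fun h => (mu h : ℂ))) := by
      intro L mu hL
      have := Fintype.ofFinite L
      have hlt : Nat.card L < Nat.card K := by
        apply lt_of_le_of_ne (Subgroup.card_le_card_group _)
        intro h
        exact hL ((Subgroup.card_eq_iff_eq_top _).mp h)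
      have h1 := ih L (hQ.subgroup hp L) (by omega) _ (isIrrCharacter_of_hom mu)
      exact linSpan_indFun L (pElemSub_map p L) h1
    have hmono : ∀ ψ : K → ℂ, Cfsg.IsIrrCharacter K ψ →
        LinSpan K (PElemSub p K) ψ ∨ ∃ lam : K →* ℂˣ, ψ = fun g => (lam g : ℂ) := by
      intro ψ hψ
      obtain ⟨L, mu, hLmu⟩ := monomial_qe_aux p hp (Nat.card K) K hQ le_rfl ψ hψ
      by_cases hL : L = ⊤
      · right
        subst hL
        have h1 : ψ 1 = 1 := by
          rw [hLmu, indFun_apply_one]
          simp
        exact hom_of_irr_deg_one hψ h1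
      · left
        rw [hLmu]
        exact claimA L mu hL
    have claimB : LinSpan K (PElemSub p K) (fun _ => (1 : ℂ)) := by
      obtain ⟨E, hE, hEtriv⟩ := hQ.exists_elementary hp
      have := Fintype.ofFinite E
      have := Fintype.ofFinite (Cfsg.IrrCharacter K)
      set Θ : K → ℂ := Cfsg.indFun E (fun _ => (1 : ℂ)) with hΘ
      have hΘc : Cfsg.IsCharacter K Θ :=
        indFun_isCharacter E (isCharacter_of_isIrrCharacter isIrrCharacter_one)
      have hΘs : LinSpan K (PElemSub p K) Θ := by
        have h1 := linSpan_hom (P := PElemSub p K) E hE (1 : E →* ℂˣ)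
        simpa using h1
      have hexp := class_fun_expand Θ (isClassFunction_of_isCharacter hΘc)
      set ψ₁ : Cfsg.IrrCharacter K := ⟨fun _ => 1, isIrrCharacter_one⟩ with hψ₁
      have hin1 : Cfsg.classInner Θ (ψ₁ : K → ℂ) = 1 := by
        rw [hΘ, frobenius_reciprocity E _ _ (isClassFunction_of_isIrrCharacter isIrrCharacter_one)]
        exact classInner_irr_self (isIrrCharacter_one (G := E))
      have h1 : (fun _ => (1 : ℂ))
          = Θ - ∑ ψ ∈ Finset.univ.erase ψ₁, Cfsg.classInner Θ ψ • (ψ : K → ℂ) := by
        have h2 := Finset.add_sum_erase Finset.univ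
          (fun ψ : Cfsg.IrrCharacter K => Cfsg.classInner Θ ψ • (ψ : K → ℂ)) (Finset.mem_univ ψ₁)
        rw [← hexp, hin1, one_smul] at h2
        exact (sub_eq_iff_eq_add.mpr h2.symm).symm
      rw [h1]
      apply linSpan_sub hΘs
      apply linSpan_sum
      intro ψ hψmem
      have hne : ψ ≠ ψ₁ := Finset.ne_of_mem_erase hψmem
      obtain ⟨m, hm⟩ := classInner_isCharacter_nat hΘc (isCharacter_of_isIrrCharacter ψ.2)
      rw [hm]
      rcases hmono ψ ψ.2 with h | ⟨lam, hlam⟩
      · have h2 := linSpan_zsmul (m : ℤ) h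
        simpa using h2
      · by_cases hm0 : m = 0
        · rw [hm0]
          simpa using (linSpan_zero (G := K) (P := PElemSub p K))
        · exfalso
          apply hne
          apply Subtype.ext
          show (ψ : K → ℂ) = fun _ => 1
          have h2 : Cfsg.classInner Θ (ψ : K → ℂ) ≠ 0 := by
            rw [hm]
            exact_mod_cast hm0
          rw [hΘ, frobenius_reciprocity E _ _ (isClassFunction_of_isIrrCharacter ψ.2)] at h2
          have h3 : (fun e : E => (ψ : K → ℂ) e)
              = fun e : E => ((lam.comp E.subtype) e : ℂ) := by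
            funext e
            rw [hlam]
            rfl
          rw [h3, classInner_irr isIrrCharacter_one
            (isIrrCharacter_of_hom (lam.comp E.subtype))] at h2
          have h4 : (fun _ : E => (1 : ℂ)) = fun e : E => ((lam.comp E.subtype) e : ℂ) := by
            by_contra hcon
            exact h2 (if_neg hcon)
          have h5 : lam = 1 := by
            apply hEtriv
            intro e he
            have h6 := congrFun h4 ⟨e, he⟩
            apply Units.ext
            simpa using h6.symm
          rw [hlam, h5]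
          rfl
    rcases hmono χ hχ with h | ⟨lam, hlam⟩
    · exact h
    · have h1 := linSpan_mul_hom claimB lam
      have e : ((fun _ => (1 : ℂ)) * fun g => (lam g : ℂ)) = χ := by
        rw [hlam]
        funext g
        simp
      rwa [e] at h1

/-- characters of `p`-quasi-elementary groups -/
theorem qe_char_linSpan_p {p : ℕ} (hp : p.Prime) {K : Type*} [Group K] [Fintype K]
    (hK : IsQE p K) {Θ : K → ℂ} (hΘ : Cfsg.IsCharacter K Θ) : LinSpan K (PElemSub p K) Θ := by
  classical
  have := Fintype.ofFinite (Cfsg.IrrCharacter K)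
  rw [class_fun_expand Θ (isClassFunction_of_isCharacter hΘ)]
  apply linSpan_sum
  intro ψ _
  obtain ⟨m, hm⟩ := classInner_isCharacter_nat hΘ (isCharacter_of_isIrrCharacter ψ.2)
  rw [hm]
  have h2 := linSpan_zsmul (m : ℤ) (qe_irr_linSpan_p p hp (Nat.card K) K hK le_rfl ψ ψ.2)
  simpa using h2

/-- **`p`-local Brauer induction**: some integer prime to `p`, as a constant function, is an
integer combination of characters induced from linear characters of `p`-elementary subgroups -/
theorem plocal_brauer {G : Type*} [Group G] [Fintype G] (p : ℕ) (hp : p.Prime) :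
    ∃ m : ℤ, ¬ (p : ℤ) ∣ m ∧ LinSpan G (PElemSub p G) (fun _ => (m : ℂ)) := by
  obtain ⟨m, hm, hmem⟩ := const_mem_of_local
    (AddSubgroup.closure (indCharSet G (fun H => IsQE p H)))
    (fun f hf g hg => indCharSpan_mul hf hg) p hp (by
      intro x
      obtain ⟨H, hH, hnd⟩ := exists_qe_not_dvd x p hp
      refine ⟨fun g => (Nat.card (MulAction.fixedBy (G ⧸ H) g) : ℤ), ?_, ?_⟩
      · apply AddSubgroup.subset_closure
        refine ⟨H, fun _ => 1, hH, isCharacter_of_isIrrCharacter isIrrCharacter_one, ?_⟩
        funext g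
        rw [indFun_one_apply]
        simp
      · intro h
        exact hnd (Int.natCast_dvd_natCast.mp h))
  refine ⟨m, hm, ?_⟩
  have key : ∀ f ∈ AddSubgroup.closure (indCharSet G (fun H => IsQE p H)),
      LinSpan G (PElemSub p G) f := by
    intro f hf
    induction hf using AddSubgroup.closure_induction with
    | mem x hx =>
      obtain ⟨H, ψ, hH, hψ, rfl⟩ := hx
      have := Fintype.ofFinite H
      exact linSpan_indFun H (pElemSub_map p H) (qe_char_linSpan_p hp hH hψ)
    | zero => exact linSpan_zero
    | add x y _ _ hx hy => exact linSpan_add hx hy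
    | neg x _ hx => exact linSpan_neg hx
  exact key _ hmem

end Cfsg.Agent.Lib.Helper2
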