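import Mathlib

set_option autoImplicit false

namespace Cfsg.Agent.Lib.Helper2

open MulAction

/-- weighted fixed-point congruence for the action of a `p`-group: a weight that is constant on
orbits has the same sum over all points as over the fixed points, modulo `p` -/
theorem sum_modEq_sum_fixed {P X : Type*} [Group P] [Fintype X] [MulAction P X] {p : ℕ}
    [Fact p.Prime] (hP : IsPGroup p P) (f : X → ℕ) (hf : ∀ (q : P) (x : X), f (q • x) = f x)
    [DecidablePred (fun x : X => ∀ q : P, q • x = x)] :
    (∑ x : X, f x) ≡ (∑ x ∈ Finset.univ.filter (fun x : X => ∀ q : P, q • x = x), f x)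
      [MOD p] := by
  classical
  -- the action on pairs
  letI act : MulAction P (X × ℕ) :=
    { smul := fun q y => (q • y.1, y.2)
      one_smul := fun y => Prod.ext (one_smul P y.1) rfl
      mul_smul := fun a b y => Prod.ext (mul_smul a b y.1) rfl }
  have hsm : ∀ (q : P) (y : X × ℕ), q • y = (q • y.1, y.2) := fun q y => rfl
  let S : SubMulAction P (X × ℕ) :=
    { carrier := {y | y.2 < f y.1}
      smul_mem' := fun q y hy => by
        show (q • y).2 < f (q • y).1
        rw [hsm, hf]
        exact hy }
  -- the points of `S` as a sigma type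
  let e1 : S ≃ Σ x : X, Fin (f x) :=
    { toFun := fun y => ⟨y.1.1, ⟨y.1.2, y.2⟩⟩
      invFun := fun z => ⟨(z.1, z.2.1), z.2.2⟩
      left_inv := fun y => rfl
      right_inv := fun z => rfl }
  have hfin : Finite S := Finite.of_equiv _ e1.symm
  have hcard : Nat.card S = ∑ x : X, f x := by
    rw [Nat.card_congr e1, Nat.card_eq_fintype_card, Fintype.card_sigma]
    simp
  -- the fixed points
  let e2 : fixedPoints P S ≃ Σ x : {x : X // ∀ q : P, q • x = x}, Fin (f x.1) :=
    { toFun := fun y => ⟨⟨y.1.1.1, fun q => by
          have h1 := congrArg Subtype.val (y.2 q)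
          have h2 := congrArg Prod.fst h1
          exact h2⟩, ⟨y.1.1.2, y.1.2⟩⟩
      invFun := fun z => ⟨⟨(z.1.1, z.2.1), z.2.2⟩, fun q => by
          apply Subtype.ext
          show q • ((z.1.1, z.2.1) : X × ℕ) = (z.1.1, z.2.1)
          rw [hsm]
          exact Prod.ext (z.1.2 q) rfl⟩
      left_inv := fun y => rfl
      right_inv := fun z => rfl }
  have hcard2 : Nat.card (fixedPoints P S)
      = ∑ x ∈ Finset.univ.filter (fun x : X => ∀ q : P, q • x = x), f x := by
    rw [Nat.card_congr e2, Nat.card_eq_fintype_card, Fintype.card_sigma]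
    simp only [Fintype.card_fin]
    rw [Finset.sum_subtype (Finset.univ.filter (fun x : X => ∀ q : P, q • x = x))
      (p := fun x : X => ∀ q : P, q • x = x) (fun x => by simp) f]
  rw [← hcard, ← hcard2]
  exact hP.card_modEq_card_fixedPoints S

end Cfsg.Agent.Lib.Helper2
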