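import Mathlib
import Cfsg.Prelude
import Cfsg.Agent.Lib.Helper2.CharOrtho
import Cfsg.Agent.Lib.Helper2.CharRatio
import Cfsg.Agent.Lib.Helper2.AbSylow
import Cfsg.Agent.Lib.Helper2.DetChar
import Cfsg.Agent.Lib.Helper2.WeightedFix
import Cfsg.Agent.Lib.Helper14.Residual
import Cfsg.Agent.S0867

set_option autoImplicit false

namespace Cfsg.Agent.Lib.Helper2

open Representation Module

open scoped ComplexConjugate

open Cfsg.Agent.Lib.Helper14

universe u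

/-- the degree of a function with a natural value at the identity -/
theorem charDegree_eq_of_apply_one {G : Type*} [Group G] (χ : G → ℂ) (d : ℕ)
    (h : χ 1 = (d : ℂ)) : Cfsg.charDegree χ = d := by
  unfold Cfsg.charDegree
  rw [h]
  simp

/-- the value at the identity of an irreducible character is its degree -/
theorem irr_apply_one_eq_charDegree {G : Type*} [Group G] {χ : G → ℂ}
    (hχ : Cfsg.IsIrrCharacter G χ) : χ 1 = (Cfsg.charDegree χ : ℂ) := by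
  obtain ⟨d, -, hd⟩ := irr_apply_one hχ
  rw [charDegree_eq_of_apply_one χ d hd, hd]

/-- the determinantal order of a character of `O^p(G)` is prime to `p` -/
theorem not_dvd_detOrder_pResidual {G : Type*} [Group G] [Finite G] (p : ℕ) [hp : Fact p.Prime]
    {ϑ : ↥(Cfsg.pResidual p G) → ℂ} (hϑ : Cfsg.IsCharacter ↥(Cfsg.pResidual p G) ϑ) :
    ¬ p ∣ Cfsg.detOrder ϑ := by
  obtain ⟨δ, hδ⟩ := detChar_hom hϑ
  obtain ⟨e, r, hr, hcard⟩ :=
    Nat.exists_eq_pow_mul_and_not_dvd (Nat.card_pos (α := G)).ne' p hp.out.ne_one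
  let ν : ↥(Cfsg.pResidual p G) →* ℂˣ := (powMonoidHom r : ℂˣ →* ℂˣ).comp δ
  have h1 : Cfsg.pResidual p G ≤ ν.ker.map (Cfsg.pResidual p G).subtype := by
    have h0 : Subgroup.closure {g : G | Nat.Coprime (orderOf g) p}
        ≤ ν.ker.map (Cfsg.pResidual p G).subtype := by
      rw [Subgroup.closure_le]
      intro g hg
      have hgN : g ∈ Cfsg.pResidual p G := Subgroup.subset_closure hg
      refine ⟨⟨g, hgN⟩, ?_, rfl⟩
      rw [SetLike.mem_coe, MonoidHom.mem_ker]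
      show δ ⟨g, hgN⟩ ^ r = 1
      have h2 : orderOf g ∣ r := by
        have h3 : orderOf g ∣ p ^ e * r := hcard ▸ orderOf_dvd_natCard g
        exact (Nat.Coprime.dvd_mul_left (Nat.Coprime.pow_right e hg)).mp h3
      have h4 : (⟨g, hgN⟩ : ↥(Cfsg.pResidual p G)) ^ r = 1 := by
        apply Subtype.ext
        show g ^ r = 1
        exact orderOf_dvd_iff_pow_eq_one.mp h2
      rw [← map_pow, h4, map_one]
    exact h0
  have hker : ∀ k : ↥(Cfsg.pResidual p G), δ k ^ r = 1 := by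
    intro k
    obtain ⟨k', hk', hkk⟩ := h1 k.2
    have : k' = k := Subtype.ext hkk
    rw [← this]
    exact MonoidHom.mem_ker.mp hk'
  have hpow : Cfsg.detChar ϑ ^ r = 1 := by
    funext k
    rw [hδ]
    show ((δ k : ℂ)) ^ r = 1
    rw [← Units.val_pow_eq_pow_val, hker k]
    rfl
  unfold Cfsg.detOrder
  intro hdvd
  exact hr (hdvd.trans (orderOf_dvd_of_pow_eq_one hpow))

/-- an irreducible character of degree prime to `p` restricts irreducibly to a normal subgroup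
of `p`-power index -/
theorem restrict_irr_of_ppow_index {G : Type u} [Group G] [Fintype G] (N : Subgroup G)
    [hN : N.Normal] {p : ℕ} [hp : Fact p.Prime] {a : ℕ} (hidx : N.index = p ^ a) {χ : G → ℂ}
    (hχ : Cfsg.IsIrrCharacter G χ) (hpd : ¬ p ∣ Cfsg.charDegree χ) :
    Cfsg.IsIrrCharacter N (fun n : N => χ n) := by
  classical
  have := Fintype.ofFinite N
  obtain ⟨d, hd0, hd⟩ := irr_apply_one hχ
  rw [charDegree_eq_of_apply_one χ d hd] at hpd
  have hres : Cfsg.IsCharacter N (fun n : N => χ n) :=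
    IsCharacter.restrict (isCharacter_of_isIrrCharacter hχ) N
  have hne : (fun n : N => χ n) ≠ 0 := by
    intro h0
    have h1 := congrFun h0 1
    simp only [Pi.zero_apply, Subgroup.coe_one] at h1
    rw [hd] at h1
    have : d = 0 := by exact_mod_cast h1
    omega
  obtain ⟨ϑ, hϑ, hcon⟩ := exists_irr_constituent hres hne
  obtain ⟨b, hb, hbdvd⟩ := degree_ratio N hχ hϑ hcon
  obtain ⟨dϑ, hdϑ0, hdϑ⟩ := irr_apply_one hϑ
  rw [hidx] at hbdvd
  obtain ⟨j, hj, rfl⟩ := (Nat.dvd_prime_pow hp.out).mp hbdvd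
  rw [hd, hdϑ] at hb
  have hb' : d = p ^ j * dϑ := by exact_mod_cast hb
  have hj0 : j = 0 := by
    by_contra hj0
    apply hpd
    rw [hb']
    exact (dvd_pow_self p hj0).mul_right dϑ
  have hΔ := IsCharacter.sub_irr hres hϑ hcon
  have h0 : ((fun n : N => χ n) - ϑ) 1 = 0 := by
    simp only [Pi.sub_apply, Subgroup.coe_one]
    rw [hd, hdϑ, hb', hj0]
    simp
  have hz := char_eq_zero_of_apply_one hΔ h0
  have he : (fun n : N => χ n) = ϑ := sub_eq_zero.mp hz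
  rw [he]
  exact hϑ

/-- the canonical extension of an invariant irreducible character of `O^p(G)` of degree prime
to `p` -/
theorem exists_unique_ext_pResidual {G : Type u} [Group G] [Finite G] (p : ℕ) [hp : Fact p.Prime]
    {ϑ : ↥(Cfsg.pResidual p G) → ℂ} (hϑ : Cfsg.IsIrrCharacter ↥(Cfsg.pResidual p G) ϑ)
    (hinv : ∀ (g : G) (n : ↥(Cfsg.pResidual p G)),
      ϑ ⟨g * n * g⁻¹, (pResidual_normal' (K := G) p).conj_mem (n : G) n.2 g⟩ = ϑ n)
    (hpd : ¬ p ∣ Cfsg.charDegree ϑ) :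
    ∃ χ : G → ℂ, Cfsg.IsIrrCharacter G χ ∧ (∀ n : ↥(Cfsg.pResidual p G), χ n = ϑ n) ∧
      ¬ p ∣ Cfsg.detOrder χ ∧
      ∀ χ' : G → ℂ, Cfsg.IsIrrCharacter G χ' → (∀ n : ↥(Cfsg.pResidual p G), χ' n = ϑ n) →
        ¬ p ∣ Cfsg.detOrder χ' → χ' = χ := by
  obtain ⟨a, ha⟩ := exists_index_pResidual (K := G) p
  have ho := not_dvd_detOrder_pResidual p (isCharacter_of_isIrrCharacter hϑ)
  have hd := irr_apply_one_eq_charDegree hϑ
  have hcop : Nat.Coprime (Cfsg.pResidual p G).index (Cfsg.detOrder ϑ * Cfsg.charDegree ϑ) := by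
    rw [ha]
    apply Nat.Coprime.pow_left
    rw [Nat.Prime.coprime_iff_not_dvd hp.out]
    intro h
    rcases (Nat.Prime.dvd_mul hp.out).mp h with h | h
    · exact ho h
    · exact hpd h
  obtain ⟨χ, ⟨hχ, hext, hdet⟩, huniq⟩ :=
    Cfsg.Agent.S0867.result (Cfsg.pResidual p G) ϑ hϑ hinv (Cfsg.charDegree ϑ) hd hcop
  refine ⟨χ, hχ, hext, by rw [hdet]; exact ho, ?_⟩
  intro χ' hχ' hext' hdet'
  apply huniq χ' hχ' hext'
  rw [ha]
  apply Nat.Coprime.pow_left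
  rw [Nat.Prime.coprime_iff_not_dvd hp.out]
  exact hdet'

/-- the sum of the squares of the degrees of the irreducible characters is the group order -/
theorem sum_charDegree_sq (K : Type*) [Group K] [Fintype K] [Fintype (Cfsg.IrrCharacter K)] :
    ∑ ϑ : Cfsg.IrrCharacter K, Cfsg.charDegree (ϑ : K → ℂ) ^ 2 = Nat.card K := by
  have h1 := column_orthogonality (1 : K) 1
  rw [colFun_of_isConj (IsConj.refl 1)] at h1
  have h2 : Nat.card (Subgroup.centralizer ({1} : Set K)) = Nat.card K := by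
    have : Subgroup.centralizer ({1} : Set K) = ⊤ := by
      rw [eq_top_iff]
      intro x _
      rw [Subgroup.mem_centralizer_singleton_iff]
      simp
    rw [this, Subgroup.card_top]
  rw [h2] at h1
  have h3 : ∀ ϑ : Cfsg.IrrCharacter K, (ϑ : K → ℂ) 1 * conj ((ϑ : K → ℂ) 1)
      = ((Cfsg.charDegree (ϑ : K → ℂ) ^ 2 : ℕ) : ℂ) := by
    intro ϑ
    rw [irr_apply_one_eq_charDegree ϑ.2, Complex.conj_natCast]
    push_cast
    ring
  rw [Finset.sum_congr rfl (fun ϑ _ => h3 ϑ), ← Nat.cast_sum] at h1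
  exact_mod_cast h1

/-- `|O^p(G)|` is congruent modulo `p` to the sum of the squares of the degrees of the
irreducible characters of `G` of degree and determinantal order prime to `p` -/
theorem pResidual_sq_sum {G : Type u} [Group G] [Finite G] (p : ℕ) [hp : Fact p.Prime] :
    (Nat.card (Cfsg.pResidual p G) : ℤ) ≡
      (∑ᶠ χ ∈ {χ : Cfsg.IrrCharacter G | ¬ p ∣ Cfsg.charDegree (χ : G → ℂ) ∧
        ¬ p ∣ Cfsg.detOrder (χ : G → ℂ)}, (Cfsg.charDegree (χ : G → ℂ) : ℤ) ^ 2) [ZMOD p] := by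
  classical
  have := Fintype.ofFinite G
  have hNn : (Cfsg.pResidual p G).Normal := pResidual_normal' p
  have := Fintype.ofFinite (Cfsg.pResidual p G)
  have := Fintype.ofFinite (Cfsg.IrrCharacter G)
  have := Fintype.ofFinite (Cfsg.IrrCharacter ↥(Cfsg.pResidual p G))
  obtain ⟨a, ha⟩ := exists_index_pResidual (K := G) p
  -- the action of `G` on the irreducible characters of `O^p(G)`
  letI actG : MulAction G (Cfsg.IrrCharacter ↥(Cfsg.pResidual p G)) :=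
    { smul := fun g ϑ => ⟨conjFun (Cfsg.pResidual p G) ϑ.1 g⁻¹,
        conjFun_irr (Cfsg.pResidual p G) ϑ.2 g⁻¹⟩
      one_smul := fun ϑ => by
        apply Subtype.ext
        show conjFun (Cfsg.pResidual p G) ϑ.1 (1 : G)⁻¹ = ϑ.1
        rw [inv_one, conjFun_one]
      mul_smul := fun x y ϑ => by
        apply Subtype.ext
        show conjFun (Cfsg.pResidual p G) ϑ.1 (x * y)⁻¹
          = conjFun (Cfsg.pResidual p G) (conjFun (Cfsg.pResidual p G) ϑ.1 y⁻¹) x⁻¹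
        rw [mul_inv_rev, conjFun_mul] }
  have hactG : ∀ (g : G) (ϑ : Cfsg.IrrCharacter ↥(Cfsg.pResidual p G)),
      ((g • ϑ : Cfsg.IrrCharacter ↥(Cfsg.pResidual p G)) : ↥(Cfsg.pResidual p G) → ℂ)
        = conjFun (Cfsg.pResidual p G) ϑ.1 g⁻¹ := fun g ϑ => rfl
  let φ : G →* Equiv.Perm (Cfsg.IrrCharacter ↥(Cfsg.pResidual p G)) :=
    MulAction.toPermHom G (Cfsg.IrrCharacter ↥(Cfsg.pResidual p G))
  have hker : Cfsg.pResidual p G ≤ φ.ker := by
    intro n hn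
    rw [MonoidHom.mem_ker]
    apply Equiv.ext
    intro ϑ
    show n • ϑ = ϑ
    apply Subtype.ext
    rw [hactG]
    exact conjFun_of_mem (Cfsg.pResidual p G) (isClassFunction_of_isIrrCharacter ϑ.2)
      (inv_mem hn)
  let ψ : G ⧸ Cfsg.pResidual p G →* Equiv.Perm (Cfsg.IrrCharacter ↥(Cfsg.pResidual p G)) :=
    QuotientGroup.lift (Cfsg.pResidual p G) φ hker
  letI actQ : MulAction (G ⧸ Cfsg.pResidual p G) (Cfsg.IrrCharacter ↥(Cfsg.pResidual p G)) :=
    MulAction.compHom _ ψ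
  have hactQ : ∀ (g : G) (ϑ : Cfsg.IrrCharacter ↥(Cfsg.pResidual p G)),
      (QuotientGroup.mk g : G ⧸ Cfsg.pResidual p G) • ϑ = g • ϑ := fun g ϑ => rfl
  have hPQ : IsPGroup p (G ⧸ Cfsg.pResidual p G) := isPGroup_quotient_pResidual p
  -- invariance of the degree
  have hdeg : ∀ (g : G) (ϑ : Cfsg.IrrCharacter ↥(Cfsg.pResidual p G)),
      Cfsg.charDegree ((g • ϑ : Cfsg.IrrCharacter ↥(Cfsg.pResidual p G)) :
        ↥(Cfsg.pResidual p G) → ℂ) = Cfsg.charDegree (ϑ : ↥(Cfsg.pResidual p G) → ℂ) := by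
    intro g ϑ
    rw [hactG]
    unfold Cfsg.charDegree
    rw [conjFun_apply]
    have e : (ϑ : ↥(Cfsg.pResidual p G) → ℂ)
        ⟨g⁻¹ * ((1 : ↥(Cfsg.pResidual p G)) : G) * g⁻¹⁻¹,
          hNn.conj_mem _ (1 : ↥(Cfsg.pResidual p G)).2 g⁻¹⟩
        = (ϑ : ↥(Cfsg.pResidual p G) → ℂ) 1 :=
      congrArg (ϑ : ↥(Cfsg.pResidual p G) → ℂ) (Subtype.ext (by simp))
    rw [e]
  have hdinv : ∀ (q : G ⧸ Cfsg.pResidual p G) (ϑ : Cfsg.IrrCharacter ↥(Cfsg.pResidual p G)),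
      Cfsg.charDegree ((q • ϑ : Cfsg.IrrCharacter ↥(Cfsg.pResidual p G)) :
        ↥(Cfsg.pResidual p G) → ℂ) ^ 2
        = Cfsg.charDegree (ϑ : ↥(Cfsg.pResidual p G) → ℂ) ^ 2 := by
    intro q ϑ
    obtain ⟨g, rfl⟩ := QuotientGroup.mk_surjective q
    rw [hactQ, hdeg]
  have hW := sum_modEq_sum_fixed hPQ
    (fun ϑ : Cfsg.IrrCharacter ↥(Cfsg.pResidual p G) =>
      Cfsg.charDegree (ϑ : ↥(Cfsg.pResidual p G) → ℂ) ^ 2) hdinv
  rw [sum_charDegree_sq] at hW
  -- fixed points are the invariant characters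
  have hfix : ∀ ϑ : Cfsg.IrrCharacter ↥(Cfsg.pResidual p G),
      (∀ q : G ⧸ Cfsg.pResidual p G, q • ϑ = ϑ) ↔
        ∀ (g : G) (n : ↥(Cfsg.pResidual p G)),
          (ϑ : ↥(Cfsg.pResidual p G) → ℂ) ⟨g * n * g⁻¹, hNn.conj_mem (n : G) n.2 g⟩
            = (ϑ : ↥(Cfsg.pResidual p G) → ℂ) n := by
    intro ϑ
    constructor
    · intro h g n
      have h1 := congrArg Subtype.val (h (QuotientGroup.mk g⁻¹))
      rw [hactQ, hactG] at h1
      have h2 := congrFun h1 n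
      rw [conjFun_apply] at h2
      rw [← h2]
      exact congrArg (ϑ : ↥(Cfsg.pResidual p G) → ℂ) (Subtype.ext (by simp))
    · intro h q
      obtain ⟨g, rfl⟩ := QuotientGroup.mk_surjective q
      rw [hactQ]
      apply Subtype.ext
      rw [hactG]
      funext n
      rw [conjFun_apply]
      exact h g⁻¹ n
  -- the finite sets
  set SG : Finset (Cfsg.IrrCharacter G) := Finset.univ.filter
    (fun χ : Cfsg.IrrCharacter G => ¬ p ∣ Cfsg.charDegree (χ : G → ℂ) ∧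
      ¬ p ∣ Cfsg.detOrder (χ : G → ℂ)) with hSG
  set FX : Finset (Cfsg.IrrCharacter ↥(Cfsg.pResidual p G)) := Finset.univ.filter
    (fun ϑ : Cfsg.IrrCharacter ↥(Cfsg.pResidual p G) =>
      ∀ q : G ⧸ Cfsg.pResidual p G, q • ϑ = ϑ) with hFX
  have hfin : ∑ᶠ χ ∈ {χ : Cfsg.IrrCharacter G | ¬ p ∣ Cfsg.charDegree (χ : G → ℂ) ∧
        ¬ p ∣ Cfsg.detOrder (χ : G → ℂ)}, (Cfsg.charDegree (χ : G → ℂ) : ℤ) ^ 2
      = ∑ χ ∈ SG, (Cfsg.charDegree (χ : G → ℂ) : ℤ) ^ 2 := by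
    rw [finsum_mem_eq_finite_toFinset_sum _ (Set.toFinite _)]
    apply Finset.sum_congr
    · ext χ
      simp [hSG]
    · intro χ _
      rfl
  rw [hfin]
  -- the bijection
  have hbij : ∑ χ ∈ SG, Cfsg.charDegree (χ : G → ℂ) ^ 2
      = ∑ ϑ ∈ FX.filter (fun ϑ : Cfsg.IrrCharacter ↥(Cfsg.pResidual p G) => ¬ p ∣ Cfsg.charDegree (ϑ : ↥(Cfsg.pResidual p G) → ℂ)),
          Cfsg.charDegree (ϑ : ↥(Cfsg.pResidual p G) → ℂ) ^ 2 := by
    have hresdeg : ∀ χ : G → ℂ, Cfsg.charDegree (fun n : ↥(Cfsg.pResidual p G) => χ n)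
        = Cfsg.charDegree χ := by
      intro χ
      rfl
    refine Finset.sum_bij
      (fun χ hχ => (⟨fun n : ↥(Cfsg.pResidual p G) => (χ : G → ℂ) n,
        restrict_irr_of_ppow_index (Cfsg.pResidual p G) ha χ.2
          (Finset.mem_filter.mp hχ).2.1⟩ : Cfsg.IrrCharacter ↥(Cfsg.pResidual p G)))
      ?_ ?_ ?_ ?_
    · intro χ hχ
      refine Finset.mem_filter.mpr ⟨Finset.mem_filter.mpr ⟨Finset.mem_univ _, ?_⟩, ?_⟩
      · rw [hfix]
        intro g n
        exact isClassFunction_of_isIrrCharacter χ.2 n g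
      · show ¬ p ∣ Cfsg.charDegree (fun n : ↥(Cfsg.pResidual p G) => (χ : G → ℂ) n)
        rw [hresdeg]
        exact (Finset.mem_filter.mp hχ).2.1
    · intro χ₁ hχ₁ χ₂ hχ₂ heq
      have h1 := (Finset.mem_filter.mp hχ₁).2
      have h2 := (Finset.mem_filter.mp hχ₂).2
      have hirr := restrict_irr_of_ppow_index (Cfsg.pResidual p G) ha χ₁.2 h1.1
      have hinv : ∀ (g : G) (n : ↥(Cfsg.pResidual p G)),
          (fun n : ↥(Cfsg.pResidual p G) => (χ₁ : G → ℂ) n)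
            ⟨g * n * g⁻¹, (pResidual_normal' (K := G) p).conj_mem (n : G) n.2 g⟩
            = (fun n : ↥(Cfsg.pResidual p G) => (χ₁ : G → ℂ) n) n :=
        fun g n => isClassFunction_of_isIrrCharacter χ₁.2 n g
      have hpd : ¬ p ∣ Cfsg.charDegree (fun n : ↥(Cfsg.pResidual p G) => (χ₁ : G → ℂ) n) := by
        rw [hresdeg]
        exact h1.1
      obtain ⟨χ₀, -, -, -, huniq⟩ := exists_unique_ext_pResidual p hirr hinv hpd
      have e1 := huniq χ₁.1 χ₁.2 (fun n => rfl) h1.2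
      have e2 := huniq χ₂.1 χ₂.2 (fun n => by
        have := congrFun (congrArg Subtype.val heq) n
        exact this.symm) h2.2
      exact Subtype.ext (e1.trans e2.symm)
    · intro ϑ hϑ
      obtain ⟨hϑ1, hϑp⟩ := Finset.mem_filter.mp hϑ
      have hϑfix := (Finset.mem_filter.mp hϑ1).2
      obtain ⟨χ₀, hχ₀, hext, hdet, -⟩ :=
        exists_unique_ext_pResidual p ϑ.2 ((hfix ϑ).mp hϑfix) hϑp
      have hdeg0 : Cfsg.charDegree χ₀ = Cfsg.charDegree (ϑ : ↥(Cfsg.pResidual p G) → ℂ) := by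
        rw [← hresdeg χ₀]
        congr 1
        funext n
        exact hext n
      refine ⟨⟨χ₀, hχ₀⟩, ?_, ?_⟩
      · exact Finset.mem_filter.mpr ⟨Finset.mem_univ _, by rw [hdeg0]; exact hϑp, hdet⟩
      · apply Subtype.ext
        funext n
        exact hext n
    · intro χ hχ
      show Cfsg.charDegree (χ : G → ℂ) ^ 2
        = Cfsg.charDegree (fun n : ↥(Cfsg.pResidual p G) => (χ : G → ℂ) n) ^ 2
      rw [hresdeg]
  -- assemble
  have hsplit : ∑ ϑ ∈ FX, Cfsg.charDegree (ϑ : ↥(Cfsg.pResidual p G) → ℂ) ^ 2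
      = ∑ ϑ ∈ FX.filter (fun ϑ : Cfsg.IrrCharacter ↥(Cfsg.pResidual p G) => ¬ p ∣ Cfsg.charDegree (ϑ : ↥(Cfsg.pResidual p G) → ℂ)),
          Cfsg.charDegree (ϑ : ↥(Cfsg.pResidual p G) → ℂ) ^ 2
        + ∑ ϑ ∈ FX.filter (fun ϑ : Cfsg.IrrCharacter ↥(Cfsg.pResidual p G) => p ∣ Cfsg.charDegree (ϑ : ↥(Cfsg.pResidual p G) → ℂ)),
          Cfsg.charDegree (ϑ : ↥(Cfsg.pResidual p G) → ℂ) ^ 2 := by
    rw [add_comm]
    have := Finset.sum_filter_add_sum_filter_not FX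
      (fun ϑ : Cfsg.IrrCharacter ↥(Cfsg.pResidual p G) =>
        p ∣ Cfsg.charDegree (ϑ : ↥(Cfsg.pResidual p G) → ℂ))
      (fun ϑ : Cfsg.IrrCharacter ↥(Cfsg.pResidual p G) =>
        Cfsg.charDegree (ϑ : ↥(Cfsg.pResidual p G) → ℂ) ^ 2)
    exact this.symm
  have hzero : p ∣ ∑ ϑ ∈ FX.filter
      (fun ϑ : Cfsg.IrrCharacter ↥(Cfsg.pResidual p G) =>
        p ∣ Cfsg.charDegree (ϑ : ↥(Cfsg.pResidual p G) → ℂ)),
        Cfsg.charDegree (ϑ : ↥(Cfsg.pResidual p G) → ℂ) ^ 2 := by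
    apply Finset.dvd_sum
    intro ϑ hϑ
    exact (Finset.mem_filter.mp hϑ).2.trans (dvd_pow_self _ (by norm_num))
  have hnat : Nat.card (Cfsg.pResidual p G) ≡ ∑ χ ∈ SG, Cfsg.charDegree (χ : G → ℂ) ^ 2
      [MOD p] := by
    refine hW.trans ?_
    show ∑ ϑ ∈ FX, Cfsg.charDegree (ϑ : ↥(Cfsg.pResidual p G) → ℂ) ^ 2 ≡ _ [MOD p]
    rw [hsplit, hbij]
    obtain ⟨c, hc⟩ := hzero
    rw [hc]
    exact Nat.add_mul_mod_self_left _ _ _
  have hint := (Int.natCast_modEq_iff).mpr hnat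
  push_cast at hint
  exact hint

end Cfsg.Agent.Lib.Helper2
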