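import Mathlib
import Cfsg.Prelude
import Cfsg.Agent.Lib.Helper2.CharClifford
import Cfsg.Agent.Lib.Helper2.CharIto
import Cfsg.Agent.Lib.Helper2.CharDecomp
import Cfsg.Agent.Lib.Helper2.CharMore
import Cfsg.Agent.Lib.Helper2.CharCover2
import Cfsg.Agent.Lib.Helper2.CharCenter
import Cfsg.Agent.Lib.Helper2.AbSylow
import Cfsg.Agent.Lib.Helper2.GoingDown

set_option autoImplicit false

namespace Cfsg.Agent.Lib.Helper2

open scoped ComplexConjugate

section bergerchar

variable {G : Type*} [Group G]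

/-- a character whose pullback along a homomorphism is irreducible is irreducible -/
theorem irr_of_comp_irr [Fintype G] {A : Type*} [Group A] [Fintype A] (f : A →* G)
    {Θ : G → ℂ} (hΘ : Cfsg.IsCharacter G Θ) (h : Cfsg.IsIrrCharacter A (Θ ∘ f)) :
    Cfsg.IsIrrCharacter G Θ := by
  classical
  obtain ⟨a, ha0, ha⟩ := irr_apply_one h
  have hΘ1 : Θ 1 = (a : ℂ) := by
    have : (Θ ∘ f) 1 = Θ 1 := by simp
    rw [← this, ha]
  have hΘ0 : Θ ≠ 0 := by
    intro h0
    rw [h0] at hΘ1
    simp only [Pi.zero_apply] at hΘ1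
    exact ha0.ne' (by exact_mod_cast hΘ1.symm)
  obtain ⟨θ, hθ, hcon⟩ := exists_irr_constituent hΘ hΘ0
  have hΦ := IsCharacter.sub_irr hΘ hθ hcon
  have hθc := isCharacter_of_isIrrCharacter hθ
  have hθf : Cfsg.IsCharacter A (θ ∘ f) := IsCharacter.comp_hom hθc f
  have hΦf : Cfsg.IsCharacter A ((Θ - θ) ∘ f) := IsCharacter.comp_hom hΦ f
  obtain ⟨b, hb0, hb⟩ := irr_apply_one hθ
  have hθf0 : θ ∘ f ≠ 0 := by
    intro h0
    have h1 := congrFun h0 1
    simp only [Function.comp_apply, map_one, Pi.zero_apply] at h1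
    rw [hb] at h1
    exact hb0.ne' (by exact_mod_cast h1)
  obtain ⟨α, hα, hαcon⟩ := exists_irr_constituent hθf hθf0
  have hsplit : Θ ∘ f = θ ∘ f + (Θ - θ) ∘ f := by
    funext x
    simp
  have hΘα : Cfsg.classInner (Θ ∘ f) α ≠ 0 := by
    rw [hsplit, classInner_add_left]
    obtain ⟨m₁, hm₁⟩ := classInner_isCharacter_nat hθf (isCharacter_of_isIrrCharacter hα)
    obtain ⟨m₂, hm₂⟩ := classInner_isCharacter_nat hΦf (isCharacter_of_isIrrCharacter hα)
    rw [hm₁, hm₂]
    rw [hm₁] at hαcon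
    have : m₁ ≠ 0 := by
      rintro rfl
      exact hαcon (by simp)
    have h2 : m₁ + m₂ ≠ 0 := by omega
    exact_mod_cast h2
  have hΘα' : Θ ∘ f = α := by
    by_contra hne
    exact hΘα (classInner_irr_ne h hα hne)
  obtain ⟨M', d', hM', hd', hdM'⟩ := irr_deg_le_of_inner_ne_zero hθf hα hαcon
  have e1 : (d' : ℂ) = (a : ℂ) := by
    rw [← hd', ← hΘα', ha]
  have e2 : (M' : ℂ) = (b : ℂ) := by
    rw [← hM', ← hb]
    simp
  have e1' : d' = a := by exact_mod_cast e1
  have e2' : M' = b := by exact_mod_cast e2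
  obtain ⟨k, τ, hτ⟩ := hΦ
  have hk : (Θ - θ) 1 = (k : ℂ) := by
    rw [← hτ, Representation.char_one]
    simp
  have hk' : (a : ℂ) = (b : ℂ) + (k : ℂ) := by
    rw [← hΘ1, ← hb, ← hk]
    simp
  have hk'' : a = b + k := by exact_mod_cast hk'
  have hk0 : k = 0 := by omega
  have hzero : Θ - θ = 0 := by
    apply char_eq_zero_of_apply_one ⟨k, τ, hτ⟩
    rw [hk, hk0]
    simp
  have : Θ = θ := sub_eq_zero.mp hzero
  rw [this]
  exact hθ

/-- a character of the degree of its isotypic part is a multiple of an irreducible character -/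
theorem eq_smul_of_degree [Fintype G] {Ψ κ : G → ℂ} (hΨ : Cfsg.IsCharacter G Ψ)
    (hκ : Cfsg.IsIrrCharacter G κ) (m : ℕ) (hm : Cfsg.classInner Ψ κ = (m : ℂ))
    (hdeg : Ψ 1 = (m : ℂ) * κ 1) : Ψ = (m : ℂ) • κ := by
  classical
  have hcf : Cfsg.IsClassFunction G (Ψ - (m : ℂ) • κ) :=
    IsClassFunction.sub (isClassFunction_of_isCharacter hΨ)
      (IsClassFunction.smul _ (isClassFunction_of_isIrrCharacter hκ))
  have hΦ : Cfsg.IsCharacter G (Ψ - (m : ℂ) • κ) := by
    apply isCharacter_of_nat_inner _ hcf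
    intro ψ hψ
    rw [classInner_sub_left, classInner_smul_left]
    by_cases hψκ : κ = ψ
    · subst hψκ
      rw [hm, classInner_irr_self hκ]
      exact ⟨0, by simp⟩
    · rw [classInner_irr_ne hκ hψ hψκ, mul_zero, sub_zero]
      exact classInner_isCharacter_nat hΨ (isCharacter_of_isIrrCharacter hψ)
  have h0 : Ψ - (m : ℂ) • κ = 0 := by
    apply char_eq_zero_of_apply_one hΦ
    simp [hdeg]
  exact sub_eq_zero.mp h0

/-- an induced function vanishes at elements having no conjugate in the subgroup -/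
theorem indFun_eq_zero_of_not_conj [Fintype G] (H : Subgroup G) (θ : H → ℂ) (g : G)
    (h : ∀ x : G, x⁻¹ * g * x ∉ H) : Cfsg.indFun H θ g = 0 := by
  rw [indFun_apply]
  rw [Finset.sum_eq_zero, mul_zero]
  intro x _
  exact extendByZero_of_not_mem H θ (h x)

theorem card_subgroupOf_comm (A B : Subgroup G) :
    Nat.card (A.subgroupOf B) = Nat.card (B.subgroupOf A) := by
  apply Nat.card_congr
  exact
    { toFun := fun x => ⟨⟨((x : B) : G), Subgroup.mem_subgroupOf.mp x.2⟩,
        Subgroup.mem_subgroupOf.mpr (x : B).2⟩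
      invFun := fun y => ⟨⟨((y : A) : G), Subgroup.mem_subgroupOf.mp y.2⟩,
        Subgroup.mem_subgroupOf.mpr (y : A).2⟩
      left_inv := fun x => rfl
      right_inv := fun y => rfl }

/-- Mackey's formula when `G = N H` with `N` normal: the restriction to `N` of a class function
induced from `H` is induced from `H ∩ N` -/
theorem indFun_restrict_of_sup [Fintype G] (H N : Subgroup G) [hN : N.Normal] [Fintype N]
    (hsup : N ⊔ H = ⊤)
    (ϑ : H → ℂ) (hϑ : Cfsg.IsClassFunction H ϑ) (x : N) :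
    Cfsg.indFun H ϑ (x : G)
      = Cfsg.indFun (H.subgroupOf N)
          (fun y : H.subgroupOf N => ϑ ⟨((y : N) : G), Subgroup.mem_subgroupOf.mp y.2⟩) x := by
  classical
  have := Fintype.ofFinite (G ⧸ N)
  set F : G → ℂ := fun g => Cfsg.extendByZero H ϑ (g⁻¹ * x * g) with hF
  have hFH : ∀ (g : G) (h : G), h ∈ H → F (g * h) = F g := by
    intro g h hh
    show Cfsg.extendByZero H ϑ ((g * h)⁻¹ * x * (g * h)) = Cfsg.extendByZero H ϑ (g⁻¹ * x * g)
    have e : (g * h)⁻¹ * x * (g * h) = h⁻¹ * (g⁻¹ * x * g) * h⁻¹⁻¹ := by group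
    rw [e]
    by_cases hy : g⁻¹ * (x : G) * g ∈ H
    · rw [extendByZero_of_mem H ϑ hy,
        extendByZero_of_mem H ϑ (H.mul_mem (H.mul_mem (H.inv_mem hh) hy) (H.inv_mem (H.inv_mem hh)))]
      exact hϑ ⟨g⁻¹ * x * g, hy⟩ ⟨h⁻¹, H.inv_mem hh⟩
    · rw [extendByZero_of_not_mem H ϑ hy, extendByZero_of_not_mem]
      intro h'
      apply hy
      have e2 : g⁻¹ * (x : G) * g = h * (h⁻¹ * (g⁻¹ * x * g) * h⁻¹⁻¹) * h⁻¹ := by group
      rw [e2]
      exact H.mul_mem (H.mul_mem hh h') (H.inv_mem hh)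
  -- the sum over a coset of `N`
  have hcoset : ∀ q : G ⧸ N, ∑ n : N, F (Quotient.out q * (n : G)) = ∑ n : N, F (n : G) := by
    intro q
    have hq : Quotient.out q ∈ N ⊔ H := by rw [hsup]; exact Subgroup.mem_top _
    rw [← SetLike.mem_coe, Subgroup.normal_mul, Set.mem_mul] at hq
    obtain ⟨n', hn', h', hh', hq'⟩ := hq
    let e : N ≃ N := (MulAut.conjNormal h' : MulAut N).toEquiv.trans (Equiv.mulLeft ⟨n', hn'⟩)
    rw [← Equiv.sum_comp e (fun n : N => F (n : G))]
    apply Finset.sum_congr rfl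
    intro n _
    have e1 : ((e n : N) : G) = n' * (h' * n * h'⁻¹) := rfl
    rw [e1, ← hq']
    have e2 : n' * h' * (n : G) = n' * (h' * n * h'⁻¹) * h' := by group
    rw [e2, hFH _ h' hh']
  have hsum : ∑ g : G, F g = (N.index : ℂ) * ∑ n : N, F (n : G) := by
    rw [← Equiv.sum_comp (quotProdEquiv N) F, Fintype.sum_prod_type]
    simp only [quotProdEquiv_apply]
    rw [Finset.sum_congr rfl (fun q _ => hcoset q), Finset.sum_const, Finset.card_univ,
      nsmul_eq_mul, Subgroup.index, Nat.card_eq_fintype_card]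
  have hcard : (Nat.card H : ℂ) = (N.index : ℂ) * (Nat.card (H.subgroupOf N) : ℂ) := by
    have h1 : Nat.card (N.subgroupOf H) * (N.subgroupOf H).index = Nat.card H :=
      Subgroup.card_mul_index _
    have h2 : (N.subgroupOf H).index = N.index := by
      have : N.relIndex (N ⊔ H) = N.relIndex H := Subgroup.relIndex_sup_left H N
      rw [hsup, Subgroup.relIndex_top_right] at this
      exact this.symm
    rw [h2, card_subgroupOf_comm] at h1
    rw [← h1]
    push_cast
    ring
  rw [indFun_apply, indFun_apply, hsum, hcard]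
  have hterm : ∀ n : N, Cfsg.extendByZero (H.subgroupOf N)
      (fun y : H.subgroupOf N => ϑ ⟨((y : N) : G), Subgroup.mem_subgroupOf.mp y.2⟩) (n⁻¹ * x * n)
      = F (n : G) := by
    intro n
    show _ = Cfsg.extendByZero H ϑ ((n : G)⁻¹ * x * n)
    by_cases hy : (n : G)⁻¹ * (x : G) * n ∈ H
    · have hy' : n⁻¹ * x * n ∈ H.subgroupOf N := Subgroup.mem_subgroupOf.mpr hy
      rw [extendByZero_of_mem _ _ hy', extendByZero_of_mem H ϑ hy]
      rfl
    · have hy' : n⁻¹ * x * n ∉ H.subgroupOf N := fun h => hy (Subgroup.mem_subgroupOf.mp h)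
      rw [extendByZero_of_not_mem _ _ hy', extendByZero_of_not_mem H ϑ hy]
  rw [Finset.sum_congr rfl (fun n _ => hterm n)]
  have hN0 : (N.index : ℂ) ≠ 0 := by
    exact_mod_cast Subgroup.index_ne_zero_of_finite
  have hK0 : (Nat.card (H.subgroupOf N) : ℂ) ≠ 0 := card_ne_zero_complex _
  field_simp

/-- if the conjugation average of the zero extension of `κ` reproduces `κ`, then `κ` is
constant on conjugates -/
theorem conj_const_of_avg [Fintype G] (K : Subgroup G) (κ : K → ℂ)
    (h : ∀ k : K, ∑ g : G, Cfsg.extendByZero K κ (g⁻¹ * k * g) = (Nat.card G : ℂ) * κ k) :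
    ∀ (k : K) (g : G), Cfsg.extendByZero K κ (g⁻¹ * k * g) = κ k := by
  classical
  have := Fintype.ofFinite K
  set E : G → ℂ := Cfsg.extendByZero K κ with hE
  set W : ℝ := ∑ k : K, Complex.normSq (κ k) with hW
  -- the total mass of `E`
  have hmass : ∑ y : G, Complex.normSq (E y) = W := by
    have h1 : ∑ y : G, Complex.normSq (E y)
        = ∑ y ∈ Finset.univ.filter (· ∈ K), Complex.normSq (E y) := by
      rw [Finset.sum_filter]
      apply Finset.sum_congr rfl
      intro y _
      by_cases hy : y ∈ K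
      · rw [if_pos hy]
      · rw [if_neg hy, hE, extendByZero_of_not_mem K κ hy]
        simp
    rw [h1, hW, Finset.sum_subtype (Finset.univ.filter (· ∈ K)) (p := (· ∈ K)) (fun x => by simp)
      (fun y => Complex.normSq (E y))]
    apply Finset.sum_congr rfl
    intro k _
    rw [hE, extendByZero_coe]
  have hW0 : 0 ≤ W := Finset.sum_nonneg (fun k _ => Complex.normSq_nonneg _)
  -- for fixed `g`, the conjugates stay inside the total mass
  have hpart : ∀ g : G, ∑ k : K, Complex.normSq (E (g⁻¹ * k * g)) ≤ W := by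
    intro g
    rw [← hmass]
    have hinj : Function.Injective (fun k : K => g⁻¹ * (k : G) * g) := by
      intro a b hab
      apply Subtype.ext
      have := congrArg (fun z => g * z * g⁻¹) hab
      simpa [mul_assoc] using this
    rw [← Finset.sum_image (f := fun y => Complex.normSq (E y)) (s := Finset.univ)
      (g := fun k : K => g⁻¹ * (k : G) * g) (fun a _ b _ hab => hinj hab)]
    exact Finset.sum_le_sum_of_subset_of_nonneg (Finset.subset_univ _)
      (fun y _ _ => Complex.normSq_nonneg _)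
  -- the cross term
  have hcross : ∀ k : K, ∑ g : G, (E (g⁻¹ * k * g) * conj (κ k)).re
      = (Nat.card G : ℝ) * Complex.normSq (κ k) := by
    intro k
    have h1 : ∑ g : G, (E (g⁻¹ * k * g) * conj (κ k)).re
        = ((∑ g : G, E (g⁻¹ * k * g)) * conj (κ k)).re := by
      rw [Finset.sum_mul, Complex.re_sum]
    rw [h1, h k, mul_assoc, Complex.mul_conj]
    rw [← Complex.ofReal_natCast, ← Complex.ofReal_mul, Complex.ofReal_re]
  have htotal : ∑ k : K, ∑ g : G, Complex.normSq (E (g⁻¹ * k * g) - κ k) ≤ 0 := by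
    have h1 : ∀ (k : K) (g : G), Complex.normSq (E (g⁻¹ * k * g) - κ k)
        = Complex.normSq (E (g⁻¹ * k * g)) + Complex.normSq (κ k)
          - 2 * (E (g⁻¹ * k * g) * conj (κ k)).re := fun k g => Complex.normSq_sub _ _
    simp only [h1, Finset.sum_sub_distrib, Finset.sum_add_distrib, ← Finset.mul_sum, hcross]
    rw [Finset.sum_comm]
    have h2 : ∑ g : G, ∑ k : K, Complex.normSq (E (g⁻¹ * k * g)) ≤ (Nat.card G : ℝ) * W := by
      calc ∑ g : G, ∑ k : K, Complex.normSq (E (g⁻¹ * k * g)) ≤ ∑ _g : G, W :=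
            Finset.sum_le_sum (fun g _ => hpart g)
        _ = (Nat.card G : ℝ) * W := by
            rw [Finset.sum_const, Finset.card_univ, nsmul_eq_mul, Nat.card_eq_fintype_card]
    have h3 : ∑ k : K, ∑ _g : G, Complex.normSq (κ k) = (Nat.card G : ℝ) * W := by
      rw [hW, Finset.mul_sum]
      apply Finset.sum_congr rfl
      intro k _
      rw [Finset.sum_const, Finset.card_univ, nsmul_eq_mul, Nat.card_eq_fintype_card]
    rw [h3]
    linarith
  have hzero : ∀ k : K, ∀ g : G, Complex.normSq (E (g⁻¹ * k * g) - κ k) = 0 := by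
    have hnn : ∀ k ∈ (Finset.univ : Finset K),
        0 ≤ ∑ g : G, Complex.normSq (E (g⁻¹ * k * g) - κ k) :=
      fun k _ => Finset.sum_nonneg (fun g _ => Complex.normSq_nonneg _)
    have h1 := (Finset.sum_eq_zero_iff_of_nonneg hnn).mp
      (le_antisymm htotal (Finset.sum_nonneg hnn))
    intro k g
    have h2 := h1 k (Finset.mem_univ k)
    exact (Finset.sum_eq_zero_iff_of_nonneg (fun g _ => Complex.normSq_nonneg _)).mp h2 g
      (Finset.mem_univ g)
  intro k g
  have := hzero k g
  rw [Complex.normSq_eq_zero, sub_eq_zero] at this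
  exact this

/-- the key lemma: if `(κ^G)_K = [G:K] κ` for an irreducible character `κ` of `K` which
restricts irreducibly to a normal subgroup `L ≤ K` of `G`, then `K` is normal in `G` -/
theorem normal_of_ind_restrict [Fintype G] (K L : Subgroup G) [hL : L.Normal] (hLK : L ≤ K)
    {κ : K → ℂ} (hκ : Cfsg.IsIrrCharacter K κ)
    (hκL : Cfsg.IsIrrCharacter L (fun l : L => κ ⟨l, hLK l.2⟩))
    (h : ∀ k : K, Cfsg.indFun K κ k = (K.index : ℂ) * κ k) : K.Normal := by
  classical
  have := Fintype.ofFinite K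
  have := Fintype.ofFinite L
  have hK0 : (Nat.card K : ℂ) ≠ 0 := card_ne_zero_complex K
  have havg : ∀ k : K, ∑ g : G, Cfsg.extendByZero K κ (g⁻¹ * k * g) = (Nat.card G : ℂ) * κ k := by
    intro k
    have h1 := h k
    rw [indFun_apply] at h1
    have h2 : ∑ g : G, Cfsg.extendByZero K κ (g⁻¹ * k * g)
        = (Nat.card K : ℂ) * ((K.index : ℂ) * κ k) := by
      rw [← h1, ← mul_assoc, mul_inv_cancel₀ hK0, one_mul]
    rw [h2, ← mul_assoc]
    congr 1
    exact_mod_cast Subgroup.card_mul_index K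
  have hconst := conj_const_of_avg K κ havg
  let C : Subgroup G := K.normalCore
  have hCK : C ≤ K := Subgroup.normalCore_le K
  have hLC : L ≤ C := by
    intro l hl
    show ∀ b : G, b * l * b⁻¹ ∈ K
    intro b
    exact hLK (hL.conj_mem l hl b)
  have hsupp : ∀ k : K, κ k ≠ 0 → (k : G) ∈ C := by
    intro k hk
    show ∀ b : G, b * (k : G) * b⁻¹ ∈ K
    intro b
    by_contra hb
    have h1 := hconst k b⁻¹
    rw [inv_inv, extendByZero_of_not_mem K κ hb] at h1
    exact hk h1.symm
  -- `κ` restricted to `C` is irreducible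
  have hκC : Cfsg.IsIrrCharacter C (fun c : C => κ ⟨c, hCK c.2⟩) := by
    have hc : Cfsg.IsCharacter C (κ ∘ (Subgroup.inclusion hCK)) :=
      IsCharacter.comp_hom (isCharacter_of_isIrrCharacter hκ) (Subgroup.inclusion hCK)
    exact irr_of_comp_irr (Subgroup.inclusion hLC) hc hκL
  have := Fintype.ofFinite C
  have n1 := classInner_irr_self hκ
  have n2 := classInner_irr_self hκC
  rw [classInner_def] at n1 n2
  have hC0 : (Nat.card C : ℂ) ≠ 0 := card_ne_zero_complex C
  have s1 : ∑ k : K, κ k * conj (κ k) = (Nat.card K : ℂ) := by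
    field_simp at n1
    exact n1
  have s2 : ∑ c : C, κ ⟨c, hCK c.2⟩ * conj (κ ⟨c, hCK c.2⟩) = (Nat.card C : ℂ) := by
    field_simp at n2
    exact n2
  have s3 : ∑ k : K, κ k * conj (κ k) = ∑ c : C, κ ⟨c, hCK c.2⟩ * conj (κ ⟨c, hCK c.2⟩) := by
    have e1 : ∑ k : K, κ k * conj (κ k)
        = ∑ k ∈ Finset.univ.filter (fun k : K => (k : G) ∈ C), κ k * conj (κ k) := by
      rw [Finset.sum_filter]
      apply Finset.sum_congr rfl
      intro k _
      by_cases hk : (k : G) ∈ C
      · rw [if_pos hk]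
      · rw [if_neg hk]
        have : κ k = 0 := by
          by_contra h0
          exact hk (hsupp k h0)
        rw [this, zero_mul]
    rw [e1]
    symm
    apply Finset.sum_bij (fun (c : C) _ => (⟨c, hCK c.2⟩ : K))
    · intro c _
      simp
    · intro a _ b _ hab
      apply Subtype.ext
      exact congrArg (fun z : K => (z : G)) hab
    · intro k hk
      rw [Finset.mem_filter] at hk
      exact ⟨⟨k, hk.2⟩, Finset.mem_univ _, rfl⟩
    · intro c _
      rfl
  have hcard : Nat.card K = Nat.card C := by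
    have : (Nat.card K : ℂ) = (Nat.card C : ℂ) := by rw [← s1, s3, s2]
    exact_mod_cast this
  have hKC : C = K := Subgroup.eq_of_le_of_card_ge hCK hcard.le
  have hCn : C.Normal := Subgroup.normalCore_normal K
  rw [← hKC]
  exact hCn

end bergerchar

end Cfsg.Agent.Lib.Helper2
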