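import Mathlib
import Cfsg.Prelude
import Cfsg.Agent.Lib.Helper2.BergerGrp
import Cfsg.Agent.Lib.Helper2.BergerChar

set_option autoImplicit false

namespace Cfsg.Agent.Lib.Helper2

open scoped ComplexConjugate

section bergeraux

variable {G : Type*} [Group G]

/-- a character which is a complex multiple of an irreducible character is a natural multiple -/
theorem smul_irr_nat [Fintype G] {Ψ φ : G → ℂ} (hΨ : Cfsg.IsCharacter G Ψ)
    (hφ : Cfsg.IsIrrCharacter G φ) (z : ℂ) (h : Ψ = z • φ) : ∃ d : ℕ, z = (d : ℂ) := by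
  obtain ⟨d, hd⟩ := classInner_isCharacter_nat hΨ (isCharacter_of_isIrrCharacter hφ)
  refine ⟨d, ?_⟩
  rw [← hd, h, classInner_smul_left, classInner_irr_self hφ, mul_one]

/-- a sum over a subgroup of a function vanishing off a smaller subgroup -/
theorem sum_of_vanish [Fintype G] (A B : Subgroup G) (hAB : A ≤ B) [Fintype A] [Fintype B]
    (F : B → ℂ) (hF : ∀ b : B, (b : G) ∉ A → F b = 0) :
    ∑ b : B, F b = ∑ a : A, F ⟨a, hAB a.2⟩ := by
  classical
  have e1 : ∑ b : B, F b = ∑ b ∈ Finset.univ.filter (fun b : B => (b : G) ∈ A), F b := by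
    rw [Finset.sum_filter]
    apply Finset.sum_congr rfl
    intro b _
    by_cases hb : (b : G) ∈ A
    · rw [if_pos hb]
    · rw [if_neg hb, hF b hb]
  rw [e1]
  symm
  apply Finset.sum_bij (fun (a : A) _ => (⟨a, hAB a.2⟩ : B))
  · intro a _
    simp
  · intro a _ b _ hab
    apply Subtype.ext
    exact congrArg (fun z : B => (z : G)) hab
  · intro b hb
    rw [Finset.mem_filter] at hb
    exact ⟨⟨b, hb.2⟩, Finset.mem_univ _, rfl⟩
  · intro a _
    rfl

/-- the index of `H` is its relative index in a normal supplement -/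
theorem index_eq_relIndex_of_sup [Finite G] (N H : Subgroup G) [hN : N.Normal]
    (hsup : N ⊔ H = ⊤) : H.index = H.relIndex N := by
  have h1 : Nat.card (N.subgroupOf H) * (N.subgroupOf H).index = Nat.card H :=
    Subgroup.card_mul_index _
  have h2 : (N.subgroupOf H).index = N.index := by
    have : N.relIndex (N ⊔ H) = N.relIndex H := Subgroup.relIndex_sup_left H N
    rw [hsup, Subgroup.relIndex_top_right] at this
    exact this.symm
  rw [h2, card_subgroupOf_comm] at h1
  have h3 : Nat.card (H.subgroupOf N) * (H.subgroupOf N).index = Nat.card N :=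
    Subgroup.card_mul_index _
  have h4 : Nat.card H * H.index = Nat.card G := Subgroup.card_mul_index H
  have h5 : Nat.card N * N.index = Nat.card G := Subgroup.card_mul_index N
  have h6 : 0 < Nat.card (H.subgroupOf N) := Nat.card_pos
  have h7 : 0 < N.index := Nat.pos_of_ne_zero Subgroup.index_ne_zero_of_finite
  show H.index = (H.subgroupOf N).index
  have h8 : Nat.card (H.subgroupOf N) * N.index * H.index
      = Nat.card (H.subgroupOf N) * N.index * (H.subgroupOf N).index := by
    calc Nat.card (H.subgroupOf N) * N.index * H.index = Nat.card H * H.index := by rw [h1]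
      _ = Nat.card G := h4
      _ = Nat.card N * N.index := h5.symm
      _ = Nat.card (H.subgroupOf N) * (H.subgroupOf N).index * N.index := by rw [h3]
      _ = Nat.card (H.subgroupOf N) * N.index * (H.subgroupOf N).index := by ring
  exact Nat.eq_of_mul_eq_mul_left (Nat.mul_pos h6 h7) h8

/-- the join of a normal subgroup with a subgroup normalised by `H` is normal if `M ⊔ H = ⊤` -/
theorem sup_normal_of (M H K : Subgroup G) [hM : M.Normal] (hsup : M ⊔ H = ⊤)
    (hHK : ∀ h ∈ H, ∀ k ∈ K, h * k * h⁻¹ ∈ K) : (M ⊔ K).Normal := by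
  apply normal_of_conj_mem_of_sup M H _ hsup
  · intro m hm x hx
    have hm' : m ∈ M ⊔ K := (le_sup_left : M ≤ M ⊔ K) hm
    exact (M ⊔ K).mul_mem ((M ⊔ K).mul_mem hm' hx) ((M ⊔ K).inv_mem hm')
  · intro h hh x hx
    have h1 : (M ⊔ K).map (MulAut.conj h).toMonoidHom ≤ M ⊔ K := by
      rw [Subgroup.map_sup]
      apply sup_le_sup
      · rintro _ ⟨y, hy, rfl⟩
        exact hM.conj_mem y hy h
      · rintro _ ⟨y, hy, rfl⟩
        exact hHK h hh y hy
    exact h1 ⟨x, hx, rfl⟩

/-- Dedekind's law in the form needed -/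
theorem mem_of_mem_sup (M H K L : Subgroup G) [hM : M.Normal] (hinf : M ⊓ H = L) (hLK : L ≤ K)
    (hKH : K ≤ H) {x : G} (hxH : x ∈ H) (hx : x ∈ M ⊔ K) : x ∈ K := by
  rw [← SetLike.mem_coe, Subgroup.normal_mul, Set.mem_mul] at hx
  obtain ⟨m, hm, k, hk, rfl⟩ := hx
  have hmH : m ∈ H := by
    have : m = m * k * k⁻¹ := by group
    rw [this]
    exact H.mul_mem hxH (H.inv_mem (hKH hk))
  have hmL : m ∈ L := by
    rw [← hinf]
    exact ⟨hm, hmH⟩
  exact K.mul_mem (hLK hmL) hk

/-- constituents of the restriction of the inducing character are constituents of the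
restriction of the induced character -/
theorem restrict_constituent [Fintype G] (H A : Subgroup G) (hAH : A ≤ H) [Fintype H] [Fintype A]
    {χ : G → ℂ} (hχ : Cfsg.IsIrrCharacter G χ) {ϑ : H → ℂ} (hϑ : Cfsg.IsIrrCharacter H ϑ)
    (hind : Cfsg.indFun H ϑ = χ) {α : A → ℂ} (hα : Cfsg.IsIrrCharacter A α)
    (hcon : Cfsg.classInner (fun a : A => ϑ ⟨a, hAH a.2⟩) α ≠ 0) :
    Cfsg.classInner (fun a : A => χ a) α ≠ 0 := by
  classical
  have hχc := isCharacter_of_isIrrCharacter hχ
  have hϑc := isCharacter_of_isIrrCharacter hϑ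
  have hχH : Cfsg.IsCharacter H (fun h : H => χ h) := IsCharacter.restrict hχc H
  have hfr := frobenius_reciprocity H ϑ χ (isClassFunction_of_isIrrCharacter hχ)
  rw [hind, classInner_irr_self hχ] at hfr
  have hχϑ : Cfsg.classInner (fun h : H => χ h) ϑ ≠ 0 := by
    rw [← classInner_conj_symm, ← hfr]
    simp
  have hΔ := IsCharacter.sub_irr hχH hϑ hχϑ
  have hΔr : Cfsg.IsCharacter A (((fun h : H => χ h) - ϑ) ∘ (Subgroup.inclusion hAH)) :=
    IsCharacter.comp_hom hΔ _
  have hϑr : Cfsg.IsCharacter A (fun a : A => ϑ ⟨a, hAH a.2⟩) :=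
    IsCharacter.comp_hom hϑc (Subgroup.inclusion hAH)
  have hsplit : (fun a : A => χ a) = (fun a : A => ϑ ⟨a, hAH a.2⟩)
      + ((fun h : H => χ h) - ϑ) ∘ (Subgroup.inclusion hAH) := by
    funext a
    simp [Subgroup.inclusion]
  rw [hsplit, classInner_add_left]
  obtain ⟨m₁, hm₁⟩ := classInner_isCharacter_nat hϑr (isCharacter_of_isIrrCharacter hα)
  obtain ⟨m₂, hm₂⟩ := classInner_isCharacter_nat hΔr (isCharacter_of_isIrrCharacter hα)
  rw [hm₁, hm₂]
  rw [hm₁] at hcon
  have : m₁ ≠ 0 := by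
    rintro rfl
    exact hcon (by simp)
  have h2 : m₁ + m₂ ≠ 0 := by omega
  exact_mod_cast h2

end bergeraux

end Cfsg.Agent.Lib.Helper2
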