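import Mathlib
import Cfsg.Prelude
import Cfsg.Agent.Lib.Helper2.BergerAux
import Cfsg.Agent.Lib.Helper2.CharCover3
import Cfsg.Agent.Lib.Helper2.CharRatio
import Cfsg.Agent.Lib.Helper12.GaloisTwist
import Cfsg.Agent.S0856
import Cfsg.Agent.S1489
import Cfsg.Agent.S1490

set_option autoImplicit false

namespace Cfsg.Agent.Lib.Helper2

open scoped ComplexConjugate

section bergercover

variable {G : Type*} [Group G]

/-- an irreducible character is not a sum of two nonzero characters -/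
theorem split_irr [Fintype G] {β X Y : G → ℂ} (hβ : Cfsg.IsIrrCharacter G β)
    (hX : Cfsg.IsCharacter G X) (hY : Cfsg.IsCharacter G Y) (h : β = X + Y) (hX0 : X ≠ 0) :
    Y = 0 := by
  classical
  obtain ⟨α, hα, hαcon⟩ := exists_irr_constituent hX hX0
  have h1 : Cfsg.classInner β α ≠ 0 := by
    rw [h, classInner_add_left]
    obtain ⟨m₁, hm₁⟩ := classInner_isCharacter_nat hX (isCharacter_of_isIrrCharacter hα)
    obtain ⟨m₂, hm₂⟩ := classInner_isCharacter_nat hY (isCharacter_of_isIrrCharacter hα)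
    rw [hm₁, hm₂]
    rw [hm₁] at hαcon
    have : m₁ ≠ 0 := by
      rintro rfl
      exact hαcon (by simp)
    have h2 : m₁ + m₂ ≠ 0 := by omega
    exact_mod_cast h2
  have hβα : β = α := by
    by_contra hne
    exact h1 (classInner_irr_ne hβ hα hne)
  rw [← hβα] at hαcon
  obtain ⟨M', d', hM', hd', hle⟩ := irr_deg_le_of_inner_ne_zero hX hβ hαcon
  obtain ⟨k, τ, hτ⟩ := hY
  have hk : Y 1 = (k : ℂ) := by
    rw [← hτ, Representation.char_one]
    simp
  have h3 : (d' : ℂ) = (M' : ℂ) + (k : ℂ) := by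
    rw [← hd', ← hM', ← hk, h]
    rfl
  have h3' : d' = M' + k := by exact_mod_cast h3
  have hk0 : k = 0 := by omega
  apply char_eq_zero_of_apply_one ⟨k, τ, hτ⟩
  rw [hk, hk0]
  simp

theorem indFun_add' [Fintype G] (H : Subgroup G) (a b : H → ℂ) :
    Cfsg.indFun H (a + b) = Cfsg.indFun H a + Cfsg.indFun H b := by
  funext g
  rw [Pi.add_apply, indFun_apply, indFun_apply, indFun_apply, ← mul_add, ← Finset.sum_add_distrib]
  congr 1
  apply Finset.sum_congr rfl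
  intro x _
  by_cases hx : x⁻¹ * g * x ∈ H
  · rw [extendByZero_of_mem H _ hx, extendByZero_of_mem H _ hx, extendByZero_of_mem H _ hx]
    rfl
  · rw [extendByZero_of_not_mem H _ hx, extendByZero_of_not_mem H _ hx,
      extendByZero_of_not_mem H _ hx, add_zero]

/-- a character inducing an irreducible character is irreducible -/
theorem irr_of_indFun_irr [Fintype G] (H : Subgroup G) [Fintype H] {ϑ : H → ℂ}
    (hϑ : Cfsg.IsCharacter H ϑ) (hχ : Cfsg.IsIrrCharacter G (Cfsg.indFun H ϑ)) :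
    Cfsg.IsIrrCharacter H ϑ := by
  classical
  obtain ⟨n, hn0, hn⟩ := irr_apply_one hχ
  have hidx : (H.index : ℂ) ≠ 0 := by exact_mod_cast Subgroup.index_ne_zero_of_finite
  have hϑ0 : ϑ ≠ 0 := by
    intro h0
    rw [indFun_apply_one, h0] at hn
    simp only [Pi.zero_apply, mul_zero] at hn
    exact hn0.ne' (by exact_mod_cast hn.symm)
  obtain ⟨θ₁, hθ₁, hcon⟩ := exists_irr_constituent hϑ hϑ0
  have hΔ := IsCharacter.sub_irr hϑ hθ₁ hcon
  have hsplit : Cfsg.indFun H ϑ = Cfsg.indFun H θ₁ + Cfsg.indFun H (ϑ - θ₁) := by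
    rw [← indFun_add']
    congr 1
    abel
  obtain ⟨b, hb0, hb⟩ := irr_apply_one hθ₁
  have hX0 : Cfsg.indFun H θ₁ ≠ 0 := by
    intro h0
    have h1 := congrFun h0 1
    rw [indFun_apply_one, hb] at h1
    simp only [Pi.zero_apply, mul_eq_zero] at h1
    rcases h1 with h1 | h1
    · exact hidx h1
    · exact hb0.ne' (by exact_mod_cast h1)
  have hY := split_irr hχ (indFun_isCharacter H (isCharacter_of_isIrrCharacter hθ₁))
    (indFun_isCharacter H hΔ) hsplit hX0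
  have h1 := congrFun hY 1
  rw [indFun_apply_one] at h1
  simp only [Pi.zero_apply, mul_eq_zero] at h1
  have h2 : (ϑ - θ₁) 1 = 0 := h1.resolve_left hidx
  have h3 : ϑ - θ₁ = 0 := char_eq_zero_of_apply_one hΔ h2
  rw [sub_eq_zero.mp h3]
  exact hθ₁

/-- a character with a single irreducible constituent is a multiple of it -/
theorem unique_constituent [Fintype G] {Θ β₁ : G → ℂ} (hΘ : Cfsg.IsCharacter G Θ)
    (hβ₁ : Cfsg.IsIrrCharacter G β₁)
    (h : ∀ ψ : G → ℂ, Cfsg.IsIrrCharacter G ψ → Cfsg.classInner Θ ψ ≠ 0 → ψ = β₁) :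
    ∃ e : ℕ, Θ = (e : ℂ) • β₁ := by
  obtain ⟨e, he⟩ := classInner_isCharacter_nat hΘ (isCharacter_of_isIrrCharacter hβ₁)
  refine ⟨e, ?_⟩
  apply Cfsg.Agent.S1490.class_fun_ext (isClassFunction_of_isCharacter hΘ)
    (IsClassFunction.smul _ (isClassFunction_of_isIrrCharacter hβ₁))
  intro ψ hψ
  by_cases hψβ : ψ = β₁
  · subst hψβ
    rw [he, classInner_smul_left, classInner_irr_self hψ, mul_one]
  · have h0 : Cfsg.classInner Θ ψ = 0 := by
      by_contra h0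
      exact hψβ (h ψ hψ h0)
    rw [h0, classInner_smul_left, classInner_irr_ne hβ₁ hψ (Ne.symm hψβ), mul_zero]

/-- an irreducible character trivial on a normal subgroup `A` restricts irreducibly along any
homomorphism whose image supplements `A` -/
theorem res_irr {X Y : Type*} [Group X] [Group Y] [Finite X] (A : Subgroup X) [hA : A.Normal]
    (f : Y →* X) (hsurj : ∀ x : X, ∃ y : Y, ∃ a ∈ A, x = f y * a) {β₁ : X → ℂ}
    (hβ₁ : Cfsg.IsIrrCharacter X β₁) (hker : ∀ a ∈ A, β₁ a = β₁ 1) :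
    Cfsg.IsIrrCharacter Y (β₁ ∘ f) := by
  obtain ⟨βb, hβb, hβeq⟩ := exists_irr_deflate (QuotientGroup.mk' A)
    (QuotientGroup.mk'_surjective A) hβ₁ (by
      intro z hz
      rw [QuotientGroup.ker_mk'] at hz
      exact hker z hz)
  have hs : Function.Surjective ((QuotientGroup.mk' A).comp f) := by
    intro q
    obtain ⟨x, rfl⟩ := QuotientGroup.mk'_surjective A q
    obtain ⟨y, a, ha, rfl⟩ := hsurj x
    refine ⟨y, ?_⟩
    show QuotientGroup.mk' A (f y) = QuotientGroup.mk' A (f y * a)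
    have ha1 : QuotientGroup.mk' A a = 1 := (QuotientGroup.eq_one_iff a).mpr ha
    rw [map_mul, ha1, mul_one]
  have := isIrrCharacter_comp_of_surjective hβb ((QuotientGroup.mk' A).comp f) hs
  rw [hβeq]
  exact this

/-- inner products are preserved by inflation along a surjection -/
theorem classInner_comp_surj {X Y : Type*} [Group X] [Group Y] [Fintype X] [Fintype Y]
    (q : X →* Y) (hq : Function.Surjective q) (φ ψ : Y → ℂ) :
    Cfsg.classInner (φ ∘ q) (ψ ∘ q) = Cfsg.classInner φ ψ := by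
  classical
  set c : ℕ := (Finset.univ.filter (fun x : X => q x = 1)).card with hc
  have hfib : ∀ y : Y, (Finset.univ.filter (fun x : X => q x = y)).card = c := by
    intro y
    exact MonoidHom.card_fiber_eq_of_mem_range q (hq y) (hq 1)
  have hsum : ∀ F : Y → ℂ, ∑ x : X, F (q x) = (c : ℂ) * ∑ y : Y, F y := by
    intro F
    rw [← Finset.sum_fiberwise' Finset.univ q F, Finset.mul_sum]
    apply Finset.sum_congr rfl
    intro y _
    rw [Finset.sum_const, hfib y, nsmul_eq_mul]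
  have hcard : (Nat.card X : ℂ) = (c : ℂ) * (Nat.card Y : ℂ) := by
    have := hsum (fun _ => 1)
    simp only [Finset.sum_const, Finset.card_univ, nsmul_eq_mul, mul_one] at this
    rw [Nat.card_eq_fintype_card, Nat.card_eq_fintype_card]
    exact this
  rw [classInner_def, classInner_def]
  have h1 := hsum (fun y => φ y * conj (ψ y))
  simp only [Function.comp_apply]
  rw [h1, hcard]
  have hX0 : (Nat.card X : ℂ) ≠ 0 := card_ne_zero_complex X
  have hc0 : (c : ℂ) ≠ 0 := by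
    intro h0
    rw [hcard, h0, zero_mul] at hX0
    exact hX0 rfl
  have hY0 : (Nat.card Y : ℂ) ≠ 0 := card_ne_zero_complex Y
  field_simp

/-- Gallagher: multiplication by an extension `π` of an irreducible character of the normal
subgroup `A` is injective on irreducible characters trivial on `A`, with irreducible values -/
theorem gal_bij {X : Type*} [Group X] [Fintype X] (A : Subgroup X) [hA : A.Normal] {π : X → ℂ}
    (hπ : Cfsg.IsIrrCharacter X π) (hπA : Cfsg.IsIrrCharacter A (fun a : A => π a)) :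
    (∀ β₁ : X → ℂ, Cfsg.IsIrrCharacter X β₁ → (∀ a ∈ A, β₁ a = β₁ 1) →
      Cfsg.IsIrrCharacter X (β₁ * π)) ∧
    (∀ β₁ β₂ : X → ℂ, Cfsg.IsIrrCharacter X β₁ → (∀ a ∈ A, β₁ a = β₁ 1) →
      Cfsg.IsIrrCharacter X β₂ → (∀ a ∈ A, β₂ a = β₂ 1) → β₁ * π = β₂ * π → β₁ = β₂) := by
  classical
  have := Fintype.ofFinite A
  have hπcf : Cfsg.IsClassFunction X π := isClassFunction_of_isIrrCharacter hπ
  have hprodeq : ((fun _ => (1 : ℂ)) * (fun x : A => π x) : A → ℂ) = fun x : A => π x := by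
    funext x
    simp
  have hbij := Cfsg.Agent.S0856.result A (fun _ => (1 : ℂ)) (fun x : A => π x)
    isIrrCharacter_one hπA (fun _ _ => rfl) (fun γ x => hπcf x γ)
    (by rw [hprodeq]; exact hπA) π hπ (fun x => rfl)
  have hmem : ∀ β₁ : X → ℂ, Cfsg.IsIrrCharacter X β₁ → (∀ a ∈ A, β₁ a = β₁ 1) →
      β₁ ∈ {β : X → ℂ | Cfsg.IsIrrCharacter X β ∧
        Cfsg.classInner (Cfsg.indFun A (fun _ => (1 : ℂ))) β ≠ 0} := by
    intro β₁ hβ₁ hker
    refine ⟨hβ₁, ?_⟩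
    rw [frobenius_reciprocity A _ β₁ (isClassFunction_of_isIrrCharacter hβ₁), classInner_def]
    have h1 : ∑ g : A, (fun _ => (1 : ℂ)) g * conj ((fun h : A => β₁ h) g)
        = (Nat.card A : ℂ) * conj (β₁ 1) := by
      have h2 : ∀ g ∈ (Finset.univ : Finset A),
          (fun _ => (1 : ℂ)) g * conj ((fun h : A => β₁ h) g) = conj (β₁ 1) := by
        intro g _
        show (1 : ℂ) * conj (β₁ (g : X)) = conj (β₁ 1)
        rw [hker g g.2, one_mul]
      rw [Finset.sum_congr rfl h2, Finset.sum_const,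
        Finset.card_univ, nsmul_eq_mul, Nat.card_eq_fintype_card]
    rw [h1, ← mul_assoc, inv_mul_cancel₀ (card_ne_zero_complex A), one_mul]
    obtain ⟨n, hn0, hn⟩ := irr_apply_one hβ₁
    rw [hn, Complex.conj_natCast]
    exact_mod_cast hn0.ne'
  refine ⟨?_, ?_⟩
  · intro β₁ hβ₁ hker
    exact (hbij.mapsTo (hmem β₁ hβ₁ hker)).1
  · intro β₁ β₂ hβ₁ hk₁ hβ₂ hk₂ heq
    exact hbij.injOn (hmem β₁ hβ₁ hk₁) (hmem β₂ hβ₂ hk₂) heq

/-- homogeneity transfers through Gallagher's correspondence -/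
theorem gal_hom {X : Type*} [Group X] [Fintype X] (A : Subgroup X) [hA : A.Normal] {π : X → ℂ}
    (hπ : Cfsg.IsIrrCharacter X π) (hπA : Cfsg.IsIrrCharacter A (fun a : A => π a))
    {β : X → ℂ} (hβ : Cfsg.IsCharacter X β) (hβ0 : β ≠ 0) (hβA : ∀ a ∈ A, β a = β 1)
    {ξ : X → ℂ} (hξ : Cfsg.IsIrrCharacter X ξ) (c : ℂ) (hprod : β * π = c • ξ) :
    ∃ (β₁ : X → ℂ) (e : ℕ), Cfsg.IsIrrCharacter X β₁ ∧ (∀ a ∈ A, β₁ a = β₁ 1) ∧
      β = (e : ℂ) • β₁ := by
  classical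
  obtain ⟨hmaps, hinj⟩ := gal_bij A hπ hπA
  have hπc := isCharacter_of_isIrrCharacter hπ
  have key : ∀ ψ : X → ℂ, Cfsg.IsIrrCharacter X ψ → Cfsg.classInner β ψ ≠ 0 →
      (∀ a ∈ A, ψ a = ψ 1) ∧ ψ * π = ξ := by
    intro ψ hψ hcon
    have hk : ∀ a ∈ A, ψ a = ψ 1 := fun a ha => constituent_apply_eq hβ hψ hcon (hβA a ha)
    refine ⟨hk, ?_⟩
    have hirr := hmaps ψ hψ hk
    have hΔ := IsCharacter.sub_irr hβ hψ hcon
    have hsplit : β * π = ψ * π + (β - ψ) * π := by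
      funext x
      simp only [Pi.mul_apply, Pi.add_apply, Pi.sub_apply]
      ring
    have h1 : Cfsg.classInner (β * π) (ψ * π) ≠ 0 := by
      rw [hsplit, classInner_add_left, classInner_irr_self hirr]
      obtain ⟨m₂, hm₂⟩ := classInner_isCharacter_nat (IsCharacter.mul hΔ hπc)
        (isCharacter_of_isIrrCharacter hirr)
      rw [hm₂]
      have h2 : 1 + m₂ ≠ 0 := by omega
      exact_mod_cast h2
    rw [hprod, classInner_smul_left] at h1
    by_contra hne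
    apply h1
    rw [classInner_irr_ne hξ hirr (fun h => hne h.symm), mul_zero]
  obtain ⟨β₁, hβ₁, hcon₁⟩ := exists_irr_constituent hβ hβ0
  obtain ⟨hk₁, hp₁⟩ := key β₁ hβ₁ hcon₁
  obtain ⟨e, he⟩ := unique_constituent hβ hβ₁ (by
    intro ψ hψ hcon
    obtain ⟨hk, hp⟩ := key ψ hψ hcon
    exact hinj ψ β₁ hψ hk hβ₁ hk₁ (by rw [hp, hp₁]))
  exact ⟨β₁, e, hβ₁, hk₁, he⟩

/-- quasi-primitivity: the restriction to every normal subgroup is homogeneous -/
def QP (G : Type*) [Group G] (χ : G → ℂ) : Prop :=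
  ∀ N : Subgroup G, N.Normal → ∃ (ϑ : N → ℂ) (e : ℕ),
    Cfsg.IsIrrCharacter N ϑ ∧ (fun n : N => χ n) = (e : ℂ) • ϑ

/-- an irreducible character of degree one has values of norm one -/
theorem linear_norm [Finite G] {σ : G → ℂ} (hσ : Cfsg.IsIrrCharacter G σ) (h1 : σ 1 = 1)
    (x : G) : ‖σ x‖ = 1 := by
  obtain ⟨lam, rfl⟩ := hom_of_irr_deg_one hσ h1
  have h2 : ((lam x : ℂˣ) : ℂ) ^ Nat.card G = 1 := by
    rw [← Units.val_pow_eq_pow_val, ← map_pow, pow_card_eq_one', map_one, Units.val_one]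
  exact Complex.norm_eq_one_of_pow_eq_one h2 Nat.card_pos.ne'

/-- induction commutes with complex conjugation -/
theorem indFun_conj [Fintype G] (H : Subgroup G) (ψ : H → ℂ) :
    Cfsg.indFun H ((starRingEnd ℂ) ∘ ψ) = (starRingEnd ℂ) ∘ Cfsg.indFun H ψ := by
  funext g
  simp only [Function.comp_apply]
  rw [indFun_apply, indFun_apply, map_mul, map_inv₀, Complex.conj_natCast, map_sum]
  congr 1
  apply Finset.sum_congr rfl
  intro x _
  by_cases hx : x⁻¹ * g * x ∈ H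
  · rw [extendByZero_of_mem H _ hx, extendByZero_of_mem H _ hx]
    rfl
  · rw [extendByZero_of_not_mem H _ hx, extendByZero_of_not_mem H _ hx, map_zero]

/-- quasi-primitivity passes to a supplement of a normal subgroup in the kernel -/
theorem qp_sub {Γ : Type*} [Group Γ] [Finite Γ] (A Δ : Subgroup Γ) [hA : A.Normal]
    (hsurj : ∀ γ : Γ, ∃ y ∈ Δ, ∃ a ∈ A, γ = y * a) {β : Γ → ℂ} (hβ : Cfsg.IsIrrCharacter Γ β)
    (hker : ∀ a ∈ A, β a = β 1) (hqp : QP Γ β) :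
    Cfsg.IsIrrCharacter Δ (fun x : Δ => β x) ∧ QP Δ (fun x : Δ => β x) := by
  classical
  have hirr : Cfsg.IsIrrCharacter Δ (fun x : Δ => β x) := by
    have := res_irr A Δ.subtype (by
      intro γ
      obtain ⟨y, hy, a, ha, rfl⟩ := hsurj γ
      exact ⟨⟨y, hy⟩, a, ha, rfl⟩) hβ hker
    exact this
  refine ⟨hirr, ?_⟩
  intro Ñ hÑ
  have hsup : Δ ⊔ A = ⊤ := by
    rw [eq_top_iff]
    intro γ _
    obtain ⟨y, hy, a, ha, rfl⟩ := hsurj γ
    exact (Δ ⊔ A).mul_mem ((le_sup_left : Δ ≤ Δ ⊔ A) hy) ((le_sup_right : A ≤ Δ ⊔ A) ha)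
  set Ñ' : Subgroup Γ := Ñ.map Δ.subtype ⊔ A with hÑ'
  have hN'n : Ñ'.Normal := by
    apply normal_of_conj_mem_of_sup Δ A Ñ' hsup
    · intro d hd x hx
      have h1 : Ñ'.map (MulAut.conj d).toMonoidHom ≤ Ñ' := by
        rw [hÑ', Subgroup.map_sup]
        apply sup_le_sup
        · rintro _ ⟨_, ⟨n, hn, rfl⟩, rfl⟩
          exact ⟨(⟨d, hd⟩ : Δ) * n * (⟨d, hd⟩ : Δ)⁻¹, hÑ.conj_mem n hn ⟨d, hd⟩, rfl⟩
        · rintro _ ⟨y, hy, rfl⟩
          exact hA.conj_mem y hy d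
      exact h1 ⟨x, hx, rfl⟩
    · intro a ha x hx
      have ha' : a ∈ Ñ' := (le_sup_right : A ≤ Ñ') ha
      exact Ñ'.mul_mem (Ñ'.mul_mem ha' hx) (Ñ'.inv_mem ha')
  obtain ⟨β₁, e, hβ₁, he⟩ := hqp Ñ' hN'n
  obtain ⟨b, hb0, hb⟩ := irr_apply_one hβ
  have heN : ∀ x : Ñ', β x = (e : ℂ) * β₁ x := fun x => congrFun he x
  have he0 : (e : ℂ) ≠ 0 := by
    intro h0
    have := heN 1
    rw [h0, zero_mul] at this
    simp only [OneMemClass.coe_one] at this
    rw [hb] at this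
    exact hb0.ne' (by exact_mod_cast this)
  have hker₁ : ∀ a ∈ A.subgroupOf Ñ', β₁ a = β₁ 1 := by
    intro a ha
    have h1 := heN a
    have h2 := heN 1
    rw [hker a (Subgroup.mem_subgroupOf.mp ha)] at h1
    simp only [OneMemClass.coe_one] at h2
    rw [h2] at h1
    exact (mul_left_cancel₀ he0 h1).symm
  let f : Ñ →* Ñ' := MonoidHom.codRestrict (Δ.subtype.comp Ñ.subtype) Ñ'
    (fun y => (le_sup_left : Ñ.map Δ.subtype ≤ Ñ') (Subgroup.mem_map_of_mem _ y.2))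
  have hsurj' : ∀ x : Ñ', ∃ y : Ñ, ∃ a ∈ A.subgroupOf Ñ', x = f y * a := by
    intro x
    have hx : (x : Γ) ∈ Ñ.map Δ.subtype ⊔ A := x.2
    rw [← SetLike.mem_coe, Subgroup.mul_normal, Set.mem_mul] at hx
    obtain ⟨u, ⟨n, hn, rfl⟩, a, ha, hua⟩ := hx
    refine ⟨⟨n, hn⟩, ⟨a, (le_sup_right : A ≤ Ñ') ha⟩, Subgroup.mem_subgroupOf.mpr ha, ?_⟩
    apply Subtype.ext
    exact hua.symm
  have hirr' := res_irr (A.subgroupOf Ñ') f hsurj' hβ₁ hker₁
  refine ⟨β₁ ∘ f, e, hirr', ?_⟩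
  funext n
  exact heN (f n)

/-- quasi-primitivity passes to the Gallagher correspondent in a cover -/
theorem qp_cover {G : Type*} [Group G] [Fintype G] (N : Subgroup G) [hN : N.Normal] {θ : N → ℂ}
    (hθ : Cfsg.IsIrrCharacter N θ) {Γ : Type*} [Group Γ] [Fintype Γ] {π₁ : Γ →* G}
    {ι : N →* Γ} {π : Γ → ℂ} (h : IsCover N θ π₁ ι π) {χ : G → ℂ}
    (hqp : QP G χ) {β : Γ → ℂ} (hβ : Cfsg.IsIrrCharacter Γ β) (hβι : ∀ n : N, β (ι n) = β 1)
    (hprod : β * π = χ ∘ π₁) : QP Γ β := by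
  classical
  intro Ñ hÑ
  have hιn : ι.range.Normal := by
    constructor
    rintro _ ⟨n, rfl⟩ γ
    rw [h.conj γ n]
    exact ⟨_, rfl⟩
  set Ñ₁ : Subgroup Γ := Ñ ⊔ ι.range with hÑ₁
  have hN₁n : Ñ₁.Normal := inferInstance
  set N₁ : Subgroup G := Ñ₁.map π₁ with hN₁
  have hN₁n' : N₁.Normal := Subgroup.Normal.map hN₁n π₁ h.surj
  obtain ⟨ξ, c, hξ, hc⟩ := hqp N₁ hN₁n'
  let q : Ñ₁ →* N₁ := MonoidHom.codRestrict (π₁.comp Ñ₁.subtype) N₁
    (fun x => Subgroup.mem_map_of_mem π₁ x.2)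
  have hq : Function.Surjective q := by
    rintro ⟨y, x, hx, rfl⟩
    exact ⟨⟨x, hx⟩, rfl⟩
  have hξ' : Cfsg.IsIrrCharacter Ñ₁ (ξ ∘ q) := isIrrCharacter_comp_of_surjective hξ q hq
  have hπc := isCharacter_of_isIrrCharacter h.irr
  have hβc := isCharacter_of_isIrrCharacter hβ
  -- the restriction of `π` to `Ñ₁` and to `ι(N)` inside it
  let f : N →* Ñ₁ := MonoidHom.codRestrict ι Ñ₁ (fun n => (le_sup_right : ι.range ≤ Ñ₁) ⟨n, rfl⟩)
  have hπX : Cfsg.IsIrrCharacter Ñ₁ (fun x : Ñ₁ => π x) := by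
    apply irr_of_comp_irr f (IsCharacter.restrict hπc Ñ₁)
    have : (fun x : Ñ₁ => π x) ∘ f = θ := by
      funext n
      exact h.ext n
    rw [this]
    exact hθ
  let f' : N →* (ι.range.subgroupOf Ñ₁) := MonoidHom.codRestrict f _
    (fun n => Subgroup.mem_subgroupOf.mpr ⟨n, rfl⟩)
  have hπA : Cfsg.IsIrrCharacter (ι.range.subgroupOf Ñ₁)
      (fun a : ι.range.subgroupOf Ñ₁ => (fun x : Ñ₁ => π x) a) := by
    apply irr_of_comp_irr f' (IsCharacter.restrict (IsCharacter.restrict hπc Ñ₁) _)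
    have : (fun a : ι.range.subgroupOf Ñ₁ => (fun x : Ñ₁ => π x) a) ∘ f' = θ := by
      funext n
      exact h.ext n
    rw [this]
    exact hθ
  obtain ⟨b, hb0, hb⟩ := irr_apply_one hβ
  have hβX0 : (fun x : Ñ₁ => β x) ≠ 0 := by
    intro h0
    have := congrFun h0 1
    simp only [OneMemClass.coe_one, Pi.zero_apply] at this
    rw [hb] at this
    exact hb0.ne' (by exact_mod_cast this)
  have hβA : ∀ a ∈ ι.range.subgroupOf Ñ₁, (fun x : Ñ₁ => β x) a = (fun x : Ñ₁ => β x) 1 := by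
    intro a ha
    obtain ⟨n, hn⟩ := Subgroup.mem_subgroupOf.mp ha
    show β (a : Γ) = β ((1 : Ñ₁) : Γ)
    rw [← hn, hβι n]
    rfl
  have hprodX : (fun x : Ñ₁ => β x) * (fun x : Ñ₁ => π x) = (c : ℂ) • (ξ ∘ q) := by
    funext x
    have h1 := congrFun hprod (x : Γ)
    have h2 := congrFun hc (q x)
    simp only [Pi.mul_apply, Pi.smul_apply, smul_eq_mul, Function.comp_apply] at h1 h2 ⊢
    rw [h1, ← h2]
    rfl
  obtain ⟨β₁, e, hβ₁, hk₁, he⟩ := gal_hom (ι.range.subgroupOf Ñ₁) hπX hπA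
    (IsCharacter.restrict hβc Ñ₁) hβX0 hβA hξ' (c : ℂ) hprodX
  let incl : Ñ →* Ñ₁ := Subgroup.inclusion le_sup_left
  have hsurj : ∀ x : Ñ₁, ∃ y : Ñ, ∃ a ∈ ι.range.subgroupOf Ñ₁, x = incl y * a := by
    intro x
    have hx : (x : Γ) ∈ Ñ ⊔ ι.range := x.2
    rw [← SetLike.mem_coe, Subgroup.mul_normal, Set.mem_mul] at hx
    obtain ⟨u, hu, a, ha, hua⟩ := hx
    refine ⟨⟨u, hu⟩, ⟨a, (le_sup_right : ι.range ≤ Ñ₁) ha⟩, Subgroup.mem_subgroupOf.mpr ha, ?_⟩
    apply Subtype.ext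
    exact hua.symm
  have hirr' := res_irr (ι.range.subgroupOf Ñ₁) incl hsurj hβ₁ hk₁
  refine ⟨β₁ ∘ incl, e, hirr', ?_⟩
  funext n
  exact congrFun he (incl n)

end bergercover

end Cfsg.Agent.Lib.Helper2
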