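import Mathlib
import Cfsg.Agent.Lib.Helper2.GlaubCount
import Cfsg.Agent.Lib.Helper2.CharRatio
import Cfsg.Agent.Lib.Helper2.ItoConv
import Cfsg.Agent.Lib.Helper2.GoingDown

set_option autoImplicit false

/-! Auxiliary facts for invariant characters lying over invariant characters: the ramification
index divides the index, and versions of standard facts for two subgroups of an ambient group. -/

namespace Cfsg.Agent.Lib.Helper2

open scoped ComplexConjugate

universe u

/-- the multiplicity of an irreducible character of a normal subgroup in the restriction of an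
irreducible character divides the index -/
theorem mult_dvd_index {K : Type u} [Group K] [Fintype K] (L : Subgroup K) [hL : L.Normal]
    [Fintype L] {θ : K → ℂ} (hθ : Cfsg.IsIrrCharacter K θ) {φ : L → ℂ}
    (hφ : Cfsg.IsIrrCharacter L φ) (e : ℕ)
    (he : Cfsg.classInner (fun n : L => θ n) φ = (e : ℂ)) (he0 : e ≠ 0) : e ∣ L.index := by
  classical
  have hcon : Cfsg.classInner (fun n : L => θ n) φ ≠ 0 := by
    rw [he]
    exact_mod_cast he0
  obtain ⟨e', he'0, hsum⟩ := clifford_sum L hθ hφ hcon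
  have hmem : φ ∈ Finset.univ.image (fun k : K => conjFun L φ k) :=
    Finset.mem_image.mpr ⟨1, Finset.mem_univ _,
      conjFun_of_mem L (isClassFunction_of_isIrrCharacter hφ) L.one_mem⟩
  have hirr : ∀ ψ ∈ Finset.univ.image (fun k : K => conjFun L φ k),
      Cfsg.IsIrrCharacter L ψ := by
    intro ψ hψ
    obtain ⟨k, -, rfl⟩ := Finset.mem_image.mp hψ
    exact conjFun_irr L hφ k
  have hee : e' = e := by
    have h1 : Cfsg.classInner (fun n : L => θ n) φ = (e' : ℂ) := by
      rw [hsum, classInner_smul_left, classInner_sum_left, Finset.sum_eq_single φ]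
      · rw [classInner_irr_self hφ, mul_one]
      · intro ψ hψ hne
        exact classInner_irr_ne (hirr ψ hψ) hφ hne
      · intro h
        exact absurd hmem h
    rw [he] at h1
    exact_mod_cast h1.symm
  obtain ⟨dφ, hdφ0, hdφ⟩ := irr_apply_one hφ
  have hφ1 : φ 1 ≠ 0 := by
    rw [hdφ]
    exact_mod_cast hdφ0.ne'
  have h2 : θ 1 = (e' : ℂ) * ((Finset.univ.image (fun k : K => conjFun L φ k)).card : ℂ)
      * φ 1 := by
    have h3 := congrFun hsum 1
    simp only [Pi.smul_apply, Finset.sum_apply, smul_eq_mul] at h3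
    have h4 : ∀ ψ ∈ Finset.univ.image (fun k : K => conjFun L φ k), ψ 1 = φ 1 := by
      intro ψ hψ
      obtain ⟨k, -, rfl⟩ := Finset.mem_image.mp hψ
      rw [conjFun_apply]
      congr 1
      apply Subtype.ext
      simp
    rw [Finset.sum_congr rfl h4, Finset.sum_const, nsmul_eq_mul] at h3
    have h5 : θ ((1 : L) : K) = θ 1 := rfl
    rw [← h5, h3]
    ring
  obtain ⟨b, hb, hbd⟩ := degree_ratio L hθ hφ hcon
  have h6 : e' * (Finset.univ.image (fun k : K => conjFun L φ k)).card = b := by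
    have h7 : ((e' * (Finset.univ.image (fun k : K => conjFun L φ k)).card : ℕ) : ℂ) * φ 1
        = (b : ℂ) * φ 1 := by
      push_cast
      rw [← h2, hb]
    exact_mod_cast mul_right_cancel₀ hφ1 h7
  rw [← hee]
  exact (Dvd.intro _ h6).trans hbd

section sub

variable {Γ : Type u} [Group Γ]

/-- an irreducible character of a subgroup `N ≤ G` lies under an irreducible character of `G`
(both subgroups of an ambient group) -/
theorem exists_over_sub (G N : Subgroup Γ) [Fintype G] [Fintype N] (hNG : N ≤ G) (θ : N → ℂ)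
    (hθ : Cfsg.IsIrrCharacter N θ) :
    ∃ χ : G → ℂ, Cfsg.IsIrrCharacter G χ ∧
      Cfsg.classInner (χ ∘ Subgroup.inclusion hNG) θ ≠ 0 := by
  classical
  haveI : Fintype (N.subgroupOf G) := Fintype.ofFinite _
  let ε : N.subgroupOf G ≃* N := Subgroup.subgroupOfEquivOfLe hNG
  have hθ' : Cfsg.IsIrrCharacter (N.subgroupOf G) (θ ∘ ε) :=
    Cfsg.Agent.S1489.isIrrCharacter_comp_iso hθ ε
  obtain ⟨χ, hχ, hne⟩ := exists_irr_over (N.subgroupOf G) hθ'
  refine ⟨χ, hχ, ?_⟩
  have h1 : (fun h : N.subgroupOf G => χ h) = (χ ∘ Subgroup.inclusion hNG) ∘ ε := rfl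
  rw [h1, Cfsg.Agent.S1489.classInner_comp_iso] at hne
  exact hne

/-- the multiplicity of an irreducible character of a normal subgroup `D` of `C` in an
irreducible character of `C` divides the order of `C` (both subgroups of an ambient group) -/
theorem mult_dvd_sub (C D : Subgroup Γ) [Fintype C] [Fintype D] (hDC : D ≤ C)
    (hDn : ∀ c ∈ C, ∀ d ∈ D, c * d * c⁻¹ ∈ D) (β : C → ℂ) (hβ : Cfsg.IsIrrCharacter C β)
    (φ : D → ℂ) (hφ : Cfsg.IsIrrCharacter D φ) (e : ℕ)
    (he : Cfsg.classInner (β ∘ Subgroup.inclusion hDC) φ = (e : ℂ)) (he0 : e ≠ 0) :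
    e ∣ Nat.card C := by
  classical
  haveI : Fintype (D.subgroupOf C) := Fintype.ofFinite _
  haveI : (D.subgroupOf C).Normal := ⟨fun x hx c => by
    rw [Subgroup.mem_subgroupOf] at hx ⊢
    exact hDn c c.2 x hx⟩
  let ε : D.subgroupOf C ≃* D := Subgroup.subgroupOfEquivOfLe hDC
  have hφ' : Cfsg.IsIrrCharacter (D.subgroupOf C) (φ ∘ ε) :=
    Cfsg.Agent.S1489.isIrrCharacter_comp_iso hφ ε
  have h1 : (fun h : D.subgroupOf C => β h) = (β ∘ Subgroup.inclusion hDC) ∘ ε := rfl
  have h2 : Cfsg.classInner (fun h : D.subgroupOf C => β h) (φ ∘ ε) = (e : ℂ) := by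
    rw [h1, Cfsg.Agent.S1489.classInner_comp_iso]
    exact he
  exact (mult_dvd_index (D.subgroupOf C) hβ hφ' e h2 he0).trans (Subgroup.index_dvd_card _)

end sub

/-- expansion of a multiplicity through an intermediate group -/
theorem inner_comp_expand {G C₁ C : Type*} [Group G] [Group C₁] [Fintype C₁] [Group C]
    [Fintype C] [Fintype (Cfsg.IrrCharacter C₁)] (κ₁ : C₁ →* G) (κ₂ : C →* C₁) (χ : G → ℂ)
    (hχ : Cfsg.IsCharacter G χ) (β : C → ℂ) (hβ : Cfsg.IsCharacter C β) :
    ∃ a e : Cfsg.IrrCharacter C₁ → ℕ,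
      (∀ γ : Cfsg.IrrCharacter C₁, Cfsg.classInner (χ ∘ κ₁) γ = (a γ : ℂ)) ∧
      (∀ γ : Cfsg.IrrCharacter C₁, Cfsg.classInner ((γ : C₁ → ℂ) ∘ κ₂) β = (e γ : ℂ)) ∧
      Cfsg.classInner (χ ∘ (κ₁.comp κ₂)) β = ((∑ γ, a γ * e γ : ℕ) : ℂ) := by
  classical
  have hcl : Cfsg.IsClassFunction C₁ (χ ∘ κ₁) :=
    isClassFunction_of_isCharacter (IsCharacter.comp_hom hχ κ₁)
  have hexp := class_fun_expand (χ ∘ κ₁) hcl
  have he : ∀ γ : Cfsg.IrrCharacter C₁, ∃ e : ℕ,
      Cfsg.classInner ((γ : C₁ → ℂ) ∘ κ₂) β = (e : ℂ) := fun γ =>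
    classInner_isCharacter_nat (IsCharacter.comp_hom (isCharacter_of_isIrrCharacter γ.2) κ₂) hβ
  choose e he using he
  have ha : ∀ γ : Cfsg.IrrCharacter C₁, ∃ a : ℕ, Cfsg.classInner (χ ∘ κ₁) γ = (a : ℂ) :=
    fun γ => classInner_isCharacter_nat (IsCharacter.comp_hom hχ κ₁)
      (isCharacter_of_isIrrCharacter γ.2)
  choose a ha using ha
  refine ⟨a, e, ha, he, ?_⟩
  have h1 : χ ∘ (κ₁.comp κ₂)
      = ∑ γ : Cfsg.IrrCharacter C₁, Cfsg.classInner (χ ∘ κ₁) γ • ((γ : C₁ → ℂ) ∘ κ₂) := by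
    funext c
    have h2 := congrFun hexp (κ₂ c)
    simp only [Function.comp, MonoidHom.comp_apply, Finset.sum_apply, Pi.smul_apply] at h2 ⊢
    exact h2
  rw [h1, classInner_sum_left]
  push_cast
  apply Finset.sum_congr rfl
  intro γ _
  rw [classInner_smul_left, ha, he]

end Cfsg.Agent.Lib.Helper2
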