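import Mathlib
import Cfsg.Agent.Lib.Helper2.GlaubOverAux
import Cfsg.Agent.Lib.Helper2.WeightedFix

set_option autoImplicit false

/-! Coprime solvable action: an invariant irreducible character of an invariant normal subgroup
lies under an invariant irreducible character of the group. -/

namespace Cfsg.Agent.Lib.Helper2

open scoped ComplexConjugate

universe u

section glover

variable {Γ : Type u} [Group Γ]

/-- lying over is compatible with the Glauberman correspondence, in one direction -/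
theorem glaub_over (p : ℕ) [hp : Fact p.Prime] (G N P C D : Subgroup Γ)
    [Fintype G] [Fintype N] [Fintype C] [Fintype D]
    (hnormPN : ∀ s ∈ P, ∀ n ∈ N, s * n * s⁻¹ ∈ N) (j : ℕ)
    (hrelN : (P ⊓ Subgroup.centralizer (N : Set Γ)).relIndex P = p ^ j)
    (hNG : N ≤ G) (hCG : C ≤ G) (hDN : D ≤ N) (hDC : D ≤ C)
    (hDcent : D ≤ Subgroup.centralizer (P : Set Γ))
    (hGlN : IsGlaub p (Subgroup.inclusion hDN) (SInv N P))
    (χ : G → ℂ) (hχ : Cfsg.IsIrrCharacter G χ) (hχP : SInv G P χ)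
    (θ : N → ℂ) (hθ : Cfsg.IsIrrCharacter N θ) (hθP : SInv N P θ)
    (θs : Cfsg.IrrCharacter D) (mθ : ℕ)
    (hmθ : Cfsg.classInner (θ ∘ Subgroup.inclusion hDN) θs = (mθ : ℂ)) (hmθd : ¬ p ∣ mθ)
    (β : Cfsg.IrrCharacter C) (mβ : ℕ)
    (hmβ : Cfsg.classInner (χ ∘ Subgroup.inclusion hCG) β = (mβ : ℂ)) (hmβd : ¬ p ∣ mβ)
    (hβoth : ∀ γ : Cfsg.IrrCharacter C, γ ≠ β →
      ∃ m : ℕ, Cfsg.classInner (χ ∘ Subgroup.inclusion hCG) γ = (m : ℂ) ∧ p ∣ m)
    (e : ℕ) (he : Cfsg.classInner ((β : C → ℂ) ∘ Subgroup.inclusion hDC) θs = (e : ℂ))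
    (hed : ¬ p ∣ e) :
    Cfsg.classInner (χ ∘ Subgroup.inclusion hNG) θ ≠ 0 := by
  classical
  haveI := Fintype.ofFinite (Cfsg.IrrCharacter N)
  have hpp := hp.out
  obtain ⟨e', M, he', hM, hmod⟩ := glaub_comp_mult p (Subgroup.inclusion hCG)
    (Subgroup.inclusion hDC) χ (isCharacter_of_isIrrCharacter hχ) β mβ hmβ hβoth θs
    (isCharacter_of_isIrrCharacter θs.2)
  have hee : e' = e := by
    rw [he] at he'
    exact_mod_cast he'.symm
  subst hee
  have hMd : ¬ p ∣ M := by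
    intro hd
    have h1 : (p : ℤ) ∣ (mβ : ℤ) * e' := by
      have h2 : (M : ℤ) ≡ 0 [ZMOD p] := Int.modEq_zero_iff_dvd.mpr (by exact_mod_cast hd)
      exact Int.modEq_zero_iff_dvd.mp (hmod.symm.trans h2)
    rcases (Nat.prime_iff_prime_int.mp hpp).dvd_or_dvd h1 with h | h
    · exact hmβd (by exact_mod_cast h)
    · exact hed (by exact_mod_cast h)
  obtain ⟨a, b, ha, hb, hsum⟩ := inner_comp_expand (Subgroup.inclusion hNG)
    (Subgroup.inclusion hDN) χ (isCharacter_of_isIrrCharacter hχ) θs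
    (isCharacter_of_isIrrCharacter θs.2)
  have hcompeq : (Subgroup.inclusion hNG).comp (Subgroup.inclusion hDN)
      = (Subgroup.inclusion hCG).comp (Subgroup.inclusion hDC) := rfl
  rw [hcompeq, hM] at hsum
  have hMsum : M = ∑ η, a η * b η := by exact_mod_cast hsum
  intro hzero
  apply hMd
  let Q : Subgroup (MulAut N) := (conjHom N P hnormPN).range
  have hQ : IsPGroup p Q := isPGroup_conjRange p N P hnormPN j hrelN
  have hQx : ∀ q : Q, ∃ x ∈ P, ∀ n : N, ((((q : MulAut N)⁻¹) n : N) : Γ) = x * n * x⁻¹ := by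
    rintro ⟨q, ⟨y, rfl⟩⟩
    refine ⟨(y : Γ)⁻¹, P.inv_mem y.2, fun n => ?_⟩
    show (((conjHom N P hnormPN y)⁻¹ n : N) : Γ) = _
    rw [← map_inv, conjHom_apply]
    simp
  letI : MulAction Q (Cfsg.IrrCharacter N) :=
    { smul := fun q η => ⟨(η : N → ℂ) ∘ ⇑((q : MulAut N)⁻¹ : MulAut N), isIrrCharacter_comp_mulEquiv η.2 _⟩
      one_smul := fun η => Subtype.ext (by
        funext n
        show (η : N → ℂ) ((((1 : Q) : MulAut N)⁻¹) n) = (η : N → ℂ) n
        simp)
      mul_smul := fun q q' η => Subtype.ext (by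
        funext n
        show (η : N → ℂ) ((((q * q' : Q) : MulAut N)⁻¹) n)
          = (η : N → ℂ) (((q' : MulAut N)⁻¹) (((q : MulAut N)⁻¹) n))
        simp [mul_inv_rev, MulAut.mul_apply]) }
  have hsm : ∀ (q : Q) (η : Cfsg.IrrCharacter N),
      ((q • η : Cfsg.IrrCharacter N) : N → ℂ) = (η : N → ℂ) ∘ ⇑((q : MulAut N)⁻¹ : MulAut N) :=
    fun q η => rfl
  have hainv : ∀ (q : Q) (η : Cfsg.IrrCharacter N), a (q • η) = a η := by
    intro q η
    obtain ⟨x, hx, hqx⟩ := hQx q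
    have h1 : (χ ∘ Subgroup.inclusion hNG) ∘ ⇑((q : MulAut N)⁻¹ : MulAut N)
        = χ ∘ Subgroup.inclusion hNG := by
      funext n
      exact hχP x hx (Subgroup.inclusion hNG n)
        (Subgroup.inclusion hNG (((q : MulAut N)⁻¹) n)) (hqx n)
    have h2 := Cfsg.Agent.S1489.classInner_comp_iso ((q : MulAut N)⁻¹)
      (χ ∘ Subgroup.inclusion hNG) (η : N → ℂ)
    rw [h1] at h2
    have h3 : ((a (q • η) : ℕ) : ℂ) = (a η : ℂ) := by
      rw [← ha, ← ha, hsm]
      exact h2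
    exact_mod_cast h3
  have hbinv : ∀ (q : Q) (η : Cfsg.IrrCharacter N), b (q • η) = b η := by
    intro q η
    obtain ⟨x, hx, hqx⟩ := hQx q
    have h1 : ((q • η : Cfsg.IrrCharacter N) : N → ℂ) ∘ Subgroup.inclusion hDN
        = (η : N → ℂ) ∘ Subgroup.inclusion hDN := by
      funext d
      rw [hsm]
      show (η : N → ℂ) (((q : MulAut N)⁻¹) (Subgroup.inclusion hDN d))
        = (η : N → ℂ) (Subgroup.inclusion hDN d)
      have h4 := (Subgroup.mem_centralizer_iff.mp (hDcent d.2)) x hx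
      have h5 : ((q : MulAut N)⁻¹ : MulAut N) (Subgroup.inclusion hDN d)
          = Subgroup.inclusion hDN d := by
        apply Subtype.ext
        rw [hqx]
        show x * (d : Γ) * x⁻¹ = d
        rw [h4]
        group
      rw [h5]
    have h3 : ((b (q • η) : ℕ) : ℂ) = (b η : ℂ) := by rw [← hb, ← hb, h1]
    exact_mod_cast h3
  have hmodsum := sum_modEq_sum_fixed hQ (fun η => a η * b η) (fun q η => by
    show a (q • η) * b (q • η) = a η * b η
    rw [hainv, hbinv])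
  have haθ : a ⟨θ, hθ⟩ = 0 := by
    have h1 := ha ⟨θ, hθ⟩
    rw [hzero] at h1
    exact_mod_cast h1.symm
  have hfix0 : ∀ η ∈ Finset.univ.filter (fun η : Cfsg.IrrCharacter N => ∀ q : Q, q • η = η),
      p ∣ a η * b η := by
    intro η hη
    by_cases hηθ : η = ⟨θ, hθ⟩
    · rw [hηθ, haθ, zero_mul]
      exact dvd_zero p
    · apply Dvd.dvd.mul_left
      by_contra hnd
      apply hηθ
      have hηP : SInv N P (η : N → ℂ) := by
        intro x hx n n' hn
        have hfix := (Finset.mem_filter.mp hη).2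
          ⟨conjHom N P hnormPN ⟨x⁻¹, P.inv_mem hx⟩, ⟨_, rfl⟩⟩
        have h1 := congrArg (fun ζ : Cfsg.IrrCharacter N => (ζ : N → ℂ) n) hfix
        simp only [hsm] at h1
        have h2 : ((conjHom N P hnormPN ⟨x⁻¹, P.inv_mem hx⟩)⁻¹ n) = n' := by
          apply Subtype.ext
          rw [← map_inv, conjHom_apply, hn]
          simp
        rw [← h2]
        exact h1
      exact Subtype.ext (hGlN.2.1 η θ η.2 hθ hηP hθP θs (b η) mθ (hb η) hnd hmθ hmθd)
  have hp0 : (∑ η ∈ Finset.univ.filter (fun η : Cfsg.IrrCharacter N => ∀ q : Q, q • η = η),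
      a η * b η) ≡ 0 [MOD p] := (Nat.modEq_zero_iff_dvd).mpr (Finset.dvd_sum hfix0)
  rw [hMsum]
  exact (Nat.modEq_zero_iff_dvd).mp (hmodsum.trans hp0)

end glover

end Cfsg.Agent.Lib.Helper2
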