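import Mathlib
import Cfsg.Agent.Lib.Helper2.GlaubOver
import Cfsg.Agent.Lib.Helper2.GlaubCount
import Cfsg.Agent.Lib.Helper2.GlaubPQuot

set_option autoImplicit false

/-! Coprime solvable action: an invariant irreducible character of an invariant normal subgroup
lies under an invariant irreducible character of the group; the induction. -/

namespace Cfsg.Agent.Lib.Helper2

open scoped ComplexConjugate

universe u

section gloverind

variable {Γ : Type u} [Group Γ]

/-- **coprime solvable action**: an invariant irreducible character of an invariant normal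
subgroup lies under an invariant irreducible character; by induction on the index of the
kernel of the action -/
theorem inv_over_aux [Finite Γ] : ∀ (n : ℕ) (G N S : Subgroup Γ) [Fintype G] [Fintype N]
    (_ : ∀ s ∈ S, ∀ g ∈ G, s * g * s⁻¹ ∈ G) (hNG : N ≤ G)
    (_ : ∀ g ∈ G, ∀ n ∈ N, g * n * g⁻¹ ∈ N) (_ : ∀ s ∈ S, ∀ n ∈ N, s * n * s⁻¹ ∈ N)
    (_ : Group.IsSolvable S)
    (_ : (S ⊓ Subgroup.centralizer (G : Set Γ)).relIndex S = n)
    (_ : (Nat.card G).Coprime n) (θ : N → ℂ) (_ : Cfsg.IsIrrCharacter N θ)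
    (_ : SInv N S θ),
    ∃ χ : G → ℂ, Cfsg.IsIrrCharacter G χ ∧
      Cfsg.classInner (χ ∘ Subgroup.inclusion hNG) θ ≠ 0 ∧ SInv G S χ := by
  intro n
  induction n using Nat.strong_induction_on with
  | _ n ih =>
    intro G N S _ _ hnorm hNG hNnormal hNS hsolv hrel hcop θ hθ hθS
    by_cases h1 : S ≤ Subgroup.centralizer (G : Set Γ)
    · have hfix : ∀ s ∈ S, ∀ g g' : G, (g' : Γ) = s * g * s⁻¹ → g' = g := by
        intro s hs g g' hg
        apply Subtype.ext
        rw [hg, ← (Subgroup.mem_centralizer_iff.mp (h1 hs)) g g.2]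
        group
      obtain ⟨χ, hχ, hne⟩ := exists_over_sub G N hNG θ hθ
      refine ⟨χ, hχ, hne, ?_⟩
      intro s hs g g' hg
      rw [hfix s hs g g' hg]
    · obtain ⟨K, hK⟩ : ∃ K : Subgroup Γ, K = S ⊓ Subgroup.centralizer (G : Set Γ) := ⟨_, rfl⟩
      have hKS : K ≤ S := hK ▸ inf_le_left
      have hKn := kernel_normal G S K hnorm hK
      have hne : ¬ S ≤ K := fun h => h1 (h.trans (hK ▸ inf_le_right))
      obtain ⟨p, k, P, hp, hk, hKP, hPS, hPn, hrelP⟩ := exists_normal_pquot S K hsolv hKS hKn hne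
      haveI : Fact p.Prime := ⟨hp⟩
      have hKP' : P ⊓ Subgroup.centralizer (G : Set Γ) = K := by
        rw [hK]
        exact le_antisymm (inf_le_inf_right _ hPS) (le_inf (hK ▸ hKP) inf_le_right)
      have hpn : p ∣ n := by
        have h2 := Subgroup.relIndex_mul_relIndex K P S hKP hPS
        rw [← hrel, ← hK, ← h2, hrelP]
        exact Dvd.dvd.mul_right (dvd_pow_self p hk.ne') _
      have hcopG : ¬ p ∣ Nat.card G := by
        intro hd
        have h3 := Nat.dvd_gcd hd hpn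
        rw [Nat.Coprime.gcd_eq_one hcop] at h3
        exact hp.one_lt.ne' (Nat.dvd_one.mp h3)
      have hcopN : ¬ p ∣ Nat.card N := fun hd => hcopG (hd.trans (Subgroup.card_dvd_of_le hNG))
      obtain ⟨C, hC⟩ : ∃ C : Subgroup Γ, C = G ⊓ Subgroup.centralizer (P : Set Γ) := ⟨_, rfl⟩
      obtain ⟨D, hD⟩ : ∃ D : Subgroup Γ, D = N ⊓ Subgroup.centralizer (P : Set Γ) := ⟨_, rfl⟩
      haveI : Fintype C := Fintype.ofFinite C
      haveI : Fintype D := Fintype.ofFinite D
      have hCG : C ≤ G := hC ▸ inf_le_left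
      have hDN : D ≤ N := hD ▸ inf_le_left
      have hDC : D ≤ C := by
        rw [hC, hD]
        exact inf_le_inf_right _ hNG
      have hDcent : D ≤ Subgroup.centralizer (P : Set Γ) := hD ▸ inf_le_right
      have hCcent : C ≤ Subgroup.centralizer (P : Set Γ) := hC ▸ inf_le_right
      have hnormP : ∀ s ∈ P, ∀ g ∈ G, s * g * s⁻¹ ∈ G := fun s hs => hnorm s (hPS hs)
      have hnormPN : ∀ s ∈ P, ∀ g ∈ N, s * g * s⁻¹ ∈ N := fun s hs => hNS s (hPS hs)
      have hrelP' : (P ⊓ Subgroup.centralizer (G : Set Γ)).relIndex P = p ^ k := by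
        rw [hKP']
        exact hrelP
      have hGlG := glaub_pquot p k G P C hnormP hcopG hrelP' hC hCG
      obtain ⟨j, hj⟩ : ∃ j, (P ⊓ Subgroup.centralizer (N : Set Γ)).relIndex P = p ^ j := by
        have h2 : (P ⊓ Subgroup.centralizer (N : Set Γ)).relIndex P
            ∣ (P ⊓ Subgroup.centralizer (G : Set Γ)).relIndex P :=
          Subgroup.relIndex_dvd_of_le_left P
            (inf_le_inf_left P (Subgroup.centralizer_le hNG))
        rw [hrelP'] at h2
        obtain ⟨j, -, hj⟩ := (Nat.dvd_prime_pow hp).mp h2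
        exact ⟨j, hj⟩
      have hGlN := glaub_pquot p j N P D hnormPN hcopN hj hD hDN
      have hθP : SInv N P θ := fun x hx => hθS x (hPS hx)
      obtain ⟨θs, ⟨mθ, hmθ, hmθ'⟩, -⟩ := hGlN.1 θ hθ hθP
      have hmθd : ¬ p ∣ mθ := not_dvd_of_pm_one p hp mθ hmθ'
      have hθsS : SInv D S θs :=
        glaub_inv_down p N S P D hNS hPS hPn hD hDN hGlN θ hθ hθS θs mθ hmθ hmθd
      have hDnormal : ∀ c ∈ C, ∀ d ∈ D, c * d * c⁻¹ ∈ D := by
        intro c hc d hd
        rw [hD]
        refine ⟨hNnormal c (hCG hc) d (hDN hd), ?_⟩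
        exact Subgroup.mul_mem _ (Subgroup.mul_mem _ (hCcent hc) (hDcent hd))
          (Subgroup.inv_mem _ (hCcent hc))
      obtain ⟨hlt, hdvd⟩ := kernel_index_lt G S P C p k hp hk hPS (hK ▸ hKP) (hK ▸ hrelP) hC
      rw [hrel] at hlt hdvd
      have hcop' : (Nat.card C).Coprime ((S ⊓ Subgroup.centralizer (C : Set Γ)).relIndex S) :=
        Nat.Coprime.coprime_dvd_left (Subgroup.card_dvd_of_le hCG)
          (Nat.Coprime.coprime_dvd_right hdvd hcop)
      obtain ⟨β, hβ, hβne, hβS⟩ := ih _ hlt C D S (normalizes_cent G S P C hnorm hPn hC) hDC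
        hDnormal (normalizes_cent N S P D hNS hPn hD) hsolv rfl hcop' θs θs.2 hθsS
      obtain ⟨e, he⟩ := classInner_isCharacter_nat
        (IsCharacter.comp_hom (isCharacter_of_isIrrCharacter hβ) (Subgroup.inclusion hDC))
        (isCharacter_of_isIrrCharacter θs.2)
      have he0 : e ≠ 0 := by
        intro h0
        apply hβne
        rw [he, h0]
        simp
      have hed : ¬ p ∣ e := by
        intro hd
        exact hcopG ((hd.trans (mult_dvd_sub C D hDC hDnormal β hβ θs θs.2 e he he0)).trans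
          (Subgroup.card_dvd_of_le hCG))
      obtain ⟨χ, hχ, hχP, mβ, hmβ, hmβd⟩ := hGlG.2.2 ⟨β, hβ⟩
      have hχS : SInv G S χ :=
        glaub_inv_up p G S P C hnorm hPn hC hCG hGlG χ hχ hχP ⟨β, hβ⟩ hβS mβ hmβ hmβd
      obtain ⟨β₀, -, hoth⟩ := hGlG.1 χ hχ hχP
      have hb1 : (⟨β, hβ⟩ : Cfsg.IrrCharacter C) = β₀ := by
        by_contra hne
        obtain ⟨m₂, hm₂, hd⟩ := hoth _ hne
        rw [hmβ] at hm₂
        have hmm : mβ = m₂ := by exact_mod_cast hm₂
        exact hmβd (hmm ▸ hd)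
      subst hb1
      refine ⟨χ, hχ, ?_, hχS⟩
      exact glaub_over p G N P C D hnormPN j hj hNG hCG hDN hDC hDcent hGlN χ hχ hχP θ hθ hθP
        θs mθ hmθ hmθd ⟨β, hβ⟩ mβ hmβ hmβd hoth e he hed

end gloverind

end Cfsg.Agent.Lib.Helper2
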