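import Mathlib
import Cfsg.Agent.Lib.Helper2.GoingDown
import Cfsg.Agent.Lib.Helper2.GlaubOverInd
import Cfsg.Agent.Lib.Helper2.CharCover2
import Cfsg.Agent.Lib.Helper2.CharProd
import Cfsg.Agent.Lib.Helper2.ItoConv

set_option autoImplicit false

/-! Coprime action on a solvable group: an invariant irreducible character of an invariant
normal subgroup lies under an invariant irreducible character (no solvability of the acting
group needed).  Proof by climbing a chain with abelian factors and averaging a cocycle with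
values in the dual of the abelian factor. -/

namespace Cfsg.Agent.Lib.Helper2

open scoped ComplexConjugate

section abs

variable {K : Type*} [Group K] [Fintype K]

/-- summing the inner products of the twists of `θ` with `θ'` over the dual of an abelian
quotient gives the inner product of the restrictions to the kernel -/
theorem sum_dual_inner2 {Q : Type*} [CommGroup Q] [Finite Q] (f : K →* Q)
    (hf : Function.Surjective f) (L : Subgroup K) (hL : ∀ k, f k = 1 ↔ k ∈ L) [Fintype L]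
    [Fintype (Q →* ℂˣ)] (θ θ' : K → ℂ) :
    ∑ lam : Q →* ℂˣ, Cfsg.classInner (fun k => (lam (f k) : ℂ) * θ k) θ'
      = Cfsg.classInner (fun x : L => θ x) (fun x : L => θ' x) := by
  classical
  have hcard : Nat.card K = Nat.card Q * Nat.card L := by
    have h1 : L = f.ker := by
      ext k
      rw [MonoidHom.mem_ker, hL]
    have h2 := Subgroup.index_ker f
    rw [MonoidHom.range_eq_top.mpr hf, Subgroup.card_top] at h2
    rw [← h2, h1]
    exact (Subgroup.index_mul_card f.ker).symm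
  have hL0 : (Nat.card L : ℂ) ≠ 0 := card_ne_zero_complex L
  have hQ0 : (Nat.card Q : ℂ) ≠ 0 := card_ne_zero_complex Q
  simp only [classInner_def]
  rw [← Finset.mul_sum, Finset.sum_comm]
  have h3 : ∀ k : K, ∑ lam : Q →* ℂˣ, (lam (f k) : ℂ) * θ k * conj (θ' k)
      = if k ∈ L then (Nat.card Q : ℂ) * (θ k * conj (θ' k)) else 0 := by
    intro k
    have : ∑ lam : Q →* ℂˣ, (lam (f k) : ℂ) * θ k * conj (θ' k)
        = (∑ lam : Q →* ℂˣ, (lam (f k) : ℂ)) * (θ k * conj (θ' k)) := by
      rw [Finset.sum_mul]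
      exact Finset.sum_congr rfl (fun _ _ => by ring)
    rw [this, sum_dual_apply]
    by_cases hk : k ∈ L
    · rw [if_pos ((hL k).mpr hk), if_pos hk]
    · rw [if_neg (fun h => hk ((hL k).mp h)), if_neg hk, zero_mul]
  rw [Finset.sum_congr rfl (fun k _ => h3 k), ← Finset.sum_filter, ← Finset.mul_sum,
    ← sum_subgroup_eq_filter L (fun g => θ g * conj (θ' g)), hcard]
  push_cast
  field_simp

/-- two characters with a common irreducible constituent have nonzero inner product -/
theorem inner_of_common {Φ Ψ θ : K → ℂ} (hΦ : Cfsg.IsCharacter K Φ) (hΨ : Cfsg.IsCharacter K Ψ)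
    (hθ : Cfsg.IsIrrCharacter K θ) (h1 : Cfsg.classInner Φ θ ≠ 0)
    (h2 : Cfsg.classInner Ψ θ ≠ 0) : Cfsg.classInner Φ Ψ ≠ 0 := by
  have hΔ1 := IsCharacter.sub_irr hΦ hθ h1
  have hΔ2 := IsCharacter.sub_irr hΨ hθ h2
  have hθc := isCharacter_of_isIrrCharacter hθ
  obtain ⟨Δ₁, hΔ₁⟩ : ∃ Δ₁, Δ₁ = Φ - θ := ⟨_, rfl⟩
  obtain ⟨Δ₂, hΔ₂⟩ : ∃ Δ₂, Δ₂ = Ψ - θ := ⟨_, rfl⟩
  rw [← hΔ₁] at hΔ1
  rw [← hΔ₂] at hΔ2
  have e1 : Φ = θ + Δ₁ := by rw [hΔ₁]; funext x; simp
  have e2 : Ψ = θ + Δ₂ := by rw [hΔ₂]; funext x; simp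
  obtain ⟨n1, hn1⟩ := classInner_isCharacter_nat hθc hΔ2
  obtain ⟨n2, hn2⟩ := classInner_isCharacter_nat hΔ1 hθc
  obtain ⟨n3, hn3⟩ := classInner_isCharacter_nat hΔ1 hΔ2
  rw [e1, e2, classInner_add_left, classInner_add_right, classInner_add_right,
    classInner_irr_self hθ, hn1, hn2, hn3]
  have h : ((1 + n1 + (n2 + n3) : ℕ) : ℂ) ≠ 0 := by
    exact_mod_cast (by omega : 1 + n1 + (n2 + n3) ≠ 0)
  push_cast at h
  exact h

/-- the dual of an abelian quotient `K/L` acts transitively on the irreducible characters of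
`K` lying over a given irreducible character of `L` -/
theorem dual_trans (L : Subgroup K) [hL : L.Normal] [Fintype L]
    (hab : ∀ a b : K, a * b * a⁻¹ * b⁻¹ ∈ L)
    {η η' : K → ℂ} (hη : Cfsg.IsIrrCharacter K η) (hη' : Cfsg.IsIrrCharacter K η')
    {θ : L → ℂ} (hθ : Cfsg.IsIrrCharacter L θ)
    (h1 : Cfsg.classInner (fun x : L => η x) θ ≠ 0)
    (h2 : Cfsg.classInner (fun x : L => η' x) θ ≠ 0) :
    ∃ lam : K →* ℂˣ, (∀ x ∈ L, lam x = 1) ∧ η' = (fun k => (lam k : ℂ)) * η := by
  classical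
  let _ : CommGroup (K ⧸ L) := quotComm L hab
  have := Fintype.ofFinite ((K ⧸ L) →* ℂˣ)
  have hmk : ∀ k : K, QuotientGroup.mk' L k = 1 ↔ k ∈ L := fun k => QuotientGroup.eq_one_iff k
  have hdual := sum_dual_inner2 (QuotientGroup.mk' L) (QuotientGroup.mk'_surjective L) L hmk η η'
  have hne : Cfsg.classInner (fun x : L => η x) (fun x : L => η' x) ≠ 0 :=
    inner_of_common (IsCharacter.restrict (isCharacter_of_isIrrCharacter hη) L)
      (IsCharacter.restrict (isCharacter_of_isIrrCharacter hη') L) hθ h1 h2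
  rw [← hdual] at hne
  obtain ⟨ω, -, hω⟩ := Finset.exists_ne_zero_of_sum_ne_zero hne
  let lam : K →* ℂˣ := ω.comp (QuotientGroup.mk' L)
  refine ⟨lam, fun x hx => ?_, ?_⟩
  · show ω (QuotientGroup.mk' L x) = 1
    rw [(hmk x).mpr hx, map_one]
  · have hirr : Cfsg.IsIrrCharacter K ((fun k => (lam k : ℂ)) * η) := isIrrCharacter_hom_mul lam hη
    by_contra hcon
    apply hω
    have h3 : (fun k => (ω (QuotientGroup.mk' L k) : ℂ) * η k) = (fun k => (lam k : ℂ)) * η := rfl
    rw [h3]
    exact classInner_irr_ne hirr hη' (fun h => hcon h.symm)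

/-- averaging: a group acting on `K`, stabilizing the normal subgroup `L` with abelian quotient
of order prime to the order of the acting group, and fixing `θ ∈ Irr(L)`, fixes some irreducible
character of `K` over `θ` -/
theorem avg_abs {𝒮 : Type*} [Group 𝒮] [Fintype 𝒮] (a : 𝒮 →* MulAut K)
    (L : Subgroup K) [hL : L.Normal] [Fintype L]
    (hab : ∀ x y : K, x * y * x⁻¹ * y⁻¹ ∈ L)
    (haL : ∀ s : 𝒮, ∀ x ∈ L, a s x ∈ L)
    (hcop : (L.index).Coprime (Fintype.card 𝒮))
    {θ : L → ℂ} (hθ : Cfsg.IsIrrCharacter L θ)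
    (hinv : ∀ (s : 𝒮) (x : L), θ ⟨a s x, haL s x x.2⟩ = θ x) :
    ∃ η : K → ℂ, Cfsg.IsIrrCharacter K η ∧ Cfsg.classInner (fun x : L => η x) θ ≠ 0 ∧
      ∀ (s : 𝒮) (k : K), η (a s k) = η k := by
  classical
  obtain ⟨η₀, hη₀, hcon⟩ := exists_irr_over L hθ
  have hstep : ∀ s : 𝒮, ∃ lam : K →* ℂˣ, (∀ x ∈ L, lam x = 1) ∧
      (η₀ ∘ (a s)) = (fun k => (lam k : ℂ)) * η₀ := by
    intro s
    have hirr : Cfsg.IsIrrCharacter K (η₀ ∘ (a s)) := isIrrCharacter_comp_mulEquiv hη₀ (a s)
    have hover : Cfsg.classInner (fun x : L => (η₀ ∘ (a s)) x) θ ≠ 0 := by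
      have h1 : Cfsg.classInner (fun x : L => (η₀ ∘ (a s)) x) θ
          = Cfsg.classInner (fun x : L => η₀ x) θ := by
        let αL : L ≃* L :=
          { toFun := fun x => ⟨a s x, haL s x x.2⟩
            invFun := fun x => ⟨a s⁻¹ x, haL s⁻¹ x x.2⟩
            left_inv := fun x => by ext; simp
            right_inv := fun x => by ext; simp
            map_mul' := fun x y => by ext; simp }
        have hαL : ∀ x : L, ((αL x : L) : K) = a s x := fun x => rfl
        rw [classInner_def, classInner_def]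
        congr 1
        apply Fintype.sum_equiv αL.toEquiv
        intro x
        show η₀ (a s x) * conj (θ x) = η₀ ((αL x : L) : K) * conj (θ (αL x))
        rw [hαL]
        congr 2
        exact (hinv s x).symm
      rw [h1]; exact hcon
    exact dual_trans L hab hη₀ hirr hθ hcon hover
  choose c hcL hc using hstep
  set n := Fintype.card 𝒮 with hn
  set q := L.index with hq
  have hq0 : q ≠ 0 := Subgroup.index_ne_zero_of_finite
  have hpow : ∀ (lam : K →* ℂˣ), (∀ x ∈ L, lam x = 1) → ∀ k : K, lam k ^ q = 1 := by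
    intro lam hlam k
    rw [← map_pow]
    exact hlam _ (Subgroup.pow_index_mem L k)
  obtain ⟨j, hj⟩ : ∃ j : ℕ, n * j ≡ 1 [MOD q] := by
    by_cases hq1 : q = 1
    · exact ⟨0, by rw [hq1]; exact Nat.modEq_one⟩
    · have hq2 : 1 < q := by omega
      obtain ⟨j, -, hj⟩ := Nat.exists_mul_mod_eq_one_of_coprime hcop.symm hq2
      refine ⟨j, ?_⟩
      show n * j % q = 1 % q
      rw [hj, Nat.mod_eq_of_lt hq2]
  let b : K →* ℂˣ := ∏ s : 𝒮, c s
  have hbapp : ∀ k : K, b k = ∏ s : 𝒮, c s k := fun k => MonoidHom.finsetProd_apply _ _ k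
  have hbL : ∀ x ∈ L, b x = 1 := by
    intro x hx
    rw [hbapp]
    exact Finset.prod_eq_one (fun s _ => hcL s x hx)
  have hcoc : ∀ (s t : 𝒮) (k : K), η₀ k ≠ 0 → c (s * t) k = c s (a t k) * c t k := by
    intro s t k hk
    have h1 := congrFun (hc (s * t)) k
    have h2 := congrFun (hc s) (a t k)
    have h3 := congrFun (hc t) k
    simp only [Pi.mul_apply, Function.comp_apply] at h1 h2 h3
    rw [map_mul, MulAut.mul_apply, h2, h3] at h1
    have h4 : ((c (s * t) k : ℂˣ) : ℂ) = ((c s (a t k) : ℂˣ) : ℂ) * ((c t k : ℂˣ) : ℂ) :=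
      mul_right_cancel₀ hk (by rw [← h1]; ring)
    exact Units.ext (by rw [h4, Units.val_mul])
  have hb : ∀ (t : 𝒮) (k : K), η₀ k ≠ 0 → b k = b (a t k) * c t k ^ n := by
    intro t k hk
    rw [hbapp, hbapp]
    calc ∏ s : 𝒮, c s k = ∏ s : 𝒮, c (s * t) k :=
          (Fintype.prod_equiv (Equiv.mulRight t) (fun s => c (s * t) k) (fun s => c s k)
            (fun s => rfl)).symm
      _ = ∏ s : 𝒮, (c s (a t k) * c t k) := Finset.prod_congr rfl (fun s _ => hcoc s t k hk)
      _ = (∏ s : 𝒮, c s (a t k)) * c t k ^ n := by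
          rw [Finset.prod_mul_distrib, Finset.prod_const, Finset.card_univ]
  let μ : K →* ℂˣ := b ^ j
  have hμapp : ∀ k : K, μ k = b k ^ j := fun k => rfl
  refine ⟨(fun k => (μ k : ℂ)) * η₀, isIrrCharacter_hom_mul μ hη₀, ?_, ?_⟩
  · have h1 : (fun x : L => ((fun k => (μ k : ℂ)) * η₀) x) = fun x : L => η₀ x := by
      funext x
      show (μ x : ℂ) * η₀ x = η₀ x
      rw [hμapp, hbL x x.2, one_pow, Units.val_one, one_mul]
    rw [h1]; exact hcon
  · intro t k
    show (μ (a t k) : ℂ) * η₀ (a t k) = (μ k : ℂ) * η₀ k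
    have h3 := congrFun (hc t) k
    simp only [Pi.mul_apply, Function.comp_apply] at h3
    rw [h3]
    by_cases hk : η₀ k = 0
    · rw [hk]; ring
    · have h4 : μ k = μ (a t k) * c t k := by
        rw [hμapp, hμapp, hb t k hk, mul_pow, ← pow_mul]
        congr 1
        have h5 : c t k ^ (n * j) = c t k ^ 1 := by
          rw [pow_eq_pow_iff_modEq]
          exact hj.of_dvd (orderOf_dvd_of_pow_eq_one (hpow (c t) (hcL t) k))
        rw [h5, pow_one]
      rw [h4, Units.val_mul]
      ring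

end abs

section amb

universe u

variable {Γ : Type u} [Group Γ]

/-- transitivity of "lying over" -/
theorem over_trans (G M N : Subgroup Γ) [Fintype G] [Fintype M] [Fintype N] (hNM : N ≤ M)
    (hMG : M ≤ G) {χ : G → ℂ} (hχ : Cfsg.IsIrrCharacter G χ) {η : M → ℂ}
    (hη : Cfsg.IsIrrCharacter M η) {θ : N → ℂ} (hθ : Cfsg.IsIrrCharacter N θ)
    (h1 : Cfsg.classInner (χ ∘ Subgroup.inclusion hMG) η ≠ 0)
    (h2 : Cfsg.classInner (η ∘ Subgroup.inclusion hNM) θ ≠ 0) :
    Cfsg.classInner (χ ∘ Subgroup.inclusion (hNM.trans hMG)) θ ≠ 0 := by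
  have hΘ : Cfsg.IsCharacter M (χ ∘ Subgroup.inclusion hMG) :=
    IsCharacter.comp_hom (isCharacter_of_isIrrCharacter hχ) (Subgroup.inclusion hMG)
  have hΔ := IsCharacter.sub_irr hΘ hη h1
  have hΔN : Cfsg.IsCharacter N ((χ ∘ Subgroup.inclusion hMG - η) ∘ Subgroup.inclusion hNM) :=
    IsCharacter.comp_hom hΔ (Subgroup.inclusion hNM)
  have hηN : Cfsg.IsCharacter N (η ∘ Subgroup.inclusion hNM) :=
    IsCharacter.comp_hom (isCharacter_of_isIrrCharacter hη) (Subgroup.inclusion hNM)
  have hθc := isCharacter_of_isIrrCharacter hθ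
  obtain ⟨n1, hn1⟩ := classInner_isCharacter_nat hηN hθc
  obtain ⟨n2, hn2⟩ := classInner_isCharacter_nat hΔN hθc
  have e : χ ∘ Subgroup.inclusion (hNM.trans hMG)
      = η ∘ Subgroup.inclusion hNM
        + (χ ∘ Subgroup.inclusion hMG - η) ∘ Subgroup.inclusion hNM := by
    funext x
    simp only [Function.comp_apply, Pi.add_apply, Pi.sub_apply]
    have : Subgroup.inclusion hMG (Subgroup.inclusion hNM x)
        = Subgroup.inclusion (hNM.trans hMG) x := rfl
    rw [this]
    ring
  rw [e, classInner_add_left, hn1, hn2]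
  rw [hn1] at h2
  have h3 : n1 ≠ 0 := by
    intro h0
    apply h2
    rw [h0]; simp
  have h : ((n1 + n2 : ℕ) : ℂ) ≠ 0 := by
    exact_mod_cast (by omega : n1 + n2 ≠ 0)
  push_cast at h
  exact h

/-- the averaging step in ambient form -/
theorem avg_step [Finite Γ] (G L S : Subgroup Γ) [Fintype G] [Fintype L] (hLG : L ≤ G)
    (hLn : ∀ g ∈ G, ∀ l ∈ L, g * l * g⁻¹ ∈ L)
    (hab : ∀ x ∈ G, ∀ y ∈ G, x * y * x⁻¹ * y⁻¹ ∈ L)
    (hSG : ∀ s ∈ S, ∀ g ∈ G, s * g * s⁻¹ ∈ G) (hSL : ∀ s ∈ S, ∀ l ∈ L, s * l * s⁻¹ ∈ L)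
    (hcop : (L.relIndex G).Coprime (Nat.card S))
    (θ : L → ℂ) (hθ : Cfsg.IsIrrCharacter L θ) (hθS : SInv L S θ) :
    ∃ η : G → ℂ, Cfsg.IsIrrCharacter G η ∧
      Cfsg.classInner (η ∘ Subgroup.inclusion hLG) θ ≠ 0 ∧ SInv G S η := by
  classical
  haveI : Fintype S := Fintype.ofFinite S
  haveI hLn' : (L.subgroupOf G).Normal := ⟨fun n hn g => by
    rw [Subgroup.mem_subgroupOf] at hn ⊢
    exact hLn g g.2 n hn⟩
  haveI : Fintype (L.subgroupOf G) := Fintype.ofFinite _
  let ε : L.subgroupOf G ≃* L := Subgroup.subgroupOfEquivOfLe hLG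
  have hε : ∀ x : L.subgroupOf G, ((ε x : L) : Γ) = ((x : G) : Γ) := fun x => rfl
  have hθ' : Cfsg.IsIrrCharacter (L.subgroupOf G) (θ ∘ ε) :=
    Cfsg.Agent.S1489.isIrrCharacter_comp_iso hθ ε
  have hab' : ∀ x y : G, x * y * x⁻¹ * y⁻¹ ∈ L.subgroupOf G := by
    intro x y
    rw [Subgroup.mem_subgroupOf]
    exact hab x x.2 y y.2
  have haL : ∀ s : S, ∀ x ∈ L.subgroupOf G, conjHom G S hSG s x ∈ L.subgroupOf G := by
    intro s x hx
    rw [Subgroup.mem_subgroupOf] at hx ⊢
    rw [conjHom_apply]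
    exact hSL s s.2 x hx
  have hcop' : ((L.subgroupOf G).index).Coprime (Fintype.card S) := by
    rw [← Nat.card_eq_fintype_card]
    exact hcop
  have hinv' : ∀ (s : S) (x : L.subgroupOf G),
      (θ ∘ ε) ⟨conjHom G S hSG s x, haL s x x.2⟩ = (θ ∘ ε) x := by
    intro s x
    show θ (ε ⟨conjHom G S hSG s x, haL s x x.2⟩) = θ (ε x)
    apply hθS s s.2 (ε x)
    rw [hε, hε]
    exact conjHom_apply G S hSG s x
  obtain ⟨η, hη, hover, hinv⟩ := avg_abs (conjHom G S hSG) (L.subgroupOf G) hab' haL hcop' hθ' hinv'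
  refine ⟨η, hη, ?_, ?_⟩
  · have h1 : (fun h : L.subgroupOf G => η h) = (η ∘ Subgroup.inclusion hLG) ∘ ε := rfl
    rw [h1, Cfsg.Agent.S1489.classInner_comp_iso] at hover
    exact hover
  · intro s hs g g' hg
    have h1 := hinv ⟨s, hs⟩ g
    have e : conjHom G S hSG ⟨s, hs⟩ g = g' := Subtype.ext (by rw [conjHom_apply, hg])
    rw [← e]; exact h1

/-- **coprime action on a solvable group**: an invariant irreducible character of an invariant
normal subgroup lies under an invariant irreducible character -/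
theorem inv_over_solv [Finite Γ] (S : Subgroup Γ) : ∀ (k : ℕ) (G N : Subgroup Γ) [Fintype G]
    [Fintype N] (_ : Nat.card G = k)
    (_ : ∀ s ∈ S, ∀ g ∈ G, s * g * s⁻¹ ∈ G) (hNG : N ≤ G)
    (_ : ∀ g ∈ G, ∀ n ∈ N, g * n * g⁻¹ ∈ N) (_ : ∀ s ∈ S, ∀ n ∈ N, s * n * s⁻¹ ∈ N)
    (_ : Group.IsSolvable G) (_ : (Nat.card G).Coprime (Nat.card S))
    (θ : N → ℂ) (_ : Cfsg.IsIrrCharacter N θ) (_ : SInv N S θ),
    ∃ χ : G → ℂ, Cfsg.IsIrrCharacter G χ ∧
      Cfsg.classInner (χ ∘ Subgroup.inclusion hNG) θ ≠ 0 ∧ SInv G S χ := by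
  intro k
  induction k using Nat.strong_induction_on with
  | _ k ih =>
    intro G N _ _ hk hnorm hNG hNn hNS hsolv hcop θ hθ hθS
    by_cases hGN : G ≤ N
    · obtain rfl : N = G := le_antisymm hNG hGN
      refine ⟨θ, hθ, ?_, hθS⟩
      have h1 : θ ∘ Subgroup.inclusion hNG = θ := by
        funext x
        rfl
      rw [h1]
      have h2 := classInner_irr_self hθ
      intro h0
      apply one_ne_zero (α := ℂ)
      rw [← h2]
      convert h0
    · obtain ⟨M, hMdef⟩ : ∃ M : Subgroup Γ, M = N ⊔ ⁅G, G⁆ := ⟨_, rfl⟩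
      have hcomm_le : ⁅G, G⁆ ≤ G := Subgroup.commutator_le.mpr (fun g₁ h₁ g₂ h₂ => by
        rw [commutatorElement_def]
        exact G.mul_mem (G.mul_mem (G.mul_mem h₁ h₂) (G.inv_mem h₁)) (G.inv_mem h₂))
      have hNM : N ≤ M := by rw [hMdef]; exact le_sup_left
      have hMG : M ≤ G := by rw [hMdef]; exact sup_le hNG hcomm_le
      have hconjM : ∀ x : Γ, (∀ g ∈ G, x * g * x⁻¹ ∈ G) → (∀ n ∈ N, x * n * x⁻¹ ∈ N) →
          ∀ m ∈ M, x * m * x⁻¹ ∈ M := by
        intro x hxG hxN m hm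
        have h1 : (M.map (MulAut.conj x).toMonoidHom) ≤ M := by
          rw [hMdef, Subgroup.map_sup]
          apply sup_le_sup
          · rintro _ ⟨n, hn, rfl⟩
            exact hxN n hn
          · rw [Subgroup.map_commutator]
            apply Subgroup.commutator_mono
            · rintro _ ⟨g, hg, rfl⟩
              exact hxG g hg
            · rintro _ ⟨g, hg, rfl⟩
              exact hxG g hg
        exact h1 ⟨m, hm, rfl⟩
      have hMne : ¬ G ≤ M := by
        intro hGM
        haveI hN' : (N.subgroupOf G).Normal := ⟨fun n hn g => by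
          rw [Subgroup.mem_subgroupOf] at hn ⊢
          exact hNn g g.2 n hn⟩
        haveI hnt : Nontrivial (G ⧸ N.subgroupOf G) := by
          by_contra hnt
          rw [not_nontrivial_iff_subsingleton] at hnt
          have h1 := QuotientGroup.subgroup_eq_top_of_subsingleton (N.subgroupOf G) hnt
          rw [Subgroup.subgroupOf_eq_top] at h1
          exact hGN h1
        have hlt := Group.IsSolvable.commutator_lt_top_of_nontrivial (G := G ⧸ N.subgroupOf G)
        apply hlt.ne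
        have htop : N.subgroupOf G ⊔ commutator G = ⊤ := by
          rw [eq_top_iff]
          intro g _
          have hg : (g : Γ) ∈ (N.subgroupOf G ⊔ commutator G).map G.subtype := by
            rw [Subgroup.map_sup, Subgroup.subgroupOf_map_subtype, commutator_def,
              Subgroup.map_commutator, ← MonoidHom.range_eq_map, Subgroup.range_subtype,
              inf_eq_left.mpr hNG, ← hMdef]
            exact hGM g.2
          obtain ⟨y, hy, hyg⟩ := hg
          have : y = g := Subtype.ext hyg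
          rw [← this]; exact hy
        have h2 : (N.subgroupOf G ⊔ commutator G).map (QuotientGroup.mk' (N.subgroupOf G))
            = commutator (G ⧸ N.subgroupOf G) := by
          rw [Subgroup.map_sup, QuotientGroup.map_mk'_self, bot_sup_eq, commutator_def,
            commutator_def, Subgroup.map_commutator,
            Subgroup.map_top_of_surjective _ (QuotientGroup.mk'_surjective _)]
        rw [← h2, htop, Subgroup.map_top_of_surjective _ (QuotientGroup.mk'_surjective _)]
      haveI : Fintype M := Fintype.ofFinite M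
      have hMlt : Nat.card M < k := by
        rw [← hk]
        have h1 : Nat.card M ∣ Nat.card G := Subgroup.card_dvd_of_le hMG
        have h2 : Nat.card M ≠ Nat.card G := by
          intro h
          exact hMne (Subgroup.eq_of_le_of_card_ge hMG (le_of_eq h.symm)).ge
        exact lt_of_le_of_ne (Nat.le_of_dvd Nat.card_pos h1) h2
      have hMsolv : Group.IsSolvable M :=
        Group.isSolvable_of_isSolvable_injective (Subgroup.inclusion_injective hMG)
      obtain ⟨η, hη, hηθ, hηS⟩ := ih (Nat.card M) hMlt M N rfl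
        (fun s hs m hm => hconjM s (hnorm s hs) (hNS s hs) m hm) hNM
        (fun g hg n hn => hNn g (hMG hg) n hn) hNS hMsolv
        (Nat.Coprime.coprime_dvd_left (Subgroup.card_dvd_of_le hMG) hcop) θ hθ hθS
      obtain ⟨χ, hχ, hχη, hχS⟩ := avg_step G M S hMG
        (fun g hg m hm => hconjM g (fun g' hg' => G.mul_mem (G.mul_mem hg hg') (G.inv_mem hg))
          (hNn g hg) m hm)
        (fun x hx y hy => by
          rw [hMdef]
          have := Subgroup.commutator_mem_commutator hx hy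
          rw [commutatorElement_def] at this
          exact (le_sup_right : ⁅G, G⁆ ≤ N ⊔ ⁅G, G⁆) this)
        hnorm (fun s hs m hm => hconjM s (hnorm s hs) (hNS s hs) m hm)
        (Nat.Coprime.coprime_dvd_left (Subgroup.relIndex_dvd_card M G) hcop) η hη hηS
      exact ⟨χ, hχ, over_trans G M N hNM hMG hχ hη hθ hχη hηθ, hχS⟩

end amb

end Cfsg.Agent.Lib.Helper2
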