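import Mathlib
import Cfsg.Agent.Lib.Helper2.InvSolv

set_option autoImplicit false

namespace Cfsg.Agent.Lib.Helper2

universe u

section transferpow

open scoped Classical in
theorem prod_phi_pow {G A : Type*} [Group G] [CommGroup A] (H : Subgroup G) (ϕ : H →* A)
    (g : G) {ι : Type*} (s : Finset ι) (k : ι → ℕ) (hk : ∀ i ∈ s, g ^ k i ∈ H) :
    ∃ h : g ^ (∑ i ∈ s, k i) ∈ H,
      ∏ i ∈ s, (if h' : g ^ k i ∈ H then ϕ ⟨g ^ k i, h'⟩ else 1)
        = ϕ ⟨g ^ (∑ i ∈ s, k i), h⟩ := by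
  classical
  induction s using Finset.induction_on with
  | empty =>
    refine ⟨by simp, ?_⟩
    simp only [Finset.prod_empty, Finset.sum_empty, pow_zero]
    exact (map_one ϕ).symm
  | insert a s ha ih =>
    obtain ⟨h, e⟩ := ih (fun i hi => hk i (Finset.mem_insert_of_mem hi))
    have ha' := hk a (Finset.mem_insert_self a s)
    have hs : g ^ (∑ i ∈ insert a s, k i) ∈ H := by
      rw [Finset.sum_insert ha, pow_add]; exact H.mul_mem ha' h
    refine ⟨hs, ?_⟩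
    rw [Finset.prod_insert ha, e, dif_pos ha', ← map_mul]
    congr 1
    apply Subtype.ext
    simp [Finset.sum_insert ha, pow_add]

/-- the transfer of an invariant homomorphism from a normal subgroup is given by the
`index`-th power -/
theorem transfer_eq_pow_of_normal {G A : Type*} [Group G] [CommGroup A] (H : Subgroup G)
    [hH : H.Normal] [H.FiniteIndex] (ϕ : H →* A)
    (hinv : ∀ (g : G) (h : H), ϕ ⟨g * h * g⁻¹, hH.conj_mem h h.2 g⟩ = ϕ h) (g : G) :
    MonoidHom.transfer ϕ g = ϕ ⟨g ^ H.index, Subgroup.pow_index_mem H g⟩ := by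
  classical
  letI := H.fintypeQuotientOfFiniteIndex
  rw [MonoidHom.transfer_eq_prod_quotient_orbitRel_zpowers_quot]
  have hmem : ∀ q : Quotient (MulAction.orbitRel (Subgroup.zpowers g) (G ⧸ H)),
      g ^ Function.minimalPeriod (g • ·) q.out ∈ H := by
    intro q
    have h1 := QuotientGroup.out_conj_pow_minimalPeriod_mem H g q.out
    have h2 := hH.conj_mem _ h1 q.out.out
    simpa [mul_assoc] using h2
  have hfac : ∀ q : Quotient (MulAction.orbitRel (Subgroup.zpowers g) (G ⧸ H)),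
      ϕ ⟨q.out.out⁻¹ * g ^ Function.minimalPeriod (g • ·) q.out * q.out.out,
        QuotientGroup.out_conj_pow_minimalPeriod_mem H g q.out⟩
      = (if h' : g ^ Function.minimalPeriod (g • ·) q.out ∈ H then
          ϕ ⟨g ^ Function.minimalPeriod (g • ·) q.out, h'⟩ else 1) := by
    intro q
    rw [dif_pos (hmem q), ← hinv q.out.out⁻¹ ⟨_, hmem q⟩]
    congr 1
    apply Subtype.ext
    simp
  obtain ⟨h, e⟩ := prod_phi_pow H ϕ g Finset.univ
    (fun q : Quotient (MulAction.orbitRel (Subgroup.zpowers g) (G ⧸ H)) =>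
      Function.minimalPeriod (g • ·) q.out) (fun q _ => hmem q)
  rw [Finset.prod_congr rfl (fun q _ => hfac q), e]
  congr 1
  apply Subtype.ext
  show g ^ _ = g ^ _
  rw [Subgroup.index_eq_sum_minimalPeriod H g]

end transferpow

theorem exists_pi_decomp (m : ℕ) : ∀ o : ℕ, 0 < o →
    ∃ a b : ℕ, o = a * b ∧ b.Coprime m ∧ ∀ p : ℕ, p.Prime → p ∣ a → p ∣ m := by
  intro o
  induction o using Nat.strong_induction_on with
  | _ o ih =>
    intro ho
    by_cases hc : o.Coprime m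
    · exact ⟨1, o, (one_mul o).symm, hc, fun p hp h1 => absurd (Nat.dvd_one.mp h1) hp.ne_one⟩
    · obtain ⟨p, hp, hpo, hpm⟩ := Nat.Prime.not_coprime_iff_dvd.mp hc
      obtain ⟨o', rfl⟩ := hpo
      have ho' : 0 < o' := Nat.pos_of_mul_pos_left ho
      have hlt : o' < p * o' := by
        have := hp.one_lt
        nlinarith
      obtain ⟨a, b, rfl, hb, ha⟩ := ih o' hlt ho'
      refine ⟨p * a, b, by ring, hb, ?_⟩
      intro q hq hqa
      rcases (Nat.Prime.dvd_mul hq).mp hqa with h | h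
      · rw [(Nat.prime_dvd_prime_iff_eq hq hp).mp h]; exact hpm
      · exact ha q hq h

section linearcase

/-- an irreducible character lying over an invariant linear character of a normal subgroup
restricts to a multiple of it -/
theorem restrict_of_linear_inv {K : Type*} [Group K] [Fintype K] (L : Subgroup K)
    [hL : L.Normal] [Fintype L] {χ : K → ℂ} (hχ : Cfsg.IsIrrCharacter K χ) (lam : L →* ℂˣ)
    (hlam : ∀ (k : K) (x : L), lam ⟨k * x * k⁻¹, hL.conj_mem x x.2 k⟩ = lam x)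
    (hcon : Cfsg.classInner (fun x : L => χ x) (fun x => (lam x : ℂ)) ≠ 0) :
    ∀ x : L, χ x = χ 1 * (lam x : ℂ) := by
  classical
  obtain ⟨e, he0, he⟩ := clifford_sum L hχ (isIrrCharacter_of_hom lam) hcon
  have himg : Finset.univ.image (fun k : K => conjFun L (fun x => (lam x : ℂ)) k)
      = {fun x => (lam x : ℂ)} := by
    ext ψ
    simp only [Finset.mem_image, Finset.mem_univ, true_and, Finset.mem_singleton]
    constructor
    · rintro ⟨k, rfl⟩
      funext x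
      rw [conjFun_apply, hlam]
    · rintro rfl
      refine ⟨1, ?_⟩
      funext x
      rw [conjFun_apply]
      congr 2
      apply Subtype.ext
      simp
  rw [himg, Finset.sum_singleton] at he
  have h1 : ∀ x : L, χ x = (e : ℂ) * (lam x : ℂ) := fun x => by
    have := congrFun he x
    simpa using this
  have h2 : χ 1 = (e : ℂ) := by
    have := h1 1
    simpa using this
  intro x
  rw [h1 x, h2]

/-- the coprime case: `G` has order coprime to its index, and `Q/G` or `G` is solvable -/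
theorem coprime_quot_case {Q : Type u} [Group Q] [Finite Q] (GQ NQ : Subgroup Q)
    [hG : GQ.Normal] [hN : NQ.Normal] (hNG : NQ ≤ GQ)
    (hcop : (Nat.card GQ).Coprime GQ.index)
    (hsolv : Group.IsSolvable (Q ⧸ GQ) ∨ Group.IsSolvable GQ) (lam : NQ →* ℂˣ)
    (hlam : ∀ (y : Q) (x : NQ), lam ⟨y * x * y⁻¹, hN.conj_mem x x.2 y⟩ = lam x) :
    ∃ χ : GQ → ℂ, Cfsg.IsIrrCharacter GQ χ ∧
      (∀ (y : Q) (x : GQ), χ ⟨y * x * y⁻¹, hG.conj_mem x x.2 y⟩ = χ x) ∧
      ∀ x : NQ, χ ⟨x, hNG x.2⟩ = χ 1 * (lam x : ℂ) := by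
  classical
  haveI : Fintype GQ := Fintype.ofFinite _
  haveI : Fintype NQ := Fintype.ofFinite _
  obtain ⟨S, hS⟩ := Subgroup.exists_left_complement'_of_coprime hcop
  have hcard : GQ.index = Nat.card S := hS.index_eq_card
  have hdisj := hS.disjoint
  have hnorm : ∀ s ∈ S, ∀ g ∈ GQ, s * g * s⁻¹ ∈ GQ := fun s _ g hg => hG.conj_mem g hg s
  have hNn : ∀ g ∈ GQ, ∀ n ∈ NQ, g * n * g⁻¹ ∈ NQ := fun g _ n hn => hN.conj_mem n hn g
  have hNS : ∀ s ∈ S, ∀ n ∈ NQ, s * n * s⁻¹ ∈ NQ := fun s _ n hn => hN.conj_mem n hn s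
  have hθ : Cfsg.IsIrrCharacter NQ (fun x => (lam x : ℂ)) := isIrrCharacter_of_hom lam
  have hθS : SInv NQ S (fun x => (lam x : ℂ)) := by
    intro s _ g g' hg
    have : g' = ⟨s * g * s⁻¹, hN.conj_mem g g.2 s⟩ := Subtype.ext hg
    show (lam g' : ℂ) = lam g
    rw [this, hlam]
  have hcop' : (Nat.card GQ).Coprime (Nat.card S) := hcard ▸ hcop
  have key : ∃ χ : GQ → ℂ, Cfsg.IsIrrCharacter GQ χ ∧
      Cfsg.classInner (χ ∘ Subgroup.inclusion hNG) (fun x => (lam x : ℂ)) ≠ 0 ∧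
      SInv GQ S χ := by
    rcases hsolv with h1 | h1
    · have hSsolv : Group.IsSolvable S := by
        have hinj : Function.Injective ((QuotientGroup.mk' GQ).comp S.subtype) := by
          rw [injective_iff_map_eq_one]
          intro s hs
          have h2 : (s : Q) ∈ GQ := (QuotientGroup.eq_one_iff (s : Q)).mp hs
          have h3 : (s : Q) ∈ S ⊓ GQ := ⟨s.2, h2⟩
          rw [hdisj.eq_bot] at h3
          exact Subtype.ext ((Subgroup.mem_bot).mp h3)
        exact Group.isSolvable_of_isSolvable_injective hinj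
      exact inv_over_aux _ GQ NQ S hnorm hNG hNn hNS hSsolv rfl
        (Nat.Coprime.coprime_dvd_right (Subgroup.relIndex_dvd_card _ _) hcop') _ hθ hθS
    · exact inv_over_solv S _ GQ NQ rfl hnorm hNG hNn hNS h1 hcop' _ hθ hθS
  obtain ⟨χ, hχ, hcon, hχS⟩ := key
  have hcf := isClassFunction_of_isIrrCharacter hχ
  have hχQ : ∀ (y : Q) (x : GQ), χ ⟨y * x * y⁻¹, hG.conj_mem x x.2 y⟩ = χ x := by
    intro y x
    obtain ⟨⟨s, g⟩, hsg, -⟩ := (Subgroup.isComplement'_def.mp hS).existsUnique y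
    have h1 : χ ⟨y * x * y⁻¹, hG.conj_mem x x.2 y⟩ = χ (g * x * g⁻¹) := by
      apply hχS s s.2 (g * x * g⁻¹)
      show y * x * y⁻¹ = s * ((g * x * g⁻¹ : GQ) : Q) * (s : Q)⁻¹
      rw [← hsg]
      simp [mul_assoc]
    rw [h1, hcf]
  refine ⟨χ, hχ, hχQ, ?_⟩
  let L : Subgroup GQ := NQ.subgroupOf GQ
  haveI : Fintype L := Fintype.ofFinite _
  let e : L ≃* NQ := Subgroup.subgroupOfEquivOfLe hNG
  let lam' : L →* ℂˣ := lam.comp e.toMonoidHom
  have hL : L.Normal := inferInstance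
  have hlam' : ∀ (k : GQ) (x : L), lam' ⟨k * x * k⁻¹, hL.conj_mem x x.2 k⟩ = lam' x := by
    intro k x
    show lam (e _) = lam (e x)
    rw [← hlam (k : Q) (e x)]
    congr 1
  have hcon' : Cfsg.classInner (fun x : L => χ x) (fun x => (lam' x : ℂ)) ≠ 0 := by
    have h1 := Cfsg.Agent.S1489.classInner_comp_iso e (χ ∘ Subgroup.inclusion hNG)
      (fun x => (lam x : ℂ))
    rw [← h1] at hcon
    exact hcon
  have hres := restrict_of_linear_inv L hχ lam' hlam' hcon'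
  intro x
  have h1 := hres ⟨⟨x, hNG x.2⟩, Subgroup.mem_subgroupOf.mpr x.2⟩
  have h2 : lam' ⟨⟨x, hNG x.2⟩, Subgroup.mem_subgroupOf.mpr x.2⟩ = lam x := by
    show lam (e _) = lam x
    congr 1
  rw [h2] at h1
  exact h1

end linearcase

section twist

/-- a power of the transfer of `ε` twists `ε` into a character of order involving only primes
dividing the index -/
theorem twist_exists {Γ₁ : Type*} [Group Γ₁] [Finite Γ₁] (G₁ N₁ : Subgroup Γ₁)
    [hG : G₁.Normal] [hN : N₁.Normal] (hNG : N₁ ≤ G₁) (ε : N₁ →* ℂˣ)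
    (hε : ∀ (γ : Γ₁) (n : N₁), ε ⟨γ * n * γ⁻¹, hN.conj_mem n n.2 γ⟩ = ε n) :
    ∃ (μ : G₁ →* ℂˣ) (a : ℕ), (∀ p : ℕ, p.Prime → p ∣ a → p ∣ N₁.relIndex G₁) ∧
      (∀ (γ : Γ₁) (g : G₁), μ ⟨γ * g * γ⁻¹, hG.conj_mem g g.2 γ⟩ = μ g) ∧
      ∀ n : N₁, (ε n * (μ ⟨n, hNG n.2⟩)⁻¹) ^ a = 1 := by
  classical
  set m := N₁.relIndex G₁ with hm
  let H : Subgroup G₁ := N₁.subgroupOf G₁
  have hH : H.Normal := inferInstance
  haveI : H.FiniteIndex := inferInstance
  let e : H ≃* N₁ := Subgroup.subgroupOfEquivOfLe hNG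
  let ϕ : H →* ℂˣ := ε.comp e.toMonoidHom
  have hϕ : ∀ (g : G₁) (h : H), ϕ ⟨g * h * g⁻¹, hH.conj_mem h h.2 g⟩ = ϕ h := by
    intro g h
    show ε (e _) = ε (e h)
    rw [← hε (g : Γ₁) (e h)]
    congr 1
  let τ : G₁ →* ℂˣ := MonoidHom.transfer ϕ
  have hpow : ∀ g : G₁, (g : Γ₁) ^ m ∈ N₁ := by
    intro g
    have := Subgroup.pow_index_mem H g
    exact Subgroup.mem_subgroupOf.mp this
  have hτ : ∀ g : G₁, τ g = ε ⟨(g : Γ₁) ^ m, hpow g⟩ := by
    intro g
    show MonoidHom.transfer ϕ g = _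
    rw [transfer_eq_pow_of_normal H ϕ hϕ g]
    show ε (e _) = _
    congr 1
  obtain ⟨a, b, hab, hb, ha⟩ := exists_pi_decomp m (Nat.card N₁) Nat.card_pos
  have hb0 : 0 < b := by
    rcases Nat.eq_zero_or_pos b with h | h
    · rw [h, mul_zero] at hab; exact absurd hab Nat.card_pos.ne'
    · exact h
  have hk : ∃ k : ℕ, m * k ≡ 1 [MOD b] := by
    rcases Nat.lt_or_ge 1 b with hb1 | hb1
    · obtain ⟨k, -, hk⟩ := Nat.exists_mul_mod_eq_one_of_coprime hb.symm hb1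
      exact ⟨k, by rw [Nat.ModEq, hk, Nat.mod_eq_of_lt hb1]⟩
    · have : b = 1 := by omega
      exact ⟨0, by rw [this]; exact Nat.modEq_one⟩
  obtain ⟨k, hk⟩ := hk
  refine ⟨τ ^ k, a, ha, ?_, ?_⟩
  · intro γ g
    rw [MonoidHom.pow_apply, MonoidHom.pow_apply, hτ, hτ]
    congr 1
    rw [← hε γ ⟨(g : Γ₁) ^ m, hpow g⟩]
    congr 1
    apply Subtype.ext
    show (γ * g * γ⁻¹) ^ m = γ * (g : Γ₁) ^ m * γ⁻¹
    rw [conj_pow]
  · intro n
    have h1 : τ ⟨n, hNG n.2⟩ = ε n ^ m := by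
      rw [hτ, ← map_pow]
      congr 1
    rw [MonoidHom.pow_apply, h1, mul_pow, inv_pow, ← pow_mul, ← pow_mul, mul_inv_eq_one,
      pow_eq_pow_iff_modEq]
    have h2 : orderOf (ε n) ∣ a * b := by
      apply orderOf_dvd_of_pow_eq_one
      rw [← hab, ← map_pow, pow_card_eq_one', map_one]
    have h3 := Nat.ModEq.mul_left' a hk
    have h4 := (Nat.ModEq.of_dvd h2 h3).symm
    rw [mul_one] at h4
    rw [show m * (k * a) = a * (m * k) by ring]
    exact h4

end twist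

section central

/-- the case of a linear character whose order involves only primes dividing the index:
pass to the quotient by its kernel -/
theorem central_quot_case {Γ₁ : Type u} [Group Γ₁] [Finite Γ₁] (G₁ N₁ : Subgroup Γ₁)
    [hG : G₁.Normal] [hN : N₁.Normal] (hNG : N₁ ≤ G₁)
    (hcop : G₁.index.Coprime (N₁.relIndex G₁))
    (hsolv : Group.IsSolvable (Γ₁ ⧸ G₁) ∨ Group.IsSolvable (G₁ ⧸ N₁.subgroupOf G₁))
    (επ : N₁ →* ℂˣ)
    (hε : ∀ (γ : Γ₁) (n : N₁), επ ⟨γ * n * γ⁻¹, hN.conj_mem n n.2 γ⟩ = επ n)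
    (a : ℕ) (ha : ∀ p : ℕ, p.Prime → p ∣ a → p ∣ N₁.relIndex G₁)
    (hpow : ∀ n : N₁, επ n ^ a = 1) :
    ∃ β : G₁ → ℂ, Cfsg.IsIrrCharacter G₁ β ∧
      (∀ (γ : Γ₁) (g : G₁), β ⟨γ * g * γ⁻¹, hG.conj_mem g g.2 γ⟩ = β g) ∧
      ∀ n : N₁, β ⟨n, hNG n.2⟩ = β 1 * (επ n : ℂ) := by
  classical
  let N₀ : Subgroup Γ₁ := επ.ker.map N₁.subtype
  have hN₀mem : ∀ n : N₁, (n : Γ₁) ∈ N₀ ↔ επ n = 1 := by
    intro n
    constructor
    · rintro ⟨n', hn', hnn'⟩
      have : n' = n := Subtype.ext hnn'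
      rw [← this]; exact hn'
    · intro h
      exact ⟨n, h, rfl⟩
  have hN₀le : N₀ ≤ N₁ := by
    rintro x ⟨n, -, rfl⟩
    exact n.2
  haveI hN₀n : N₀.Normal := by
    constructor
    intro x hx γ
    have hx1 : x ∈ N₁ := hN₀le hx
    have h1 := (hN₀mem ⟨x, hx1⟩).mp hx
    exact (hN₀mem ⟨γ * x * γ⁻¹, hN.conj_mem x hx1 γ⟩).mpr (by rw [hε γ ⟨x, hx1⟩]; exact h1)
  let q : Γ₁ →* Γ₁ ⧸ N₀ := QuotientGroup.mk' N₀
  have hq : Function.Surjective q := QuotientGroup.mk'_surjective N₀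
  have hqker : q.ker = N₀ := QuotientGroup.ker_mk' N₀
  let GQ : Subgroup (Γ₁ ⧸ N₀) := G₁.map q
  let NQ : Subgroup (Γ₁ ⧸ N₀) := N₁.map q
  haveI hGQ : GQ.Normal := hG.map q hq
  haveI hNQ : NQ.Normal := hN.map q hq
  have hNGQ : NQ ≤ GQ := Subgroup.map_mono hNG
  let fN : N₁ →* NQ := q.subgroupMap N₁
  have hfN : Function.Surjective fN := q.subgroupMap_surjective N₁
  let fG : G₁ →* GQ := q.subgroupMap G₁
  have hfG : Function.Surjective fG := q.subgroupMap_surjective G₁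
  have hfN1 : ∀ n : N₁, fN n = 1 ↔ επ n = 1 := by
    intro n
    rw [← hN₀mem n]
    constructor
    · intro h
      have h1 : q n = 1 := congrArg Subtype.val h
      exact (QuotientGroup.eq_one_iff (n : Γ₁)).mp h1
    · intro h
      exact Subtype.ext ((QuotientGroup.eq_one_iff (n : Γ₁)).mpr h)
  have hker : fN.ker ≤ επ.ker := fun n hn => (hfN1 n).mp hn
  let lamQ : NQ →* ℂˣ := fN.liftOfRightInverse (Function.surjInv hfN)
    (Function.rightInverse_surjInv hfN) ⟨επ, hker⟩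
  have hlamQ : ∀ n : N₁, lamQ (fN n) = επ n := fun n =>
    MonoidHom.liftOfRightInverse_comp_apply fN _ _ ⟨επ, hker⟩ n
  have hlaminv : ∀ (y : Γ₁ ⧸ N₀) (x : NQ),
      lamQ ⟨y * x * y⁻¹, hNQ.conj_mem x x.2 y⟩ = lamQ x := by
    intro y x
    obtain ⟨γ, rfl⟩ := hq y
    obtain ⟨n, rfl⟩ := hfN x
    have : (⟨q γ * (fN n : Γ₁ ⧸ N₀) * (q γ)⁻¹, hNQ.conj_mem _ (fN n).2 (q γ)⟩ : NQ)
        = fN ⟨γ * n * γ⁻¹, hN.conj_mem n n.2 γ⟩ := by
      apply Subtype.ext
      show q γ * q n * (q γ)⁻¹ = q (γ * n * γ⁻¹)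
      simp
    rw [this, hlamQ, hlamQ, hε]
  have hcard1 : Nat.card GQ = Nat.card NQ * N₁.relIndex G₁ := by
    have h1 := Subgroup.relIndex_ker G₁ q
    have h2 := Subgroup.relIndex_ker N₁ q
    rw [hqker] at h1 h2
    rw [← h1, ← h2]
    exact (Subgroup.relIndex_mul_relIndex N₀ N₁ G₁ hN₀le hNG).symm
  have hidx : GQ.index = G₁.index :=
    Subgroup.index_map_eq G₁ hq (by rw [hqker]; exact hN₀le.trans hNG)
  have hxa : ∀ x : NQ, x ^ a = 1 := by
    intro x
    obtain ⟨n, rfl⟩ := hfN x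
    rw [← map_pow, hfN1, map_pow, hpow]
  have hcopN : (Nat.card NQ).Coprime G₁.index := by
    by_contra hc
    obtain ⟨p, hp, hp1, hp2⟩ := Nat.Prime.not_coprime_iff_dvd.mp hc
    haveI : Fact p.Prime := ⟨hp⟩
    obtain ⟨x, hx⟩ := exists_prime_orderOf_dvd_card' p hp1
    have h1 : p ∣ a := by rw [← hx]; exact orderOf_dvd_of_pow_eq_one (hxa x)
    have h2 := ha p hp h1
    have h3 : p ∣ 1 := by
      have := Nat.dvd_gcd hp2 h2
      rwa [Nat.Coprime.gcd_eq_one hcop] at this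
    exact hp.one_lt.ne' (Nat.dvd_one.mp h3)
  have hcopQ : (Nat.card GQ).Coprime GQ.index := by
    rw [hcard1, hidx]
    exact Nat.Coprime.mul_left hcopN hcop.symm
  have hsolvQ : Group.IsSolvable ((Γ₁ ⧸ N₀) ⧸ GQ) ∨ Group.IsSolvable GQ := by
    rcases hsolv with h1 | h1
    · left
      have hle : G₁ ≤ GQ.comap q := Subgroup.le_comap_map q G₁
      have hsurj : Function.Surjective (QuotientGroup.map G₁ GQ q hle) := by
        intro y
        induction y using QuotientGroup.induction_on with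
        | H y =>
          obtain ⟨γ, rfl⟩ := hq y
          exact ⟨(γ : Γ₁ ⧸ G₁), QuotientGroup.map_mk _ _ _ _ _⟩
      exact Group.isSolvable_of_surjective hsurj
    · right
      have hlaminj : Function.Injective lamQ := by
        rw [injective_iff_map_eq_one]
        intro x hx
        obtain ⟨n, rfl⟩ := hfN x
        rw [hlamQ] at hx
        exact (hfN1 n).mpr hx
      haveI hNQsolv : Group.IsSolvable NQ := Group.isSolvable_of_isSolvable_injective hlaminj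
      let L : Subgroup GQ := NQ.subgroupOf GQ
      have hle : N₁.subgroupOf G₁ ≤ L.comap fG := by
        intro g hg
        have : (g : Γ₁) ∈ N₁ := Subgroup.mem_subgroupOf.mp hg
        show ((fG g : GQ) : Γ₁ ⧸ N₀) ∈ NQ
        exact Subgroup.mem_map_of_mem q this
      have hsurj : Function.Surjective (QuotientGroup.map (N₁.subgroupOf G₁) L fG hle) := by
        intro y
        induction y using QuotientGroup.induction_on with
        | H y =>
          obtain ⟨g, rfl⟩ := hfG y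
          exact ⟨(g : G₁ ⧸ N₁.subgroupOf G₁), QuotientGroup.map_mk _ _ _ _ _⟩
      haveI : Group.IsSolvable (GQ ⧸ L) := Group.isSolvable_of_surjective hsurj
      refine Group.isSolvable_of_ker_le_range (Subgroup.inclusion hNGQ) (QuotientGroup.mk' L) ?_
      intro x hx
      rw [QuotientGroup.ker_mk'] at hx
      exact ⟨⟨x, Subgroup.mem_subgroupOf.mp hx⟩, rfl⟩
  obtain ⟨χ, hχ, hχinv, hχres⟩ := coprime_quot_case GQ NQ hNGQ hcopQ hsolvQ lamQ hlaminv
  refine ⟨χ ∘ fG, isIrrCharacter_comp_of_surjective hχ fG hfG, ?_, ?_⟩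
  · intro γ g
    show χ (fG _) = χ (fG g)
    rw [← hχinv (q γ) (fG g)]
    congr 1
  · intro n
    show χ (fG ⟨n, hNG n.2⟩) = χ (fG 1) * _
    rw [map_one, ← hlamQ n, ← hχres (fN n)]
    rfl

/-- **the linear case**: an invariant linear character of `N` lies under an invariant
irreducible character of `G` restricting to a multiple of it -/
theorem linear_case {Γ₁ : Type u} [Group Γ₁] [Finite Γ₁] (G₁ N₁ : Subgroup Γ₁)
    [hG : G₁.Normal] [hN : N₁.Normal] (hNG : N₁ ≤ G₁)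
    (hcop : G₁.index.Coprime (N₁.relIndex G₁))
    (hsolv : Group.IsSolvable (Γ₁ ⧸ G₁) ∨ Group.IsSolvable (G₁ ⧸ N₁.subgroupOf G₁))
    (ε : N₁ →* ℂˣ)
    (hε : ∀ (γ : Γ₁) (n : N₁), ε ⟨γ * n * γ⁻¹, hN.conj_mem n n.2 γ⟩ = ε n) :
    ∃ β : G₁ → ℂ, Cfsg.IsIrrCharacter G₁ β ∧
      (∀ (γ : Γ₁) (g : G₁), β ⟨γ * g * γ⁻¹, hG.conj_mem g g.2 γ⟩ = β g) ∧
      ∀ n : N₁, β ⟨n, hNG n.2⟩ = β 1 * (ε n : ℂ) := by
  obtain ⟨μ, a, ha, hμ, hpow⟩ := twist_exists G₁ N₁ hNG ε hε
  let επ : N₁ →* ℂˣ := ε * (μ.comp (Subgroup.inclusion hNG))⁻¹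
  have hεπ : ∀ n : N₁, επ n = ε n * (μ ⟨n, hNG n.2⟩)⁻¹ := fun n => rfl
  have hinv : ∀ (γ : Γ₁) (n : N₁), επ ⟨γ * n * γ⁻¹, hN.conj_mem n n.2 γ⟩ = επ n := by
    intro γ n
    rw [hεπ, hεπ, hε]
    congr 2
    exact hμ γ ⟨n, hNG n.2⟩
  obtain ⟨β₁, hβ₁, hβ₁inv, hβ₁res⟩ := central_quot_case G₁ N₁ hNG hcop hsolv επ hinv a ha
    (fun n => by rw [hεπ]; exact hpow n)
  refine ⟨(fun g => (μ g : ℂ)) * β₁, isIrrCharacter_hom_mul μ hβ₁, ?_, ?_⟩
  · intro γ g
    show (μ _ : ℂ) * β₁ _ = (μ g : ℂ) * β₁ g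
    rw [hμ, hβ₁inv]
  · intro n
    show (μ _ : ℂ) * β₁ _ = (μ 1 : ℂ) * β₁ 1 * _
    rw [hβ₁res, hεπ, map_one]
    have h0 : ((μ ⟨n, hNG n.2⟩ : ℂˣ) : ℂ) ≠ 0 := Units.ne_zero _
    rw [Units.val_mul, Units.val_inv_eq_inv_val, Units.val_one]
    field_simp

end central

end Cfsg.Agent.Lib.Helper2
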