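import Mathlib
import Cfsg.Agent.Lib.Helper2.GlaubPGroup
import Cfsg.Agent.Lib.Helper2.BergerCover
import Cfsg.Agent.Lib.Helper2.InvLin
import Cfsg.Agent.Lib.Helper2.CharCover2
import Cfsg.Agent.S0856
import Cfsg.Agent.S1489

set_option autoImplicit false

/-! Relative Glauberman correspondence, part 1: restriction between subgroups, a fixed-point
lemma for conjugation by a `p`-group, the Glauberman correspondence in a quotient, and the
relative form of Gallagher's theorem. -/

namespace Cfsg.Agent.Lib.Helper2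

open scoped ComplexConjugate

section relg1

variable {G : Type*} [Group G]

/-- restriction of a function on the subgroup `X` to a smaller subgroup `Y` -/
def rres {X Y : Subgroup G} (h : Y ≤ X) (χ : X → ℂ) : Y → ℂ := fun y => χ ⟨y, h y.2⟩

theorem rres_apply {X Y : Subgroup G} (h : Y ≤ X) (χ : X → ℂ) (y : Y) :
    rres h χ y = χ ⟨y, h y.2⟩ := rfl

theorem rres_isCharacter {X Y : Subgroup G} (h : Y ≤ X) {χ : X → ℂ}
    (hχ : Cfsg.IsCharacter X χ) : Cfsg.IsCharacter Y (rres h χ) :=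
  IsCharacter.comp_hom hχ (Subgroup.inclusion h)

theorem rres_isClassFunction {X Y : Subgroup G} (h : Y ≤ X) {χ : X → ℂ}
    (hχ : Cfsg.IsClassFunction X χ) : Cfsg.IsClassFunction Y (rres h χ) := by
  intro g k
  have := hχ ⟨g, h g.2⟩ ⟨k, h k.2⟩
  rw [rres_apply, rres_apply, ← this]
  congr 1

theorem rres_add {X Y : Subgroup G} (h : Y ≤ X) (χ ψ : X → ℂ) :
    rres h (χ + ψ) = rres h χ + rres h ψ := rfl

theorem rres_sub {X Y : Subgroup G} (h : Y ≤ X) (χ ψ : X → ℂ) :
    rres h (χ - ψ) = rres h χ - rres h ψ := rfl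

theorem rres_mul {X Y : Subgroup G} (h : Y ≤ X) (χ ψ : X → ℂ) :
    rres h (χ * ψ) = rres h χ * rres h ψ := rfl

/-- a `p`-group acting by conjugation on a stable set of size prime to `p` fixes a point -/
theorem exists_conj_fixed (p : ℕ) [hp : Fact p.Prime] (S : Subgroup G) (hS : IsPGroup p S)
    (X : Set G) (hX : ∀ s ∈ S, ∀ y ∈ X, s * y * s⁻¹ ∈ X) (hc : ¬ p ∣ Nat.card X) :
    ∃ y ∈ X, ∀ s ∈ S, s * y * s⁻¹ = y := by
  letI : MulAction S X :=
    { smul := fun s y => ⟨(s : G) * y * (s : G)⁻¹, hX s s.2 y y.2⟩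
      one_smul := fun y => Subtype.ext (by
        show ((1 : S) : G) * y * ((1 : S) : G)⁻¹ = y
        simp)
      mul_smul := fun s t y => Subtype.ext (by
        show ((s * t : S) : G) * y * ((s * t : S) : G)⁻¹
          = (s : G) * ((t : G) * y * (t : G)⁻¹) * (s : G)⁻¹
        simp [mul_assoc]) }
  obtain ⟨y, hy⟩ := hS.nonempty_fixed_point_of_prime_not_dvd_card X hc
  refine ⟨y, y.2, fun s hs => ?_⟩
  exact congrArg Subtype.val (hy ⟨s, hs⟩)

/-- a character with an irreducible constituent in its restriction which lies over `θ` lies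
over `θ` -/
theorem over_char {X Y Z : Subgroup G} [Fintype X] [Fintype Y] [Fintype Z] (hYX : Y ≤ X)
    (hZY : Z ≤ Y) {Φ : X → ℂ} (hΦ : Cfsg.IsCharacter X Φ) {η : Y → ℂ}
    (hη : Cfsg.IsIrrCharacter Y η) {θ : Z → ℂ} (hθ : Cfsg.IsIrrCharacter Z θ)
    (h1 : Cfsg.classInner (rres hYX Φ) η ≠ 0) (h2 : Cfsg.classInner (rres hZY η) θ ≠ 0) :
    Cfsg.classInner (rres (hZY.trans hYX) Φ) θ ≠ 0 := by
  have hΦY := rres_isCharacter hYX hΦ
  have hΔ := IsCharacter.sub_irr hΦY hη h1
  have hΔZ := rres_isCharacter hZY hΔ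
  have hηZ := rres_isCharacter hZY (isCharacter_of_isIrrCharacter hη)
  have hθc := isCharacter_of_isIrrCharacter hθ
  obtain ⟨n₁, hn₁⟩ := classInner_isCharacter_nat hηZ hθc
  obtain ⟨n₂, hn₂⟩ := classInner_isCharacter_nat hΔZ hθc
  have e : rres (hZY.trans hYX) Φ = rres hZY η + rres hZY (rres hYX Φ - η) := by
    funext z
    simp only [rres_apply, Pi.add_apply, Pi.sub_apply]
    ring
  rw [e, classInner_add_left, hn₁, hn₂]
  rw [hn₁] at h2
  have h3 : n₁ ≠ 0 := by
    rintro rfl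
    exact h2 (by simp)
  have h4 : n₁ + n₂ ≠ 0 := by omega
  exact_mod_cast h4

end relg1

end Cfsg.Agent.Lib.Helper2
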