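import Mathlib
import Cfsg.Agent.Lib.Helper2.RelG1

set_option autoImplicit false

/-! Relative Glauberman correspondence, part 2: the Glauberman correspondence for the
characters of `T` and `D` trivial on the normal subgroup `Q`. -/

namespace Cfsg.Agent.Lib.Helper2

open scoped ComplexConjugate

section relg2

variable {G : Type*} [Group G]

/-- Glauberman correspondence in the quotient by `Q`: `T/Q` is a `p'`-group acted on by the
`p`-group `P`, and `D/Q` is the fixed-point subgroup. -/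
theorem quot_glaub [Finite G] (p : ℕ) [hp : Fact p.Prime] (Q T D P : Subgroup G) [hQ : Q.Normal]
    [Fintype T] [Fintype D] (hDT : D ≤ T) (hP : IsPGroup p P)
    (hPT : ∀ s ∈ P, ∀ t ∈ T, s * t * s⁻¹ ∈ T) (hcop : ¬ p ∣ Q.relIndex T)
    (hD : ∀ t, t ∈ D ↔ t ∈ T ∧ ∀ x ∈ P, x * t * x⁻¹ * t⁻¹ ∈ Q) :
    (∀ β : T → ℂ, Cfsg.IsIrrCharacter T β → (∀ t : T, (t : G) ∈ Q → β t = β 1) → SInv T P β →
      ∃ γ₀ : D → ℂ, Cfsg.IsIrrCharacter D γ₀ ∧ (∀ d : D, (d : G) ∈ Q → γ₀ d = γ₀ 1) ∧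
        (∃ m : ℕ, Cfsg.classInner (rres hDT β) γ₀ = (m : ℂ) ∧
          ((m : ℤ) ≡ 1 [ZMOD p] ∨ (m : ℤ) ≡ -1 [ZMOD p])) ∧
        ∀ γ : D → ℂ, Cfsg.IsIrrCharacter D γ → (∀ d : D, (d : G) ∈ Q → γ d = γ 1) → γ ≠ γ₀ →
          ∃ m : ℕ, Cfsg.classInner (rres hDT β) γ = (m : ℂ) ∧ p ∣ m) ∧
    (∀ β β' : T → ℂ, Cfsg.IsIrrCharacter T β → (∀ t : T, (t : G) ∈ Q → β t = β 1) →
      SInv T P β → Cfsg.IsIrrCharacter T β' → (∀ t : T, (t : G) ∈ Q → β' t = β' 1) →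
      SInv T P β' →
      ∀ γ : D → ℂ, Cfsg.IsIrrCharacter D γ → (∀ d : D, (d : G) ∈ Q → γ d = γ 1) →
      ∀ m m' : ℕ, Cfsg.classInner (rres hDT β) γ = (m : ℂ) → ¬ p ∣ m →
        Cfsg.classInner (rres hDT β') γ = (m' : ℂ) → ¬ p ∣ m' → β = β') ∧
    (∀ γ : D → ℂ, Cfsg.IsIrrCharacter D γ → (∀ d : D, (d : G) ∈ Q → γ d = γ 1) →
      ∃ β : T → ℂ, Cfsg.IsIrrCharacter T β ∧ (∀ t : T, (t : G) ∈ Q → β t = β 1) ∧
        SInv T P β ∧ ∃ m : ℕ, Cfsg.classInner (rres hDT β) γ = (m : ℂ) ∧ ¬ p ∣ m) := by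
  classical
  set π : G →* G ⧸ Q := QuotientGroup.mk' Q with hπ
  have hπ1 : ∀ g : G, π g = 1 ↔ g ∈ Q := fun g => QuotientGroup.eq_one_iff g
  have hDTb : D.map π ≤ T.map π := Subgroup.map_mono hDT
  set πT : T →* T.map π := π.subgroupMap T with hπT
  set πD : D →* D.map π := π.subgroupMap D with hπD
  have hsT : Function.Surjective πT := π.subgroupMap_surjective T
  have hsD : Function.Surjective πD := π.subgroupMap_surjective D
  have hcT : ∀ t : T, ((πT t : T.map π) : G ⧸ Q) = π t := fun t => rfl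
  have hcD : ∀ d : D, ((πD d : D.map π) : G ⧸ Q) = π d := fun d => rfl
  have hkT : ∀ t : T, πT t = 1 ↔ (t : G) ∈ Q := by
    intro t
    rw [← hπ1, Subtype.ext_iff, hcT]
    rfl
  have hkD : ∀ d : D, πD d = 1 ↔ (d : G) ∈ Q := by
    intro d
    rw [← hπ1, Subtype.ext_iff, hcD]
    rfl
  haveI : Fintype (T.map π) := Fintype.ofFinite _
  haveI : Fintype (D.map π) := Fintype.ofFinite _
  have hnormb : ∀ s ∈ P.map π, ∀ g ∈ T.map π, s * g * s⁻¹ ∈ T.map π := by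
    rintro _ ⟨s, hs, rfl⟩ _ ⟨t, ht, rfl⟩
    exact ⟨s * t * s⁻¹, hPT s hs t ht, by simp⟩
  have hPb : IsPGroup p (P.map π) := hP.map π
  have hcardT : Nat.card (T.map π) = Q.relIndex T := by
    rw [← Subgroup.relIndex_ker T π, hπ, QuotientGroup.ker_mk']
  have hcopb : (Nat.card (T.map π)).Coprime (Nat.card (P.map π)) := by
    obtain ⟨n, hn⟩ := IsPGroup.iff_card.mp hPb
    rw [hn, hcardT]
    exact Nat.Coprime.pow_right n ((Nat.Prime.coprime_iff_not_dvd hp.out).mpr hcop).symm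
  have hCb : D.map π = T.map π ⊓ Subgroup.centralizer ((P.map π : Subgroup (G ⧸ Q)) : Set (G ⧸ Q)) := by
    ext y
    constructor
    · rintro ⟨d, hd, rfl⟩
      refine Subgroup.mem_inf.mpr ⟨⟨d, hDT hd, rfl⟩, ?_⟩
      rw [Subgroup.mem_centralizer_iff]
      rintro _ ⟨x, hx, rfl⟩
      have h1 : π (x * d * x⁻¹ * d⁻¹) = 1 := (hπ1 _).mpr (((hD d).mp hd).2 x hx)
      simp only [map_mul, map_inv] at h1
      calc π x * π d = (π x * π d * (π x)⁻¹ * (π d)⁻¹) * (π d * π x) := by group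
        _ = π d * π x := by rw [h1, one_mul]
    · intro hy
      obtain ⟨⟨t, ht, rfl⟩, hc⟩ := Subgroup.mem_inf.mp hy
      refine ⟨t, (hD t).mpr ⟨ht, fun x hx => ?_⟩, rfl⟩
      have h2 := (Subgroup.mem_centralizer_iff.mp hc) (π x) ⟨x, hx, rfl⟩
      apply (hπ1 _).mp
      simp only [map_mul, map_inv]
      rw [h2]
      group
  obtain ⟨h1, h2, h3⟩ := glaub_pgroup (Γ := G ⧸ Q) p (T.map π) (P.map π) (D.map π) hnormb hPb
    hcopb hCb hDTb
  -- translation between characters of the quotient and characters trivial on `Q`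
  have hdT : ∀ β : T → ℂ, Cfsg.IsIrrCharacter T β → (∀ t : T, (t : G) ∈ Q → β t = β 1) →
      ∃ βb : T.map π → ℂ, Cfsg.IsIrrCharacter (T.map π) βb ∧ β = βb ∘ πT := by
    intro β hβ htr
    exact exists_irr_deflate πT hsT hβ (fun z hz => htr z ((hkT z).mp hz))
  have hdD : ∀ γ : D → ℂ, Cfsg.IsIrrCharacter D γ → (∀ d : D, (d : G) ∈ Q → γ d = γ 1) →
      ∃ γb : D.map π → ℂ, Cfsg.IsIrrCharacter (D.map π) γb ∧ γ = γb ∘ πD := by
    intro γ hγ htr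
    exact exists_irr_deflate πD hsD hγ (fun z hz => htr z ((hkD z).mp hz))
  have htrT : ∀ βb : T.map π → ℂ, ∀ t : T, (t : G) ∈ Q → (βb ∘ πT) t = (βb ∘ πT) 1 := by
    intro βb t ht
    show βb (πT t) = βb (πT 1)
    rw [(hkT t).mpr ht, map_one]
  have htrD : ∀ γb : D.map π → ℂ, ∀ d : D, (d : G) ∈ Q → (γb ∘ πD) d = (γb ∘ πD) 1 := by
    intro γb d hd
    show γb (πD d) = γb (πD 1)
    rw [(hkD d).mpr hd, map_one]
  have hinv_down : ∀ βb : T.map π → ℂ, SInv T P (βb ∘ πT) → SInv (T.map π) (P.map π) βb := by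
    intro βb h sb hsb gb gb' hg
    obtain ⟨s, hs, rfl⟩ := hsb
    obtain ⟨g, rfl⟩ := hsT gb
    have e : gb' = πT ⟨s * g * s⁻¹, hPT s hs g g.2⟩ := by
      apply Subtype.ext
      rw [hg, hcT, hcT]
      simp
    rw [e]
    exact h s hs g _ rfl
  have hinv_up : ∀ βb : T.map π → ℂ, SInv (T.map π) (P.map π) βb → SInv T P (βb ∘ πT) := by
    intro βb h s hs g g' hg
    refine h (π s) ⟨s, hs, rfl⟩ (πT g) (πT g') ?_
    rw [hcT, hcT, hg]
    simp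
  have hres : ∀ (βb : T.map π → ℂ) (γb : D.map π → ℂ),
      Cfsg.classInner (rres hDT (βb ∘ πT)) (γb ∘ πD)
        = Cfsg.classInner (βb ∘ Subgroup.inclusion hDTb) γb := by
    intro βb γb
    rw [← classInner_comp_surj πD hsD]
    rfl
  have hinjD : ∀ γb γb' : D.map π → ℂ, γb ∘ πD = γb' ∘ πD → γb = γb' :=
    fun γb γb' h => hsD.injective_comp_right h
  refine ⟨?_, ?_, ?_⟩
  · intro β hβ htr hinv
    obtain ⟨βb, hβb, rfl⟩ := hdT β hβ htr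
    obtain ⟨γ₀, ⟨m, hm, hmod⟩, hoth⟩ := h1 βb hβb (hinv_down βb hinv)
    refine ⟨(γ₀ : D.map π → ℂ) ∘ πD, isIrrCharacter_comp_of_surjective γ₀.2 πD hsD,
      htrD _, ⟨m, ?_, hmod⟩, ?_⟩
    · rw [hres]
      exact hm
    · intro γ hγ hγtr hne
      obtain ⟨γb, hγb, rfl⟩ := hdD γ hγ hγtr
      obtain ⟨m', hm', hd⟩ := hoth ⟨γb, hγb⟩ (fun h => hne (by rw [← h]))
      refine ⟨m', ?_, hd⟩
      rw [hres]
      exact hm'
  · intro β β' hβ htr hinv hβ' htr' hinv' γ hγ hγtr m m' hm hmd hm' hmd'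
    obtain ⟨βb, hβb, rfl⟩ := hdT β hβ htr
    obtain ⟨βb', hβb', rfl⟩ := hdT β' hβ' htr'
    obtain ⟨γb, hγb, rfl⟩ := hdD γ hγ hγtr
    rw [hres] at hm hm'
    rw [h2 βb βb' hβb hβb' (hinv_down βb hinv) (hinv_down βb' hinv') ⟨γb, hγb⟩ m m' hm hmd
      hm' hmd']
  · intro γ hγ hγtr
    obtain ⟨γb, hγb, rfl⟩ := hdD γ hγ hγtr
    obtain ⟨χ, hχ, hinv, m, hm, hmd⟩ := h3 ⟨γb, hγb⟩
    refine ⟨χ ∘ πT, isIrrCharacter_comp_of_surjective hχ πT hsT, htrT χ, hinv_up χ hinv, m, ?_,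
      hmd⟩
    rw [hres]
    exact hm

end relg2

end Cfsg.Agent.Lib.Helper2
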