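import Mathlib
import Cfsg.Agent.Lib.Helper2.RelG2
import Cfsg.Agent.Lib.Helper2.HallDeg

set_option autoImplicit false

/-! Relative Glauberman correspondence, part 3: relative Gallagher and the local
correspondence over a fixed invariant character of `Q`. -/

namespace Cfsg.Agent.Lib.Helper2

open scoped ComplexConjugate

section relg3

variable {G : Type*} [Group G]

/-- a character whose restriction to a subgroup is irreducible is irreducible -/
theorem irr_of_rres_irr {Y Z : Subgroup G} [Fintype Y] [Fintype Z] (hZY : Z ≤ Y) {Φ : Y → ℂ}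
    (hΦ : Cfsg.IsCharacter Y Φ) (hirr : Cfsg.IsIrrCharacter Z (rres hZY Φ)) :
    Cfsg.IsIrrCharacter Y Φ := by
  obtain ⟨n, hn0, hn⟩ := irr_apply_one hirr
  have hΦ1 : Φ 1 = (n : ℂ) := hn
  have hne : Φ ≠ 0 := by
    intro h0
    rw [h0] at hΦ1
    have : (n : ℂ) = 0 := hΦ1.symm
    have : n = 0 := by exact_mod_cast this
    omega
  obtain ⟨η, hη, hcon⟩ := exists_irr_constituent hΦ hne
  have hηc := isCharacter_of_isIrrCharacter hη
  obtain ⟨N, d, hN, hd, hdN⟩ := irr_deg_le_of_inner_ne_zero hΦ hη hcon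
  have hηZ := rres_isCharacter hZY hηc
  obtain ⟨d', hd'0, hd'⟩ := irr_apply_one hη
  have hηZne : rres hZY η ≠ 0 := by
    intro h0
    have h1 : rres hZY η 1 = η 1 := rfl
    rw [h0, hd'] at h1
    have : (d' : ℂ) = 0 := h1.symm
    have : d' = 0 := by exact_mod_cast this
    omega
  obtain ⟨θ₁, hθ₁, hcon₁⟩ := exists_irr_constituent hηZ hηZne
  have hΔ := IsCharacter.sub_irr hΦ hη hcon
  have hΔZ := rres_isCharacter hZY hΔ
  have hθ₁c := isCharacter_of_isIrrCharacter hθ₁
  obtain ⟨n₁, hn₁⟩ := classInner_isCharacter_nat hηZ hθ₁c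
  obtain ⟨n₂, hn₂⟩ := classInner_isCharacter_nat hΔZ hθ₁c
  have e : rres hZY Φ = rres hZY η + rres hZY (Φ - η) := by
    funext z
    simp only [rres_apply, Pi.add_apply, Pi.sub_apply]
    ring
  have h3 : Cfsg.classInner (rres hZY Φ) θ₁ ≠ 0 := by
    rw [e, classInner_add_left, hn₁, hn₂]
    rw [hn₁] at hcon₁
    have h3 : n₁ ≠ 0 := by
      rintro rfl
      exact hcon₁ (by simp)
    have h4 : n₁ + n₂ ≠ 0 := by omega
    exact_mod_cast h4
  have h4 : rres hZY Φ = θ₁ := by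
    by_contra hne'
    exact h3 (classInner_irr_ne hirr hθ₁ hne')
  obtain ⟨N', d'', hN', hd'', hdN'⟩ := irr_deg_le_of_inner_ne_zero hηZ hθ₁ hcon₁
  have h5 : rres hZY η 1 = η 1 := rfl
  have h6 : θ₁ 1 = Φ 1 := by rw [← h4]; rfl
  have h7 : (N' : ℂ) = (d : ℂ) := by rw [← hN', h5, hd]
  have h8 : (d'' : ℂ) = (N : ℂ) := by rw [← hd'', h6, hN]
  have h7' : N' = d := by exact_mod_cast h7
  have h8' : d'' = N := by exact_mod_cast h8
  have h9 : N = d := by omega
  have h10 : Φ = η := eq_of_constituent_same_degree hΦ hη hcon (by rw [hN, hd, h9])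
  rw [h10]
  exact hη

/-- a character trivial on a normal subgroup is constant on its cosets -/
theorem irr_mul_of_triv {X : Type*} [Group X] [Finite X] (N : Subgroup X) [hN : N.Normal]
    {χ : X → ℂ} (hχ : Cfsg.IsIrrCharacter X χ) (h : ∀ n ∈ N, χ n = χ 1) {n : X} (hn : n ∈ N)
    (g : X) : χ (n * g) = χ g := by
  obtain ⟨χb, -, rfl⟩ := exists_irr_deflate (QuotientGroup.mk' N)
    (QuotientGroup.mk'_surjective N) hχ (by
      intro z hz
      rw [QuotientGroup.ker_mk'] at hz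
      exact h z hz)
  have h1 : QuotientGroup.mk' N n = 1 := (QuotientGroup.eq_one_iff n).mpr hn
  show χb (QuotientGroup.mk' N (n * g)) = χb (QuotientGroup.mk' N g)
  rw [map_mul, h1, one_mul]

/-- Gallagher's theorem for a subgroup `X` containing the normal subgroup `Q` -/
theorem rel_gallagher [Finite G] (Q X : Subgroup G) [hQ : Q.Normal] [Fintype X] [Fintype Q]
    (hQX : Q ≤ X) (θh : X → ℂ) (hθh : Cfsg.IsIrrCharacter X θh)
    (hθ : Cfsg.IsIrrCharacter Q (rres hQX θh)) :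
    (∀ β : X → ℂ, Cfsg.IsIrrCharacter X β → (∀ t : X, (t : G) ∈ Q → β t = β 1) →
      Cfsg.IsIrrCharacter X (β * θh) ∧
        Cfsg.classInner (rres hQX (β * θh)) (rres hQX θh) ≠ 0) ∧
    (∀ β β' : X → ℂ, Cfsg.IsIrrCharacter X β → (∀ t : X, (t : G) ∈ Q → β t = β 1) →
      Cfsg.IsIrrCharacter X β' → (∀ t : X, (t : G) ∈ Q → β' t = β' 1) →
      β * θh = β' * θh → β = β') ∧
    (∀ ψ : X → ℂ, Cfsg.IsIrrCharacter X ψ →
      Cfsg.classInner (rres hQX ψ) (rres hQX θh) ≠ 0 →
      ∃ β : X → ℂ, Cfsg.IsIrrCharacter X β ∧ (∀ t : X, (t : G) ∈ Q → β t = β 1) ∧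
        ψ = β * θh) := by
  classical
  haveI : (Q.subgroupOf X).Normal := Subgroup.normal_subgroupOf
  haveI : Fintype (Q.subgroupOf X) := Fintype.ofFinite _
  set e : Q.subgroupOf X ≃* Q := Subgroup.subgroupOfEquivOfLe hQX with he
  have hπA : Cfsg.IsIrrCharacter (Q.subgroupOf X) (fun a : Q.subgroupOf X => θh a) :=
    Cfsg.Agent.S1489.isIrrCharacter_comp_iso hθ e
  obtain ⟨hmaps, hinj⟩ := gal_bij (Q.subgroupOf X) hθh hπA
  have hθhcf := isClassFunction_of_isIrrCharacter hθh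
  refine ⟨?_, ?_, ?_⟩
  · intro β hβ htr
    refine ⟨hmaps β hβ (fun a ha => htr a ha), ?_⟩
    have e1 : rres hQX (β * θh) = (β 1) • rres hQX θh := by
      funext q
      show β ⟨q, hQX q.2⟩ * θh ⟨q, hQX q.2⟩ = β 1 * θh ⟨q, hQX q.2⟩
      rw [htr ⟨q, hQX q.2⟩ q.2]
    rw [e1, classInner_smul_left, classInner_irr_self hθ, mul_one]
    obtain ⟨n, hn0, hn⟩ := irr_apply_one hβ
    rw [hn]
    exact_mod_cast hn0.ne'
  · intro β β' hβ htr hβ' htr' h
    exact hinj β β' hβ (fun a ha => htr a ha) hβ' (fun a ha => htr' a ha) h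
  · intro ψ hψ hov
    have hprodeq : ((fun _ => (1 : ℂ)) * (fun x : Q.subgroupOf X => θh x) : Q.subgroupOf X → ℂ)
        = fun x : Q.subgroupOf X => θh x := by
      funext x
      simp
    have hbij := Cfsg.Agent.S0856.result (Q.subgroupOf X) (fun _ => (1 : ℂ))
      (fun x : Q.subgroupOf X => θh x) isIrrCharacter_one hπA (fun _ _ => rfl)
      (fun γ x => hθhcf x γ) (by rw [hprodeq]; exact hπA) θh hθh (fun x => rfl)
    have hmem : ψ ∈ {ψ : X → ℂ | Cfsg.IsIrrCharacter X ψ ∧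
        Cfsg.classInner (Cfsg.indFun (Q.subgroupOf X)
          ((fun _ => (1 : ℂ)) * (fun x : Q.subgroupOf X => θh x))) ψ ≠ 0} := by
      refine ⟨hψ, ?_⟩
      rw [hprodeq, frobenius_reciprocity (Q.subgroupOf X) _ ψ
        (isClassFunction_of_isIrrCharacter hψ)]
      have e2 : Cfsg.classInner (fun x : Q.subgroupOf X => θh x)
          (fun h : Q.subgroupOf X => ψ h)
          = Cfsg.classInner (rres hQX θh) (rres hQX ψ) :=
        Cfsg.Agent.S1489.classInner_comp_iso e (rres hQX θh) (rres hQX ψ)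
      rw [e2, ← classInner_conj_symm]
      intro h0
      apply hov
      have := congrArg (starRingEnd ℂ) h0
      simpa using this
    obtain ⟨β, ⟨hβ, hβov⟩, hβψ⟩ := hbij.surjOn hmem
    refine ⟨β, hβ, ?_, hβψ.symm⟩
    rw [frobenius_reciprocity (Q.subgroupOf X) _ _ (isClassFunction_of_isIrrCharacter hβ)]
      at hβov
    have hcon' : Cfsg.classInner (fun x : Q.subgroupOf X => β x)
        (fun x => (((1 : Q.subgroupOf X →* ℂˣ) x : ℂˣ) : ℂ)) ≠ 0 := by
      intro h0
      apply hβov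
      have h1 := classInner_conj_symm (fun x : Q.subgroupOf X => β x)
        (fun x => (((1 : Q.subgroupOf X →* ℂˣ) x : ℂˣ) : ℂ))
      rw [h0, map_zero] at h1
      rw [h1]
      rfl
    have hres := restrict_of_linear_inv (Q.subgroupOf X) hβ (1 : Q.subgroupOf X →* ℂˣ)
      (fun _ _ => rfl) hcon'
    intro t ht
    have := hres ⟨t, ht⟩
    simpa using this

/-- the multiplicity identity behind the local correspondence -/
theorem local_key [Finite G] (Q T D : Subgroup G) [hQ : Q.Normal] [Fintype T] [Fintype D]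
    [Fintype Q] (hQD : Q ≤ D) (hDT : D ≤ T) (θh : T → ℂ)
    (hθ : Cfsg.IsIrrCharacter Q (rres (hQD.trans hDT) θh))
    (hθD : Cfsg.IsIrrCharacter D (rres hDT θh))
    {β : T → ℂ} (hβ : Cfsg.IsIrrCharacter T β) (hβtr : ∀ t : T, (t : G) ∈ Q → β t = β 1)
    {γ : D → ℂ} (hγ : Cfsg.IsIrrCharacter D γ) (hγtr : ∀ d : D, (d : G) ∈ Q → γ d = γ 1) :
    Cfsg.classInner (rres hDT (β * θh)) (γ * rres hDT θh)
      = Cfsg.classInner (rres hDT β) γ := by
  classical
  haveI := Fintype.ofFinite (Cfsg.IrrCharacter D)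
  obtain ⟨hmaps, hinj, -⟩ := rel_gallagher Q D hQD (rres hDT θh) hθD hθ
  have hΘ : Cfsg.IsCharacter D (rres hDT β) :=
    rres_isCharacter hDT (isCharacter_of_isIrrCharacter hβ)
  have hexp := class_fun_expand (rres hDT β) (isClassFunction_of_isCharacter hΘ)
  have e1 : rres hDT (β * θh) = ∑ γ' : Cfsg.IrrCharacter D,
      Cfsg.classInner (rres hDT β) γ' • ((γ' : D → ℂ) * rres hDT θh) := by
    rw [rres_mul]
    conv_lhs => rw [hexp]
    rw [Finset.sum_mul]
    apply Finset.sum_congr rfl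
    intro γ' _
    funext d
    simp only [Pi.mul_apply, Pi.smul_apply, smul_eq_mul]
    ring
  rw [e1, classInner_sum_left]
  have e2 : ∀ γ' : Cfsg.IrrCharacter D,
      Cfsg.classInner (Cfsg.classInner (rres hDT β) γ' • ((γ' : D → ℂ) * rres hDT θh))
        (γ * rres hDT θh)
      = if γ' = ⟨γ, hγ⟩ then Cfsg.classInner (rres hDT β) γ else 0 := by
    intro γ'
    rw [classInner_smul_left]
    by_cases h0 : Cfsg.classInner (rres hDT β) γ' = 0
    · rw [h0, zero_mul]
      split_ifs with h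
      · rw [h] at h0
        exact h0.symm
      · rfl
    · have htr' : ∀ d : D, (d : G) ∈ Q → (γ' : D → ℂ) d = (γ' : D → ℂ) 1 := by
        intro d hd
        apply constituent_apply_eq hΘ γ'.2 h0
        show β ⟨d, hDT d.2⟩ = β ⟨(1 : D), hDT (1 : D).2⟩
        rw [hβtr ⟨d, hDT d.2⟩ hd]
        rfl
      have hirr' := (hmaps γ' γ'.2 htr').1
      have hirr := (hmaps γ hγ hγtr).1
      split_ifs with h
      · subst h
        rw [classInner_irr_self hirr', mul_one]
      · rw [classInner_irr_ne hirr' hirr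
          (fun heq => h (Subtype.ext (hinj γ' γ γ'.2 htr' hγ hγtr heq))), mul_zero]
  simp only [e2]
  rw [Finset.sum_ite_eq' Finset.univ (⟨γ, hγ⟩ : Cfsg.IrrCharacter D)
    (fun _ => Cfsg.classInner (rres hDT β) γ)]
  simp

end relg3

end Cfsg.Agent.Lib.Helper2
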