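import Mathlib
import Cfsg.Agent.Lib.Helper2.RelG3
import Cfsg.Agent.Lib.Helper2.DetExt
import Cfsg.Agent.Lib.Helper2.CharIto

set_option autoImplicit false

/-! Relative Glauberman correspondence, part 4: the invariant extension of an invariant
character of the normal Sylow subgroup, and the local correspondence. -/

namespace Cfsg.Agent.Lib.Helper2

open scoped ComplexConjugate

section relg4

theorem detOrder_comp_mulEquiv {X : Type*} [Group X] [Finite X] {χ : X → ℂ}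
    (hχ : Cfsg.IsCharacter X χ) (a : X ≃* X) :
    Cfsg.detOrder (χ ∘ a) = Cfsg.detOrder χ := by
  unfold Cfsg.detOrder
  have h1 : Cfsg.detChar (χ ∘ a) = Cfsg.detChar χ ∘ a := detChar_comp hχ a.toMonoidHom
  rw [h1]
  apply orderOf_eq_orderOf_iff.mpr
  intro n
  constructor
  · intro h
    funext x
    have := congrFun h (a.symm x)
    simpa using this
  · intro h
    funext x
    have := congrFun h (a x)
    simpa using this

variable {G : Type*} [Group G]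

/-- an invariant irreducible character of the normal `p`-subgroup `Q` has a `P`-invariant
extension to any subgroup `T` of its inertia group with `[T:Q]` prime to `p` -/
theorem exists_inv_ext [Finite G] (p : ℕ) [hp : Fact p.Prime] (Q T P : Subgroup G)
    [hQ : Q.Normal] [Fintype T] [Fintype Q] (hQT : Q ≤ T)
    (hPT : ∀ s ∈ P, ∀ t ∈ T, s * t * s⁻¹ ∈ T)
    (hQp : ∃ a : ℕ, Nat.card Q = p ^ a) (hcop : ¬ p ∣ Q.relIndex T)
    (θ : Q → ℂ) (hθ : Cfsg.IsIrrCharacter Q θ) (hTθ : T ≤ inertia Q θ) (hθinv : SInv Q P θ) :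
    ∃ θh : T → ℂ, Cfsg.IsIrrCharacter T θh ∧ rres hQT θh = θ ∧ SInv T P θh := by
  classical
  haveI hQTn : (Q.subgroupOf T).Normal := Subgroup.normal_subgroupOf
  set e : Q.subgroupOf T ≃* Q := Subgroup.subgroupOfEquivOfLe hQT with he
  have hϑ : Cfsg.IsIrrCharacter (Q.subgroupOf T) (θ ∘ e) :=
    Cfsg.Agent.S1489.isIrrCharacter_comp_iso hθ e
  have hinv : ∀ (g : T) (n : Q.subgroupOf T),
      (θ ∘ e) ⟨g * n * g⁻¹, hQTn.conj_mem (n : T) n.2 g⟩ = (θ ∘ e) n := by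
    intro g n
    have h1 : conjFun Q θ (g : G) = θ := hTθ g.2
    have h2 := congrFun h1 (e n)
    rw [conjFun_apply] at h2
    show θ (e ⟨g * n * g⁻¹, _⟩) = θ (e n)
    rw [← h2]
    congr 1
  obtain ⟨d, hd0, hd⟩ := irr_apply_one hθ
  have hd' : (θ ∘ e) 1 = d := by
    show θ (e 1) = d
    rw [map_one]
    exact hd
  obtain ⟨a, ha⟩ := hQp
  have hcardN : Nat.card (Q.subgroupOf T) = p ^ a := by rw [Nat.card_congr e.toEquiv, ha]
  have hcop' : Nat.Coprime (Q.subgroupOf T).index (Cfsg.detOrder (θ ∘ e) * d) := by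
    have h1 : Cfsg.detOrder (θ ∘ e) ∣ p ^ a :=
      hcardN ▸ detOrder_dvd_card (isCharacter_of_isIrrCharacter hϑ)
    have h2 : d ∣ p ^ a := ha ▸ irr_deg_dvd_card' hθ d hd
    have h3 : Nat.Coprime (Q.subgroupOf T).index p :=
      ((Nat.Prime.coprime_iff_not_dvd hp.out).mpr hcop).symm
    exact Nat.Coprime.mul_right
      (Nat.Coprime.coprime_dvd_right h1 (Nat.Coprime.pow_right a h3))
      (Nat.Coprime.coprime_dvd_right h2 (Nat.Coprime.pow_right a h3))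
  obtain ⟨θh, ⟨hθh, hext, hdet⟩, huniq⟩ := unique_ext_coprime (Q.subgroupOf T) hϑ hinv hd' hcop'
  have hPT' : ∀ s ∈ P, ∀ t ∈ T, s⁻¹ * t * s ∈ T := by
    intro s hs t ht
    have := hPT s⁻¹ (inv_mem hs) t ht
    simpa using this
  refine ⟨θh, hθh, ?_, ?_⟩
  · funext q
    have := hext (e.symm q)
    rw [Function.comp_apply, e.apply_symm_apply] at this
    rw [← this]
    rfl
  · intro s hs g g' hg
    set a : MulAut T := conjAut T s (hPT s hs) (hPT' s hs) with ha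
    have hag : a g = g' := Subtype.ext (by rw [hg]; rfl)
    have h1 : Cfsg.IsIrrCharacter T (θh ∘ a) := isIrrCharacter_comp_mulEquiv hθh a
    have h2 : ∀ n : Q.subgroupOf T, (θh ∘ a) n = (θ ∘ e) n := by
      intro n
      have hmem : a (n : T) ∈ Q.subgroupOf T := by
        rw [Subgroup.mem_subgroupOf]
        show s * n * s⁻¹ ∈ Q
        exact hQ.conj_mem _ (Subgroup.mem_subgroupOf.mp n.2) s
      have h3 := hext ⟨a n, hmem⟩
      show θh (a n) = θ (e n)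
      have h4 : θh (a n) = (θ ∘ e) ⟨a n, hmem⟩ := h3
      rw [h4]
      show θ (e ⟨a n, hmem⟩) = θ (e n)
      exact hθinv s hs (e n) (e ⟨a n, hmem⟩) rfl
    have h3 : Cfsg.detOrder (θh ∘ a) = Cfsg.detOrder θh :=
      detOrder_comp_mulEquiv (isCharacter_of_isIrrCharacter hθh) a
    have h4 := huniq (θh ∘ a) h1 h2 (by
      rw [h3, hdet]
      exact Nat.Coprime.coprime_mul_right_right hcop')
    rw [← hag]
    exact congrFun h4 g

/-- the local correspondence: over a `P`-invariant irreducible character `θ` of `Q` with a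
`P`-invariant extension to `T`, the `P`-invariant characters of `T` over `θ` correspond to the
characters of `D` over `θ`. -/
theorem local_glaub [Finite G] (p : ℕ) [hp : Fact p.Prime] (Q T D P : Subgroup G)
    [hQ : Q.Normal] [Fintype T] [Fintype D] [Fintype Q] (hQD : Q ≤ D) (hDT : D ≤ T)
    (hP : IsPGroup p P) (hPT : ∀ s ∈ P, ∀ t ∈ T, s * t * s⁻¹ ∈ T) (hcop : ¬ p ∣ Q.relIndex T)
    (hD : ∀ t, t ∈ D ↔ t ∈ T ∧ ∀ x ∈ P, x * t * x⁻¹ * t⁻¹ ∈ Q)
    (θ : Q → ℂ) (hθ : Cfsg.IsIrrCharacter Q θ) (θh : T → ℂ) (hθh : Cfsg.IsIrrCharacter T θh)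
    (hext : rres (hQD.trans hDT) θh = θ) (hθhinv : SInv T P θh) :
    (∀ ψ : T → ℂ, Cfsg.IsIrrCharacter T ψ → SInv T P ψ →
      Cfsg.classInner (rres (hQD.trans hDT) ψ) θ ≠ 0 →
      ∃ η₀ : D → ℂ, Cfsg.IsIrrCharacter D η₀ ∧ Cfsg.classInner (rres hQD η₀) θ ≠ 0 ∧
        (∃ m : ℕ, Cfsg.classInner (rres hDT ψ) η₀ = (m : ℂ) ∧
          ((m : ℤ) ≡ 1 [ZMOD p] ∨ (m : ℤ) ≡ -1 [ZMOD p])) ∧
        ∀ η : D → ℂ, Cfsg.IsIrrCharacter D η → Cfsg.classInner (rres hQD η) θ ≠ 0 → η ≠ η₀ →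
          ∃ m : ℕ, Cfsg.classInner (rres hDT ψ) η = (m : ℂ) ∧ p ∣ m) ∧
    (∀ ψ ψ' : T → ℂ, Cfsg.IsIrrCharacter T ψ → SInv T P ψ →
      Cfsg.classInner (rres (hQD.trans hDT) ψ) θ ≠ 0 → Cfsg.IsIrrCharacter T ψ' →
      SInv T P ψ' → Cfsg.classInner (rres (hQD.trans hDT) ψ') θ ≠ 0 →
      ∀ η : D → ℂ, Cfsg.IsIrrCharacter D η → Cfsg.classInner (rres hQD η) θ ≠ 0 →
      ∀ m m' : ℕ, Cfsg.classInner (rres hDT ψ) η = (m : ℂ) → ¬ p ∣ m →
        Cfsg.classInner (rres hDT ψ') η = (m' : ℂ) → ¬ p ∣ m' → ψ = ψ') ∧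
    (∀ η : D → ℂ, Cfsg.IsIrrCharacter D η → Cfsg.classInner (rres hQD η) θ ≠ 0 →
      ∃ ψ : T → ℂ, Cfsg.IsIrrCharacter T ψ ∧ SInv T P ψ ∧
        Cfsg.classInner (rres (hQD.trans hDT) ψ) θ ≠ 0 ∧
        ∃ m : ℕ, Cfsg.classInner (rres hDT ψ) η = (m : ℂ) ∧ ¬ p ∣ m) ∧
    (∀ η : D → ℂ, Cfsg.IsIrrCharacter D η → Cfsg.classInner (rres hQD η) θ ≠ 0 →
      SInv D P η) := by
  classical
  subst hext
  have hθD : Cfsg.IsIrrCharacter D (rres hDT θh) :=
    irr_of_rres_irr hQD (rres_isCharacter hDT (isCharacter_of_isIrrCharacter hθh)) hθ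
  obtain ⟨mapsT, injT, surjT⟩ := rel_gallagher Q T (hQD.trans hDT) θh hθh hθ
  obtain ⟨mapsD, injD, surjD⟩ := rel_gallagher Q D hQD (rres hDT θh) hθD hθ
  obtain ⟨q1, q2, q3⟩ := quot_glaub p Q T D P hDT hP hPT hcop hD
  have hPT' : ∀ s ∈ P, ∀ t ∈ T, s⁻¹ * t * s ∈ T := by
    intro s hs t ht
    have := hPT s⁻¹ (inv_mem hs) t ht
    simpa using this
  have hs1 : ∀ β : T → ℂ, Cfsg.IsIrrCharacter T β → (∀ t : T, (t : G) ∈ Q → β t = β 1) →
      SInv T P (β * θh) → SInv T P β := by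
    intro β hβ htr hinv s hs g g' hg
    set a : MulAut T := conjAut T s (hPT s hs) (hPT' s hs) with ha
    have hag : a g = g' := Subtype.ext (by rw [hg]; rfl)
    have hβ' : Cfsg.IsIrrCharacter T (β ∘ a) := isIrrCharacter_comp_mulEquiv hβ a
    have htr' : ∀ t : T, (t : G) ∈ Q → (β ∘ a) t = (β ∘ a) 1 := by
      intro t ht
      show β (a t) = β (a 1)
      rw [map_one]
      apply htr
      show s * t * s⁻¹ ∈ Q
      exact hQ.conj_mem _ ht s
    have heq : (β ∘ a) * θh = β * θh := by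
      funext t
      show β (a t) * θh t = β t * θh t
      have h1 : θh (a t) = θh t := hθhinv s hs t (a t) rfl
      have h2 : β (a t) * θh (a t) = β t * θh t := hinv s hs t (a t) rfl
      rw [h1] at h2
      exact h2
    have := injT (β ∘ a) β hβ' htr' hβ htr heq
    rw [← hag]
    exact congrFun this g
  have hs2 : ∀ β : T → ℂ, SInv T P β → SInv T P (β * θh) := by
    intro β hinv s hs g g' hg
    show β g' * θh g' = β g * θh g
    rw [hinv s hs g g' hg, hθhinv s hs g g' hg]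
  have hL4 : ∀ η : D → ℂ, Cfsg.IsIrrCharacter D η →
      Cfsg.classInner (rres hQD η) (rres (hQD.trans hDT) θh) ≠ 0 → SInv D P η := by
    intro η hη hov s hs g g' hg
    obtain ⟨γ, hγ, hγtr, rfl⟩ := surjD η hη hov
    show γ g' * rres hDT θh g' = γ g * rres hDT θh g
    have h1 : rres hDT θh g' = rres hDT θh g :=
      hθhinv s hs ⟨g, hDT g.2⟩ ⟨g', hDT g'.2⟩ hg
    haveI : (Q.subgroupOf D).Normal := Subgroup.normal_subgroupOf
    have hn : g' * g⁻¹ ∈ Q.subgroupOf D := by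
      rw [Subgroup.mem_subgroupOf]
      show (g' : G) * (g : G)⁻¹ ∈ Q
      rw [hg]
      exact ((hD g).mp g.2).2 s hs
    have h2 : γ (g' * g⁻¹ * g) = γ g :=
      irr_mul_of_triv (Q.subgroupOf D) hγ (fun n hn => hγtr n hn) hn g
    rw [inv_mul_cancel_right] at h2
    rw [h2, h1]
  refine ⟨?_, ?_, ?_, hL4⟩
  · intro ψ hψ hinv hov
    obtain ⟨β, hβ, hβtr, rfl⟩ := surjT ψ hψ hov
    have hβinv := hs1 β hβ hβtr hinv
    obtain ⟨γ₀, hγ₀, hγ₀tr, ⟨m, hm, hmod⟩, hoth⟩ := q1 β hβ hβtr hβinv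
    refine ⟨γ₀ * rres hDT θh, (mapsD γ₀ hγ₀ hγ₀tr).1, (mapsD γ₀ hγ₀ hγ₀tr).2,
      ⟨m, ?_, hmod⟩, ?_⟩
    · rw [local_key Q T D hQD hDT θh hθ hθD hβ hβtr hγ₀ hγ₀tr]
      exact hm
    · intro η hη hηov hne
      obtain ⟨γ, hγ, hγtr, rfl⟩ := surjD η hη hηov
      obtain ⟨m', hm', hd⟩ := hoth γ hγ hγtr (fun h => hne (by rw [h]))
      refine ⟨m', ?_, hd⟩
      rw [local_key Q T D hQD hDT θh hθ hθD hβ hβtr hγ hγtr]
      exact hm'
  · intro ψ ψ' hψ hinv hov hψ' hinv' hov' η hη hηov m m' hm hmd hm' hmd'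
    obtain ⟨β, hβ, hβtr, rfl⟩ := surjT ψ hψ hov
    obtain ⟨β', hβ', hβ'tr, rfl⟩ := surjT ψ' hψ' hov'
    obtain ⟨γ, hγ, hγtr, rfl⟩ := surjD η hη hηov
    rw [local_key Q T D hQD hDT θh hθ hθD hβ hβtr hγ hγtr] at hm
    rw [local_key Q T D hQD hDT θh hθ hθD hβ' hβ'tr hγ hγtr] at hm'
    rw [q2 β β' hβ hβtr (hs1 β hβ hβtr hinv) hβ' hβ'tr (hs1 β' hβ' hβ'tr hinv') γ hγ hγtr
      m m' hm hmd hm' hmd']
  · intro η hη hηov
    obtain ⟨γ, hγ, hγtr, rfl⟩ := surjD η hη hηov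
    obtain ⟨β, hβ, hβtr, hβinv, m, hm, hmd⟩ := q3 γ hγ hγtr
    refine ⟨β * θh, (mapsT β hβ hβtr).1, hs2 β hβinv, (mapsT β hβ hβtr).2, m, ?_, hmd⟩
    rw [local_key Q T D hQD hDT θh hθ hθD hβ hβtr hγ hγtr]
    exact hm

end relg4

end Cfsg.Agent.Lib.Helper2
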