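import Mathlib
import Cfsg.Agent.Lib.Helper2.RelG4
import Cfsg.Agent.Lib.Helper2.CharMono

set_option autoImplicit false

/-! Relative Glauberman correspondence, part 5: the Clifford correspondence for a subgroup
`H` containing the normal subgroup `Q`, phrased without induced functions. -/

namespace Cfsg.Agent.Lib.Helper2

open scoped ComplexConjugate

section relg5

variable {G : Type*} [Group G]

/-- the Clifford relation between a character `χ` of `H` and a character `ψ` of `J ≤ H`: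
`χ` behaves as the function induced from `ψ`, and both lie over `θ` with equal
multiplicity -/
def RC {H J Q : Subgroup G} [Fintype H] [Fintype J] [Fintype Q] (hJH : J ≤ H) (hQJ : Q ≤ J)
    (θ : Q → ℂ) (χ : H → ℂ) (ψ : J → ℂ) : Prop :=
  (∀ Φ : H → ℂ, Cfsg.IsClassFunction H Φ →
      Cfsg.classInner Φ χ = Cfsg.classInner (rres hJH Φ) ψ) ∧
    Cfsg.classInner (rres (hQJ.trans hJH) χ) θ = Cfsg.classInner (rres hQJ ψ) θ

/-- Clifford correspondence for a subgroup `H` containing the normal subgroup `Q`, with `J`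
the stabiliser of `θ` in `H` -/
theorem rel_clifford [Finite G] (Q H J : Subgroup G) [hQ : Q.Normal] [Fintype H] [Fintype J]
    [Fintype Q] (hQJ : Q ≤ J) (hJH : J ≤ H) (θ : Q → ℂ) (hθ : Cfsg.IsIrrCharacter Q θ)
    (hJ : ∀ g : G, g ∈ J ↔ g ∈ H ∧ g ∈ inertia Q θ) :
    (∀ χ : H → ℂ, Cfsg.IsIrrCharacter H χ →
      Cfsg.classInner (rres (hQJ.trans hJH) χ) θ ≠ 0 →
      ∃ ψ : J → ℂ, Cfsg.IsIrrCharacter J ψ ∧ Cfsg.classInner (rres hQJ ψ) θ ≠ 0 ∧
        RC hJH hQJ θ χ ψ) ∧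
    (∀ ψ : J → ℂ, Cfsg.IsIrrCharacter J ψ → Cfsg.classInner (rres hQJ ψ) θ ≠ 0 →
      ∃ χ : H → ℂ, Cfsg.IsIrrCharacter H χ ∧ RC hJH hQJ θ χ ψ) ∧
    (∀ (χ : H → ℂ) (ψ ψ' : J → ℂ), Cfsg.IsIrrCharacter H χ → Cfsg.IsIrrCharacter J ψ →
      Cfsg.classInner (rres hQJ ψ) θ ≠ 0 → Cfsg.IsIrrCharacter J ψ' →
      Cfsg.classInner (rres hQJ ψ') θ ≠ 0 → RC hJH hQJ θ χ ψ → RC hJH hQJ θ χ ψ' →
      ψ = ψ') := by
  classical
  haveI hN' : (Q.subgroupOf H).Normal := Subgroup.normal_subgroupOf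
  haveI : Fintype (Q.subgroupOf H) := Fintype.ofFinite _
  haveI : Fintype (J.subgroupOf H) := Fintype.ofFinite _
  letI : Fintype ((Q.subgroupOf H).subgroupOf (J.subgroupOf H)) := Fintype.ofFinite _
  set eN : Q.subgroupOf H ≃* Q := Subgroup.subgroupOfEquivOfLe (hQJ.trans hJH) with heN
  set eT : J.subgroupOf H ≃* J := Subgroup.subgroupOfEquivOfLe hJH with heT
  have hθ' : Cfsg.IsIrrCharacter (Q.subgroupOf H) (θ ∘ eN) :=
    Cfsg.Agent.S1489.isIrrCharacter_comp_iso hθ eN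
  have hNT' : Q.subgroupOf H ≤ J.subgroupOf H := fun n hn => by
    rw [Subgroup.mem_subgroupOf] at hn ⊢
    exact hQJ hn
  set e₃ : (Q.subgroupOf H).subgroupOf (J.subgroupOf H) ≃* Q :=
    (Subgroup.subgroupOfEquivOfLe hNT').trans eN with he₃
  have hT' : ∀ g : H, g ∈ J.subgroupOf H ↔ ∀ h : Q.subgroupOf H,
      (θ ∘ eN) ⟨g * h * g⁻¹, hN'.conj_mem h h.2 g⟩ = (θ ∘ eN) h := by
    intro g
    rw [Subgroup.mem_subgroupOf, hJ]
    constructor
    · rintro ⟨-, hg⟩ h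
      have h1 : conjFun Q θ (g : G) = θ := hg
      have h2 := congrFun h1 (eN h)
      rw [conjFun_apply] at h2
      show θ (eN ⟨g * h * g⁻¹, _⟩) = θ (eN h)
      rw [← h2]
      congr 1
    · intro hg
      refine ⟨g.2, ?_⟩
      show conjFun Q θ (g : G) = θ
      funext q
      rw [conjFun_apply]
      have := hg (eN.symm q)
      rw [Function.comp_apply, Function.comp_apply, eN.apply_symm_apply] at this
      rw [← this]
      congr 1
  set θ'' : (Q.subgroupOf H).subgroupOf (J.subgroupOf H) → ℂ :=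
    fun x => (θ ∘ eN) ⟨(x : J.subgroupOf H), Subgroup.mem_subgroupOf.mp x.2⟩ with hθ''
  have hθ''irr : Cfsg.IsIrrCharacter ((Q.subgroupOf H).subgroupOf (J.subgroupOf H)) θ'' :=
    Cfsg.Agent.S1489.isIrrCharacter_comp_iso hθ e₃
  have tov : ∀ ψ : J → ℂ,
      Cfsg.classInner (fun x : (Q.subgroupOf H).subgroupOf (J.subgroupOf H) =>
        (ψ ∘ eT) (x : J.subgroupOf H)) θ'' = Cfsg.classInner (rres hQJ ψ) θ :=
    fun ψ => Cfsg.Agent.S1489.classInner_comp_iso e₃ (rres hQJ ψ) θ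
  have tovχ : ∀ χ : H → ℂ,
      Cfsg.classInner (fun n : (Q.subgroupOf H).subgroupOf (J.subgroupOf H) =>
        χ ((n : J.subgroupOf H) : H)) θ'' = Cfsg.classInner (rres (hQJ.trans hJH) χ) θ :=
    fun χ => Cfsg.Agent.S1489.classInner_comp_iso e₃ (rres (hQJ.trans hJH) χ) θ
  have T1 : ∀ (Φ : H → ℂ) (ψ : J → ℂ),
      Cfsg.classInner (fun t : J.subgroupOf H => Φ t) (ψ ∘ eT)
        = Cfsg.classInner (rres hJH Φ) ψ :=
    fun Φ ψ => Cfsg.Agent.S1489.classInner_comp_iso eT (rres hJH Φ) ψ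
  have hirrT : ∀ ψ : J → ℂ, Cfsg.IsIrrCharacter J ψ →
      Cfsg.IsIrrCharacter (J.subgroupOf H) (ψ ∘ eT) :=
    fun ψ hψ => Cfsg.Agent.S1489.isIrrCharacter_comp_iso hψ eT
  have hcof : ∀ ψ : J → ℂ, Cfsg.IsIrrCharacter J ψ → Cfsg.classInner (rres hQJ ψ) θ ≠ 0 →
      Cfsg.classInner (Cfsg.indFun ((Q.subgroupOf H).subgroupOf (J.subgroupOf H)) θ'')
        (ψ ∘ eT) ≠ 0 := by
    intro ψ hψ hov
    rw [frobenius_reciprocity _ θ'' (ψ ∘ eT) (isClassFunction_of_isIrrCharacter (hirrT ψ hψ)),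
      ← classInner_conj_symm, tov]
    intro h0
    apply hov
    have := congrArg (starRingEnd ℂ) h0
    simpa using this
  have RC1 : ∀ (ψ : J → ℂ) (Φ : H → ℂ), Cfsg.IsClassFunction H Φ →
      Cfsg.classInner Φ (Cfsg.indFun (J.subgroupOf H) (ψ ∘ eT))
        = Cfsg.classInner (rres hJH Φ) ψ := by
    intro ψ Φ hΦ
    rw [← classInner_conj_symm, frobenius_reciprocity (J.subgroupOf H) (ψ ∘ eT) Φ hΦ,
      classInner_conj_symm, T1]
  refine ⟨?_, ?_, ?_⟩
  · intro χ hχ hov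
    have hχc := isCharacter_of_isIrrCharacter hχ
    have hχT : Cfsg.IsCharacter (J.subgroupOf H) (fun t : J.subgroupOf H => χ t) :=
      IsCharacter.restrict hχc (J.subgroupOf H)
    have hΦc : Cfsg.classInner
        (Cfsg.indFun ((Q.subgroupOf H).subgroupOf (J.subgroupOf H)) θ'')
        (fun t : J.subgroupOf H => χ t) ≠ 0 := by
      rw [frobenius_reciprocity _ θ'' _ (isClassFunction_of_isCharacter hχT),
        ← classInner_conj_symm]
      have := tovχ χ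
      intro h0
      apply hov
      rw [← this]
      have h1 := congrArg (starRingEnd ℂ) h0
      simpa using h1
    obtain ⟨ψ', hψ', hc, hψχ⟩ := exists_common_constituent
      (isClassFunction_of_isCharacter
        (indFun_isCharacter _ (isCharacter_of_isIrrCharacter hθ''irr))) hΦc
    have hχc' : Cfsg.classInner (Cfsg.indFun (J.subgroupOf H) ψ') χ ≠ 0 := by
      rw [frobenius_reciprocity (J.subgroupOf H) ψ' _ (isClassFunction_of_isIrrCharacter hχ),
        ← classInner_conj_symm]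
      intro h0
      apply hψχ
      have := congrArg (starRingEnd ℂ) h0
      simpa using this
    obtain ⟨hind, hmult⟩ := Cfsg.Agent.S1489.main (Q.subgroupOf H) (J.subgroupOf H) (θ ∘ eN)
      hθ' hT' hNT' ψ' hψ' hc χ hχ hχc'
    have hcomp : (ψ' ∘ eT.symm) ∘ eT = ψ' := by
      funext t
      simp
    have hmult' : Cfsg.classInner (rres (hQJ.trans hJH) χ) θ
        = Cfsg.classInner (rres hQJ (ψ' ∘ eT.symm)) θ := by
      rw [← tovχ χ, ← tov (ψ' ∘ eT.symm), hcomp]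
      exact hmult
    refine ⟨ψ' ∘ eT.symm, Cfsg.Agent.S1489.isIrrCharacter_comp_iso hψ' eT.symm, ?_, ?_, hmult'⟩
    · rw [← hmult']
      exact hov
    · intro Φ hΦ
      have := RC1 (ψ' ∘ eT.symm) Φ hΦ
      rw [hcomp, hind] at this
      exact this
  · intro ψ hψ hov
    have hψ' := hirrT ψ hψ
    have hc := hcof ψ hψ hov
    obtain ⟨hirr, -⟩ := Cfsg.Agent.S1489.result (Q.subgroupOf H) (J.subgroupOf H) (θ ∘ eN)
      hθ' hT' hNT' (ψ ∘ eT) (ψ ∘ eT) hψ' hψ' hc hc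
    obtain ⟨-, hmult⟩ := Cfsg.Agent.S1489.main (Q.subgroupOf H) (J.subgroupOf H) (θ ∘ eN)
      hθ' hT' hNT' (ψ ∘ eT) hψ' hc _ hirr (by
        rw [classInner_irr_self hirr]
        exact one_ne_zero)
    refine ⟨Cfsg.indFun (J.subgroupOf H) (ψ ∘ eT), hirr, RC1 ψ, ?_⟩
    rw [← tovχ, ← tov ψ]
    exact hmult
  · intro χ ψ ψ' hχ hψ hov hψ' hov' hrc hrc'
    obtain ⟨hirr, hinj⟩ := Cfsg.Agent.S1489.result (Q.subgroupOf H) (J.subgroupOf H) (θ ∘ eN)
      hθ' hT' hNT' (ψ ∘ eT) (ψ' ∘ eT) (hirrT ψ hψ) (hirrT ψ' hψ') (hcof ψ hψ hov)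
      (hcof ψ' hψ' hov')
    obtain ⟨hirr', -⟩ := Cfsg.Agent.S1489.result (Q.subgroupOf H) (J.subgroupOf H) (θ ∘ eN)
      hθ' hT' hNT' (ψ' ∘ eT) (ψ' ∘ eT) (hirrT ψ' hψ') (hirrT ψ' hψ') (hcof ψ' hψ' hov')
      (hcof ψ' hψ' hov')
    have key : ∀ ψ₀ : J → ℂ, Cfsg.IsIrrCharacter H
        (Cfsg.indFun (J.subgroupOf H) (ψ₀ ∘ eT)) → RC hJH hQJ θ χ ψ₀ →
        Cfsg.indFun (J.subgroupOf H) (ψ₀ ∘ eT) = χ := by
      intro ψ₀ hi hr
      by_contra hne
      have h1 := hr.1 _ (isClassFunction_of_isIrrCharacter hi)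
      have h2 := RC1 ψ₀ _ (isClassFunction_of_isIrrCharacter hi)
      rw [← h2, classInner_irr_self hi, classInner_irr_ne hi hχ hne] at h1
      exact zero_ne_one h1
    have e1 := key ψ hirr hrc
    have e2 := key ψ' hirr' hrc'
    have e3 := hinj (e1.trans e2.symm)
    funext j
    have := congrFun e3 (eT.symm j)
    simpa using this

end relg5

end Cfsg.Agent.Lib.Helper2
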