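import Mathlib
import Cfsg.Agent.Lib.Helper2.RelG5

set_option autoImplicit false

/-! Relative Glauberman correspondence, part 6: invariance under the operator group,
conjugacy of the invariant constituents, and the multiplicity formula. -/

namespace Cfsg.Agent.Lib.Helper2

open scoped ComplexConjugate

section relg6

variable {G : Type*} [Group G]

/-- conjugation by an element of a subgroup `P` normalising `X` -/
def cjAut (X P : Subgroup G) (hPX : ∀ s ∈ P, ∀ t ∈ X, s * t * s⁻¹ ∈ X) (s : G) (hs : s ∈ P) :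
    MulAut X :=
  conjAut X s (hPX s hs) (fun t ht => by
    have := hPX s⁻¹ (inv_mem hs) t ht
    simpa using this)

theorem cjAut_coe (X P : Subgroup G) (hPX : ∀ s ∈ P, ∀ t ∈ X, s * t * s⁻¹ ∈ X) (s : G)
    (hs : s ∈ P) (t : X) : ((cjAut X P hPX s hs t : X) : G) = s * t * s⁻¹ := rfl

theorem sinv_comp {X P : Subgroup G} (hPX : ∀ s ∈ P, ∀ t ∈ X, s * t * s⁻¹ ∈ X) {χ : X → ℂ}
    (h : SInv X P χ) (s : G) (hs : s ∈ P) : χ ∘ cjAut X P hPX s hs = χ := by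
  funext t
  exact h s hs t _ rfl

theorem sinv_of_comp {X P : Subgroup G} (hPX : ∀ s ∈ P, ∀ t ∈ X, s * t * s⁻¹ ∈ X) {χ : X → ℂ}
    (h : ∀ (s : G) (hs : s ∈ P), χ ∘ cjAut X P hPX s hs = χ) : SInv X P χ := by
  intro s hs g g' hg
  have : g' = cjAut X P hPX s hs g := Subtype.ext hg
  rw [this]
  exact congrFun (h s hs) g

theorem sinv_rres {X Y P : Subgroup G} (hYX : Y ≤ X) {χ : X → ℂ} (h : SInv X P χ) :
    SInv Y P (rres hYX χ) := by
  intro s hs g g' hg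
  exact h s hs ⟨g, hYX g.2⟩ ⟨g', hYX g'.2⟩ hg

theorem rres_cjAut {X Y P : Subgroup G} (hYX : Y ≤ X)
    (hPX : ∀ s ∈ P, ∀ t ∈ X, s * t * s⁻¹ ∈ X) (hPY : ∀ s ∈ P, ∀ t ∈ Y, s * t * s⁻¹ ∈ Y)
    (χ : X → ℂ) (s : G) (hs : s ∈ P) :
    rres hYX (χ ∘ cjAut X P hPX s hs) = (rres hYX χ) ∘ cjAut Y P hPY s hs := by
  funext y
  show χ _ = χ _
  congr 1

theorem sinv_conjFun (Q P : Subgroup G) [hQ : Q.Normal] {θ : Q → ℂ} (h : SInv Q P θ) {s : G}
    (hs : s ∈ P) : conjFun Q θ s = θ := by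
  funext q
  rw [conjFun_apply]
  exact h s hs q _ rfl

theorem rc_unique {H J Q : Subgroup G} [Fintype H] [Fintype J] [Fintype Q] (hJH : J ≤ H)
    (hQJ : Q ≤ J) (θ : Q → ℂ) {χ χ' : H → ℂ} {ψ : J → ℂ} (hχ : Cfsg.IsIrrCharacter H χ)
    (hχ' : Cfsg.IsIrrCharacter H χ') (h : RC hJH hQJ θ χ ψ) (h' : RC hJH hQJ θ χ' ψ) :
    χ = χ' := by
  by_contra hne
  have h1 := h.1 χ' (isClassFunction_of_isIrrCharacter hχ')
  have h2 := h'.1 χ' (isClassFunction_of_isIrrCharacter hχ')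
  rw [← h2, classInner_irr_self hχ', classInner_irr_ne hχ' hχ (fun e => hne e.symm)] at h1
  exact zero_ne_one h1

/-- lying over an invariant character is preserved by conjugation -/
theorem over_conj (Q J P : Subgroup G) [hQ : Q.Normal] [Fintype J] [Fintype Q] (hQJ : Q ≤ J)
    (hPJ : ∀ s ∈ P, ∀ t ∈ J, s * t * s⁻¹ ∈ J) {θ : Q → ℂ} (hθinv : SInv Q P θ) (ψ : J → ℂ)
    (s : G) (hs : s ∈ P) :
    Cfsg.classInner (rres hQJ (ψ ∘ cjAut J P hPJ s hs)) θ = Cfsg.classInner (rres hQJ ψ) θ := by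
  have hPQ : ∀ s ∈ P, ∀ t ∈ Q, s * t * s⁻¹ ∈ Q := fun s _ t ht => hQ.conj_mem t ht s
  rw [rres_cjAut hQJ hPJ hPQ ψ s hs]
  have e1 : θ = θ ∘ cjAut Q P hPQ s hs := (sinv_comp hPQ hθinv s hs).symm
  conv_lhs => rw [e1]
  exact Cfsg.Agent.S1489.classInner_comp_iso (cjAut Q P hPQ s hs) (rres hQJ ψ) θ

theorem rc_inv_down (Q H J P : Subgroup G) [hQ : Q.Normal] [Fintype H] [Fintype J]
    [Fintype Q] (hQJ : Q ≤ J) (hJH : J ≤ H) (θ : Q → ℂ) (hθinv : SInv Q P θ)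
    (hPJ : ∀ s ∈ P, ∀ t ∈ J, s * t * s⁻¹ ∈ J)
    (hb : ∀ ψ : J → ℂ, Cfsg.IsIrrCharacter J ψ → Cfsg.classInner (rres hQJ ψ) θ ≠ 0 →
      ∃ χ : H → ℂ, Cfsg.IsIrrCharacter H χ ∧ RC hJH hQJ θ χ ψ)
    (hc : ∀ (χ : H → ℂ) (ψ ψ' : J → ℂ), Cfsg.IsIrrCharacter H χ → Cfsg.IsIrrCharacter J ψ →
      Cfsg.classInner (rres hQJ ψ) θ ≠ 0 → Cfsg.IsIrrCharacter J ψ' →
      Cfsg.classInner (rres hQJ ψ') θ ≠ 0 → RC hJH hQJ θ χ ψ → RC hJH hQJ θ χ ψ' → ψ = ψ')
    {χ : H → ℂ} {ψ : J → ℂ} (hχ : Cfsg.IsIrrCharacter H χ) (hψ : Cfsg.IsIrrCharacter J ψ)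
    (hov : Cfsg.classInner (rres hQJ ψ) θ ≠ 0) (hrc : RC hJH hQJ θ χ ψ)
    (hχinv : SInv H P χ) : SInv J P ψ := by
  classical
  apply sinv_of_comp hPJ
  intro s hs
  have hψ' : Cfsg.IsIrrCharacter J (ψ ∘ cjAut J P hPJ s hs) :=
    isIrrCharacter_comp_mulEquiv hψ _
  have hov' : Cfsg.classInner (rres hQJ (ψ ∘ cjAut J P hPJ s hs)) θ ≠ 0 := by
    rw [over_conj Q J P hQJ hPJ hθinv ψ s hs]
    exact hov
  obtain ⟨χ₂, hχ₂, hrc₂⟩ := hb _ hψ' hov'
  have h1 : Cfsg.classInner (rres hJH χ) (ψ ∘ cjAut J P hPJ s hs) = 1 := by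
    have e1 : rres hJH χ = (rres hJH χ) ∘ cjAut J P hPJ s hs :=
      (sinv_comp hPJ (sinv_rres hJH hχinv) s hs).symm
    rw [e1, Cfsg.Agent.S1489.classInner_comp_iso (cjAut J P hPJ s hs) (rres hJH χ) ψ,
      ← hrc.1 χ (isClassFunction_of_isIrrCharacter hχ), classInner_irr_self hχ]
  have h2 : χ = χ₂ := by
    by_contra hne
    have h3 := hrc₂.1 χ (isClassFunction_of_isIrrCharacter hχ)
    rw [h1, classInner_irr_ne hχ hχ₂ hne] at h3
    exact zero_ne_one h3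
  subst h2
  exact (hc χ ψ _ hχ hψ hov hψ' hov' hrc hrc₂).symm

theorem rc_inv_up (Q H J P : Subgroup G) [Fintype H] [Fintype J] [Fintype Q] (hQJ : Q ≤ J)
    (hJH : J ≤ H) (θ : Q → ℂ) (hPH : ∀ s ∈ P, ∀ t ∈ H, s * t * s⁻¹ ∈ H)
    (hPJ : ∀ s ∈ P, ∀ t ∈ J, s * t * s⁻¹ ∈ J) {χ : H → ℂ} {ψ : J → ℂ}
    (hχ : Cfsg.IsIrrCharacter H χ) (hrc : RC hJH hQJ θ χ ψ) (hψinv : SInv J P ψ) :
    SInv H P χ := by
  classical
  apply sinv_of_comp hPH
  intro s hs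
  have hχ' : Cfsg.IsIrrCharacter H (χ ∘ cjAut H P hPH s hs) :=
    isIrrCharacter_comp_mulEquiv hχ _
  have h1 := hrc.1 _ (isClassFunction_of_isIrrCharacter hχ')
  rw [rres_cjAut hJH hPH hPJ χ s hs] at h1
  have e2 : ψ = ψ ∘ cjAut J P hPJ s hs := (sinv_comp hPJ hψinv s hs).symm
  have h2 : Cfsg.classInner ((rres hJH χ) ∘ cjAut J P hPJ s hs) ψ = 1 := by
    conv_lhs => rw [e2]
    rw [Cfsg.Agent.S1489.classInner_comp_iso (cjAut J P hPJ s hs) (rres hJH χ) ψ,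
      ← hrc.1 χ (isClassFunction_of_isIrrCharacter hχ), classInner_irr_self hχ]
  rw [h2] at h1
  by_contra hne
  rw [classInner_irr_ne hχ' hχ hne] at h1
  exact zero_ne_one h1

/-- Clifford: two constituents of the restriction to `Q` are conjugate in `H` -/
theorem rel_clifford_conj [Finite G] (Q H : Subgroup G) [hQ : Q.Normal] [Fintype H]
    [Fintype Q] (hQH : Q ≤ H) {χ : H → ℂ} (hχ : Cfsg.IsIrrCharacter H χ) {θ θ' : Q → ℂ}
    (hθ : Cfsg.IsIrrCharacter Q θ) (hθ' : Cfsg.IsIrrCharacter Q θ')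
    (h : Cfsg.classInner (rres hQH χ) θ ≠ 0) (h' : Cfsg.classInner (rres hQH χ) θ' ≠ 0) :
    ∃ k ∈ H, θ' = conjFun Q θ k := by
  classical
  haveI hN' : (Q.subgroupOf H).Normal := Subgroup.normal_subgroupOf
  haveI : Fintype (Q.subgroupOf H) := Fintype.ofFinite _
  set eN : Q.subgroupOf H ≃* Q := Subgroup.subgroupOfEquivOfLe hQH with heN
  have t1 : ∀ φ : Q → ℂ, Cfsg.classInner (fun n : Q.subgroupOf H => χ n) (φ ∘ eN)
      = Cfsg.classInner (rres hQH χ) φ :=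
    fun φ => Cfsg.Agent.S1489.classInner_comp_iso eN (rres hQH χ) φ
  by_contra hno
  push Not at hno
  have := clifford_conj (Q.subgroupOf H) hχ (Cfsg.Agent.S1489.isIrrCharacter_comp_iso hθ eN)
    (by rw [t1]; exact h) (Cfsg.Agent.S1489.isIrrCharacter_comp_iso hθ' eN) (by
      intro g heq
      apply hno (g : G) g.2
      funext q
      have h2 := congrFun heq (eN.symm q)
      rw [conjFun_apply] at h2 ⊢
      rw [Function.comp_apply, eN.apply_symm_apply] at h2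
      rw [h2]
      show θ (eN ⟨_, _⟩) = θ ⟨_, _⟩
      congr 1)
  rw [t1] at this
  exact h' this

/-- the restriction of a class function of `H` has the same inner product with the
`H`-conjugates of a function on `Q` -/
theorem rel_inner_conjFun (Q H : Subgroup G) [hQ : Q.Normal] [Fintype Q] (hQH : Q ≤ H)
    {ξ : H → ℂ} (hξ : Cfsg.IsClassFunction H ξ) (θ : Q → ℂ) {c : G} (hc : c ∈ H) :
    Cfsg.classInner (rres hQH ξ) (conjFun Q θ c) = Cfsg.classInner (rres hQH ξ) θ := by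
  rw [classInner_def, classInner_def]
  congr 1
  apply Fintype.sum_equiv (MulAut.conjNormal c : MulAut Q).toEquiv
  intro n
  have e1 : rres hQH ξ ((MulAut.conjNormal c : MulAut Q) n) = rres hQH ξ n := by
    rw [rres_apply, rres_apply]
    have := hξ ⟨n, hQH n.2⟩ ⟨c, hc⟩
    rw [← this]
    congr 1
  change rres hQH ξ n * conj (θ ((MulAut.conjNormal c : MulAut Q) n))
    = rres hQH ξ ((MulAut.conjNormal c : MulAut Q) n)
      * conj (θ ((MulAut.conjNormal c : MulAut Q) n))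
  rw [e1]

/-- the multiplicity formula: multiplicities between `K` and `C` are those of the Clifford
correspondents -/
theorem rc_mult (Q K C T D : Subgroup G) [Fintype K] [Fintype C] [Fintype T] [Fintype D]
    [Fintype Q] (hQD : Q ≤ D) (hDT : D ≤ T) (hDC : D ≤ C) (hTK : T ≤ K) (hCK : C ≤ K)
    (θ : Q → ℂ) (hθ : Cfsg.IsIrrCharacter Q θ) {χ : K → ℂ} (hχ : Cfsg.IsIrrCharacter K χ)
    {ψ : T → ℂ} (hψ : Cfsg.IsIrrCharacter T ψ) (hrcK : RC hTK (hQD.trans hDT) θ χ ψ)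
    {ξ : C → ℂ} {η : D → ℂ} (hη : Cfsg.IsIrrCharacter D η)
    (hηov : Cfsg.classInner (rres hQD η) θ ≠ 0) (hrcC : RC hDC hQD θ ξ η) :
    Cfsg.classInner (rres hCK χ) ξ = Cfsg.classInner (rres hDT ψ) η := by
  classical
  have hχc := isCharacter_of_isIrrCharacter hχ
  have h1 := hrcC.1 (rres hCK χ)
    (rres_isClassFunction hCK (isClassFunction_of_isIrrCharacter hχ))
  rw [h1]
  have hone : Cfsg.classInner (rres hTK χ) ψ = 1 := by
    rw [← hrcK.1 χ (isClassFunction_of_isIrrCharacter hχ), classInner_irr_self hχ]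
  have hΔ : Cfsg.IsCharacter T (rres hTK χ - ψ) :=
    IsCharacter.sub_irr (rres_isCharacter hTK hχc) hψ (by rw [hone]; exact one_ne_zero)
  have e1 : rres hDC (rres hCK χ) = rres hDT ψ + rres hDT (rres hTK χ - ψ) := by
    funext d
    show χ ⟨d, _⟩ = ψ ⟨d, _⟩ + (χ ⟨d, _⟩ - ψ ⟨d, _⟩)
    ring
  rw [e1, classInner_add_left]
  have h0 : Cfsg.classInner (rres hDT (rres hTK χ - ψ)) η = 0 := by
    by_contra hne
    have h2 := over_char hDT hQD hΔ hη hθ hne hηov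
    apply h2
    have e2 : rres (hQD.trans hDT) (rres hTK χ - ψ)
        = rres ((hQD.trans hDT).trans hTK) χ - rres (hQD.trans hDT) ψ := rfl
    rw [e2, classInner_sub_left, hrcK.2, sub_self]
  rw [h0, add_zero]

end relg6

end Cfsg.Agent.Lib.Helper2
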