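import Mathlib
import Cfsg.Agent.Lib.Helper2.RelG6
import Cfsg.Agent.S4447

set_option autoImplicit false

/-! Relative Glauberman correspondence, part 7: the correspondence when `Q` is normal in the
ambient group. -/

namespace Cfsg.Agent.Lib.Helper2

open scoped ComplexConjugate

section relg7

variable {G : Type*} [Group G]

/-- two `P`-invariant constituents of the restriction to `Q` of an irreducible character of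
`K` are conjugate under `C` -/
theorem inv_const_conj [Finite G] (p : ℕ) [hp : Fact p.Prime] (Q K C P : Subgroup G)
    [hQ : Q.Normal] [Fintype K] [Fintype Q] (hQK : Q ≤ K) (hP : IsPGroup p P)
    (hPK : ∀ s ∈ P, ∀ k ∈ K, s * k * s⁻¹ ∈ K) (hQsyl : ¬ p ∣ Q.relIndex K)
    (hC : ∀ k, k ∈ C ↔ k ∈ K ∧ ∀ x ∈ P, x * k * x⁻¹ * k⁻¹ ∈ Q)
    {χ : K → ℂ} (hχ : Cfsg.IsIrrCharacter K χ) {θ θ' : Q → ℂ}
    (hθ : Cfsg.IsIrrCharacter Q θ) (hθ' : Cfsg.IsIrrCharacter Q θ')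
    (hθinv : SInv Q P θ) (hθ'inv : SInv Q P θ')
    (h : Cfsg.classInner (rres hQK χ) θ ≠ 0) (h' : Cfsg.classInner (rres hQK χ) θ' ≠ 0) :
    ∃ c ∈ C, θ' = conjFun Q θ c := by
  classical
  obtain ⟨k₀, hk₀K, hk₀⟩ := rel_clifford_conj Q K hQK hχ hθ hθ' h h'
  set π : G →* G ⧸ Q := QuotientGroup.mk' Q with hπ
  have hπ1 : ∀ g : G, π g = 1 ↔ g ∈ Q := fun g => QuotientGroup.eq_one_iff g
  set T : Subgroup G := K ⊓ inertia Q θ with hT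
  have hQT : Q ≤ T := fun q hq => Subgroup.mem_inf.mpr
    ⟨hQK hq, conjFun_of_mem Q (isClassFunction_of_isIrrCharacter hθ) hq⟩
  have hTK : T ≤ K := inf_le_left
  set X : Set G := {y | y ∈ K ∧ conjFun Q θ y = θ'} with hX
  have hXeq : π '' X
      = (fun t => t * π k₀) '' ((T.map π : Subgroup (G ⧸ Q)) : Set (G ⧸ Q)) := by
    ext z
    constructor
    · rintro ⟨y, ⟨hyK, hy⟩, rfl⟩
      refine ⟨π (y * k₀⁻¹), ⟨y * k₀⁻¹,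
        Subgroup.mem_inf.mpr ⟨K.mul_mem hyK (K.inv_mem hk₀K), ?_⟩, rfl⟩, ?_⟩
      · show conjFun Q θ (y * k₀⁻¹) = θ
        rw [conjFun_mul, hy, hk₀, ← conjFun_mul, mul_inv_cancel]
        exact conjFun_one Q θ
      · show π (y * k₀⁻¹) * π k₀ = π y
        rw [← map_mul]
        congr 1
        group
    · rintro ⟨_, ⟨t, ht, rfl⟩, rfl⟩
      refine ⟨t * k₀, ⟨K.mul_mem (hTK ht) hk₀K, ?_⟩, map_mul π t k₀⟩
      have ht' : conjFun Q θ t = θ := (Subgroup.mem_inf.mp ht).2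
      rw [conjFun_mul, ht', hk₀]
  have hcard : ¬ p ∣ Nat.card (π '' X) := by
    rw [hXeq, Nat.card_image_of_injective (mul_left_injective (π k₀))]
    have h1 : Nat.card (T.map π) = Q.relIndex T := by
      rw [← Subgroup.relIndex_ker T π, hπ, QuotientGroup.ker_mk']
    show ¬ p ∣ Nat.card (T.map π)
    rw [h1]
    intro hd
    exact hQsyl (hd.trans (Dvd.intro _ (Subgroup.relIndex_mul_relIndex Q T K hQT hTK)))
  have hstab : ∀ s ∈ P.map π, ∀ y ∈ π '' X, s * y * s⁻¹ ∈ π '' X := by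
    rintro _ ⟨s, hs, rfl⟩ _ ⟨y, ⟨hyK, hy⟩, rfl⟩
    refine ⟨s * y * s⁻¹, ⟨hPK s hs y hyK, ?_⟩, by simp⟩
    rw [conjFun_mul, conjFun_mul, sinv_conjFun Q P hθinv hs, hy,
      sinv_conjFun Q P hθ'inv (inv_mem hs)]
  obtain ⟨yb, ⟨y, ⟨hyK, hy⟩, rfl⟩, hfix⟩ :=
    exists_conj_fixed p (P.map π) (hP.map π) (π '' X) hstab hcard
  refine ⟨y, (hC y).mpr ⟨hyK, fun x hx => ?_⟩, hy.symm⟩
  have h2 := hfix (π x) ⟨x, hx, rfl⟩
  apply (hπ1 _).mp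
  simp only [map_mul, map_inv]
  rw [h2]
  simp

/-- the correspondence over a fixed `P`-invariant irreducible character `θ` of `Q` -/
theorem core_corr [Finite G] (p : ℕ) [hp : Fact p.Prime] (P K Q C : Subgroup G)
    [hQ : Q.Normal] [Fintype K] [Fintype C] [Fintype Q] (hP : IsPGroup p P)
    (hPK : ∀ s ∈ P, ∀ k ∈ K, s * k * s⁻¹ ∈ K) (hQK : Q ≤ K)
    (hQp : ∃ a : ℕ, Nat.card Q = p ^ a) (hQsyl : ¬ p ∣ Q.relIndex K) (hCK : C ≤ K)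
    (hQC : Q ≤ C) (hC : ∀ k, k ∈ C ↔ k ∈ K ∧ ∀ x ∈ P, x * k * x⁻¹ * k⁻¹ ∈ Q)
    (θ : Q → ℂ) (hθ : Cfsg.IsIrrCharacter Q θ) (hθinv : SInv Q P θ) :
    (∀ χ : K → ℂ, Cfsg.IsIrrCharacter K χ → SInv K P χ →
      Cfsg.classInner (rres hQK χ) θ ≠ 0 →
      ∃ ξ₀ : C → ℂ, Cfsg.IsIrrCharacter C ξ₀ ∧ SInv C P ξ₀ ∧
        (∃ m : ℕ, Cfsg.classInner (rres hCK χ) ξ₀ = (m : ℂ) ∧
          ((m : ℤ) ≡ 1 [ZMOD p] ∨ (m : ℤ) ≡ -1 [ZMOD p])) ∧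
        ∀ ξ : C → ℂ, Cfsg.IsIrrCharacter C ξ → Cfsg.classInner (rres hQC ξ) θ ≠ 0 →
          ξ ≠ ξ₀ → ∃ m : ℕ, Cfsg.classInner (rres hCK χ) ξ = (m : ℂ) ∧ p ∣ m) ∧
    (∀ χ χ' : K → ℂ, Cfsg.IsIrrCharacter K χ → SInv K P χ →
      Cfsg.classInner (rres hQK χ) θ ≠ 0 → Cfsg.IsIrrCharacter K χ' → SInv K P χ' →
      Cfsg.classInner (rres hQK χ') θ ≠ 0 →
      ∀ ξ : C → ℂ, Cfsg.IsIrrCharacter C ξ → Cfsg.classInner (rres hQC ξ) θ ≠ 0 →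
      ∀ m m' : ℕ, Cfsg.classInner (rres hCK χ) ξ = (m : ℂ) → ¬ p ∣ m →
        Cfsg.classInner (rres hCK χ') ξ = (m' : ℂ) → ¬ p ∣ m' → χ = χ') ∧
    (∀ ξ : C → ℂ, Cfsg.IsIrrCharacter C ξ → Cfsg.classInner (rres hQC ξ) θ ≠ 0 →
      ∃ χ : K → ℂ, Cfsg.IsIrrCharacter K χ ∧ SInv K P χ ∧
        ∃ m : ℕ, Cfsg.classInner (rres hCK χ) ξ = (m : ℂ) ∧ ¬ p ∣ m) := by
  classical
  set T : Subgroup G := K ⊓ inertia Q θ with hT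
  set D : Subgroup G := C ⊓ inertia Q θ with hD
  haveI : Fintype T := Fintype.ofFinite _
  haveI : Fintype D := Fintype.ofFinite _
  have hQI : Q ≤ inertia Q θ := fun q hq =>
    conjFun_of_mem Q (isClassFunction_of_isIrrCharacter hθ) hq
  have hPI : P ≤ inertia Q θ := fun s hs => sinv_conjFun Q P hθinv hs
  have hQD : Q ≤ D := le_inf hQC hQI
  have hDT : D ≤ T := inf_le_inf_right _ hCK
  have hTK : T ≤ K := inf_le_left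
  have hDC : D ≤ C := inf_le_left
  have hPC : ∀ s ∈ P, ∀ c ∈ C, s * c * s⁻¹ ∈ C := by
    intro s hs c hc
    obtain ⟨hcK, hcP⟩ := (hC c).mp hc
    refine (hC _).mpr ⟨hPK s hs c hcK, fun x hx => ?_⟩
    have hu := hcP (x * s) (P.mul_mem hx hs)
    have hv := hcP s hs
    have e : x * (s * c * s⁻¹) * x⁻¹ * (s * c * s⁻¹)⁻¹
        = ((x * s) * c * (x * s)⁻¹ * c⁻¹) * (s * c * s⁻¹ * c⁻¹)⁻¹ := by group
    rw [e]
    exact Q.mul_mem hu (Q.inv_mem hv)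
  have hPT : ∀ s ∈ P, ∀ t ∈ T, s * t * s⁻¹ ∈ T := fun s hs t ht =>
    Subgroup.mem_inf.mpr ⟨hPK s hs t (hTK ht),
      (inertia Q θ).mul_mem ((inertia Q θ).mul_mem (hPI hs) (Subgroup.mem_inf.mp ht).2)
        ((inertia Q θ).inv_mem (hPI hs))⟩
  have hPD : ∀ s ∈ P, ∀ t ∈ D, s * t * s⁻¹ ∈ D := fun s hs t ht =>
    Subgroup.mem_inf.mpr ⟨hPC s hs t (hDC ht),
      (inertia Q θ).mul_mem ((inertia Q θ).mul_mem (hPI hs) (Subgroup.mem_inf.mp ht).2)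
        ((inertia Q θ).inv_mem (hPI hs))⟩
  have hDch : ∀ t, t ∈ D ↔ t ∈ T ∧ ∀ x ∈ P, x * t * x⁻¹ * t⁻¹ ∈ Q := by
    intro t
    rw [hD, hT, Subgroup.mem_inf, Subgroup.mem_inf, hC]
    tauto
  have hcopT : ¬ p ∣ Q.relIndex T := fun hd =>
    hQsyl (hd.trans (Dvd.intro _ (Subgroup.relIndex_mul_relIndex Q T K (hQD.trans hDT) hTK)))
  obtain ⟨θh, hθh, hext, hθhinv⟩ :=
    exists_inv_ext p Q T P (hQD.trans hDT) hPT hQp hcopT θ hθ inf_le_right hθinv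
  obtain ⟨L1, L2, L3, L4⟩ :=
    local_glaub p Q T D P hQD hDT hP hPT hcopT hDch θ hθ θh hθh hext hθhinv
  obtain ⟨Ka, Kb, Kc⟩ := rel_clifford Q K T (hQD.trans hDT) hTK θ hθ (fun g => Subgroup.mem_inf)
  obtain ⟨Ca, Cb, Cc⟩ := rel_clifford Q C D hQD hDC θ hθ (fun g => Subgroup.mem_inf)
  refine ⟨?_, ?_, ?_⟩
  · intro χ hχ hχinv hov
    obtain ⟨ψ, hψ, hψov, hrc⟩ := Ka χ hχ hov
    have hψinv : SInv T P ψ :=
      rc_inv_down Q K T P (hQD.trans hDT) hTK θ hθinv hPT Kb Kc hχ hψ hψov hrc hχinv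
    obtain ⟨η₀, hη₀, hη₀ov, ⟨m, hm, hmod⟩, hoth⟩ := L1 ψ hψ hψinv hψov
    obtain ⟨ξ₀, hξ₀, hrc₀⟩ := Cb η₀ hη₀ hη₀ov
    have hξ₀inv : SInv C P ξ₀ :=
      rc_inv_up Q C D P hQD hDC θ hPC hPD hξ₀ hrc₀ (L4 η₀ hη₀ hη₀ov)
    refine ⟨ξ₀, hξ₀, hξ₀inv, ⟨m, ?_, hmod⟩, ?_⟩
    · rw [rc_mult Q K C T D hQD hDT hDC hTK hCK θ hθ hχ hψ hrc hη₀ hη₀ov hrc₀]
      exact hm
    · intro ξ hξ hξov hne
      obtain ⟨η, hη, hηov, hrcξ⟩ := Ca ξ hξ hξov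
      have hηne : η ≠ η₀ := by
        rintro rfl
        exact hne (rc_unique hDC hQD θ hξ hξ₀ hrcξ hrc₀)
      obtain ⟨m', hm', hd⟩ := hoth η hη hηov hηne
      refine ⟨m', ?_, hd⟩
      rw [rc_mult Q K C T D hQD hDT hDC hTK hCK θ hθ hχ hψ hrc hη hηov hrcξ]
      exact hm'
  · intro χ χ' hχ hχinv hov hχ' hχ'inv hov' ξ hξ hξov m m' hm hmd hm' hmd'
    obtain ⟨ψ, hψ, hψov, hrc⟩ := Ka χ hχ hov
    obtain ⟨ψ', hψ', hψ'ov, hrc'⟩ := Ka χ' hχ' hov'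
    have hψinv :=
      rc_inv_down Q K T P (hQD.trans hDT) hTK θ hθinv hPT Kb Kc hχ hψ hψov hrc hχinv
    have hψ'inv :=
      rc_inv_down Q K T P (hQD.trans hDT) hTK θ hθinv hPT Kb Kc hχ' hψ' hψ'ov hrc' hχ'inv
    obtain ⟨η, hη, hηov, hrcξ⟩ := Ca ξ hξ hξov
    rw [rc_mult Q K C T D hQD hDT hDC hTK hCK θ hθ hχ hψ hrc hη hηov hrcξ] at hm
    rw [rc_mult Q K C T D hQD hDT hDC hTK hCK θ hθ hχ' hψ' hrc' hη hηov hrcξ] at hm'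
    have := L2 ψ ψ' hψ hψinv hψov hψ' hψ'inv hψ'ov η hη hηov m m' hm hmd hm' hmd'
    subst this
    exact rc_unique hTK (hQD.trans hDT) θ hχ hχ' hrc hrc'
  · intro ξ hξ hξov
    obtain ⟨η, hη, hηov, hrcξ⟩ := Ca ξ hξ hξov
    obtain ⟨ψ, hψ, hψinv, hψov, m, hm, hmd⟩ := L3 η hη hηov
    obtain ⟨χ, hχ, hrc⟩ := Kb ψ hψ hψov
    refine ⟨χ, hχ, rc_inv_up Q K T P (hQD.trans hDT) hTK θ hPK hPT hχ hrc hψinv, m, ?_, hmd⟩
    rw [rc_mult Q K C T D hQD hDT hDC hTK hCK θ hθ hχ hψ hrc hη hηov hrcξ]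
    exact hm

/-- the relative Glauberman correspondence when `Q` is normal in the ambient group -/
theorem main_corr [Finite G] (p : ℕ) [hp : Fact p.Prime] (P K Q C : Subgroup G)
    [hQ : Q.Normal] [Fintype K] [Fintype C] [Fintype Q] (hP : IsPGroup p P)
    (hPK : ∀ s ∈ P, ∀ k ∈ K, s * k * s⁻¹ ∈ K) (hQK : Q ≤ K)
    (hQp : ∃ a : ℕ, Nat.card Q = p ^ a) (hQsyl : ¬ p ∣ Q.relIndex K) (hCK : C ≤ K)
    (hC : ∀ k, k ∈ C ↔ k ∈ K ∧ ∀ x ∈ P, x * k * x⁻¹ * k⁻¹ ∈ Q) :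
    (∀ χ : K → ℂ, Cfsg.IsIrrCharacter K χ → SInv K P χ →
      ∃ ξ₀ : C → ℂ, Cfsg.IsIrrCharacter C ξ₀ ∧ SInv C P ξ₀ ∧
        (∃ m : ℕ, Cfsg.classInner (rres hCK χ) ξ₀ = (m : ℂ) ∧
          ((m : ℤ) ≡ 1 [ZMOD p] ∨ (m : ℤ) ≡ -1 [ZMOD p])) ∧
        ∀ ξ : C → ℂ, Cfsg.IsIrrCharacter C ξ → SInv C P ξ → ξ ≠ ξ₀ →
          ∃ m : ℕ, Cfsg.classInner (rres hCK χ) ξ = (m : ℂ) ∧ p ∣ m) ∧
    (∀ χ χ' : K → ℂ, Cfsg.IsIrrCharacter K χ → SInv K P χ → Cfsg.IsIrrCharacter K χ' →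
      SInv K P χ' → ∀ ξ : C → ℂ, Cfsg.IsIrrCharacter C ξ → SInv C P ξ →
      ∀ m m' : ℕ, Cfsg.classInner (rres hCK χ) ξ = (m : ℂ) → ¬ p ∣ m →
        Cfsg.classInner (rres hCK χ') ξ = (m' : ℂ) → ¬ p ∣ m' → χ = χ') ∧
    (∀ ξ : C → ℂ, Cfsg.IsIrrCharacter C ξ → SInv C P ξ →
      ∃ χ : K → ℂ, Cfsg.IsIrrCharacter K χ ∧ SInv K P χ ∧
        ∃ m : ℕ, Cfsg.classInner (rres hCK χ) ξ = (m : ℂ) ∧ ¬ p ∣ m) := by
  classical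
  haveI := Fintype.ofFinite G
  have hPQ : ∀ s ∈ P, ∀ n ∈ Q, s * n * s⁻¹ ∈ Q := fun s _ n hn => hQ.conj_mem n hn s
  have hQC : Q ≤ C := fun q hq => (hC q).mpr
    ⟨hQK hq, fun x _ => Q.mul_mem (hQ.conj_mem q hq x) (Q.inv_mem hq)⟩
  have hPC : ∀ s ∈ P, ∀ c ∈ C, s * c * s⁻¹ ∈ C := by
    intro s hs c hc
    obtain ⟨hcK, hcP⟩ := (hC c).mp hc
    refine (hC _).mpr ⟨hPK s hs c hcK, fun x hx => ?_⟩
    have hu := hcP (x * s) (P.mul_mem hx hs)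
    have hv := hcP s hs
    have e : x * (s * c * s⁻¹) * x⁻¹ * (s * c * s⁻¹)⁻¹
        = ((x * s) * c * (x * s)⁻¹ * c⁻¹) * (s * c * s⁻¹ * c⁻¹)⁻¹ := by group
    rw [e]
    exact Q.mul_mem hu (Q.inv_mem hv)
  haveI : (Q.subgroupOf K).Normal := Subgroup.normal_subgroupOf
  haveI : (Q.subgroupOf C).Normal := Subgroup.normal_subgroupOf
  obtain ⟨n, hn⟩ := IsPGroup.iff_card.mp hP
  have hcopK : (Q.relIndex K).Coprime (Nat.card P) := by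
    rw [hn]
    exact Nat.Coprime.pow_right n ((Nat.Prime.coprime_iff_not_dvd hp.out).mpr hQsyl).symm
  have hQsylC : ¬ p ∣ Q.relIndex C := fun hd =>
    hQsyl (hd.trans (Dvd.intro _ (Subgroup.relIndex_mul_relIndex Q C K hQC hCK)))
  have hcopC : (Q.relIndex C).Coprime (Nat.card P) := by
    rw [hn]
    exact Nat.Coprime.pow_right n ((Nat.Prime.coprime_iff_not_dvd hp.out).mpr hQsylC).symm
  have hsolv : Group.IsSolvable P := @IsNilpotent.to_isSolvable _ _ hP.isNilpotent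
  have F1K : ∀ χ : K → ℂ, Cfsg.IsIrrCharacter K χ → SInv K P χ → ∃ θ : Q → ℂ,
      Cfsg.IsIrrCharacter Q θ ∧ Cfsg.classInner (rres hQK χ) θ ≠ 0 ∧ SInv Q P θ := by
    intro χ hχ hinv
    obtain ⟨θ, h1, h2⟩ := Cfsg.Agent.S4447.result K P Q hPK hQK hPQ hcopK (Or.inl hsolv)
      ⟨χ, hχ⟩ hinv
    exact ⟨θ.1, θ.2, h1, h2⟩
  have F1C : ∀ ξ : C → ℂ, Cfsg.IsIrrCharacter C ξ → SInv C P ξ → ∃ θ : Q → ℂ,
      Cfsg.IsIrrCharacter Q θ ∧ Cfsg.classInner (rres hQC ξ) θ ≠ 0 ∧ SInv Q P θ := by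
    intro ξ hξ hinv
    obtain ⟨θ, h1, h2⟩ := Cfsg.Agent.S4447.result C P Q hPC hQC hPQ hcopC (Or.inl hsolv)
      ⟨ξ, hξ⟩ hinv
    exact ⟨θ.1, θ.2, h1, h2⟩
  have G1 : ∀ (χ : K → ℂ) (θ : Q → ℂ), Cfsg.IsIrrCharacter K χ → Cfsg.IsIrrCharacter Q θ →
      SInv Q P θ → Cfsg.classInner (rres hQK χ) θ ≠ 0 → ∀ ξ : C → ℂ,
      Cfsg.IsIrrCharacter C ξ → SInv C P ξ → Cfsg.classInner (rres hCK χ) ξ ≠ 0 →
      Cfsg.classInner (rres hQC ξ) θ ≠ 0 := by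
    intro χ θ hχ hθ hθinv hov ξ hξ hξinv hne
    obtain ⟨θ', hθ', hov', hθ'inv⟩ := F1C ξ hξ hξinv
    have hχθ' : Cfsg.classInner (rres hQK χ) θ' ≠ 0 :=
      over_char hCK hQC (isCharacter_of_isIrrCharacter hχ) hξ hθ' hne hov'
    obtain ⟨c, hc, rfl⟩ :=
      inv_const_conj p Q K C P hQK hP hPK hQsyl hC hχ hθ hθ' hθinv hθ'inv hov hχθ'
    rw [rel_inner_conjFun Q C hQC (isClassFunction_of_isIrrCharacter hξ) θ hc] at hov'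
    exact hov'
  refine ⟨?_, ?_, ?_⟩
  · intro χ hχ hχinv
    obtain ⟨θ, hθ, hov, hθinv⟩ := F1K χ hχ hχinv
    obtain ⟨c1, -, -⟩ := core_corr p P K Q C hP hPK hQK hQp hQsyl hCK hQC hC θ hθ hθinv
    obtain ⟨ξ₀, hξ₀, hξ₀inv, hm, hoth⟩ := c1 χ hχ hχinv hov
    refine ⟨ξ₀, hξ₀, hξ₀inv, hm, ?_⟩
    intro ξ hξ hξinv hne
    by_cases h0 : Cfsg.classInner (rres hCK χ) ξ = 0
    · exact ⟨0, by rw [h0]; simp, dvd_zero p⟩
    · exact hoth ξ hξ (G1 χ θ hχ hθ hθinv hov ξ hξ hξinv h0) hne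
  · intro χ χ' hχ hχinv hχ' hχ'inv ξ hξ hξinv m m' hm hmd hm' hmd'
    obtain ⟨θ, hθ, hξov, hθinv⟩ := F1C ξ hξ hξinv
    have hm0 : Cfsg.classInner (rres hCK χ) ξ ≠ 0 := by
      rw [hm]
      intro h0
      have : m = 0 := by exact_mod_cast h0
      exact hmd (this ▸ dvd_zero p)
    have hm0' : Cfsg.classInner (rres hCK χ') ξ ≠ 0 := by
      rw [hm']
      intro h0
      have : m' = 0 := by exact_mod_cast h0
      exact hmd' (this ▸ dvd_zero p)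
    have hov := over_char hCK hQC (isCharacter_of_isIrrCharacter hχ) hξ hθ hm0 hξov
    have hov' := over_char hCK hQC (isCharacter_of_isIrrCharacter hχ') hξ hθ hm0' hξov
    obtain ⟨-, c2, -⟩ := core_corr p P K Q C hP hPK hQK hQp hQsyl hCK hQC hC θ hθ hθinv
    exact c2 χ χ' hχ hχinv hov hχ' hχ'inv hov' ξ hξ hξov m m' hm hmd hm' hmd'
  · intro ξ hξ hξinv
    obtain ⟨θ, hθ, hξov, hθinv⟩ := F1C ξ hξ hξinv
    obtain ⟨-, -, c3⟩ := core_corr p P K Q C hP hPK hQK hQp hQsyl hCK hQC hC θ hθ hθinv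
    exact c3 ξ hξ hξov

end relg7

end Cfsg.Agent.Lib.Helper2
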