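import Mathlib
import Cfsg.Agent.Lib.Helper2.RelG7
import Cfsg.Agent.Lib.Helper2.WeightedFix
import Cfsg.Agent.Lib.Helper2.PResSquares

set_option autoImplicit false

/-! Relative Glauberman correspondence, part 8: removal of the normality of `Q` in the
ambient group, and the final packaging as a bijection. -/

namespace Cfsg.Agent.Lib.Helper2

open scoped ComplexConjugate

section relg8

variable {G : Type*} [Group G]

/-- a `p`-group normalising `K` normalises the normal Sylow `p`-subgroup of `K` -/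
theorem norm_sylow_char [Finite G] (p : ℕ) [hp : Fact p.Prime] (P K Q : Subgroup G)
    (hPK : ∀ s ∈ P, ∀ k ∈ K, s * k * s⁻¹ ∈ K) (hQK : Q ≤ K)
    (hQn : ∀ k ∈ K, ∀ q ∈ Q, k * q * k⁻¹ ∈ Q) (hQp : ∃ a : ℕ, Nat.card Q = p ^ a)
    (hQsyl : ¬ p ∣ Q.relIndex K) : ∀ s ∈ P, ∀ q ∈ Q, s * q * s⁻¹ ∈ Q := by
  intro s hs q hq
  obtain ⟨a, ha⟩ := hQp
  haveI hn : (Q.subgroupOf K).Normal := ⟨fun n hn g => by
    rw [Subgroup.mem_subgroupOf] at hn ⊢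
    exact hQn g g.2 n hn⟩
  set y : K := ⟨s * q * s⁻¹, hPK s hs q (hQK hq)⟩ with hy
  have hq1 : q ^ (p ^ a) = 1 := by
    have := pow_card_eq_one' (G := Q) (x := ⟨q, hq⟩)
    rw [ha] at this
    exact congrArg Subtype.val this
  have hy1 : y ^ (p ^ a) = 1 := by
    apply Subtype.ext
    show (s * q * s⁻¹) ^ (p ^ a) = 1
    rw [conj_pow, hq1]
    simp
  have h1 : (QuotientGroup.mk' (Q.subgroupOf K) y) ^ (p ^ a) = 1 := by
    rw [← map_pow, hy1, map_one]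
  have h2 : (QuotientGroup.mk' (Q.subgroupOf K) y) ^ (Q.relIndex K) = 1 := by
    have : Q.relIndex K = Nat.card (K ⧸ Q.subgroupOf K) := Subgroup.index_eq_card _
    rw [this]
    exact pow_card_eq_one'
  have h3 : orderOf (QuotientGroup.mk' (Q.subgroupOf K) y) ∣ Nat.gcd (p ^ a) (Q.relIndex K) :=
    Nat.dvd_gcd (orderOf_dvd_of_pow_eq_one h1) (orderOf_dvd_of_pow_eq_one h2)
  have h4 : Nat.gcd (p ^ a) (Q.relIndex K) = 1 :=
    Nat.Coprime.pow_left a ((Nat.Prime.coprime_iff_not_dvd hp.out).mpr hQsyl)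
  rw [h4, Nat.dvd_one, orderOf_eq_one_iff] at h3
  have h5 : y ∈ Q.subgroupOf K := (QuotientGroup.eq_one_iff y).mp h3
  exact h5

/-- the relative Glauberman correspondence, `Q` only normalised by `K` and `P` -/
theorem main_corr' [Finite G] (p : ℕ) [hp : Fact p.Prime] (P K Q C : Subgroup G)
    [Fintype K] [Fintype C] (hP : IsPGroup p P)
    (hPK : ∀ s ∈ P, ∀ k ∈ K, s * k * s⁻¹ ∈ K) (hQK : Q ≤ K)
    (hQn : ∀ k ∈ K, ∀ q ∈ Q, k * q * k⁻¹ ∈ Q) (hPQ : ∀ s ∈ P, ∀ q ∈ Q, s * q * s⁻¹ ∈ Q)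
    (hQp : ∃ a : ℕ, Nat.card Q = p ^ a) (hQsyl : ¬ p ∣ Q.relIndex K) (hCK : C ≤ K)
    (hC : ∀ k, k ∈ C ↔ k ∈ K ∧ ∀ x ∈ P, x * k * x⁻¹ * k⁻¹ ∈ Q) :
    (∀ χ : K → ℂ, Cfsg.IsIrrCharacter K χ → SInv K P χ →
      ∃ ξ₀ : C → ℂ, Cfsg.IsIrrCharacter C ξ₀ ∧ SInv C P ξ₀ ∧
        (∃ m : ℕ, Cfsg.classInner (rres hCK χ) ξ₀ = (m : ℂ) ∧
          ((m : ℤ) ≡ 1 [ZMOD p] ∨ (m : ℤ) ≡ -1 [ZMOD p])) ∧
        ∀ ξ : C → ℂ, Cfsg.IsIrrCharacter C ξ → SInv C P ξ → ξ ≠ ξ₀ →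
          ∃ m : ℕ, Cfsg.classInner (rres hCK χ) ξ = (m : ℂ) ∧ p ∣ m) ∧
    (∀ χ χ' : K → ℂ, Cfsg.IsIrrCharacter K χ → SInv K P χ → Cfsg.IsIrrCharacter K χ' →
      SInv K P χ' → ∀ ξ : C → ℂ, Cfsg.IsIrrCharacter C ξ → SInv C P ξ →
      ∀ m m' : ℕ, Cfsg.classInner (rres hCK χ) ξ = (m : ℂ) → ¬ p ∣ m →
        Cfsg.classInner (rres hCK χ') ξ = (m' : ℂ) → ¬ p ∣ m' → χ = χ') ∧
    (∀ ξ : C → ℂ, Cfsg.IsIrrCharacter C ξ → SInv C P ξ →
      ∃ χ : K → ℂ, Cfsg.IsIrrCharacter K χ ∧ SInv K P χ ∧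
        ∃ m : ℕ, Cfsg.classInner (rres hCK χ) ξ = (m : ℂ) ∧ ¬ p ∣ m) := by
  classical
  set N : Subgroup G := Subgroup.normalizer (Q : Set G) with hN
  have hnorm : ∀ (X : Subgroup G), (∀ k ∈ X, ∀ q ∈ Q, k * q * k⁻¹ ∈ Q) → X ≤ N := by
    intro X hX k hk
    rw [hN, Subgroup.mem_normalizer_iff]
    intro h
    constructor
    · exact fun hh => hX k hk h hh
    · intro hh
      have := hX k⁻¹ (X.inv_mem hk) _ hh
      have e : k⁻¹ * (k * h * k⁻¹) * k⁻¹⁻¹ = h := by group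
      rw [e] at this
      exact this
  have hKN : K ≤ N := hnorm K hQn
  have hPN : P ≤ N := hnorm P hPQ
  have hCN : C ≤ N := hCK.trans hKN
  have hQN : Q ≤ N := hQK.trans hKN
  haveI hQ' : (Q.subgroupOf N).Normal := Subgroup.normal_in_normalizer
  haveI : Fintype (K.subgroupOf N) := Fintype.ofFinite _
  haveI : Fintype (C.subgroupOf N) := Fintype.ofFinite _
  haveI : Fintype (Q.subgroupOf N) := Fintype.ofFinite _
  set eK : K.subgroupOf N ≃* K := Subgroup.subgroupOfEquivOfLe hKN with heK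
  set eC : C.subgroupOf N ≃* C := Subgroup.subgroupOfEquivOfLe hCN with heC
  have hCK' : C.subgroupOf N ≤ K.subgroupOf N := fun x hx => hCK hx
  have hP' : IsPGroup p (P.subgroupOf N) := hP.comap_subtype
  have hPK' : ∀ s ∈ P.subgroupOf N, ∀ k ∈ K.subgroupOf N, s * k * s⁻¹ ∈ K.subgroupOf N :=
    fun s hs k hk => hPK s hs k hk
  have hQK' : Q.subgroupOf N ≤ K.subgroupOf N := fun x hx => hQK hx
  have hQp' : ∃ a : ℕ, Nat.card (Q.subgroupOf N) = p ^ a := by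
    obtain ⟨a, ha⟩ := hQp
    exact ⟨a, by rw [Nat.card_congr (Subgroup.subgroupOfEquivOfLe hQN).toEquiv, ha]⟩
  have hQsyl' : ¬ p ∣ (Q.subgroupOf N).relIndex (K.subgroupOf N) := by
    rw [Subgroup.relIndex_subgroupOf hKN]
    exact hQsyl
  have hC' : ∀ k : N, k ∈ C.subgroupOf N ↔ k ∈ K.subgroupOf N ∧
      ∀ x ∈ P.subgroupOf N, x * k * x⁻¹ * k⁻¹ ∈ Q.subgroupOf N := by
    intro k
    rw [Subgroup.mem_subgroupOf, hC, Subgroup.mem_subgroupOf]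
    constructor
    · rintro ⟨h1, h2⟩
      exact ⟨h1, fun x hx => h2 x hx⟩
    · rintro ⟨h1, h2⟩
      exact ⟨h1, fun x hx => h2 ⟨x, hPN hx⟩ hx⟩
  obtain ⟨m1, m2, m3⟩ := main_corr (G := N) p (P.subgroupOf N) (K.subgroupOf N)
    (Q.subgroupOf N) (C.subgroupOf N) hP' hPK' hQK' hQp' hQsyl' hCK' hC'
  have sK_down : ∀ χ : K → ℂ, SInv K P χ →
      SInv (K.subgroupOf N) (P.subgroupOf N) (χ ∘ eK) := by
    intro χ h s hs g g' hg
    exact h (s : G) hs (eK g) (eK g') (congrArg Subtype.val hg)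
  have sK_up : ∀ χ' : K.subgroupOf N → ℂ, SInv (K.subgroupOf N) (P.subgroupOf N) χ' →
      SInv K P (χ' ∘ eK.symm) := by
    intro χ' h s hs g g' hg
    exact h ⟨s, hPN hs⟩ hs (eK.symm g) (eK.symm g') (Subtype.ext hg)
  have sC_down : ∀ ξ : C → ℂ, SInv C P ξ →
      SInv (C.subgroupOf N) (P.subgroupOf N) (ξ ∘ eC) := by
    intro ξ h s hs g g' hg
    exact h (s : G) hs (eC g) (eC g') (congrArg Subtype.val hg)
  have sC_up : ∀ ξ' : C.subgroupOf N → ℂ, SInv (C.subgroupOf N) (P.subgroupOf N) ξ' →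
      SInv C P (ξ' ∘ eC.symm) := by
    intro ξ' h s hs g g' hg
    exact h ⟨s, hPN hs⟩ hs (eC.symm g) (eC.symm g') (Subtype.ext hg)
  have tM : ∀ (χ : K → ℂ) (ξ' : C.subgroupOf N → ℂ),
      Cfsg.classInner (rres hCK χ) (ξ' ∘ eC.symm)
        = Cfsg.classInner (rres hCK' (χ ∘ eK)) ξ' := by
    intro χ ξ'
    have e1 : (rres hCK χ) ∘ eC = rres hCK' (χ ∘ eK) := by
      funext c
      show χ _ = χ _
      congr 1
    have e2 : (ξ' ∘ eC.symm) ∘ eC = ξ' := by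
      funext c
      simp
    rw [← Cfsg.Agent.S1489.classInner_comp_iso eC (rres hCK χ) (ξ' ∘ eC.symm), e1, e2]
  have hback : ∀ ξ : C → ℂ, ξ = (ξ ∘ eC) ∘ eC.symm := by
    intro ξ
    funext c
    simp
  refine ⟨?_, ?_, ?_⟩
  · intro χ hχ hχinv
    obtain ⟨ξ₀', hξ₀', hξ₀'inv, ⟨m, hm, hmod⟩, hoth⟩ := m1 (χ ∘ eK)
      (Cfsg.Agent.S1489.isIrrCharacter_comp_iso hχ eK) (sK_down χ hχinv)
    refine ⟨ξ₀' ∘ eC.symm, Cfsg.Agent.S1489.isIrrCharacter_comp_iso hξ₀' eC.symm,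
      sC_up ξ₀' hξ₀'inv, ⟨m, ?_, hmod⟩, ?_⟩
    · rw [tM]
      exact hm
    · intro ξ hξ hξinv hne
      obtain ⟨m', hm', hd⟩ := hoth (ξ ∘ eC) (Cfsg.Agent.S1489.isIrrCharacter_comp_iso hξ eC)
        (sC_down ξ hξinv) (by
          intro h
          apply hne
          rw [hback ξ, h])
      refine ⟨m', ?_, hd⟩
      rw [hback ξ, tM]
      exact hm'
  · intro χ χ' hχ hχinv hχ' hχ'inv ξ hξ hξinv m m' hm hmd hm' hmd'
    rw [hback ξ, tM] at hm hm'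
    have h := m2 (χ ∘ eK) (χ' ∘ eK) (Cfsg.Agent.S1489.isIrrCharacter_comp_iso hχ eK)
      (sK_down χ hχinv) (Cfsg.Agent.S1489.isIrrCharacter_comp_iso hχ' eK) (sK_down χ' hχ'inv)
      (ξ ∘ eC) (Cfsg.Agent.S1489.isIrrCharacter_comp_iso hξ eC) (sC_down ξ hξinv) m m' hm hmd
      hm' hmd'
    funext k
    have := congrFun h (eK.symm k)
    simpa using this
  · intro ξ hξ hξinv
    obtain ⟨χ', hχ', hχ'inv, m, hm, hmd⟩ := m3 (ξ ∘ eC)
      (Cfsg.Agent.S1489.isIrrCharacter_comp_iso hξ eC) (sC_down ξ hξinv)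
    refine ⟨χ' ∘ eK.symm, Cfsg.Agent.S1489.isIrrCharacter_comp_iso hχ' eK.symm,
      sK_up χ' hχ'inv, m, ?_, hmd⟩
    have e3 : (χ' ∘ eK.symm) ∘ eK = χ' := by
      funext k
      simp
    rw [hback ξ, tM, e3]
    exact hm

end relg8

end Cfsg.Agent.Lib.Helper2
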