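import Mathlib
import Cfsg.Agent.Lib.Helper2.RelG8

set_option autoImplicit false

/-! Relative Glauberman correspondence, part 9: degrees and the packaging as a bijection. -/

namespace Cfsg.Agent.Lib.Helper2

open scoped ComplexConjugate

section relg9

variable {G : Type*} [Group G]

/-- the degree congruence: the degree of `χ` is congruent to the multiplicity times the degree
of its correspondent -/
theorem deg_congr [Finite G] (p : ℕ) [hp : Fact p.Prime] (P K C : Subgroup G) [Fintype K]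
    [Fintype C] (hCK : C ≤ K) (hP : IsPGroup p P) (hPC : ∀ s ∈ P, ∀ c ∈ C, s * c * s⁻¹ ∈ C)
    {χ : K → ℂ} (hχ : Cfsg.IsIrrCharacter K χ) (hχinv : SInv K P χ) {ξ₀ : C → ℂ}
    (hξ₀ : Cfsg.IsIrrCharacter C ξ₀) (hξ₀inv : SInv C P ξ₀) (m₀ : ℕ)
    (hm₀ : Cfsg.classInner (rres hCK χ) ξ₀ = (m₀ : ℂ))
    (hoth : ∀ ξ : C → ℂ, Cfsg.IsIrrCharacter C ξ → SInv C P ξ → ξ ≠ ξ₀ →
      ∃ m : ℕ, Cfsg.classInner (rres hCK χ) ξ = (m : ℂ) ∧ p ∣ m) :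
    Cfsg.charDegree χ ≡ m₀ * Cfsg.charDegree ξ₀ [MOD p] := by
  classical
  haveI := Fintype.ofFinite (Cfsg.IrrCharacter C)
  have hχC : Cfsg.IsCharacter C (rres hCK χ) :=
    rres_isCharacter hCK (isCharacter_of_isIrrCharacter hχ)
  have hnat : ∀ ξ : Cfsg.IrrCharacter C, ∃ n : ℕ,
      Cfsg.classInner (rres hCK χ) (ξ : C → ℂ) = (n : ℂ) :=
    fun ξ => classInner_isCharacter_nat hχC (isCharacter_of_isIrrCharacter ξ.2)
  choose n hn using hnat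
  have hsum : Cfsg.charDegree χ
      = ∑ ξ : Cfsg.IrrCharacter C, n ξ * Cfsg.charDegree (ξ : C → ℂ) := by
    have h1 := char_apply_one_eq_sum hχC
    have h2 : rres hCK χ 1 = χ 1 := rfl
    rw [h2, irr_apply_one_eq_charDegree hχ] at h1
    have h3 : (Cfsg.charDegree χ : ℂ)
        = ((∑ ξ : Cfsg.IrrCharacter C, n ξ * Cfsg.charDegree (ξ : C → ℂ) : ℕ) : ℂ) := by
      rw [h1]
      push_cast
      apply Finset.sum_congr rfl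
      intro ξ _
      rw [hn ξ, irr_apply_one_eq_charDegree ξ.2]
    exact_mod_cast h3
  letI act : MulAction P (Cfsg.IrrCharacter C) :=
    { smul := fun s ξ => ⟨(ξ : C → ℂ) ∘ cjAut C P hPC (s : G)⁻¹ (inv_mem s.2),
        isIrrCharacter_comp_mulEquiv ξ.2 _⟩
      one_smul := fun ξ => Subtype.ext (by
        funext c
        show (ξ : C → ℂ) _ = (ξ : C → ℂ) c
        refine congrArg (ξ : C → ℂ) (Subtype.ext ?_)
        simp [cjAut_coe])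
      mul_smul := fun s t ξ => Subtype.ext (by
        funext c
        show (ξ : C → ℂ) _ = (ξ : C → ℂ) _
        refine congrArg (ξ : C → ℂ) (Subtype.ext ?_)
        simp [cjAut_coe, mul_assoc]) }
  have hsmul : ∀ (s : P) (ξ : Cfsg.IrrCharacter C), ((s • ξ : Cfsg.IrrCharacter C) : C → ℂ)
      = (ξ : C → ℂ) ∘ cjAut C P hPC (s : G)⁻¹ (inv_mem s.2) := fun s ξ => rfl
  have hw : ∀ (s : P) (ξ : Cfsg.IrrCharacter C),
      n (s • ξ) * Cfsg.charDegree ((s • ξ : Cfsg.IrrCharacter C) : C → ℂ)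
        = n ξ * Cfsg.charDegree (ξ : C → ℂ) := by
    intro s ξ
    have e1 : n (s • ξ) = n ξ := by
      have h1 := hn (s • ξ)
      rw [hsmul] at h1
      have e : rres hCK χ = (rres hCK χ) ∘ cjAut C P hPC (s : G)⁻¹ (inv_mem s.2) :=
        (sinv_comp hPC (sinv_rres hCK hχinv) _ _).symm
      rw [e, Cfsg.Agent.S1489.classInner_comp_iso, hn ξ] at h1
      exact_mod_cast h1.symm
    have e2 : Cfsg.charDegree ((s • ξ : Cfsg.IrrCharacter C) : C → ℂ)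
        = Cfsg.charDegree (ξ : C → ℂ) := by
      rw [hsmul]
      unfold Cfsg.charDegree
      rw [Function.comp_apply, map_one]
    rw [e1, e2]
  have hmod := sum_modEq_sum_fixed hP
    (fun ξ : Cfsg.IrrCharacter C => n ξ * Cfsg.charDegree (ξ : C → ℂ)) hw
  have hfix_of : ∀ ξ : Cfsg.IrrCharacter C, (∀ q : P, q • ξ = ξ) → SInv C P (ξ : C → ℂ) := by
    intro ξ hfix s hs g g' hg
    have h1 := congrArg (fun z : Cfsg.IrrCharacter C => (z : C → ℂ) g)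
      (hfix ⟨s⁻¹, inv_mem hs⟩)
    have h2 : g' = cjAut C P hPC ((⟨s⁻¹, inv_mem hs⟩ : P) : G)⁻¹
        (inv_mem (⟨s⁻¹, inv_mem hs⟩ : P).2) g := by
      apply Subtype.ext
      rw [cjAut_coe, hg]
      simp
    rw [h2]
    exact h1
  have hfix_to : ∀ ξ : Cfsg.IrrCharacter C, SInv C P (ξ : C → ℂ) → ∀ q : P, q • ξ = ξ := by
    intro ξ hinv q
    apply Subtype.ext
    rw [hsmul]
    exact sinv_comp hPC hinv _ _
  set S := Finset.univ.filter (fun ξ : Cfsg.IrrCharacter C => ∀ q : P, q • ξ = ξ) with hS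
  have hmem : (⟨ξ₀, hξ₀⟩ : Cfsg.IrrCharacter C) ∈ S := by
    rw [hS, Finset.mem_filter]
    exact ⟨Finset.mem_univ _, hfix_to _ hξ₀inv⟩
  have hn₀ : n ⟨ξ₀, hξ₀⟩ = m₀ := by
    have h : (m₀ : ℂ) = n ⟨ξ₀, hξ₀⟩ := hm₀.symm.trans (hn ⟨ξ₀, hξ₀⟩)
    exact_mod_cast h.symm
  rw [← Finset.add_sum_erase S _ hmem] at hmod
  have hrest : p ∣ ∑ ξ ∈ S.erase ⟨ξ₀, hξ₀⟩, n ξ * Cfsg.charDegree (ξ : C → ℂ) := by
    apply Finset.dvd_sum
    intro ξ hξ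
    obtain ⟨hne, hξS⟩ := Finset.mem_erase.mp hξ
    have hfix := (Finset.mem_filter.mp hξS).2
    obtain ⟨m, hm, hd⟩ := hoth ξ ξ.2 (hfix_of ξ hfix) (fun h => hne (Subtype.ext h))
    have : n ξ = m := by
      have h : (m : ℂ) = n ξ := hm.symm.trans (hn ξ)
      exact_mod_cast h.symm
    rw [this]
    exact Dvd.dvd.mul_right hd _
  rw [hsum]
  calc ∑ ξ : Cfsg.IrrCharacter C, n ξ * Cfsg.charDegree (ξ : C → ℂ)
      ≡ n ⟨ξ₀, hξ₀⟩ * Cfsg.charDegree ξ₀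
        + ∑ ξ ∈ S.erase ⟨ξ₀, hξ₀⟩, n ξ * Cfsg.charDegree (ξ : C → ℂ) [MOD p] := hmod
    _ ≡ n ⟨ξ₀, hξ₀⟩ * Cfsg.charDegree ξ₀ + 0 [MOD p] :=
        Nat.ModEq.add_left _ ((Nat.modEq_zero_iff_dvd).mpr hrest)
    _ = m₀ * Cfsg.charDegree ξ₀ := by rw [hn₀, add_zero]

/-- packaging of the correspondence as a bijection -/
theorem final_corr [Finite G] (p : ℕ) [hp : Fact p.Prime] (P K C : Subgroup G) [Fintype K]
    [Fintype C] (hCK : C ≤ K) (hP : IsPGroup p P) (hPC : ∀ s ∈ P, ∀ c ∈ C, s * c * s⁻¹ ∈ C)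
    (h1 : ∀ χ : K → ℂ, Cfsg.IsIrrCharacter K χ → SInv K P χ →
      ∃ ξ₀ : C → ℂ, Cfsg.IsIrrCharacter C ξ₀ ∧ SInv C P ξ₀ ∧
        (∃ m : ℕ, Cfsg.classInner (rres hCK χ) ξ₀ = (m : ℂ) ∧
          ((m : ℤ) ≡ 1 [ZMOD p] ∨ (m : ℤ) ≡ -1 [ZMOD p])) ∧
        ∀ ξ : C → ℂ, Cfsg.IsIrrCharacter C ξ → SInv C P ξ → ξ ≠ ξ₀ →
          ∃ m : ℕ, Cfsg.classInner (rres hCK χ) ξ = (m : ℂ) ∧ p ∣ m)
    (h2 : ∀ χ χ' : K → ℂ, Cfsg.IsIrrCharacter K χ → SInv K P χ → Cfsg.IsIrrCharacter K χ' →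
      SInv K P χ' → ∀ ξ : C → ℂ, Cfsg.IsIrrCharacter C ξ → SInv C P ξ →
      ∀ m m' : ℕ, Cfsg.classInner (rres hCK χ) ξ = (m : ℂ) → ¬ p ∣ m →
        Cfsg.classInner (rres hCK χ') ξ = (m' : ℂ) → ¬ p ∣ m' → χ = χ')
    (h3 : ∀ ξ : C → ℂ, Cfsg.IsIrrCharacter C ξ → SInv C P ξ →
      ∃ χ : K → ℂ, Cfsg.IsIrrCharacter K χ ∧ SInv K P χ ∧
        ∃ m : ℕ, Cfsg.classInner (rres hCK χ) ξ = (m : ℂ) ∧ ¬ p ∣ m) :
    ∃ f : {χ : Cfsg.IrrCharacter K // SInv K P (χ : K → ℂ)} →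
        {ξ : Cfsg.IrrCharacter C // SInv C P (ξ : C → ℂ)},
      Function.Bijective f ∧ ∀ χ,
        (∀ ξ : {ξ : Cfsg.IrrCharacter C // SInv C P (ξ : C → ℂ)}, ∃ m : ℕ,
          (Nat.card C : ℂ)⁻¹ * ∑ᶠ c : C, (χ.1 : K → ℂ) (Subgroup.inclusion hCK c)
              * (starRingEnd ℂ) ((ξ.1 : C → ℂ) c) = (m : ℂ) ∧
          (ξ = f χ → ((m : ZMod p) = 1 ∨ (m : ZMod p) = -1)) ∧ (ξ ≠ f χ → p ∣ m)) ∧
        ((Cfsg.charDegree ((f χ).1 : C → ℂ) : ZMod p)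
            = (Cfsg.charDegree (χ.1 : K → ℂ) : ZMod p) ∨
          (Cfsg.charDegree ((f χ).1 : C → ℂ) : ZMod p)
            = -(Cfsg.charDegree (χ.1 : K → ℂ) : ZMod p)) := by
  classical
  choose! F hF using h1
  have hcast : ∀ {a b : ℕ}, (a : ℂ) = (b : ℂ) → a = b := fun h => by exact_mod_cast h
  have hpm : ∀ m : ℕ, ((m : ℤ) ≡ 1 [ZMOD p] ∨ (m : ℤ) ≡ -1 [ZMOD p]) → ¬ p ∣ m :=
    fun m => not_dvd_of_pm_one p hp.out m
  have hzm : ∀ m : ℕ, ((m : ℤ) ≡ 1 [ZMOD p] ∨ (m : ℤ) ≡ -1 [ZMOD p]) →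
      ((m : ZMod p) = 1 ∨ (m : ZMod p) = -1) := by
    intro m h
    rcases h with h | h
    · left
      have := (ZMod.intCast_eq_intCast_iff _ _ p).mpr h
      simpa using this
    · right
      have := (ZMod.intCast_eq_intCast_iff _ _ p).mpr h
      simpa using this
  refine ⟨fun χ => ⟨⟨F χ.1.1, (hF χ.1.1 χ.1.2 χ.2).1⟩, (hF χ.1.1 χ.1.2 χ.2).2.1⟩, ⟨?_, ?_⟩, ?_⟩
  · intro χ χ' hff
    have e : F χ.1.1 = F χ'.1.1 := congrArg (fun z => ((z.1 : Cfsg.IrrCharacter C) : C → ℂ)) hff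
    obtain ⟨m, hm, hmod⟩ := (hF χ.1.1 χ.1.2 χ.2).2.2.1
    obtain ⟨m', hm', hmod'⟩ := (hF χ'.1.1 χ'.1.2 χ'.2).2.2.1
    rw [← e] at hm'
    exact Subtype.ext (Subtype.ext (h2 χ.1.1 χ'.1.1 χ.1.2 χ.2 χ'.1.2 χ'.2 (F χ.1.1)
      (hF χ.1.1 χ.1.2 χ.2).1 (hF χ.1.1 χ.1.2 χ.2).2.1 m m' hm (hpm m hmod) hm' (hpm m' hmod')))
  · intro ξ
    obtain ⟨χ, hχ, hχinv, m, hm, hmd⟩ := h3 ξ.1.1 ξ.1.2 ξ.2
    refine ⟨⟨⟨χ, hχ⟩, hχinv⟩, ?_⟩
    by_contra hne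
    have hne' : (ξ.1 : C → ℂ) ≠ F χ := fun h => hne (Subtype.ext (Subtype.ext h.symm))
    obtain ⟨m', hm', hd⟩ := (hF χ hχ hχinv).2.2.2 ξ.1.1 ξ.1.2 ξ.2 hne'
    rw [hm] at hm'
    exact hmd (hcast hm' ▸ hd)
  · intro χ
    constructor
    · intro ξ
      have hfin : (Nat.card C : ℂ)⁻¹ * ∑ᶠ c : C, (χ.1 : K → ℂ) (Subgroup.inclusion hCK c)
          * (starRingEnd ℂ) ((ξ.1 : C → ℂ) c)
          = Cfsg.classInner (rres hCK (χ.1 : K → ℂ)) (ξ.1 : C → ℂ) := by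
        rw [finsum_eq_sum_of_fintype]
        rfl
      by_cases hξ : ξ = ⟨⟨F χ.1.1, (hF χ.1.1 χ.1.2 χ.2).1⟩, (hF χ.1.1 χ.1.2 χ.2).2.1⟩
      · obtain ⟨m, hm, hmod⟩ := (hF χ.1.1 χ.1.2 χ.2).2.2.1
        refine ⟨m, ?_, fun _ => hzm m hmod, fun h => absurd hξ h⟩
        rw [hfin, hξ]
        exact hm
      · have hne : (ξ.1 : C → ℂ) ≠ F χ.1.1 := fun h => hξ (Subtype.ext (Subtype.ext h))
        obtain ⟨m, hm, hd⟩ := (hF χ.1.1 χ.1.2 χ.2).2.2.2 ξ.1.1 ξ.1.2 ξ.2 hne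
        exact ⟨m, by rw [hfin]; exact hm, fun h => absurd h hξ, fun _ => hd⟩
    · obtain ⟨m, hm, hmod⟩ := (hF χ.1.1 χ.1.2 χ.2).2.2.1
      have hdeg := deg_congr p P K C hCK hP hPC χ.1.2 χ.2 (hF χ.1.1 χ.1.2 χ.2).1
        (hF χ.1.1 χ.1.2 χ.2).2.1 m hm (hF χ.1.1 χ.1.2 χ.2).2.2.2
      have hz : ((Cfsg.charDegree (χ.1 : K → ℂ) : ℕ) : ZMod p)
          = (m : ZMod p) * (Cfsg.charDegree (F χ.1.1) : ZMod p) := by
        have := (ZMod.natCast_eq_natCast_iff _ _ p).mpr hdeg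
        push_cast at this
        exact this
      show ((Cfsg.charDegree (F χ.1.1) : ZMod p) = (Cfsg.charDegree (χ.1 : K → ℂ) : ZMod p) ∨
          (Cfsg.charDegree (F χ.1.1) : ZMod p) = -(Cfsg.charDegree (χ.1 : K → ℂ) : ZMod p))
      rcases hzm m hmod with h | h
      · left
        rw [hz, h, one_mul]
      · right
        rw [hz, h]
        ring

end relg9

end Cfsg.Agent.Lib.Helper2
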