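import Mathlib
import Cfsg.Agent.Lib.Helper2.PLocal1
import Cfsg.Agent.Lib.Helper2.RelG9
import Cfsg.Agent.S0856

set_option autoImplicit false

/-! Dade's detection lemma: an invariant irreducible character of a normal subgroup of
`p`-power index is detected on a `p`-elementary subgroup. -/

namespace Cfsg.Agent.Lib.Helper2

open scoped ComplexConjugate

section plocal2

variable {G : Type*} [Group G]

/-- decomposition of an elementary subgroup: a `p`-subgroup together with central elements -/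
theorem elementary_decomp [Finite G] {p : ℕ} (hp : p.Prime) (E : Subgroup G)
    (hE : Cfsg.IsElementary p E) :
    ∃ P : Subgroup G, P ≤ E ∧ IsPGroup p P ∧
      ∀ g ∈ E, ∃ c y : G, c ∈ E ∧ (∀ e ∈ E, c * e = e * c) ∧ y ∈ P ∧ g = c * y := by
  classical
  haveI : Fact p.Prime := ⟨hp⟩
  obtain ⟨x, hxc, hxcop, k, hk⟩ := hE
  have hxcomm : ∀ z : E, z * x = x * z := fun z => Subgroup.mem_center_iff.mp hxc z
  have hZcomm : ∀ c ∈ Subgroup.zpowers x, ∀ w : E, Commute c w := by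
    intro c hc w
    obtain ⟨i, rfl⟩ := Subgroup.mem_zpowers_iff.mp hc
    have h1 : Commute x w := (hxcomm w).symm
    exact h1.zpow_left i
  haveI hZn : (Subgroup.zpowers x).Normal := ⟨fun c hc z => by
    have h1 := (hZcomm c hc z).eq
    have h2 : z * c * z⁻¹ = c := by
      rw [← h1, mul_inv_cancel_right]
    rw [h2]
    exact hc⟩
  obtain ⟨P⟩ := (inferInstance : Nonempty (Sylow p E))
  have hcardE : Nat.card E = orderOf x * p ^ k := by
    rw [← Subgroup.card_mul_index (Subgroup.zpowers x), Nat.card_zpowers, hk]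
  have hpn : ¬ p ∣ orderOf x := by
    intro h
    have h1 := Nat.dvd_gcd h (dvd_refl p)
    rw [Nat.Coprime.gcd_eq_one hxcop] at h1
    exact hp.one_lt.ne' (Nat.dvd_one.mp h1)
  have hPcard : Nat.card (P : Subgroup E) = p ^ k := by
    rw [Sylow.card_eq_multiplicity, hcardE,
      Nat.factorization_mul (orderOf_pos x).ne' (pow_pos hp.pos k).ne']
    congr 1
    rw [Finsupp.add_apply, Nat.factorization_eq_zero_of_not_dvd hpn, zero_add,
      Nat.Prime.factorization_pow hp, Finsupp.single_eq_same]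
  have hsup : Subgroup.zpowers x ⊔ (P : Subgroup E) = ⊤ := by
    apply Subgroup.eq_top_of_le_card
    have h1 : Nat.card (Subgroup.zpowers x) ∣ Nat.card ↥(Subgroup.zpowers x ⊔ (P : Subgroup E)) :=
      Subgroup.card_dvd_of_le le_sup_left
    have h2 : Nat.card (P : Subgroup E) ∣ Nat.card ↥(Subgroup.zpowers x ⊔ (P : Subgroup E)) :=
      Subgroup.card_dvd_of_le le_sup_right
    rw [Nat.card_zpowers] at h1
    rw [hPcard] at h2
    have h3 := Nat.Coprime.mul_dvd_of_dvd_of_dvd (Nat.Coprime.pow_right k hxcop) h1 h2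
    rw [← hcardE] at h3
    exact Nat.le_of_dvd Nat.card_pos h3
  have hdec : ∀ z : E, ∃ c ∈ Subgroup.zpowers x, ∃ y ∈ (P : Subgroup E), z = c * y := by
    intro z
    have hz : z ∈ (↑(Subgroup.zpowers x ⊔ (P : Subgroup E)) : Set E) := by
      rw [hsup]
      trivial
    rw [Subgroup.normal_mul] at hz
    obtain ⟨c, hc, y, hy, rfl⟩ := hz
    exact ⟨c, hc, y, hy, rfl⟩
  refine ⟨(P : Subgroup E).map E.subtype, ?_, ?_, ?_⟩
  · rintro _ ⟨y, -, rfl⟩
    exact y.2
  · exact P.isPGroup'.map E.subtype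
  · intro g hg
    obtain ⟨c, hc, y, hy, hz⟩ := hdec ⟨g, hg⟩
    refine ⟨(c : G), (y : G), c.2, ?_, ⟨y, hy, rfl⟩, ?_⟩
    · intro e he
      have h1 := (hZcomm c hc ⟨e, he⟩).eq
      exact congrArg Subtype.val h1
    · exact congrArg Subtype.val hz

/-- an invariant irreducible constituent with multiplicity prime to `p` -/
theorem exists_inv_constituent [Finite G] (p : ℕ) [hp : Fact p.Prime] (P D : Subgroup G)
    [Fintype D] (hP : IsPGroup p P) (hPD : ∀ s ∈ P, ∀ c ∈ D, s * c * s⁻¹ ∈ D)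
    {α β : D → ℂ} (hα : Cfsg.IsCharacter D α) (hβ : Cfsg.IsCharacter D β)
    (hαinv : SInv D P α) (hβinv : SInv D P β) (J : ℕ)
    (hJ : Cfsg.classInner α β = (J : ℂ)) (hpJ : ¬ p ∣ J) :
    ∃ φ : D → ℂ, Cfsg.IsIrrCharacter D φ ∧ SInv D P φ ∧
      ∃ m : ℕ, Cfsg.classInner β φ = (m : ℂ) ∧ ¬ p ∣ m := by
  classical
  haveI := Fintype.ofFinite (Cfsg.IrrCharacter D)
  have hnatα : ∀ ξ : Cfsg.IrrCharacter D, ∃ n : ℕ, Cfsg.classInner α (ξ : D → ℂ) = (n : ℂ) :=
    fun ξ => classInner_isCharacter_nat hα (isCharacter_of_isIrrCharacter ξ.2)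
  have hnatβ : ∀ ξ : Cfsg.IrrCharacter D, ∃ n : ℕ, Cfsg.classInner β (ξ : D → ℂ) = (n : ℂ) :=
    fun ξ => classInner_isCharacter_nat hβ (isCharacter_of_isIrrCharacter ξ.2)
  choose a ha using hnatα
  choose b hb using hnatβ
  have hsum : J = ∑ ξ : Cfsg.IrrCharacter D, a ξ * b ξ := by
    have h1 := classInner_eq_sum α β (isClassFunction_of_isCharacter hα)
    rw [hJ] at h1
    have h3 : (J : ℂ) = ((∑ ξ : Cfsg.IrrCharacter D, a ξ * b ξ : ℕ) : ℂ) := by
      rw [h1]
      push_cast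
      apply Finset.sum_congr rfl
      intro ξ _
      rw [ha ξ, hb ξ, Complex.conj_natCast]
    exact_mod_cast h3
  letI act : MulAction P (Cfsg.IrrCharacter D) :=
    { smul := fun s ξ => ⟨(ξ : D → ℂ) ∘ cjAut D P hPD (s : G)⁻¹ (inv_mem s.2),
        isIrrCharacter_comp_mulEquiv ξ.2 _⟩
      one_smul := fun ξ => Subtype.ext (by
        funext c
        show (ξ : D → ℂ) _ = (ξ : D → ℂ) c
        refine congrArg (ξ : D → ℂ) (Subtype.ext ?_)
        simp [cjAut_coe])
      mul_smul := fun s t ξ => Subtype.ext (by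
        funext c
        show (ξ : D → ℂ) _ = (ξ : D → ℂ) _
        refine congrArg (ξ : D → ℂ) (Subtype.ext ?_)
        simp [cjAut_coe, mul_assoc]) }
  have hsmul : ∀ (s : P) (ξ : Cfsg.IrrCharacter D), ((s • ξ : Cfsg.IrrCharacter D) : D → ℂ)
      = (ξ : D → ℂ) ∘ cjAut D P hPD (s : G)⁻¹ (inv_mem s.2) := fun s ξ => rfl
  have hw : ∀ (s : P) (ξ : Cfsg.IrrCharacter D), a (s • ξ) * b (s • ξ) = a ξ * b ξ := by
    intro s ξ
    have e1 : a (s • ξ) = a ξ := by
      have h1 := ha (s • ξ)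
      rw [hsmul] at h1
      have e : α = α ∘ cjAut D P hPD (s : G)⁻¹ (inv_mem s.2) :=
        (sinv_comp hPD hαinv _ _).symm
      rw [e, Cfsg.Agent.S1489.classInner_comp_iso, ha ξ] at h1
      exact_mod_cast h1.symm
    have e2 : b (s • ξ) = b ξ := by
      have h1 := hb (s • ξ)
      rw [hsmul] at h1
      have e : β = β ∘ cjAut D P hPD (s : G)⁻¹ (inv_mem s.2) :=
        (sinv_comp hPD hβinv _ _).symm
      rw [e, Cfsg.Agent.S1489.classInner_comp_iso, hb ξ] at h1
      exact_mod_cast h1.symm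
    rw [e1, e2]
  have hmod := sum_modEq_sum_fixed hP (fun ξ : Cfsg.IrrCharacter D => a ξ * b ξ) hw
  have hfix_of : ∀ ξ : Cfsg.IrrCharacter D, (∀ q : P, q • ξ = ξ) → SInv D P (ξ : D → ℂ) := by
    intro ξ hfix s hs g g' hg
    have h1 := congrArg (fun z : Cfsg.IrrCharacter D => (z : D → ℂ) g)
      (hfix ⟨s⁻¹, inv_mem hs⟩)
    have h2 : g' = cjAut D P hPD ((⟨s⁻¹, inv_mem hs⟩ : P) : G)⁻¹
        (inv_mem (⟨s⁻¹, inv_mem hs⟩ : P).2) g := by
      apply Subtype.ext
      rw [cjAut_coe, hg]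
      simp
    rw [h2]
    exact h1
  rw [← hsum] at hmod
  by_contra hcon
  have hdvd : p ∣ ∑ ξ ∈ Finset.univ.filter
      (fun ξ : Cfsg.IrrCharacter D => ∀ q : P, q • ξ = ξ), a ξ * b ξ := by
    apply Finset.dvd_sum
    intro ξ hξ
    have hfix := (Finset.mem_filter.mp hξ).2
    by_contra hnd
    apply hcon
    refine ⟨ξ, ξ.2, hfix_of ξ hfix, b ξ, hb ξ, ?_⟩
    intro hd
    exact hnd (Dvd.dvd.mul_left hd _)
  exact hpJ ((Nat.modEq_zero_iff_dvd).mp (hmod.trans ((Nat.modEq_zero_iff_dvd).mpr hdvd)))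

/-- a sum over a subgroup of a function vanishing off another subgroup -/
theorem sum_inf_eq (E N : Subgroup G) [Fintype E] [Fintype ↥(E ⊓ N)] (F : E → ℂ)
    (hF : ∀ e : E, (e : G) ∉ N → F e = 0) :
    ∑ e : E, F e = ∑ d : ↥(E ⊓ N), F ⟨d, d.2.1⟩ := by
  classical
  symm
  have hinj : Function.Injective (fun d : ↥(E ⊓ N) => (⟨d, d.2.1⟩ : E)) := by
    intro d d' h
    exact Subtype.ext (congrArg (fun e : E => (e : G)) h)
  rw [← Finset.sum_image (s := Finset.univ) (g := fun d : ↥(E ⊓ N) => (⟨d, d.2.1⟩ : E))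
    (f := F) (fun d _ d' _ h => hinj h)]
  apply Finset.sum_subset (Finset.subset_univ _)
  intro e _ he
  apply hF
  intro hN
  apply he
  rw [Finset.mem_image]
  exact ⟨⟨e, ⟨e.2, hN⟩⟩, Finset.mem_univ _, rfl⟩

end plocal2

end Cfsg.Agent.Lib.Helper2
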