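import Mathlib
import Cfsg.Agent.Lib.Helper2.PLocal2

set_option autoImplicit false

/-! Dade's detection lemma, main argument. -/

namespace Cfsg.Agent.Lib.Helper2

open scoped ComplexConjugate

/-- **Dade's lemma**: an invariant irreducible character of a normal subgroup of `p`-power
index is detected by an invariant irreducible character on a `p`-elementary subgroup -/
theorem dade_detect {G : Type*} [Group G] [Fintype G] (p : ℕ) (hp : p.Prime) (N : Subgroup G)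
    [hN : N.Normal] (hind : ∃ k : ℕ, N.index = p ^ k) (ϑ : N → ℂ)
    (hϑ : Cfsg.IsIrrCharacter N ϑ)
    (hinv : ∀ (g : G) (n : N), ϑ ⟨g * n * g⁻¹, hN.conj_mem (n : G) n.2 g⟩ = ϑ n) :
    ∃ (E : Subgroup G) (φ : ↥(E ⊓ N) → ℂ), Cfsg.IsElementary p E ∧ E ⊔ N = ⊤ ∧
      Cfsg.IsIrrCharacter ↥(E ⊓ N) φ ∧
      (∀ (g : G) (hg : g ∈ E) (x : ↥(E ⊓ N)),
        φ ⟨g * x * g⁻¹, ⟨(E.mul_mem (E.mul_mem hg x.2.1) (E.inv_mem hg)),
          hN.conj_mem (x : G) x.2.2 g⟩⟩ = φ x) ∧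
      ∃ m : ℕ, ¬ p ∣ m ∧ (Nat.card ↥(E ⊓ N) : ℂ)⁻¹
        * ∑ᶠ x : ↥(E ⊓ N), ϑ ⟨(x : G), x.2.2⟩ * conj (φ x) = (m : ℂ) := by
  classical
  haveI : Fact p.Prime := ⟨hp⟩
  obtain ⟨k, hk⟩ := hind
  set Θ : G → ℂ := Cfsg.extendByZero N ϑ with hΘ
  have hΘcf : Cfsg.IsClassFunction G Θ := by
    intro g h
    by_cases hg : g ∈ N
    · have h1 : h * g * h⁻¹ ∈ N := hN.conj_mem g hg h
      rw [hΘ, extendByZero_of_mem N ϑ h1, extendByZero_of_mem N ϑ hg]
      exact hinv h ⟨g, hg⟩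
    · have h1 : h * g * h⁻¹ ∉ N := by
        intro h2
        apply hg
        have h3 := hN.conj_mem _ h2 h⁻¹
        simpa [mul_assoc] using h3
      rw [hΘ, extendByZero_of_not_mem N ϑ h1, extendByZero_of_not_mem N ϑ hg]
  have hNne : (Nat.card N : ℂ) ≠ 0 := card_ne_zero_complex N
  have hGne : (Nat.card G : ℂ) ≠ 0 := card_ne_zero_complex G
  have hΘΘ : Cfsg.classInner Θ Θ * (N.index : ℂ) = 1 := by
    rw [classInner_def, hΘ, sum_extendByZero_mul N ϑ (fun g => conj (Cfsg.extendByZero N ϑ g))]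
    have h1 : ∑ h : N, ϑ h * conj (Cfsg.extendByZero N ϑ (h : G)) = ∑ h : N, ϑ h * conj (ϑ h) := by
      apply Finset.sum_congr rfl
      intro h _
      rw [extendByZero_coe]
    rw [h1]
    have h2 := classInner_irr_self hϑ
    rw [classInner_def] at h2
    have h3 : ∑ h : N, ϑ h * conj (ϑ h) = (Nat.card N : ℂ) := by
      field_simp at h2
      exact h2
    rw [h3]
    have h4 : (Nat.card G : ℂ) = (Nat.card N : ℂ) * (N.index : ℂ) := by
      rw [← Subgroup.card_mul_index N]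
      push_cast
      rfl
    rw [h4]
    have hine : (N.index : ℂ) ≠ 0 := by
      intro h0
      rw [h0, mul_zero] at h4
      exact hGne h4
    field_simp
  obtain ⟨m, hm, l, hl, hsum⟩ := plocal_brauer (G := G) p hp
  have hαc : ∀ t : (A : Subgroup G) × ((A →* ℂˣ) × ℤ),
      Cfsg.IsCharacter ↥(t.1 ⊓ N) (rres (inf_le_left : t.1 ⊓ N ≤ t.1) (fun a => (t.2.1 a : ℂ))
        * rres (inf_le_right : t.1 ⊓ N ≤ N) ϑ) := fun t =>
    IsCharacter.mul
      (rres_isCharacter _ (isCharacter_of_isIrrCharacter (isIrrCharacter_of_hom t.2.1)))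
      (rres_isCharacter _ (isCharacter_of_isIrrCharacter hϑ))
  have hβc : ∀ E : Subgroup G, Cfsg.IsCharacter ↥(E ⊓ N)
      (rres (inf_le_right : E ⊓ N ≤ N) ϑ) :=
    fun E => rres_isCharacter _ (isCharacter_of_isIrrCharacter hϑ)
  have hJex : ∀ t : (A : Subgroup G) × ((A →* ℂˣ) × ℤ), ∃ n : ℕ,
      Cfsg.classInner (rres (inf_le_left : t.1 ⊓ N ≤ t.1) (fun a => (t.2.1 a : ℂ))
        * rres (inf_le_right : t.1 ⊓ N ≤ N) ϑ) (rres (inf_le_right : t.1 ⊓ N ≤ N) ϑ) = (n : ℂ) :=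
    fun t => classInner_isCharacter_nat (hαc t) (hβc t.1)
  choose J hJ using hJex
  have hterm : ∀ t : (A : Subgroup G) × ((A →* ℂˣ) × ℤ),
      Cfsg.classInner (Cfsg.indFun t.1 (fun a => (t.2.1 a : ℂ)) * Θ) Θ * (N.relIndex t.1 : ℂ)
        = (J t : ℂ) := by
    intro t
    obtain ⟨E, lam, a⟩ := t
    have h1 : Cfsg.indFun E (fun a => (lam a : ℂ)) * Θ
        = Cfsg.indFun E ((fun a => (lam a : ℂ)) * fun e : E => Θ e) :=
      (Cfsg.Agent.S0856.indFun_mul E (fun a => (lam a : ℂ)) (fun e : E => Θ e) Θ hΘcf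
        (fun n => rfl)).symm
    show Cfsg.classInner (Cfsg.indFun E (fun a => (lam a : ℂ)) * Θ) Θ * (N.relIndex E : ℂ)
      = (J ⟨E, lam, a⟩ : ℂ)
    rw [h1, frobenius_reciprocity E _ Θ hΘcf, ← hJ ⟨E, lam, a⟩, classInner_def, classInner_def]
    rw [sum_inf_eq E N (fun e : E => ((fun a => (lam a : ℂ)) * fun e : E => Θ e) e
      * conj (Θ e)) ?_]
    · have hcard : (Nat.card E : ℂ) = (Nat.card ↥(E ⊓ N) : ℂ) * (N.relIndex E : ℂ) := by
        have h2 := Subgroup.card_mul_index (N.subgroupOf E)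
        have h3 : Nat.card (N.subgroupOf E) = Nat.card ↥(E ⊓ N) := by
          rw [← Subgroup.inf_subgroupOf_left]
          exact Nat.card_congr (Subgroup.subgroupOfEquivOfLe inf_le_left).toEquiv
        rw [h3] at h2
        rw [← h2]
        push_cast
        rfl
      rw [hcard]
      have hDne : (Nat.card ↥(E ⊓ N) : ℂ) ≠ 0 := card_ne_zero_complex _
      have hEne : (Nat.card E : ℂ) ≠ 0 := card_ne_zero_complex _
      have hrne : (N.relIndex E : ℂ) ≠ 0 := by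
        intro h0
        rw [h0, mul_zero] at hcard
        exact hEne hcard
      have hs : ∑ d : ↥(E ⊓ N), ((fun a => (lam a : ℂ)) * fun e : E => Θ e) ⟨d, d.2.1⟩
            * conj (Θ ((⟨d, d.2.1⟩ : E) : G))
          = ∑ d : ↥(E ⊓ N), (rres (inf_le_left : E ⊓ N ≤ E) (fun a => (lam a : ℂ))
            * rres (inf_le_right : E ⊓ N ≤ N) ϑ) d
            * conj (rres (inf_le_right : E ⊓ N ≤ N) ϑ d) := by
        apply Finset.sum_congr rfl
        intro d _
        have e1 : Θ (d : G) = ϑ ⟨d, d.2.2⟩ := extendByZero_of_mem N ϑ d.2.2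
        simp only [Pi.mul_apply, rres_apply]
        rw [e1]
      rw [hs]
      field_simp
    · intro e he
      have h0 : Θ (e : G) = 0 := extendByZero_of_not_mem N ϑ he
      simp [h0]
  have hlin : ∀ l' : List ((A : Subgroup G) × ((A →* ℂˣ) × ℤ)),
      Cfsg.classInner ((l'.map fun t =>
          (t.2.2 : ℂ) • Cfsg.indFun t.1 (fun a => (t.2.1 a : ℂ))).sum * Θ) Θ
        = (l'.map fun t => (t.2.2 : ℂ)
          * Cfsg.classInner (Cfsg.indFun t.1 (fun a => (t.2.1 a : ℂ)) * Θ) Θ).sum := by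
    intro l'
    induction l' with
    | nil => simp [classInner_zero_left]
    | cons t l' ih =>
      rw [List.map_cons, List.sum_cons, add_mul, classInner_add_left, ih, List.map_cons,
        List.sum_cons, smul_mul_assoc, classInner_smul_left]
  have hmain : (m : ℂ) = (l.map fun t => (t.2.2 : ℂ)
      * ((N.index / N.relIndex t.1 : ℕ) : ℂ) * (J t : ℂ)).sum := by
    have h1 := hlin l
    rw [← hsum] at h1
    have h2 : ((fun _ => (m : ℂ)) : G → ℂ) * Θ = (m : ℂ) • Θ := by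
      funext g
      simp
    rw [h2, classInner_smul_left] at h1
    have h3 : (m : ℂ) = (m : ℂ) * Cfsg.classInner Θ Θ * (N.index : ℂ) := by
      rw [mul_assoc, hΘΘ, mul_one]
    rw [h3, h1, ← List.sum_map_mul_right]
    congr 1
    apply List.map_congr_left
    intro t ht
    have hr : (N.index : ℂ) = ((N.index / N.relIndex t.1 : ℕ) : ℂ) * (N.relIndex t.1 : ℂ) := by
      rw [← Nat.cast_mul, Nat.div_mul_cancel (Subgroup.relIndex_dvd_index_of_normal N t.1)]
    rw [hr, ← hterm t]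
    ring
  have hmainZ : m = (l.map fun t => t.2.2 * (Nat.cast (N.index / N.relIndex t.1) : ℤ)
      * (J t : ℤ)).sum := by
    have h1 : (m : ℂ) = (((l.map fun t => t.2.2 * (Nat.cast (N.index / N.relIndex t.1) : ℤ)
        * (J t : ℤ)).sum : ℤ) : ℂ) := by
      rw [hmain, Int.cast_list_sum, List.map_map]
      congr 1
      apply List.map_congr_left
      intro t _
      simp only [Function.comp_apply, Int.cast_mul, Int.cast_natCast]
    exact_mod_cast h1
  have hex : ∃ t ∈ l, ¬ (p : ℤ) ∣ t.2.2 * (Nat.cast (N.index / N.relIndex t.1) : ℤ) * (J t : ℤ) := by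
    by_contra hcon
    push Not at hcon
    apply hm
    rw [hmainZ]
    apply List.dvd_sum
    intro x hx
    obtain ⟨t, ht, rfl⟩ := List.mem_map.mp hx
    exact hcon t ht
  obtain ⟨⟨E, lam, a⟩, ht, hnd⟩ := hex
  have hElem : Cfsg.IsElementary p E := hl _ ht
  have hr1 : ¬ p ∣ N.index / N.relIndex E := by
    intro h
    apply hnd
    exact Dvd.dvd.mul_right (Dvd.dvd.mul_left (Int.natCast_dvd_natCast.mpr h) _) _
  have hJ1 : ¬ p ∣ J ⟨E, lam, a⟩ := by
    intro h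
    apply hnd
    exact Dvd.dvd.mul_left (Int.natCast_dvd_natCast.mpr h) _
  have hrel : N.relIndex E = N.index := by
    have hd := Subgroup.relIndex_dvd_index_of_normal N E
    have h1 : N.index / N.relIndex E ∣ p ^ k := by
      rw [← hk]
      exact Nat.div_dvd_of_dvd hd
    obtain ⟨i, hi, hi2⟩ := (Nat.dvd_prime_pow hp).mp h1
    have hi0 : i = 0 := by
      by_contra h0
      apply hr1
      rw [hi2]
      exact dvd_pow_self p h0
    rw [hi0, pow_zero] at hi2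
    have h2 := Nat.div_mul_cancel hd
    rw [hi2, one_mul] at h2
    exact h2
  have hsupE : E ⊔ N = ⊤ := by
    have h1 := Subgroup.relIndex_mul_index (le_sup_right : N ≤ E ⊔ N)
    rw [Subgroup.relIndex_sup_right, hrel] at h1
    have hpos : 0 < N.index := by
      rw [hk]
      exact pow_pos hp.pos k
    have h2 : (E ⊔ N).index = 1 := by
      have h3 : N.index * (E ⊔ N).index = N.index * 1 := by rw [h1, mul_one]
      exact Nat.eq_of_mul_eq_mul_left hpos h3
    exact Subgroup.index_eq_one.mp h2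
  obtain ⟨P, hPE, hPp, hdec⟩ := elementary_decomp hp E hElem
  have hPD : ∀ s ∈ P, ∀ c ∈ E ⊓ N, s * c * s⁻¹ ∈ E ⊓ N := by
    intro s hs c hc
    exact ⟨E.mul_mem (E.mul_mem (hPE hs) hc.1) (E.inv_mem (hPE hs)), hN.conj_mem c hc.2 s⟩
  have hβinvE : SInv (E ⊓ N) E (rres (inf_le_right : E ⊓ N ≤ N) ϑ) := by
    intro s hs g g' hg
    show ϑ ⟨g', _⟩ = ϑ ⟨g, _⟩
    have h1 := hinv s ⟨g, g.2.2⟩
    rw [← h1]
    congr 1
    exact Subtype.ext hg
  have hlaminvE : SInv (E ⊓ N) E (rres (inf_le_left : E ⊓ N ≤ E) (fun a => (lam a : ℂ))) := by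
    intro s hs g g' hg
    show (lam ⟨g', _⟩ : ℂ) = (lam ⟨g, _⟩ : ℂ)
    have h1 : (⟨g', g'.2.1⟩ : E) = ⟨s, hs⟩ * ⟨g, g.2.1⟩ * ⟨s, hs⟩⁻¹ := Subtype.ext hg
    rw [h1, map_mul, map_mul, map_inv, mul_comm, inv_mul_cancel_left]
  have hαinv : SInv (E ⊓ N) P (rres (inf_le_left : E ⊓ N ≤ E) (fun a => (lam a : ℂ))
      * rres (inf_le_right : E ⊓ N ≤ N) ϑ) := by
    intro s hs g g' hg
    rw [Pi.mul_apply, Pi.mul_apply, hlaminvE s (hPE hs) g g' hg, hβinvE s (hPE hs) g g' hg]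
  have hβinv : SInv (E ⊓ N) P (rres (inf_le_right : E ⊓ N ≤ N) ϑ) :=
    fun s hs => hβinvE s (hPE hs)
  obtain ⟨φ, hφ, hφinv, m', hm', hpm'⟩ := exists_inv_constituent p P (E ⊓ N) hPp hPD
    (hαc ⟨E, lam, a⟩) (hβc E) hαinv hβinv (J ⟨E, lam, a⟩) (hJ ⟨E, lam, a⟩) hJ1
  refine ⟨E, φ, hElem, hsupE, hφ, ?_, m', hpm', ?_⟩
  · intro g hg x
    obtain ⟨c, y, hcE, hcc, hy, rfl⟩ := hdec g hg
    apply hφinv y hy x
    show c * y * (x : G) * (c * y)⁻¹ = y * x * y⁻¹
    have h1 := hcc (y * x * y⁻¹) (E.mul_mem (E.mul_mem (hPE hy) x.2.1) (E.inv_mem (hPE hy)))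
    calc c * y * (x : G) * (c * y)⁻¹ = c * (y * x * y⁻¹) * c⁻¹ := by group
      _ = y * x * y⁻¹ := by rw [h1, mul_inv_cancel_right]
  · rw [finsum_eq_sum_of_fintype]
    rw [classInner_def] at hm'
    exact hm'

end Cfsg.Agent.Lib.Helper2
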