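import Mathlib
import Cfsg.Agent.Lib.Helper2.PLocal3
import Cfsg.Agent.Lib.Helper2.AbSylow
import Cfsg.Agent.Lib.Helper2.LinExt

set_option autoImplicit false

/-! Extension of a linear character from the intersection of an elementary subgroup with a
normal subgroup of `p`-power index, under a centrality hypothesis on a Sylow subgroup. -/

namespace Cfsg.Agent.Lib.Helper2

open scoped ComplexConjugate

section plocal4

variable {G : Type*} [Group G]

/-- an element of order prime to the index of a normal subgroup lies in it -/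
theorem mem_of_pow_coprime_index [Finite G] (N : Subgroup G) [N.Normal] (g : G) (n : ℕ)
    (hg : g ^ n = 1) (hcop : Nat.Coprime n N.index) : g ∈ N := by
  rw [← QuotientGroup.eq_one_iff]
  have h1 : ((g : G ⧸ N)) ^ n = 1 := by
    rw [← QuotientGroup.mk_pow, hg, QuotientGroup.mk_one]
  have h2 : ((g : G ⧸ N)) ^ N.index = 1 := by
    rw [Subgroup.index_eq_card]
    exact pow_card_eq_one'
  have h3 : orderOf (g : G ⧸ N) ∣ Nat.gcd n N.index :=
    Nat.dvd_gcd (orderOf_dvd_of_pow_eq_one h1) (orderOf_dvd_of_pow_eq_one h2)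
  rw [Nat.Coprime.gcd_eq_one hcop, Nat.dvd_one] at h3
  exact orderOf_eq_one_iff.mp h3

/-- extension of homomorphisms to the units from subgroups of finite commutative groups -/
theorem hom_ext_of_comm {B : Type*} [Group B] [Finite B] (hab : ∀ a b : B, a * b = b * a)
    (S : Subgroup B) (lam : S →* ℂˣ) : ∃ Lam : B →* ℂˣ, ∀ s : S, Lam s = lam s := by
  letI instC : CommGroup B := { (inferInstance : Group B) with mul_comm := hab }
  obtain ⟨Lam, hLam⟩ := MonoidHom.domRestrict_surjective ℂ S lam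
  exact ⟨Lam, fun s => by rw [← hLam]; rfl⟩

/-- a linear character of the intersection of an elementary subgroup with a normal subgroup
of `p`-power index extends to the elementary subgroup -/
theorem elem_ext_central [Finite G] (p : ℕ) [hp : Fact p.Prime] (N : Subgroup G)
    [hN : N.Normal] (hind : ∃ k : ℕ, N.index = p ^ k) (P : Sylow p G)
    (hcent : ∀ x ∈ (P : Subgroup G) ⊓ N, ∀ y ∈ (P : Subgroup G), x * y = y * x)
    (hlinH : ∀ lam : ↥((P : Subgroup G) ⊓ N) →* ℂˣ, ∃ μ : ↥(P : Subgroup G) →* ℂˣ,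
      ∀ x : ↥((P : Subgroup G) ⊓ N), μ ⟨(x : G), x.2.1⟩ = lam x)
    (E : Subgroup G) (hE : Cfsg.IsElementary p E) (φ : ↥(E ⊓ N) → ℂ)
    (hφ : Cfsg.IsIrrCharacter ↥(E ⊓ N) φ) :
    ∃ μ : E →* ℂˣ, ∀ d : ↥(E ⊓ N), (μ ⟨(d : G), d.2.1⟩ : ℂ) = φ d := by
  classical
  have hpp : p.Prime := hp.out
  obtain ⟨k0, hk0⟩ := hind
  obtain ⟨x, hxc, hxcop, k, hk⟩ := hE
  have hxcomm : ∀ z : E, z * x = x * z := fun z => Subgroup.mem_center_iff.mp hxc z
  have hZcomm : ∀ c ∈ Subgroup.zpowers x, ∀ w : E, Commute c w := by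
    intro c hc w
    obtain ⟨i, rfl⟩ := Subgroup.mem_zpowers_iff.mp hc
    have h1 : Commute x w := (hxcomm w).symm
    exact h1.zpow_left i
  haveI hZn : (Subgroup.zpowers x).Normal := ⟨fun c hc z => by
    have h1 := (hZcomm c hc z).eq
    have h2 : z * c * z⁻¹ = c := by
      rw [← h1, mul_inv_cancel_right]
    rw [h2]
    exact hc⟩
  obtain ⟨Q⟩ := (inferInstance : Nonempty (Sylow p E))
  have hcardE : Nat.card E = orderOf x * p ^ k := by
    rw [← Subgroup.card_mul_index (Subgroup.zpowers x), Nat.card_zpowers, hk]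
  have hpn : ¬ p ∣ orderOf x := by
    intro h
    have h1 := Nat.dvd_gcd h (dvd_refl p)
    rw [Nat.Coprime.gcd_eq_one hxcop] at h1
    exact hpp.one_lt.ne' (Nat.dvd_one.mp h1)
  have hQcard : Nat.card (Q : Subgroup E) = p ^ k := by
    rw [Sylow.card_eq_multiplicity, hcardE,
      Nat.factorization_mul (orderOf_pos x).ne' (pow_pos hpp.pos k).ne']
    congr 1
    rw [Finsupp.add_apply, Nat.factorization_eq_zero_of_not_dvd hpn, zero_add,
      Nat.Prime.factorization_pow hpp, Finsupp.single_eq_same]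
  have hsup : Subgroup.zpowers x ⊔ (Q : Subgroup E) = ⊤ := by
    apply Subgroup.eq_top_of_le_card
    have h1 : Nat.card (Subgroup.zpowers x) ∣ Nat.card ↥(Subgroup.zpowers x ⊔ (Q : Subgroup E)) :=
      Subgroup.card_dvd_of_le le_sup_left
    have h2 : Nat.card (Q : Subgroup E) ∣ Nat.card ↥(Subgroup.zpowers x ⊔ (Q : Subgroup E)) :=
      Subgroup.card_dvd_of_le le_sup_right
    rw [Nat.card_zpowers] at h1
    rw [hQcard] at h2
    have h3 := Nat.Coprime.mul_dvd_of_dvd_of_dvd (Nat.Coprime.pow_right k hxcop) h1 h2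
    rw [← hcardE] at h3
    exact Nat.le_of_dvd Nat.card_pos h3
  have hdec : ∀ z : E, ∃ c ∈ Subgroup.zpowers x, ∃ y ∈ (Q : Subgroup E), z = c * y := by
    intro z
    have hz : z ∈ (↑(Subgroup.zpowers x ⊔ (Q : Subgroup E)) : Set E) := by
      rw [hsup]
      trivial
    rw [Subgroup.normal_mul] at hz
    obtain ⟨c, hc, y, hy, rfl⟩ := hz
    exact ⟨c, hc, y, hy, rfl⟩
  -- the two exponents
  have hcop : Nat.Coprime (p ^ k) (orderOf x) := (Nat.Coprime.pow_right k hxcop).symm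
  obtain ⟨a, ha1, ha0⟩ := Nat.chineseRemainder hcop 1 0
  obtain ⟨b, hb0, hb1⟩ := Nat.chineseRemainder hcop 0 1
  have hyQ : ∀ y ∈ (Q : Subgroup E), y ^ p ^ k = 1 := by
    intro y hy
    have h1 : (⟨y, hy⟩ : (Q : Subgroup E)) ^ Nat.card (Q : Subgroup E) = 1 := pow_card_eq_one'
    rw [hQcard] at h1
    exact congrArg Subtype.val h1
  have hcC : ∀ c ∈ Subgroup.zpowers x, c ^ orderOf x = 1 := by
    intro c hc
    obtain ⟨i, rfl⟩ := Subgroup.mem_zpowers_iff.mp hc
    rw [← zpow_natCast, ← zpow_mul, mul_comm, zpow_mul, zpow_natCast, pow_orderOf_eq_one,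
      one_zpow]
  have hya : ∀ y ∈ (Q : Subgroup E), y ^ a = y := by
    intro y hy
    have h1 : a ≡ 1 [MOD orderOf y] :=
      Nat.ModEq.of_dvd (orderOf_dvd_of_pow_eq_one (hyQ y hy)) ha1
    have h2 := pow_eq_pow_iff_modEq.mpr h1
    rwa [pow_one] at h2
  have hyb : ∀ y ∈ (Q : Subgroup E), y ^ b = 1 := by
    intro y hy
    obtain ⟨t, ht⟩ := (Nat.modEq_zero_iff_dvd).mp hb0
    rw [ht, pow_mul, hyQ y hy, one_pow]
  have hca : ∀ c ∈ Subgroup.zpowers x, c ^ a = 1 := by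
    intro c hc
    obtain ⟨t, ht⟩ := (Nat.modEq_zero_iff_dvd).mp ha0
    rw [ht, pow_mul, hcC c hc, one_pow]
  have hcb : ∀ c ∈ Subgroup.zpowers x, c ^ b = c := by
    intro c hc
    have h1 : b ≡ 1 [MOD orderOf c] :=
      Nat.ModEq.of_dvd (orderOf_dvd_of_pow_eq_one (hcC c hc)) hb1
    have h2 := pow_eq_pow_iff_modEq.mpr h1
    rwa [pow_one] at h2
  have hmulpow : ∀ e : ℕ, ((∀ y ∈ (Q : Subgroup E), y ^ e = y) ∨
      (∀ y ∈ (Q : Subgroup E), y ^ e = 1)) → ∀ z z' : E, (z * z') ^ e = z ^ e * z' ^ e := by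
    intro e hPpow z z'
    obtain ⟨c, hc, y, hy, rfl⟩ := hdec z
    obtain ⟨c', hc', y', hy', rfl⟩ := hdec z'
    have hyy : (y * y') ^ e = y ^ e * y' ^ e := by
      rcases hPpow with h | h
      · rw [h y hy, h y' hy', h (y * y') (Subgroup.mul_mem _ hy hy')]
      · rw [h y hy, h y' hy', h (y * y') (Subgroup.mul_mem _ hy hy'), one_mul]
    have e1 : c * y * (c' * y') = (c * c') * (y * y') := by
      have h1 := (hZcomm c' hc' y).eq
      calc c * y * (c' * y') = c * (y * c') * y' := by group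
        _ = c * (c' * y) * y' := by rw [← h1]
        _ = (c * c') * (y * y') := by group
    rw [e1, (hZcomm (c * c') (Subgroup.mul_mem _ hc hc') (y * y')).mul_pow,
      (hZcomm c hc c').mul_pow, hyy, (hZcomm c hc y).mul_pow, (hZcomm c' hc' y').mul_pow]
    have h2 := (hZcomm (c' ^ e) (Subgroup.pow_mem _ hc' e) (y ^ e)).eq
    calc c ^ e * c' ^ e * (y ^ e * y' ^ e) = c ^ e * (c' ^ e * y ^ e) * y' ^ e := by group
      _ = c ^ e * (y ^ e * c' ^ e) * y' ^ e := by rw [h2]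
      _ = c ^ e * y ^ e * (c' ^ e * y' ^ e) := by group
  let πa : E →* E :=
    { toFun := fun z => z ^ a
      map_one' := one_pow a
      map_mul' := hmulpow a (Or.inl hya) }
  let πb : E →* E :=
    { toFun := fun z => z ^ b
      map_one' := one_pow b
      map_mul' := hmulpow b (Or.inr hyb) }
  have hπa : ∀ z : E, πa z = z ^ a := fun z => rfl
  have hπb : ∀ z : E, πb z = z ^ b := fun z => rfl
  have hπaQ : ∀ z : E, πa z ∈ (Q : Subgroup E) := by
    intro z
    obtain ⟨c, hc, y, hy, rfl⟩ := hdec z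
    rw [hπa, (hZcomm c hc y).mul_pow, hca c hc, one_mul, hya y hy]
    exact hy
  have hπbC : ∀ z : E, πb z ∈ Subgroup.zpowers x := by
    intro z
    obtain ⟨c, hc, y, hy, rfl⟩ := hdec z
    rw [hπb, (hZcomm c hc y).mul_pow, hcb c hc, hyb y hy, mul_one]
    exact hc
  have hsplit : ∀ z : E, z = πb z * πa z := by
    intro z
    obtain ⟨c, hc, y, hy, rfl⟩ := hdec z
    rw [hπb, hπa, (hZcomm c hc y).mul_pow, (hZcomm c hc y).mul_pow, hcb c hc, hyb y hy, mul_one,
      hca c hc, one_mul, hya y hy]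
  -- the cyclic part lies in `N`
  have hCN : ∀ c ∈ Subgroup.zpowers x, (c : G) ∈ N := by
    intro c hc
    apply mem_of_pow_coprime_index N (c : G) (orderOf x)
    · have h1 := hcC c hc
      have h2 := congrArg Subtype.val h1
      simpa using h2
    · rw [hk0]
      exact Nat.Coprime.pow_right k0 hxcop
  -- the Sylow subgroup of `E` lies in a conjugate of `P`
  have hQp : IsPGroup p ((Q : Subgroup E).map E.subtype) := Q.isPGroup'.map E.subtype
  obtain ⟨P', hP'⟩ := hQp.exists_le_sylow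
  obtain ⟨g, hg⟩ := MulAction.exists_smul_eq G P P'
  have hconj : ∀ y ∈ (Q : Subgroup E), g⁻¹ * (y : G) * g ∈ (P : Subgroup G) := by
    intro y hy
    have h1 : (y : G) ∈ (P' : Subgroup G) := hP' ⟨y, hy, rfl⟩
    rw [← hg, Sylow.coe_subgroup_smul, Subgroup.mem_pointwise_smul_iff_inv_smul_mem] at h1
    simpa only [MulAut.smul_def, MulAut.conj_inv_apply] using h1
  let τ : E →* G := (MulAut.conj g⁻¹).toMonoidHom.comp (E.subtype.comp πa)
  have hτ : ∀ z : E, τ z = g⁻¹ * ((z ^ a : E) : G) * g := by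
    intro z
    show (MulAut.conj g⁻¹) ((πa z : E) : G) = _
    rw [MulAut.conj_apply, inv_inv, hπa]
  have hτP : ∀ z : E, τ z ∈ (P : Subgroup G) := by
    intro z
    rw [hτ]
    exact hconj _ (hπaQ z)
  have hτN : ∀ z : E, (z : G) ∈ N → τ z ∈ N := by
    intro z hz
    rw [hτ]
    have h1 : ((z ^ a : E) : G) ∈ N := by
      rw [Subgroup.coe_pow]
      exact N.pow_mem hz a
    have h2 := hN.conj_mem _ h1 g⁻¹
    rwa [inv_inv] at h2
  let σ : E →* ↥(P : Subgroup G) := τ.codRestrict (P : Subgroup G) hτP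
  let σD : ↥(E ⊓ N) →* ↥((P : Subgroup G) ⊓ N) :=
    (τ.comp (Subgroup.inclusion (inf_le_left : E ⊓ N ≤ E))).codRestrict ((P : Subgroup G) ⊓ N)
      (fun d => ⟨hτP _, hτN _ d.2.2⟩)
  have hσD : ∀ d : ↥(E ⊓ N), ((σD d : ↥((P : Subgroup G) ⊓ N)) : G) = τ ⟨d, d.2.1⟩ :=
    fun d => rfl
  -- the intersection is abelian
  have hQcomm : ∀ z : E, (z : G) ∈ N → ∀ y ∈ (Q : Subgroup E), πa z * y = y * πa z := by
    intro z hz y hy
    have h1 := hcent (τ z) ⟨hτP z, hτN z hz⟩ (g⁻¹ * (y : G) * g) (hconj y hy)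
    rw [hτ] at h1
    apply Subtype.ext
    show ((z ^ a : E) : G) * (y : G) = (y : G) * ((z ^ a : E) : G)
    have h2 : g * (g⁻¹ * ((z ^ a : E) : G) * g * (g⁻¹ * (y : G) * g)) * g⁻¹
        = g * (g⁻¹ * (y : G) * g * (g⁻¹ * ((z ^ a : E) : G) * g)) * g⁻¹ := by rw [h1]
    simpa [mul_assoc] using h2
  have hab : ∀ d d' : ↥(E ⊓ N), d * d' = d' * d := by
    intro d d'
    apply Subtype.ext
    show (d : G) * (d' : G) = (d' : G) * (d : G)
    have h1 : (⟨d, d.2.1⟩ : E) * ⟨d', d'.2.1⟩ = ⟨d', d'.2.1⟩ * ⟨d, d.2.1⟩ := by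
      have e1 := hsplit ⟨d, d.2.1⟩
      have e2 := hsplit ⟨d', d'.2.1⟩
      have c1 : Commute (πb ⟨d, d.2.1⟩) (πa ⟨d', d'.2.1⟩) := hZcomm _ (hπbC _) _
      have c2 : Commute (πb ⟨d', d'.2.1⟩) (πa ⟨d, d.2.1⟩) := hZcomm _ (hπbC _) _
      have c3 : Commute (πb ⟨d, d.2.1⟩) (πb ⟨d', d'.2.1⟩) := hZcomm _ (hπbC _) _
      have c4 : Commute (πa ⟨d, d.2.1⟩) (πa ⟨d', d'.2.1⟩) :=
        hQcomm ⟨d, d.2.1⟩ d.2.2 _ (hπaQ _)
      generalize πb ⟨d, d.2.1⟩ = A at e1 c1 c2 c3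
      generalize πa ⟨d, d.2.1⟩ = B at e1 c1 c2 c4
      generalize πb ⟨d', d'.2.1⟩ = A' at e2 c1 c2 c3
      generalize πa ⟨d', d'.2.1⟩ = B' at e2 c1 c2 c4
      rw [e1, e2]
      calc A * B * (A' * B') = A * (B * A') * B' := by group
        _ = A * (A' * B) * B' := by rw [← c2.eq]
        _ = (A * A') * (B * B') := by group
        _ = (A' * A) * (B' * B) := by rw [c3.eq, c4.eq]
        _ = A' * (A * B') * B := by group
        _ = A' * (B' * A) * B := by rw [c1.eq]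
        _ = A' * B' * (A * B) := by group
    exact congrArg Subtype.val h1
  have hφ1 : φ 1 = 1 := irr_deg_one_of_comm hab hφ
  obtain ⟨φu, hφu⟩ := hom_of_irr_deg_one hφ hφ1
  -- the linear character of `P ⊓ N` to be extended
  have hker : σD.rangeRestrict.ker ≤ (φu ^ a).ker := by
    intro d hd
    rw [MonoidHom.mem_ker] at hd ⊢
    have h1 : ((σD d : ↥((P : Subgroup G) ⊓ N)) : G) = 1 := by
      have h0 := congrArg (fun s : σD.range => ((s : ↥((P : Subgroup G) ⊓ N)) : G)) hd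
      exact h0
    rw [hσD, hτ] at h1
    have h2 : (((⟨d, d.2.1⟩ : E) ^ a : E) : G) = 1 := by
      have h4 : (((⟨d, d.2.1⟩ : E) ^ a : E) : G)
          = g * (g⁻¹ * (((⟨d, d.2.1⟩ : E) ^ a : E) : G) * g) * g⁻¹ := by group
      rw [h4, h1]
      simp
    have h5 : d ^ a = 1 := by
      apply Subtype.ext
      simpa using h2
    rw [MonoidHom.pow_apply, ← map_pow, h5, map_one]
  let lamS : σD.range →* ℂˣ :=
    σD.rangeRestrict.liftOfRightInverse (Function.surjInv σD.rangeRestrict_surjective)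
      (Function.rightInverse_surjInv σD.rangeRestrict_surjective) ⟨φu ^ a, hker⟩
  have hlamS : ∀ d : ↥(E ⊓ N), lamS (σD.rangeRestrict d) = (φu d) ^ a := by
    intro d
    exact MonoidHom.liftOfRightInverse_comp_apply _ _ _ ⟨φu ^ a, hker⟩ d
  have habP : ∀ u v : ↥((P : Subgroup G) ⊓ N), u * v = v * u :=
    fun u v => Subtype.ext (hcent u u.2 v v.2.1)
  obtain ⟨Lam, hLam⟩ := hom_ext_of_comm habP σD.range lamS
  obtain ⟨μ, hμ⟩ := hlinH Lam
  let πbD : E →* ↥(E ⊓ N) := (E.subtype.comp πb).codRestrict (E ⊓ N)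
    (fun z => ⟨(πb z).2, hCN _ (hπbC z)⟩)
  refine ⟨(μ.comp σ) * (φu.comp πbD), ?_⟩
  intro d
  rw [hφu]
  show (((μ (σ ⟨d, d.2.1⟩)) * (φu (πbD ⟨d, d.2.1⟩)) : ℂˣ) : ℂ) = (φu d : ℂ)
  congr 1
  have h1 : σ ⟨d, d.2.1⟩ = ⟨((σD d : ↥((P : Subgroup G) ⊓ N)) : G), (σD d).2.1⟩ := rfl
  have h2 : μ (σ ⟨d, d.2.1⟩) = (φu d) ^ a := by
    rw [h1, hμ (σD d)]
    have h3 : Lam (σD d) = lamS (σD.rangeRestrict d) := hLam (σD.rangeRestrict d)
    rw [h3, hlamS]
  have h4 : πbD ⟨d, d.2.1⟩ = d ^ b := by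
    apply Subtype.ext
    show ((πb ⟨d, d.2.1⟩ : E) : G) = ((d ^ b : ↥(E ⊓ N)) : G)
    rw [hπb]
    simp
  have h5 : d = d ^ b * d ^ a := by
    apply Subtype.ext
    have h6 := congrArg Subtype.val (hsplit ⟨d, d.2.1⟩)
    rw [hπb, hπa] at h6
    simpa using h6
  have h7 : φu d = φu d ^ b * φu d ^ a := by
    rw [← map_pow, ← map_pow, ← map_mul, ← h5]
  rw [h2, h4, map_pow, mul_comm]
  exact h7.symm

end plocal4

end Cfsg.Agent.Lib.Helper2
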