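import Mathlib
import Cfsg.Agent.Lib.Helper2.HallDeg

set_option autoImplicit false

/-! Characters of degree prime to the order of a solvable complement of a normal Hall
subgroup: the count. -/

namespace Cfsg.Agent.Lib.Helper2

open scoped ComplexConjugate

universe u v

section compl

variable {G : Type*} [Group G] (K H : Subgroup G) [hK : K.Normal]

theorem compl_bijective (hsup : K ⊔ H = ⊤) (hinf : K ⊓ H = ⊥) :
    Function.Bijective ((QuotientGroup.mk' K).comp H.subtype) := by
  constructor
  · rw [injective_iff_map_eq_one]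
    intro h hh
    have h1 : (h : G) ∈ K := (QuotientGroup.eq_one_iff (h : G)).mp hh
    have h2 : (h : G) ∈ K ⊓ H := ⟨h1, h.2⟩
    rw [hinf, Subgroup.mem_bot] at h2
    exact Subtype.ext h2
  · intro q
    obtain ⟨g, rfl⟩ := QuotientGroup.mk_surjective q
    have hg : g ∈ (↑(K ⊔ H) : Set G) := by
      rw [hsup]
      trivial
    rw [Subgroup.normal_mul] at hg
    obtain ⟨k, hk, h, hh, rfl⟩ := hg
    refine ⟨⟨h, hh⟩, ?_⟩
    show (QuotientGroup.mk' K) h = (QuotientGroup.mk' K) (k * h)
    have h1 : (QuotientGroup.mk' K) k = 1 := (QuotientGroup.eq_one_iff k).mpr hk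
    rw [map_mul, h1, one_mul]

/-- a complement of a normal subgroup is isomorphic to the quotient -/
noncomputable def complEquiv (hsup : K ⊔ H = ⊤) (hinf : K ⊓ H = ⊥) : H ≃* G ⧸ K :=
  MulEquiv.ofBijective _ (compl_bijective K H hsup hinf)

theorem complEquiv_apply (hsup : K ⊔ H = ⊤) (hinf : K ⊓ H = ⊥) (h : H) :
    complEquiv K H hsup hinf h = QuotientGroup.mk' K (h : G) := rfl

/-- the linear characters trivial on the normal subgroup `K` correspond to the linear
characters of a complement -/
theorem card_hom_ker (hsup : K ⊔ H = ⊤) (hinf : K ⊓ H = ⊥) :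
    Nat.card {Λ : G →* ℂˣ // K ≤ Λ.ker} = Nat.card (H →* ℂˣ) := by
  let r : {Λ : G →* ℂˣ // K ≤ Λ.ker} → (H →* ℂˣ) := fun Λ => Λ.1.comp H.subtype
  have hinj : Function.Injective r := by
    intro Λ₁ Λ₂ h
    apply Subtype.ext
    ext g
    have hg : g ∈ (↑(K ⊔ H) : Set G) := by
      rw [hsup]
      trivial
    rw [Subgroup.normal_mul] at hg
    obtain ⟨k, hk, h', hh, rfl⟩ := hg
    have e1 : Λ₁.1 k = 1 := MonoidHom.mem_ker.mp (Λ₁.2 hk)
    have e2 : Λ₂.1 k = 1 := MonoidHom.mem_ker.mp (Λ₂.2 hk)
    have e3 : Λ₁.1 h' = Λ₂.1 h' := DFunLike.congr_fun h ⟨h', hh⟩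
    rw [map_mul, map_mul, e1, e2, e3]
  have hsurj : Function.Surjective r := by
    intro μ
    refine ⟨⟨μ.comp ((complEquiv K H hsup hinf).symm.toMonoidHom.comp (QuotientGroup.mk' K)),
      ?_⟩, ?_⟩
    · intro k hk
      rw [MonoidHom.mem_ker]
      show μ ((complEquiv K H hsup hinf).symm (QuotientGroup.mk' K k)) = 1
      have h1 : QuotientGroup.mk' K k = 1 := (QuotientGroup.eq_one_iff k).mpr hk
      rw [h1, map_one, map_one]
    · ext h
      show ((μ ((complEquiv K H hsup hinf).symm (QuotientGroup.mk' K (h : G))) : ℂˣ) : ℂ) = μ h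
      rw [← complEquiv_apply K H hsup hinf, MulEquiv.symm_apply_apply]
  exact Nat.card_congr (Equiv.ofBijective r ⟨hinj, hsurj⟩)

end compl

/-- **normal Hall subgroup with solvable complement**: the number of irreducible characters
of degree prime to the order of the complement -/
theorem hall_degree_count {G : Type u} [Group G] [Finite G] (K H : Subgroup G) [hK : K.Normal]
    (hKH : K ⊔ H = ⊤) (hcop : (Nat.card K).Coprime (Nat.card H))
    (hsolv : Group.IsSolvable H) :
    Nat.card {χ : Cfsg.IrrCharacter G // (Cfsg.charDegree (χ : G → ℂ)).Coprime (Nat.card H)}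
      = Nat.card (Cfsg.IrrCharacter ↥(K ⊓ Subgroup.centralizer (H : Set G)))
        * Nat.card (H →* ℂˣ) := by
  classical
  haveI := Fintype.ofFinite G
  haveI : Fintype K := Fintype.ofFinite K
  have hinf : K ⊓ H = ⊥ := (Subgroup.disjoint_of_coprime_natCard hcop).eq_bot
  have hidx : K.index = Nat.card H := by
    rw [Subgroup.index_eq_card]
    exact (Nat.card_congr (complEquiv K H hKH hinf).toEquiv).symm
  have hA := card_coprime_degree K (hidx ▸ hcop)
  rw [hidx] at hA
  rw [hA, card_hom_ker K H hKH hinf]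
  congr 1
  have hnorm : ∀ s ∈ H, ∀ g ∈ K, s * g * s⁻¹ ∈ K := fun s _ g hg => hK.conj_mem g hg s
  have hiff : ∀ θ : Cfsg.IrrCharacter K, GInv K θ ↔ SInv K H θ := by
    intro θ
    constructor
    · intro h s hs g g' hg
      have h2 := h s g
      have h3 : g' = ⟨s * g * s⁻¹, hK.conj_mem (g : G) g.2 s⟩ := Subtype.ext hg
      rw [h3]
      exact h2
    · intro h g n
      have hg : g ∈ (↑(K ⊔ H) : Set G) := by
        rw [hKH]
        trivial
      rw [Subgroup.normal_mul] at hg
      obtain ⟨k, hk, s, hs, rfl⟩ := hg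
      have h1 : (⟨k * s * n * (k * s)⁻¹, hK.conj_mem (n : G) n.2 (k * s)⟩ : K)
          = ⟨k, hk⟩ * ⟨s * n * s⁻¹, hnorm s hs n n.2⟩ * ⟨k, hk⟩⁻¹ := by
        apply Subtype.ext
        simp only [Subgroup.coe_mul, Subgroup.coe_inv]
        group
      rw [h1, isClassFunction_of_isIrrCharacter θ.2]
      exact h s hs n _ rfl
  rw [Nat.card_congr (Equiv.subtypeEquivRight hiff)]
  have hcop' : (Nat.card K).Coprime ((H ⊓ Subgroup.centralizer (K : Set G)).relIndex H) :=
    Nat.Coprime.coprime_dvd_right (Subgroup.relIndex_dvd_card _ _) hcop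
  exact card_inv_irr_cent _ K H _ hnorm hsolv rfl hcop' rfl

/-- the number of irreducible characters is an isomorphism invariant -/
theorem card_irr_congr {A : Type u} {B : Type v} [Group A] [Group B] [Finite A] [Finite B]
    (e : A ≃* B) : Nat.card (Cfsg.IrrCharacter A) = Nat.card (Cfsg.IrrCharacter B) := by
  classical
  haveI := Fintype.ofFinite A
  haveI := Fintype.ofFinite B
  refine Nat.card_congr
    { toFun := fun χ => ⟨(χ : A → ℂ) ∘ e.symm, Cfsg.Agent.S1489.isIrrCharacter_comp_iso χ.2 e.symm⟩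
      invFun := fun χ => ⟨(χ : B → ℂ) ∘ e, Cfsg.Agent.S1489.isIrrCharacter_comp_iso χ.2 e⟩
      left_inv := fun χ => Subtype.ext (by funext a; simp)
      right_inv := fun χ => Subtype.ext (by funext a; simp) }

/-- the number of linear characters is an isomorphism invariant -/
theorem card_hom_congr {A : Type u} {B : Type v} [Group A] [Group B] (e : A ≃* B) :
    Nat.card (A →* ℂˣ) = Nat.card (B →* ℂˣ) :=
  Nat.card_congr
    { toFun := fun μ => μ.comp e.symm.toMonoidHom
      invFun := fun μ => μ.comp e.toMonoidHom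
      left_inv := fun μ => by ext a; simp
      right_inv := fun μ => by ext a; simp }

end Cfsg.Agent.Lib.Helper2
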