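import Mathlib
import Cfsg.Agent.Lib.Helper2.HallDeg2
import Cfsg.Agent.Lib.Helper2.CharRational
import Cfsg.Agent.Lib.Helper2.CharBasic
import Cfsg.Agent.Lib.Helper12.GaloisTwist
import Cfsg.Agent.S1496

set_option autoImplicit false

/-! The canonical extension in a coprime situation is stable under the Galois twists fixing the
normal subgroup; fibre counting on a coset of a cyclic complement. -/

namespace Cfsg.Agent.Lib.Helper2

open scoped ComplexConjugate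

universe u

/-- applying a ring endomorphism of the complex numbers to a character applies it to the
determinantal character -/
theorem detChar_comp_ringHom {G : Type*} [Group G] [Finite G] {χ : G → ℂ}
    (hχ : Cfsg.IsCharacter G χ) (τ : ℂ →+* ℂ) :
    Cfsg.detChar (τ ∘ χ) = τ ∘ Cfsg.detChar χ := by
  obtain ⟨n, ρ, rfl⟩ := hχ
  let M : G → Matrix (Fin n) (Fin n) ℂ := fun g => (LinearMap.toMatrix' (ρ g)).map τ
  have hM1 : M 1 = 1 := by
    simp only [M, map_one, LinearMap.toMatrix'_one]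
    exact Matrix.map_one _ (map_zero τ) (map_one τ)
  have hMmul : ∀ g h, M (g * h) = M g * M h := by
    intro g h
    simp only [M, map_mul, LinearMap.toMatrix'_mul]
    exact Matrix.map_mul
  let ρ' : Representation ℂ G (Fin n → ℂ) :=
    { toFun := fun g => Matrix.toLin' (M g)
      map_one' := by rw [hM1, Matrix.toLin'_one]; rfl
      map_mul' := fun g h => by rw [hMmul, Matrix.toLin'_mul]; rfl }
  have hchar : ρ'.character = τ ∘ ρ.character := by
    funext g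
    unfold Representation.character
    change LinearMap.trace ℂ _ (Matrix.toLin' (M g)) = τ (LinearMap.trace ℂ _ (ρ g))
    rw [Cfsg.Agent.Lib.Helper12.trace_toLin'_eq,
      LinearMap.trace_eq_matrix_trace ℂ (Pi.basisFun ℂ (Fin n)) (ρ g),
      LinearMap.toMatrix_eq_toMatrix']
    simp only [M, Matrix.trace, map_sum]
    rfl
  rw [← hchar]
  funext g
  rw [detChar_eq, Function.comp_apply, detChar_eq]
  change LinearMap.det (Matrix.toLin' (M g)) = τ (LinearMap.det (ρ g))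
  rw [LinearMap.det_toLin', ← LinearMap.det_toMatrix' (ρ g)]
  exact (RingHom.map_det τ _).symm

/-- the determinantal order is unchanged by a field automorphism -/
theorem detOrder_comp_ringEquiv {G : Type*} [Group G] [Finite G] {χ : G → ℂ}
    (hχ : Cfsg.IsCharacter G χ) (τ : ℂ ≃+* ℂ) :
    Cfsg.detOrder (τ ∘ χ) = Cfsg.detOrder χ := by
  unfold Cfsg.detOrder
  have h : Cfsg.detChar (τ ∘ χ) = τ ∘ Cfsg.detChar χ := detChar_comp_ringHom hχ τ.toRingHom
  rw [h]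
  let T : (G → ℂ) →* (G → ℂ) :=
    { toFun := fun f => τ ∘ f
      map_one' := by funext g; simp
      map_mul' := by intro a b; funext g; simp }
  exact orderOf_injective T (fun a b hab => by
    funext g
    exact τ.injective (congrFun hab g)) _

/-- the canonical extension of an irreducible character of a normal Hall subgroup is fixed by
the power maps that are trivial on the subgroup -/
theorem canon_ext_pow {Γ : Type u} [Group Γ] [Finite Γ] (G : Subgroup Γ) [hG : G.Normal]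
    (hcop : (Nat.card G).Coprime G.index) (χh : Γ → ℂ) (hχh : Cfsg.IsIrrCharacter Γ χh)
    (hres : Cfsg.IsIrrCharacter G (fun n : G => χh n))
    (hdet : (Cfsg.detOrder χh).Coprime G.index) (m : ℕ) (hm : m.Coprime (Nat.card Γ))
    (hm1 : m ≡ 1 [MOD Nat.card G]) (g : Γ) : χh (g ^ m) = χh g := by
  classical
  haveI := Fintype.ofFinite Γ
  haveI : Fintype G := Fintype.ofFinite G
  have hinv : ∀ (g : Γ) (n : G), (fun n : G => χh n) ⟨g * n * g⁻¹, hG.conj_mem (n : Γ) n.2 g⟩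
      = (fun n : G => χh n) n := by
    intro g n
    exact isClassFunction_of_isIrrCharacter hχh (n : Γ) g
  obtain ⟨d, hdpos, hd⟩ := irr_apply_one hres
  have hdK : d ∣ Nat.card G := irr_deg_dvd_card' hres d hd
  have hoK := detOrder_dvd_card (isCharacter_of_isIrrCharacter hres)
  have hc : Nat.Coprime G.index (Cfsg.detOrder (fun n : G => χh n) * d) :=
    Nat.Coprime.mul_right (Nat.Coprime.coprime_dvd_right hoK hcop.symm)
      (Nat.Coprime.coprime_dvd_right hdK hcop.symm)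
  obtain ⟨χ₀, -, huniq⟩ := unique_ext_coprime G hres hinv hd hc
  obtain ⟨τ, hτ⟩ := Cfsg.Agent.Lib.Helper12.exists_galois_twist Γ m hm
  have hχc := isCharacter_of_isIrrCharacter hχh
  have hψeq : (τ ∘ χh) = fun g => χh (g ^ m) := by
    funext g
    exact hτ χh hχc g
  have hψirr : Cfsg.IsIrrCharacter Γ (fun g => χh (g ^ m)) :=
    Cfsg.Agent.Lib.Helper12.isIrrCharacter_pow_coprime m hm hχh
  have hψext : ∀ n : G, (fun g => χh (g ^ m)) n = (fun n : G => χh n) n := by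
    intro n
    show χh ((n : Γ) ^ m) = χh n
    have h1 : (n : Γ) ^ m = (n : Γ) ^ 1 := by
      rw [pow_eq_pow_iff_modEq]
      exact hm1.of_dvd (Subgroup.orderOf_dvd_natCard G n.2)
    rw [h1, pow_one]
  have hψdet : (Cfsg.detOrder (fun g => χh (g ^ m))).Coprime G.index := by
    rw [← hψeq, detOrder_comp_ringEquiv hχc τ]
    exact hdet
  have e1 := huniq χh hχh (fun n => rfl) hdet.symm
  have e2 := huniq _ hψirr hψext hψdet.symm
  exact congrFun (e2.trans e1.symm) g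

/-- a character fixed by the coprime power maps at an element takes an integer value there -/
theorem isCharacter_int_of_pow_eq {A : Type*} [Group A] [Finite A] {θ : A → ℂ}
    (hθ : Cfsg.IsCharacter A θ) (g : A)
    (h : ∀ m : ℕ, m.Coprime (Nat.card A) → θ (g ^ m) = θ g) : ∃ z : ℤ, θ g = (z : ℂ) := by
  obtain ⟨n, ρ, rfl⟩ := hθ
  have hnz : NeZero (Nat.card A) := ⟨Nat.card_pos.ne'⟩
  obtain ⟨x, hx1, hx⟩ := char_lift_self (Nat.card A) ρ g (orderOf_dvd_natCard g)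
  have hfix : ∀ σ : CycK (Nat.card A) ≃ₐ[ℚ] CycK (Nat.card A), σ x = x := by
    intro σ
    obtain ⟨m, hm, hσ⟩ := aut_zeta (Nat.card A) σ
    apply cycEmb_injective (Nat.card A)
    rw [hx σ m hσ, hx1]
    exact h m hm
  obtain ⟨q, hq⟩ := (IsGalois.mem_range_algebraMap_iff_fixed x).mpr hfix
  have hval : ρ.character g = (q : ℂ) := by
    rw [← hx1, ← hq, AlgHom.commutes]
    simp
  have hint : IsIntegral ℤ (ρ.character g) := char_isIntegral ρ g
  rw [hval] at hint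
  have hq' : IsIntegral ℤ q := by
    have h2 : IsIntegral ℤ (algebraMap ℚ ℂ q) := by simpa using hint
    exact (isIntegral_algebraMap_iff (algebraMap ℚ ℂ).injective).mp h2
  obtain ⟨z, hz⟩ := IsIntegrallyClosed.isIntegral_iff.mp hq'
  refine ⟨z, ?_⟩
  rw [hval, ← hz]
  simp

/-- a character vanishing at the identity vanishes -/
theorem isCharacter_eq_zero_of_apply_one {A : Type*} [Group A] {θ : A → ℂ}
    (hθ : Cfsg.IsCharacter A θ) (h1 : θ 1 = 0) : θ = 0 := by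
  obtain ⟨n, ρ, rfl⟩ := hθ
  have hn : n = 0 := by
    rw [Representation.char_one] at h1
    simp at h1
    exact h1
  subst hn
  funext g
  have h2 : ρ g = 0 := Subsingleton.elim _ _
  show LinearMap.trace ℂ _ (ρ g) = 0
  rw [h2, map_zero]

/-- integers whose squares sum to one: exactly one of them is nonzero, and it is a sign -/
theorem exists_unique_of_sum_sq {ι : Type*} [Fintype ι] [DecidableEq ι] (z : ι → ℤ)
    (h : ∑ i, z i * z i = 1) :
    ∃ i₀, (z i₀ = 1 ∨ z i₀ = -1) ∧ ∀ i, i ≠ i₀ → z i = 0 := by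
  have hex : ∃ i₀, z i₀ ≠ 0 := by
    by_contra hno
    push Not at hno
    simp [hno] at h
  obtain ⟨i₀, hi₀⟩ := hex
  have hge : ∀ i, 0 ≤ z i * z i := fun i => mul_self_nonneg _
  rw [← Finset.add_sum_erase Finset.univ (fun i => z i * z i) (Finset.mem_univ i₀)] at h
  beta_reduce at h
  have hrest : 0 ≤ ∑ i ∈ Finset.univ.erase i₀, z i * z i :=
    Finset.sum_nonneg (fun i _ => hge i)
  have h1 : 1 ≤ z i₀ * z i₀ := by
    rcases lt_or_gt_of_ne hi₀ with h' | h' <;> nlinarith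
  have h2 : z i₀ * z i₀ = 1 := by linarith
  have h3 : ∑ i ∈ Finset.univ.erase i₀, z i * z i = 0 := by linarith
  refine ⟨i₀, ?_, ?_⟩
  · have h4 : (z i₀ - 1) * (z i₀ + 1) = 0 := by
      ring_nf
      linarith
    rcases mul_eq_zero.mp h4 with h' | h'
    · left
      linarith
    · right
      linarith
  · intro i hi
    have h4 := (Finset.sum_eq_zero_iff_of_nonneg (fun i _ => hge i)).mp h3 i
      (Finset.mem_erase.mpr ⟨hi, Finset.mem_univ _⟩)
    exact mul_self_eq_zero.mp h4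

/-- fibre counting: a class function summed over the coset `G s₀` is `|G| / |C|` times its sum
over `C s₀`, where `C` is the centraliser of `s₀` in `G` and the order of `s₀` is prime to
`|G|` -/
theorem cyc_fiber_sum {Γ : Type*} [Group Γ] [Finite Γ] (G C : Subgroup Γ) [Fintype G]
    [Fintype C] (s₀ : Γ) (hs : ∀ g ∈ G, s₀ * g * s₀⁻¹ ∈ G) (hs' : ∀ g ∈ G, s₀⁻¹ * g * s₀ ∈ G)
    (hcop : (orderOf s₀).Coprime (Nat.card G))
    (hC : ∀ g : Γ, g ∈ C ↔ g ∈ G ∧ g * s₀ = s₀ * g)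
    (F : Γ → ℂ) (hF : ∀ x y : Γ, F (y * x * y⁻¹) = F x) :
    (Nat.card C : ℂ) * ∑ g : G, F ((g : Γ) * s₀)
      = (Nat.card G : ℂ) * ∑ c : C, F ((c : Γ) * s₀) := by
  classical
  have hCG : C ≤ G := fun c hc => ((hC c).mp hc).1
  have hcomm : ∀ c : C, (c : Γ) * s₀ = s₀ * c := fun c => ((hC c).mp c.2).2
  have hsn : s₀ ∈ Subgroup.normalizer (G : Set Γ) := by
    rw [Subgroup.mem_normalizer_iff]
    intro n
    constructor
    · exact hs n
    · intro h
      have h2 := hs' _ h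
      have e : s₀⁻¹ * (s₀ * n * s₀⁻¹) * s₀ = n := by group
      rwa [e] at h2
  obtain ⟨N, hN⟩ : ∃ N : ℕ, N ≡ 0 [MOD Nat.card G] ∧ N ≡ 1 [MOD orderOf s₀] :=
    ⟨(Nat.chineseRemainder hcop.symm 0 1 : ℕ), (Nat.chineseRemainder hcop.symm 0 1).2⟩
  have hpow : ∀ c : C, ((c : Γ) * s₀) ^ N = s₀ := by
    intro c
    have hc1 : (c : Γ) ^ N = 1 := by
      have h1 : orderOf (c : Γ) ∣ N :=
        (Subgroup.orderOf_dvd_natCard G (hCG c.2)).trans ((Nat.modEq_zero_iff_dvd).mp hN.1)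
      exact orderOf_dvd_iff_pow_eq_one.mp h1
    have hs1 : s₀ ^ N = s₀ := by
      have h1 : s₀ ^ N = s₀ ^ 1 := pow_eq_pow_iff_modEq.mpr hN.2
      rw [h1, pow_one]
    rw [(show Commute (c : Γ) s₀ from hcomm c).mul_pow, hc1, hs1, one_mul]
  have hrigid : ∀ u ∈ G, ∀ a b : C, u * ((a : Γ) * s₀) * u⁻¹ = (b : Γ) * s₀ → u ∈ C := by
    intro u hu a b h
    have h2 := congrArg (fun t => t ^ N) h
    simp only [conj_pow, hpow] at h2
    rw [hC]
    exact ⟨hu, mul_inv_eq_iff_eq_mul.mp h2⟩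
  have hmem : ∀ y : G × C, (y.1 : Γ) * y.2 * s₀ * (y.1 : Γ)⁻¹ * s₀⁻¹ ∈ G := by
    intro y
    have h1 : (y.1 : Γ) * y.2 ∈ G := G.mul_mem y.1.2 (hCG y.2.2)
    have h2 : s₀ * (y.1 : Γ)⁻¹ * s₀⁻¹ ∈ G := hs _ (G.inv_mem y.1.2)
    have e : (y.1 : Γ) * y.2 * s₀ * (y.1 : Γ)⁻¹ * s₀⁻¹
        = ((y.1 : Γ) * y.2) * (s₀ * (y.1 : Γ)⁻¹ * s₀⁻¹) := by group
    rw [e]
    exact G.mul_mem h1 h2
  let Ψ : G × C → G := fun y => ⟨_, hmem y⟩
  have hΨ : ∀ y : G × C,
      ((Ψ y : G) : Γ) * s₀ = (y.1 : Γ) * ((y.2 : Γ) * s₀) * (y.1 : Γ)⁻¹ := by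
    intro y
    show (y.1 : Γ) * y.2 * s₀ * (y.1 : Γ)⁻¹ * s₀⁻¹ * s₀ = _
    group
  have h1 : ∑ y : G × C, F ((Ψ y : Γ) * s₀) = (Nat.card G : ℂ) * ∑ c : C, F ((c : Γ) * s₀) := by
    rw [Fintype.sum_prod_type]
    simp only [hΨ, hF]
    rw [Finset.sum_const, Finset.card_univ, nsmul_eq_mul, Nat.card_eq_fintype_card]
  have hex : ∀ x : G, ∃ (g₀ : G) (c₀ : C), Ψ (g₀, c₀) = x := by
    intro x
    obtain ⟨y, hy, c, hc, hcs, hyc⟩ := Cfsg.Agent.S1496.result G s₀ hsn hcop (x : Γ) x.2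
    refine ⟨⟨y⁻¹, G.inv_mem hy⟩, ⟨c, (hC c).mpr ⟨hc, hcs⟩⟩, ?_⟩
    apply Subtype.ext
    show y⁻¹ * c * s₀ * (y⁻¹)⁻¹ * s₀⁻¹ = x
    have e : (x : Γ) = y⁻¹ * (y * (x * s₀) * y⁻¹) * y * s₀⁻¹ := by group
    rw [e, hyc]
    group
  have h2 : ∑ y : G × C, F ((Ψ y : Γ) * s₀) = (Nat.card C : ℂ) * ∑ x : G, F ((x : Γ) * s₀) := by
    rw [Finset.sum_comp (fun x : G => F ((x : Γ) * s₀)) Ψ]
    have himg : Finset.univ.image Ψ = Finset.univ := by
      ext x
      simp only [Finset.mem_image, Finset.mem_univ, true_and, iff_true]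
      obtain ⟨g₀, c₀, h⟩ := hex x
      exact ⟨(g₀, c₀), h⟩
    rw [himg, Finset.mul_sum]
    apply Finset.sum_congr rfl
    intro x _
    have hcard : (Finset.univ.filter (fun y => Ψ y = x)).card = Fintype.card C := by
      obtain ⟨g₀, c₀, hx⟩ := hex x
      rw [← Finset.card_univ (α := C)]
      symm
      apply Finset.card_bij
        (fun (h : C) _ => ((g₀ * ⟨(h : Γ)⁻¹, G.inv_mem (hCG h.2)⟩ : G), h * c₀ * h⁻¹))
      · intro h _
        simp only [Finset.mem_filter, Finset.mem_univ, true_and]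
        rw [← hx]
        apply Subtype.ext
        show (g₀ : Γ) * (h : Γ)⁻¹ * ((h : Γ) * c₀ * (h : Γ)⁻¹) * s₀ * ((g₀ : Γ) * (h : Γ)⁻¹)⁻¹ * s₀⁻¹
          = (g₀ : Γ) * c₀ * s₀ * (g₀ : Γ)⁻¹ * s₀⁻¹
        have e : (h : Γ)⁻¹ * s₀ * h = s₀ := by
          rw [mul_assoc, ← hcomm h]
          group
        calc (g₀ : Γ) * (h : Γ)⁻¹ * ((h : Γ) * c₀ * (h : Γ)⁻¹) * s₀ * ((g₀ : Γ) * (h : Γ)⁻¹)⁻¹ * s₀⁻¹
            = (g₀ : Γ) * c₀ * ((h : Γ)⁻¹ * s₀ * h) * (g₀ : Γ)⁻¹ * s₀⁻¹ := by group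
          _ = (g₀ : Γ) * c₀ * s₀ * (g₀ : Γ)⁻¹ * s₀⁻¹ := by rw [e]
      · intro h _ h' _ heq
        have h3 := congrArg Prod.fst heq
        simp only [mul_right_inj] at h3
        have h4 : (h : Γ)⁻¹ = (h' : Γ)⁻¹ := congrArg Subtype.val h3
        exact Subtype.ext (inv_injective h4)
      · intro y hy
        simp only [Finset.mem_filter, Finset.mem_univ, true_and] at hy
        obtain ⟨g, c⟩ := y
        have h4 : ((g : Γ)⁻¹ * g₀) * ((c₀ : Γ) * s₀) * ((g : Γ)⁻¹ * g₀)⁻¹ = (c : Γ) * s₀ := by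
          have h5 := hΨ (g, c)
          have h6 := hΨ (g₀, c₀)
          rw [hy] at h5
          rw [hx] at h6
          have h7 : (g : Γ) * ((c : Γ) * s₀) * (g : Γ)⁻¹
              = (g₀ : Γ) * ((c₀ : Γ) * s₀) * (g₀ : Γ)⁻¹ := h5.symm.trans h6
          calc ((g : Γ)⁻¹ * g₀) * ((c₀ : Γ) * s₀) * ((g : Γ)⁻¹ * g₀)⁻¹
              = (g : Γ)⁻¹ * ((g₀ : Γ) * ((c₀ : Γ) * s₀) * (g₀ : Γ)⁻¹) * g := by group
            _ = (g : Γ)⁻¹ * ((g : Γ) * ((c : Γ) * s₀) * (g : Γ)⁻¹) * g := by rw [h7]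
            _ = (c : Γ) * s₀ := by group
        have hu : (g : Γ)⁻¹ * g₀ ∈ C := hrigid _ (G.mul_mem (G.inv_mem g.2) g₀.2) c₀ c h4
        refine ⟨⟨(g : Γ)⁻¹ * g₀, hu⟩, Finset.mem_univ _, ?_⟩
        apply Prod.ext
        · apply Subtype.ext
          show (g₀ : Γ) * ((g : Γ)⁻¹ * g₀)⁻¹ = g
          group
        · apply Subtype.ext
          show ((g : Γ)⁻¹ * g₀) * c₀ * ((g : Γ)⁻¹ * g₀)⁻¹ = c
          have hus : Commute ((g : Γ)⁻¹ * g₀) s₀ := ((hC _).mp hu).2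
          have e : ((g : Γ)⁻¹ * g₀)⁻¹ * s₀ = s₀ * ((g : Γ)⁻¹ * g₀)⁻¹ := hus.inv_left.eq
          have h8 : ((g : Γ)⁻¹ * g₀) * c₀ * ((g : Γ)⁻¹ * g₀)⁻¹ * s₀ = c * s₀ := by
            rw [← h4]
            calc ((g : Γ)⁻¹ * g₀) * c₀ * ((g : Γ)⁻¹ * g₀)⁻¹ * s₀
                = ((g : Γ)⁻¹ * g₀) * c₀ * (((g : Γ)⁻¹ * g₀)⁻¹ * s₀) := by group
              _ = ((g : Γ)⁻¹ * g₀) * c₀ * (s₀ * ((g : Γ)⁻¹ * g₀)⁻¹) := by rw [e]
              _ = ((g : Γ)⁻¹ * g₀) * ((c₀ : Γ) * s₀) * ((g : Γ)⁻¹ * g₀)⁻¹ := by group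
          exact mul_right_cancel h8
    rw [hcard, nsmul_eq_mul, Nat.card_eq_fintype_card]
  rw [← h2, h1]

end Cfsg.Agent.Lib.Helper2
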