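import Mathlib
import Cfsg.Agent.Lib.Helper2.CycCanon
import Cfsg.Agent.Lib.Helper2.CharProd
import Cfsg.Agent.Lib.Helper2.CharDecomp
import Cfsg.Agent.S0868

set_option autoImplicit false

/-! Glauberman correspondence for a cyclic group of operators, through the values of the
canonical extension on the generators. -/

namespace Cfsg.Agent.Lib.Helper2

open scoped ComplexConjugate

universe u

/-- invariance under a complement gives invariance under the whole group -/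
theorem ginv_of_sinv {G : Type u} [Group G] [Fintype G] (K H : Subgroup G) [hK : K.Normal]
    [Fintype K] (hKH : K ⊔ H = ⊤) (θ : K → ℂ) (hθ : Cfsg.IsClassFunction K θ)
    (h : SInv K H θ) : GInv K θ := by
  intro g n
  have hg : g ∈ (↑(K ⊔ H) : Set G) := by
    rw [hKH]
    trivial
  rw [Subgroup.normal_mul] at hg
  obtain ⟨k, hk, s, hs, rfl⟩ := hg
  have hnorm : ∀ s ∈ H, ∀ g ∈ K, s * g * s⁻¹ ∈ K := fun s _ g hg => hK.conj_mem g hg s
  have h1 : (⟨k * s * n * (k * s)⁻¹, hK.conj_mem (n : G) n.2 (k * s)⟩ : K)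
      = ⟨k, hk⟩ * ⟨s * n * s⁻¹, hnorm s hs n n.2⟩ * ⟨k, hk⟩⁻¹ := by
    apply Subtype.ext
    simp only [Subgroup.coe_mul, Subgroup.coe_inv]
    group
  rw [h1, hθ]
  exact h s hs n _ rfl

section cyc

variable {Γ : Type u} [Group Γ] [Fintype Γ] (G S C : Subgroup Γ) [Fintype G] [Fintype C]
  (hnorm : ∀ s ∈ S, ∀ g ∈ G, s * g * s⁻¹ ∈ G) (hcop : (Nat.card G).Coprime (Nat.card S))
  (htop : G ⊔ S = ⊤) (hC : C = G ⊓ Subgroup.centralizer (S : Set Γ))
  (s₀ : Γ) (hs₀ : Subgroup.zpowers s₀ = S)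

include hnorm htop in
theorem cyc_normal : G.Normal := by
  have h1 : G ⊔ S ≤ Subgroup.normalizer (G : Set Γ) := by
    apply sup_le Subgroup.le_normalizer
    intro s hs
    rw [Subgroup.mem_normalizer_iff]
    intro n
    constructor
    · exact hnorm s hs n
    · intro h
      have h2 := hnorm s⁻¹ (S.inv_mem hs) _ h
      have e : s⁻¹ * (s * n * s⁻¹) * s⁻¹⁻¹ = n := by group
      rwa [e] at h2
  rw [htop, top_le_iff] at h1
  exact Subgroup.normalizer_eq_top_iff.mp h1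

include hcop htop in
theorem cyc_index [hG : G.Normal] : G.index = Nat.card S := by
  have hinf : G ⊓ S = ⊥ := (Subgroup.disjoint_of_coprime_natCard hcop).eq_bot
  rw [Subgroup.index_eq_card]
  exact (Nat.card_congr (complEquiv G S htop hinf).toEquiv).symm

include hC hs₀ in
theorem cyc_mem_C (g : Γ) : g ∈ C ↔ g ∈ G ∧ g * s₀ = s₀ * g := by
  rw [hC, Subgroup.mem_inf, Subgroup.mem_centralizer_iff]
  constructor
  · rintro ⟨hg, h⟩
    have hs : s₀ ∈ S := by
      rw [← hs₀]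
      exact Subgroup.mem_zpowers s₀
    exact ⟨hg, (h s₀ hs).symm⟩
  · rintro ⟨hg, h⟩
    refine ⟨hg, fun t ht => ?_⟩
    have ht' : t ∈ Subgroup.zpowers s₀ := by
      rw [hs₀]
      exact ht
    obtain ⟨k, rfl⟩ := Subgroup.mem_zpowers_iff.mp ht'
    exact ((show Commute g s₀ from h).zpow_right k).eq.symm

include hnorm hcop htop hC hs₀ in
/-- the canonical extension takes the same value on `c s₀ ^ k` for all `k` prime to `|S|` -/
theorem cyc_stab (χh : Γ → ℂ) (hχh : Cfsg.IsIrrCharacter Γ χh)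
    (hres : Cfsg.IsIrrCharacter G (fun n : G => χh n))
    (hdet : (Cfsg.detOrder χh).Coprime (Nat.card S)) (k : ℕ) (hk : k.Coprime (Nat.card S))
    (c : C) : χh ((c : Γ) * s₀ ^ k) = χh ((c : Γ) * s₀) := by
  haveI := cyc_normal G S hnorm htop
  have hidx := cyc_index G S hcop htop
  have hord : orderOf s₀ = Nat.card S := by rw [← hs₀, Nat.card_zpowers]
  obtain ⟨m, hm1, hmk⟩ : ∃ m : ℕ, m ≡ 1 [MOD Nat.card G] ∧ m ≡ k [MOD Nat.card S] :=
    ⟨(Nat.chineseRemainder hcop 1 k : ℕ), (Nat.chineseRemainder hcop 1 k).2⟩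
  have hmG : m.Coprime (Nat.card G) := by
    have h1 := hm1.gcd_eq
    unfold Nat.Coprime
    rw [h1]
    simp
  have hmS : m.Coprime (Nat.card S) := by
    have h1 := hmk.gcd_eq
    unfold Nat.Coprime
    rw [h1]
    exact hk
  have hcard : Nat.card Γ = Nat.card G * Nat.card S := by
    rw [← hidx, Subgroup.card_mul_index]
  have hm : m.Coprime (Nat.card Γ) := by
    rw [hcard]
    exact Nat.Coprime.mul_right hmG hmS
  have hcop2 : (Nat.card G).Coprime G.index := by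
    rw [hidx]
    exact hcop
  have hdet2 : (Cfsg.detOrder χh).Coprime G.index := by
    rw [hidx]
    exact hdet
  have hpow := canon_ext_pow G hcop2 χh hχh hres hdet2 m hm hm1 ((c : Γ) * s₀)
  have hcs : Commute (c : Γ) s₀ := ((cyc_mem_C G S C hC s₀ hs₀ c).mp c.2).2
  have hcG : (c : Γ) ∈ G := ((cyc_mem_C G S C hC s₀ hs₀ c).mp c.2).1
  have e1 : (c : Γ) ^ m = c := by
    have h1 : (c : Γ) ^ m = (c : Γ) ^ 1 := by
      rw [pow_eq_pow_iff_modEq]
      exact hm1.of_dvd (Subgroup.orderOf_dvd_natCard G hcG)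
    rw [h1, pow_one]
  have e2 : s₀ ^ m = s₀ ^ k := by
    rw [pow_eq_pow_iff_modEq, hord]
    exact hmk
  rw [hcs.mul_pow, e1, e2] at hpow
  exact hpow

include hs₀ in
theorem cyc_gens (s : Γ) (hs : Subgroup.zpowers s = S) :
    ∃ k : ℕ, k.Coprime (Nat.card S) ∧ s = s₀ ^ k := by
  classical
  have hord : orderOf s₀ = Nat.card S := by rw [← hs₀, Nat.card_zpowers]
  have hord' : orderOf s = Nat.card S := by rw [← hs, Nat.card_zpowers]
  have hmem : s ∈ Subgroup.zpowers s₀ := by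
    rw [hs₀, ← hs]
    exact Subgroup.mem_zpowers s
  obtain ⟨k, hk⟩ := (mem_powers_iff_mem_zpowers (x := s₀) (y := s)).mpr hmem
  have hk' : s₀ ^ k = s := hk
  refine ⟨k, ?_, hk'.symm⟩
  have h1 := orderOf_pow (n := k) s₀
  rw [hk', hord', hord] at h1
  have hpos : 0 < Nat.card S := Nat.card_pos
  have h2 : Nat.card S / Nat.gcd (Nat.card S) k * Nat.gcd (Nat.card S) k = Nat.card S :=
    Nat.div_mul_cancel (Nat.gcd_dvd_left _ _)
  rw [← h1] at h2
  have h3 : Nat.gcd (Nat.card S) k = 1 := by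
    have h4 : Nat.card S * Nat.gcd (Nat.card S) k = Nat.card S * 1 := by rw [h2, mul_one]
    exact Nat.eq_of_mul_eq_mul_left hpos h4
  unfold Nat.Coprime
  rw [Nat.gcd_comm]
  exact h3

include hnorm hcop htop hC hs₀ in
theorem cyc_all_gens (χh : Γ → ℂ) (hχh : Cfsg.IsIrrCharacter Γ χh)
    (hres : Cfsg.IsIrrCharacter G (fun n : G => χh n))
    (hdet : (Cfsg.detOrder χh).Coprime (Nat.card S)) (c : C) (s : Γ)
    (hs : Subgroup.zpowers s = S) : χh ((c : Γ) * s) = χh ((c : Γ) * s₀) := by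
  obtain ⟨k, hk, rfl⟩ := cyc_gens S s₀ hs₀ s hs
  exact cyc_stab G S C hnorm hcop htop hC s₀ hs₀ χh hχh hres hdet k hk c

/-- the multiplicity of `β` in the restriction to `C`, as a function of the element of `S` -/
noncomputable def cycA (χh : Γ → ℂ) (β : C → ℂ) : S → ℂ :=
  fun t => Cfsg.classInner (fun c : C => χh ((c : Γ) * t)) β

include hC hs₀ in
theorem cycA_isCharacter (χh : Γ → ℂ) (hχh : Cfsg.IsCharacter Γ χh) (β : C → ℂ)
    (hβ : Cfsg.IsIrrCharacter C β) : Cfsg.IsCharacter S (cycA S C χh β) := by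
  classical
  haveI : Fintype S := Fintype.ofFinite S
  have hcomm : ∀ (c : C) (t : S), Commute (C.subtype c) (S.subtype t) := by
    intro c t
    have hc : (c : Γ) ∈ Subgroup.centralizer (S : Set Γ) := by
      have h1 : (c : Γ) ∈ G ⊓ Subgroup.centralizer (S : Set Γ) := by
        rw [← hC]
        exact c.2
      exact h1.2
    exact ((Subgroup.mem_centralizer_iff.mp hc) t t.2).symm
  let μ : C × S →* Γ := C.subtype.noncommCoprod S.subtype hcomm
  have hΨ : Cfsg.IsCharacter (C × S) (χh ∘ μ) := IsCharacter.comp_hom hχh μ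
  have hSab : ∀ a b : S, a * b = b * a := by
    intro a b
    have ha : (a : Γ) ∈ Subgroup.zpowers s₀ := by
      rw [hs₀]
      exact a.2
    have hb : (b : Γ) ∈ Subgroup.zpowers s₀ := by
      rw [hs₀]
      exact b.2
    obtain ⟨i, hi⟩ := Subgroup.mem_zpowers_iff.mp ha
    obtain ⟨j, hj⟩ := Subgroup.mem_zpowers_iff.mp hb
    apply Subtype.ext
    show (a : Γ) * b = b * a
    rw [← hi, ← hj, ← zpow_add, ← zpow_add, add_comm]
  apply isCharacter_of_nat_inner
  · intro g h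
    have h1 : h * g * h⁻¹ = g := by rw [hSab h g, mul_inv_cancel_right]
    rw [h1]
  · intro lam hlam
    have hirr : Cfsg.IsIrrCharacter (C × S) (fun x => β x.1 * lam x.2) :=
      isIrrCharacter_prod hβ hlam
    obtain ⟨n, hn⟩ := classInner_isCharacter_nat hΨ (isCharacter_of_isIrrCharacter hirr)
    refine ⟨n, ?_⟩
    rw [← hn]
    unfold cycA
    simp only [classInner_def]
    rw [Fintype.sum_prod_type_right, Nat.card_prod]
    simp only [Finset.mul_sum, Finset.sum_mul]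
    apply Finset.sum_congr rfl
    intro t _
    apply Finset.sum_congr rfl
    intro c _
    simp only [Function.comp_apply, μ, MonoidHom.noncommCoprod_apply, Subgroup.coe_subtype,
      map_mul]
    push_cast
    ring

include hnorm hcop htop hC hs₀ in
theorem cyc_int (χh : Γ → ℂ) (hχh : Cfsg.IsIrrCharacter Γ χh)
    (hres : Cfsg.IsIrrCharacter G (fun n : G => χh n))
    (hdet : (Cfsg.detOrder χh).Coprime (Nat.card S)) (β : C → ℂ)
    (hβ : Cfsg.IsIrrCharacter C β) :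
    ∃ z : ℤ, Cfsg.classInner (fun c : C => χh ((c : Γ) * s₀)) β = (z : ℂ) := by
  have hs₀S : s₀ ∈ S := by
    rw [← hs₀]
    exact Subgroup.mem_zpowers s₀
  have hA := cycA_isCharacter G S C hC s₀ hs₀ χh (isCharacter_of_isIrrCharacter hχh) β hβ
  obtain ⟨z, hz⟩ := isCharacter_int_of_pow_eq hA ⟨s₀, hs₀S⟩ (by
    intro m hm
    show Cfsg.classInner (fun c : C => χh ((c : Γ) * (((⟨s₀, hs₀S⟩ : S) ^ m : S) : Γ))) β
      = Cfsg.classInner (fun c : C => χh ((c : Γ) * s₀)) β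
    congr 1
    funext c
    rw [Subgroup.coe_pow]
    exact cyc_stab G S C hnorm hcop htop hC s₀ hs₀ χh hχh hres hdet m hm c)
  exact ⟨z, hz⟩

include hnorm hcop htop hC hs₀ in
theorem cyc_norm (χh : Γ → ℂ) (hχh : Cfsg.IsIrrCharacter Γ χh)
    (hres : Cfsg.IsIrrCharacter G (fun n : G => χh n)) :
    Cfsg.classInner (fun c : C => χh ((c : Γ) * s₀)) (fun c : C => χh ((c : Γ) * s₀)) = 1 := by
  haveI := cyc_normal G S hnorm htop
  have hs₀S : s₀ ∈ S := by
    rw [← hs₀]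
    exact Subgroup.mem_zpowers s₀
  have hord : orderOf s₀ = Nat.card S := by rw [← hs₀, Nat.card_zpowers]
  have hη := (Cfsg.Agent.S0868.result G χh hχh hres χh hχh _ rfl).2.2 rfl
  have h1 : (Nat.card G : ℂ)⁻¹ * ∑ n : G, χh ((n : Γ) * s₀) * conj (χh ((n : Γ) * s₀)) = 1 :=
    congrFun hη s₀
  have hG0 : (Nat.card G : ℂ) ≠ 0 := Nat.cast_ne_zero.mpr Nat.card_pos.ne'
  have hC0 : (Nat.card C : ℂ) ≠ 0 := Nat.cast_ne_zero.mpr Nat.card_pos.ne'
  rw [inv_mul_eq_iff_eq_mul₀ hG0, mul_one] at h1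
  have hfib := cyc_fiber_sum G C s₀ (hnorm s₀ hs₀S)
    (fun g hg => by
      have h2 := hnorm s₀⁻¹ (S.inv_mem hs₀S) g hg
      simpa using h2)
    (by rw [hord]; exact hcop.symm) (cyc_mem_C G S C hC s₀ hs₀)
    (fun x => χh x * conj (χh x)) (by
      intro x y
      rw [isClassFunction_of_isIrrCharacter hχh x y])
  beta_reduce at hfib
  rw [h1] at hfib
  have h3 : ∑ c : C, χh ((c : Γ) * s₀) * conj (χh ((c : Γ) * s₀)) = (Nat.card C : ℂ) := by
    apply mul_left_cancel₀ hG0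
    rw [← hfib]
    ring
  rw [classInner_def, h3, inv_mul_cancel₀ hC0]

include hnorm hcop htop hC hs₀ in
/-- the values of the canonical extension on `C s₀` are, up to a sign, an irreducible character
of `C` -/
theorem cyc_exists (χh : Γ → ℂ) (hχh : Cfsg.IsIrrCharacter Γ χh)
    (hres : Cfsg.IsIrrCharacter G (fun n : G => χh n))
    (hdet : (Cfsg.detOrder χh).Coprime (Nat.card S)) :
    ∃ (β : Cfsg.IrrCharacter C) (ε : ℤ), (ε = 1 ∨ ε = -1) ∧
      ∀ c : C, χh ((c : Γ) * s₀) = (ε : ℂ) * (β : C → ℂ) c := by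
  classical
  haveI := Fintype.ofFinite (Cfsg.IrrCharacter C)
  have hcl : Cfsg.IsClassFunction C (fun c : C => χh ((c : Γ) * s₀)) := by
    intro g h
    show χh (((h * g * h⁻¹ : C) : Γ) * s₀) = χh ((g : Γ) * s₀)
    have hh : Commute (h : Γ) s₀ := ((cyc_mem_C G S C hC s₀ hs₀ h).mp h.2).2
    have e : ((h * g * h⁻¹ : C) : Γ) * s₀ = (h : Γ) * ((g : Γ) * s₀) * (h : Γ)⁻¹ := by
      simp only [Subgroup.coe_mul, Subgroup.coe_inv]
      rw [mul_assoc _ _ s₀, hh.inv_left.eq]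
      group
    rw [e, isClassFunction_of_isIrrCharacter hχh]
  have hint := fun β : Cfsg.IrrCharacter C =>
    cyc_int G S C hnorm hcop htop hC s₀ hs₀ χh hχh hres hdet β β.2
  choose z hz using hint
  have hnorm1 := cyc_norm G S C hnorm hcop htop hC s₀ hs₀ χh hχh hres
  rw [classInner_eq_sum _ _ hcl] at hnorm1
  simp only [hz] at hnorm1
  have hsum : ∑ β : Cfsg.IrrCharacter C, z β * z β = 1 := by
    have h1 : ((∑ β : Cfsg.IrrCharacter C, z β * z β : ℤ) : ℂ) = 1 := by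
      push_cast
      refine Eq.trans ?_ hnorm1
      apply Finset.sum_congr rfl
      intro β _
      simp
    exact_mod_cast h1
  obtain ⟨β₀, hβ₀, hoth⟩ := exists_unique_of_sum_sq z hsum
  refine ⟨β₀, z β₀, hβ₀, fun c => ?_⟩
  have hexp := class_fun_expand _ hcl
  have h1 := congrFun hexp c
  rw [Finset.sum_apply, Finset.sum_eq_single β₀] at h1
  · rw [h1, hz]
    rfl
  · intro β _ hβ
    rw [hz, hoth β hβ]
    simp
  · intro h
    exact absurd (Finset.mem_univ _) h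

include hC hs₀ in
theorem cyc_constituent (χh : Γ → ℂ) (hχh : Cfsg.IsIrrCharacter Γ χh)
    (β : Cfsg.IrrCharacter C) (ε : ℤ) (hε : ε = 1 ∨ ε = -1)
    (h : ∀ c : C, χh ((c : Γ) * s₀) = (ε : ℂ) * (β : C → ℂ) c) :
    Cfsg.classInner (fun c : C => χh (c : Γ)) (β : C → ℂ) ≠ 0 := by
  have hs₀S : s₀ ∈ S := by
    rw [← hs₀]
    exact Subgroup.mem_zpowers s₀
  have hA := cycA_isCharacter G S C hC s₀ hs₀ χh (isCharacter_of_isIrrCharacter hχh) β β.2
  intro h0
  have hA1 : cycA S C χh β 1 = 0 := by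
    show Cfsg.classInner (fun c : C => χh ((c : Γ) * ((1 : S) : Γ))) β = 0
    simp only [OneMemClass.coe_one, mul_one]
    exact h0
  have hA0 := isCharacter_eq_zero_of_apply_one hA hA1
  have h2 : cycA S C χh β ⟨s₀, hs₀S⟩ = (ε : ℂ) := by
    show Cfsg.classInner (fun c : C => χh ((c : Γ) * s₀)) β = ε
    have h3 : (fun c : C => χh ((c : Γ) * s₀)) = (ε : ℂ) • (β : C → ℂ) := by
      funext c
      rw [h c]
      rfl
    rw [h3, classInner_smul_left, classInner_irr_self β.2, mul_one]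
  rw [hA0] at h2
  have hεne : (ε : ℂ) ≠ 0 := by
    rcases hε with h | h <;> simp [h]
  exact hεne h2.symm

theorem cyc_unique (β β' : Cfsg.IrrCharacter C) (ε ε' : ℤ) (hε : ε = 1 ∨ ε = -1)
    (hε' : ε' = 1 ∨ ε' = -1)
    (h : ∀ c : C, (ε : ℂ) * (β : C → ℂ) c = (ε' : ℂ) * (β' : C → ℂ) c) :
    β = β' ∧ ε = ε' := by
  obtain ⟨d, hdpos, hd⟩ := irr_apply_one β.2
  obtain ⟨d', hdpos', hd'⟩ := irr_apply_one β'.2
  have h1 := h 1
  rw [hd, hd'] at h1
  have h1' : ε * (d : ℤ) = ε' * (d' : ℤ) := by exact_mod_cast h1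
  have hdz : (0 : ℤ) < d := by exact_mod_cast hdpos
  have hdz' : (0 : ℤ) < d' := by exact_mod_cast hdpos'
  have hεε : ε = ε' := by
    rcases hε with rfl | rfl <;> rcases hε' with rfl | rfl
    · rfl
    · exfalso
      linarith
    · exfalso
      linarith
    · rfl
  refine ⟨?_, hεε⟩
  subst hεε
  apply Subtype.ext
  funext c
  have hεne : (ε : ℂ) ≠ 0 := by
    rcases hε with h | h <;> simp [h]
  exact mul_left_cancel₀ hεne (h c)

include hnorm hcop htop hC hs₀ in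
theorem cyc_inj (χh χh' : Γ → ℂ) (hχh : Cfsg.IsIrrCharacter Γ χh)
    (hχh' : Cfsg.IsIrrCharacter Γ χh')
    (hres : Cfsg.IsIrrCharacter G (fun n : G => χh n))
    (h0 : Cfsg.classInner (fun n : G => χh' n) (fun n : G => χh n) = 0)
    (β : Cfsg.IrrCharacter C) (ε ε' : ℤ) (hε : ε = 1 ∨ ε = -1) (hε' : ε' = 1 ∨ ε' = -1)
    (h : ∀ c : C, χh ((c : Γ) * s₀) = (ε : ℂ) * (β : C → ℂ) c)
    (h' : ∀ c : C, χh' ((c : Γ) * s₀) = (ε' : ℂ) * (β : C → ℂ) c) : False := by
  haveI := cyc_normal G S hnorm htop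
  have hs₀S : s₀ ∈ S := by
    rw [← hs₀]
    exact Subgroup.mem_zpowers s₀
  have hord : orderOf s₀ = Nat.card S := by rw [← hs₀, Nat.card_zpowers]
  have hη := (Cfsg.Agent.S0868.result G χh hχh hres χh' hχh' _ rfl).2.1 h0
  have h1 : (Nat.card G : ℂ)⁻¹ * ∑ n : G, χh' ((n : Γ) * s₀) * conj (χh ((n : Γ) * s₀)) = 0 :=
    congrFun hη s₀
  have hG0 : (Nat.card G : ℂ) ≠ 0 := Nat.cast_ne_zero.mpr Nat.card_pos.ne'
  have hC0 : (Nat.card C : ℂ) ≠ 0 := Nat.cast_ne_zero.mpr Nat.card_pos.ne'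
  have h2 : ∑ n : G, χh' ((n : Γ) * s₀) * conj (χh ((n : Γ) * s₀)) = 0 := by
    rcases mul_eq_zero.mp h1 with h3 | h3
    · exact absurd (inv_eq_zero.mp h3) hG0
    · exact h3
  have hfib := cyc_fiber_sum G C s₀ (hnorm s₀ hs₀S)
    (fun g hg => by
      have h2 := hnorm s₀⁻¹ (S.inv_mem hs₀S) g hg
      simpa using h2)
    (by rw [hord]; exact hcop.symm) (cyc_mem_C G S C hC s₀ hs₀)
    (fun x => χh' x * conj (χh x)) (by
      intro x y
      rw [isClassFunction_of_isIrrCharacter hχh x y,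
        isClassFunction_of_isIrrCharacter hχh' x y])
  beta_reduce at hfib
  rw [h2, mul_zero] at hfib
  have h3 : ∑ c : C, χh' ((c : Γ) * s₀) * conj (χh ((c : Γ) * s₀)) = 0 := by
    rcases mul_eq_zero.mp hfib.symm with h4 | h4
    · exact absurd h4 hG0
    · exact h4
  simp only [h, h'] at h3
  have h4 : ∑ c : C, (ε' : ℂ) * (β : C → ℂ) c * conj ((ε : ℂ) * (β : C → ℂ) c)
      = (ε' : ℂ) * (ε : ℂ) * ((Nat.card C : ℂ) * Cfsg.classInner (β : C → ℂ) β) := by
    rw [classInner_def, ← mul_assoc (Nat.card C : ℂ), mul_inv_cancel₀ hC0, one_mul,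
      Finset.mul_sum]
    apply Finset.sum_congr rfl
    intro c _
    rw [map_mul, map_intCast]
    ring
  rw [h4, classInner_irr_self β.2, mul_one] at h3
  have hεne : (ε : ℂ) ≠ 0 := by
    rcases hε with h | h <;> simp [h]
  have hεne' : (ε' : ℂ) ≠ 0 := by
    rcases hε' with h | h <;> simp [h]
  exact (mul_ne_zero (mul_ne_zero hεne' hεne) hC0) h3

include hnorm hcop htop hC hs₀ in
/-- every irreducible character of `C` arises from an invariant irreducible character -/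
theorem cyc_surj (hsolv : Group.IsSolvable S) (β : Cfsg.IrrCharacter C) :
    ∃ (χ : Cfsg.IrrCharacter G) (χh : Cfsg.IrrCharacter Γ) (ε : ℤ), SInv G S χ ∧
      (∀ g : G, (χh : Γ → ℂ) g = (χ : G → ℂ) g) ∧
      (Cfsg.detOrder (χh : Γ → ℂ)).Coprime (Nat.card S) ∧ (ε = 1 ∨ ε = -1) ∧
      ∀ c : C, (χh : Γ → ℂ) ((c : Γ) * s₀) = (ε : ℂ) * (β : C → ℂ) c := by
  classical
  haveI hGn := cyc_normal G S hnorm htop
  have hidx := cyc_index G S hcop htop
  have hext : ∀ χ : {χ : Cfsg.IrrCharacter G // SInv G S χ}, ∃ χh : Γ → ℂ,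
      Cfsg.IsIrrCharacter Γ χh ∧ (∀ g : G, χh g = (χ.1 : G → ℂ) g) ∧
      (Cfsg.detOrder χh).Coprime (Nat.card S) := by
    intro χ
    have hinv : GInv G (χ.1 : G → ℂ) :=
      ginv_of_sinv G S htop _ (isClassFunction_of_isIrrCharacter χ.1.2) χ.2
    obtain ⟨d, hdpos, hd⟩ := irr_apply_one χ.1.2
    have hdK : d ∣ Nat.card G := irr_deg_dvd_card' χ.1.2 d hd
    have hoK := detOrder_dvd_card (isCharacter_of_isIrrCharacter χ.1.2)
    have hc : Nat.Coprime G.index (Cfsg.detOrder (χ.1 : G → ℂ) * d) := by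
      rw [hidx]
      exact Nat.Coprime.mul_right (Nat.Coprime.coprime_dvd_right hoK hcop.symm)
        (Nat.Coprime.coprime_dvd_right hdK hcop.symm)
    obtain ⟨χh, ⟨hχh, hex, hdo⟩, -⟩ := unique_ext_coprime G χ.1.2 hinv hd hc
    refine ⟨χh, hχh, hex, ?_⟩
    rw [hdo]
    exact Nat.Coprime.coprime_dvd_left hoK hcop
  choose ext hext_irr hext_ext hext_det using hext
  have hres : ∀ χ, Cfsg.IsIrrCharacter G (fun n : G => ext χ n) := by
    intro χ
    have h1 : (fun n : G => ext χ n) = (χ.1 : G → ℂ) := funext (hext_ext χ)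
    rw [h1]
    exact χ.1.2
  have hcorr := fun χ => cyc_exists G S C hnorm hcop htop hC s₀ hs₀ (ext χ) (hext_irr χ)
    (hres χ) (hext_det χ)
  choose b ε hε hval using hcorr
  have hinj : Function.Injective b := by
    intro χ₁ χ₂ hb
    by_contra hne
    have hne' : (χ₁.1 : G → ℂ) ≠ (χ₂.1 : G → ℂ) :=
      fun h => hne (Subtype.ext (Subtype.ext h))
    have h0 : Cfsg.classInner (fun n : G => ext χ₂ n) (fun n : G => ext χ₁ n) = 0 := by
      have e1 : (fun n : G => ext χ₁ n) = (χ₁.1 : G → ℂ) := funext (hext_ext χ₁)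
      have e2 : (fun n : G => ext χ₂ n) = (χ₂.1 : G → ℂ) := funext (hext_ext χ₂)
      rw [e1, e2]
      exact classInner_irr_ne χ₂.1.2 χ₁.1.2 (fun h => hne' h.symm)
    exact cyc_inj G S C hnorm hcop htop hC s₀ hs₀ (ext χ₁) (ext χ₂) (hext_irr χ₁)
      (hext_irr χ₂) (hres χ₁) h0 (b χ₁) (ε χ₁) (ε χ₂) (hε χ₁) (hε χ₂) (hval χ₁)
      (by rw [hb]; exact hval χ₂)
  have hcard : Nat.card {χ : Cfsg.IrrCharacter G // SInv G S χ}
      = Nat.card (Cfsg.IrrCharacter C) := by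
    have hcop' : (Nat.card G).Coprime ((S ⊓ Subgroup.centralizer (G : Set Γ)).relIndex S) :=
      Nat.Coprime.coprime_dvd_right (Subgroup.relIndex_dvd_card _ _) hcop
    exact card_inv_irr_cent _ G S C hnorm hsolv rfl hcop' hC
  have hbij := hinj.bijective_of_nat_card_le (le_of_eq hcard.symm)
  obtain ⟨χ, hχ⟩ := hbij.2 β
  refine ⟨χ.1, ⟨ext χ, hext_irr χ⟩, ε χ, χ.2, hext_ext χ, hext_det χ, hε χ, ?_⟩
  rw [← hχ]
  exact hval χ

end cyc

end Cfsg.Agent.Lib.Helper2
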