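import Mathlib
import Cfsg.Agent.Lib.Helper2.CycCorr
import Cfsg.Agent.Lib.Helper2.AbSylow
import Cfsg.Agent.Lib.Helper2.CharOrtho

set_option autoImplicit false

/-! A cyclic group of operators all of whose non-identity elements have the same fixed points:
the values of the canonical extension off the identity. -/

namespace Cfsg.Agent.Lib.Helper2

open scoped ComplexConjugate

universe u

/-- nonnegative integers whose "variance" is smaller than their number are all equal, or all
equal but one which differs by one -/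
theorem int_defect {ι : Type*} [Fintype ι] [DecidableEq ι] (x : ι → ℤ) (hx : ∀ i, 0 ≤ x i)
    (h : (Fintype.card ι : ℤ) * ∑ i, x i * x i - (∑ i, x i) * (∑ i, x i)
      ≤ (Fintype.card ι : ℤ) - 1) :
    (∃ k : ℤ, 0 ≤ k ∧ ∀ i, x i = k) ∨
    ∃ (i₀ : ι) (k : ℤ), 0 ≤ k ∧ (∀ i, i ≠ i₀ → x i = k) ∧ (x i₀ = k + 1 ∨ x i₀ = k - 1) := by
  have hm0 : 0 ≤ ∑ i, x i := Finset.sum_nonneg (fun i _ => hx i)
  rcases Nat.eq_zero_or_pos (Fintype.card ι) with h0 | hpos
  · exfalso
    have hempty : IsEmpty ι := Fintype.card_eq_zero_iff.mp h0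
    simp at h
  have hnpos : (0 : ℤ) < (Fintype.card ι : ℤ) := by exact_mod_cast hpos
  obtain ⟨n, hn⟩ : ∃ n : ℤ, n = (Fintype.card ι : ℤ) := ⟨_, rfl⟩
  obtain ⟨m, hm⟩ : ∃ m : ℤ, m = ∑ i, x i := ⟨_, rfl⟩
  obtain ⟨q, hq⟩ : ∃ q : ℤ, q = ∑ i, x i * x i := ⟨_, rfl⟩
  rw [← hn, ← hm, ← hq] at h
  rw [← hn] at hnpos
  rw [← hm] at hm0
  obtain ⟨k, hk⟩ : ∃ k : ℤ, k = m / n := ⟨_, rfl⟩
  obtain ⟨r, hr⟩ : ∃ r : ℤ, r = m % n := ⟨_, rfl⟩
  have hk0 : 0 ≤ k := by
    rw [hk]
    exact Int.ediv_nonneg hm0 hnpos.le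
  have hr0 : 0 ≤ r := by
    rw [hr]
    exact Int.emod_nonneg _ hnpos.ne'
  have hrn : r < n := by
    rw [hr]
    exact Int.emod_lt_of_pos _ hnpos
  have hmk : m = n * k + r := by
    rw [hk, hr]
    exact (Int.mul_ediv_add_emod m n).symm
  have hy1 : ∑ i, (x i - k) = r := by
    rw [Finset.sum_sub_distrib, ← hm, Finset.sum_const, Finset.card_univ, nsmul_eq_mul, ← hn]
    linarith
  have hy2 : ∑ i, (x i - k) * (x i - k) = q - 2 * k * m + n * k * k := by
    have e : ∀ i, (x i - k) * (x i - k) = x i * x i - 2 * k * x i + k * k := fun i => by ring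
    simp only [e]
    rw [Finset.sum_add_distrib, Finset.sum_sub_distrib, ← hq, ← Finset.mul_sum, ← hm,
      Finset.sum_const, Finset.card_univ, nsmul_eq_mul, ← hn]
    ring
  have hr' : m - n * k = r := by linarith
  have hy3 : n * ∑ i, (x i - k) * (x i - k) ≤ n - 1 + r * r := by
    rw [hy2]
    have e2 : n * (q - 2 * k * m + n * k * k) = (n * q - m * m) + (m - n * k) * (m - n * k) := by
      ring
    rw [e2, hr']
    linarith
  have hyy : ∀ i, x i - k ≤ (x i - k) * (x i - k) := by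
    intro i
    rcases le_or_gt (x i - k) 0 with h1 | h1
    · nlinarith [mul_self_nonneg (x i - k)]
    · nlinarith
  have hsum_ge : r ≤ ∑ i, (x i - k) * (x i - k) := by
    rw [← hy1]
    exact Finset.sum_le_sum (fun i _ => hyy i)
  obtain ⟨Q, hQ⟩ : ∃ Q : ℤ, Q = ∑ i, (x i - k) * (x i - k) := ⟨_, rfl⟩
  rw [← hQ] at hy3 hsum_ge
  have hQ0 : 0 ≤ Q := by
    rw [hQ]
    exact Finset.sum_nonneg (fun i _ => mul_self_nonneg _)
  have hrcases : r = 0 ∨ r = 1 ∨ r = n - 1 := by
    by_contra hcon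
    push Not at hcon
    obtain ⟨h1, h2, h3⟩ := hcon
    have h4 : 2 ≤ r := by omega
    have h5 : r ≤ n - 2 := by omega
    nlinarith [mul_le_mul_of_nonneg_left hsum_ge hnpos.le,
      mul_nonneg (show (0 : ℤ) ≤ r - 2 by omega) (show (0 : ℤ) ≤ n - 2 - r by omega)]
  rcases hrcases with hr0' | hr1 | hrn1
  · left
    refine ⟨k, hk0, fun i => ?_⟩
    have hQ1 : Q = 0 := by
      rw [hr0'] at hy3
      by_contra hne
      have h1 : 1 ≤ Q := by omega
      nlinarith
    rw [hQ] at hQ1
    have h1 := (Finset.sum_eq_zero_iff_of_nonneg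
      (fun i _ => mul_self_nonneg (x i - k))).mp hQ1 i (Finset.mem_univ i)
    have h2 := mul_self_eq_zero.mp h1
    linarith
  · right
    have hQ1 : Q = 1 := by
      rw [hr1] at hy3 hsum_ge
      have h1 : Q ≤ 1 := by
        by_contra hne
        have h2 : 2 ≤ Q := by omega
        nlinarith
      omega
    rw [hQ] at hQ1
    obtain ⟨i₀, hi₀, hoth⟩ := exists_unique_of_sum_sq (fun i => x i - k) hQ1
    refine ⟨i₀, k, hk0, fun i hi => ?_, ?_⟩
    · have h1 := hoth i hi
      beta_reduce at h1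
      linarith
    · left
      have h1 : ∑ i, (x i - k) = x i₀ - k := by
        apply Finset.sum_eq_single i₀
        · intro i _ hi
          exact hoth i hi
        · intro h
          exact absurd (Finset.mem_univ _) h
      rw [hy1, hr1] at h1
      linarith
  · right
    have hQ1 : Q ≤ n - 1 := by
      rw [hrn1] at hy3
      by_contra hne
      have h1 : n ≤ Q := by omega
      nlinarith
    have hd : ∑ i, ((x i - k) * (x i - k) - (x i - k)) = Q - r := by
      rw [Finset.sum_sub_distrib, ← hQ, hy1]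
    have hd0 : ∑ i, ((x i - k) * (x i - k) - (x i - k)) = 0 := by
      apply le_antisymm
      · rw [hd]
        omega
      · exact Finset.sum_nonneg (fun i _ => by linarith [hyy i])
    have hy01 : ∀ i, (x i - k) * (x i - k) = (x i - k) := by
      intro i
      have h1 := (Finset.sum_eq_zero_iff_of_nonneg
        (fun i _ => by linarith [hyy i])).mp hd0 i (Finset.mem_univ i)
      linarith
    have hz : ∑ i, (k + 1 - x i) * (k + 1 - x i) = 1 := by
      have e : ∀ i, (k + 1 - x i) * (k + 1 - x i) = 1 - (x i - k) := by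
        intro i
        have h1 := hy01 i
        nlinarith
      simp only [e]
      rw [Finset.sum_sub_distrib, hy1, Finset.sum_const, Finset.card_univ, nsmul_eq_mul, ← hn,
        hrn1]
      ring
    obtain ⟨i₀, hi₀, hoth⟩ := exists_unique_of_sum_sq (fun i => k + 1 - x i) hz
    refine ⟨i₀, k + 1, by linarith, fun i hi => ?_, ?_⟩
    · have h1 := hoth i hi
      beta_reduce at h1
      linarith
    · right
      have h1 := hy01 i₀
      rcases hi₀ with h2 | h2
      · beta_reduce at h2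
        linarith
      · exfalso
        beta_reduce at h2
        have h3 : x i₀ - k = 2 := by linarith
        rw [h3] at h1
        norm_num at h1

theorem conjClasses_card_of_comm {S : Type*} [Group S] [Finite S]
    (hab : ∀ a b : S, a * b = b * a) : Nat.card (ConjClasses S) = Nat.card S := by
  have hbij : Function.Bijective (ConjClasses.mk : S → ConjClasses S) := by
    constructor
    · intro a b h
      rw [ConjClasses.mk_eq_mk_iff_isConj, isConj_iff] at h
      obtain ⟨c, hc⟩ := h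
      rw [hab c a, mul_inv_cancel_right] at hc
      exact hc
    · exact ConjClasses.mk_surjective
  exact (Nat.card_congr (Equiv.ofBijective _ hbij)).symm

/-- a character of an abelian group with values `0, 1, -1` off the identity: it vanishes off
the identity or it is, off the identity, a sign times a linear character -/
theorem abelian_char_pm {S : Type*} [Group S] [Fintype S] (hab : ∀ a b : S, a * b = b * a)
    (A : S → ℂ) (hA : Cfsg.IsCharacter S A) (m : ℕ) (hm : A 1 = m)
    (hval : ∀ t : S, t ≠ 1 → A t = 0 ∨ A t = 1 ∨ A t = -1) :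
    (∃ k : ℕ, m = Nat.card S * k ∧ ∀ t : S, t ≠ 1 → A t = 0) ∨
    ∃ (ε : ℤ) (μ : S → ℂ) (k : ℕ), (ε = 1 ∨ ε = -1) ∧ Cfsg.IsIrrCharacter S μ ∧ μ 1 = 1 ∧
      (m : ℤ) = Nat.card S * k + ε ∧ ∀ t : S, t ≠ 1 → A t = (ε : ℂ) * μ t := by
  classical
  haveI := Fintype.ofFinite (Cfsg.IrrCharacter S)
  have hcl := isClassFunction_of_isCharacter hA
  have hnat := fun lam : Cfsg.IrrCharacter S =>
    classInner_isCharacter_nat hA (isCharacter_of_isIrrCharacter lam.2)
  choose nn hnn using hnat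
  have hlin : ∀ lam : Cfsg.IrrCharacter S, (lam : S → ℂ) 1 = 1 :=
    fun lam => irr_deg_one_of_comm hab lam.2
  have hcard : Fintype.card (Cfsg.IrrCharacter S) = Nat.card S := by
    rw [← Nat.card_eq_fintype_card, card_irr_eq_card_conjClasses, conjClasses_card_of_comm hab]
  have hS0 : (Nat.card S : ℂ) ≠ 0 := Nat.cast_ne_zero.mpr Nat.card_pos.ne'
  have hsum1 : (m : ℂ) = ∑ lam : Cfsg.IrrCharacter S, (nn lam : ℂ) := by
    rw [← hm, char_apply_one_eq_sum hA]
    apply Finset.sum_congr rfl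
    intro lam _
    rw [hnn, hlin, mul_one]
  have hsum1' : (m : ℤ) = ∑ lam : Cfsg.IrrCharacter S, (nn lam : ℤ) := by
    exact_mod_cast hsum1
  have hnorm : Cfsg.classInner A A
      = ∑ lam : Cfsg.IrrCharacter S, (nn lam : ℂ) * (nn lam : ℂ) := by
    rw [classInner_eq_sum A A hcl]
    apply Finset.sum_congr rfl
    intro lam _
    rw [hnn]
    simp
  have hδ : ∀ t : S, t ≠ 1 → A t * conj (A t) = if A t = 0 then 0 else 1 := by
    intro t ht
    rcases hval t ht with h | h | h
    · rw [h]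
      simp
    · rw [h]
      simp
    · rw [h]
      simp
  have hnorm2 : (Nat.card S : ℂ) * Cfsg.classInner A A = (m : ℂ) * m
      + ∑ t ∈ Finset.univ.erase (1 : S), (if A t = 0 then (0 : ℂ) else 1) := by
    rw [classInner_def, ← mul_assoc, mul_inv_cancel₀ hS0, one_mul,
      ← Finset.add_sum_erase Finset.univ _ (Finset.mem_univ (1 : S)), hm]
    congr 1
    · simp
    · apply Finset.sum_congr rfl
      intro t ht
      exact hδ t (Finset.ne_of_mem_erase ht)
  obtain ⟨τ, hτ, hτle⟩ : ∃ τ : ℕ,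
      ∑ t ∈ Finset.univ.erase (1 : S), (if A t = 0 then (0 : ℂ) else 1) = (τ : ℂ)
        ∧ τ + 1 ≤ Nat.card S := by
    refine ⟨((Finset.univ.erase (1 : S)).filter (fun t => ¬ A t = 0)).card, ?_, ?_⟩
    · rw [Finset.card_filter]
      push_cast
      apply Finset.sum_congr rfl
      intro t _
      by_cases h : A t = 0 <;> simp [h]
    · have h1 := Finset.card_filter_le (Finset.univ.erase (1 : S)) (fun t => ¬ A t = 0)
      have h2 : (Finset.univ.erase (1 : S)).card = Fintype.card S - 1 := by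
        rw [Finset.card_erase_of_mem (Finset.mem_univ _), Finset.card_univ]
      have h3 : 0 < Fintype.card S := Fintype.card_pos
      rw [Nat.card_eq_fintype_card]
      omega
  rw [hτ, hnorm] at hnorm2
  have hkey : (Nat.card S : ℤ) * ∑ lam : Cfsg.IrrCharacter S, (nn lam : ℤ) * (nn lam : ℤ)
      = (m : ℤ) * m + τ := by
    exact_mod_cast hnorm2
  have hdef := int_defect (fun lam : Cfsg.IrrCharacter S => (nn lam : ℤ))
    (fun lam => Int.natCast_nonneg _) (by
      rw [hcard, ← hsum1', hkey]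
      have h1 : (τ : ℤ) + 1 ≤ (Nat.card S : ℤ) := by exact_mod_cast hτle
      linarith)
  have hexp : ∀ t : S, A t = ∑ lam : Cfsg.IrrCharacter S, (nn lam : ℂ) * (lam : S → ℂ) t := by
    intro t
    have h1 := congrFun (class_fun_expand A hcl) t
    rw [Finset.sum_apply] at h1
    refine h1.trans ?_
    apply Finset.sum_congr rfl
    intro lam _
    rw [Pi.smul_apply, smul_eq_mul, hnn]
  have hcol : ∀ t : S, t ≠ 1 → ∑ lam : Cfsg.IrrCharacter S, (lam : S → ℂ) t = 0 := by
    intro t ht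
    have h1 := column_orthogonality t (1 : S)
    rw [colFun_of_not_isConj (by
      intro hc
      rw [isConj_iff] at hc
      obtain ⟨c, hc⟩ := hc
      rw [hab c t, mul_inv_cancel_right] at hc
      exact ht hc)] at h1
    rw [← h1]
    apply Finset.sum_congr rfl
    intro lam _
    rw [hlin]
    simp
  rcases hdef with ⟨k, hk0, hall⟩ | ⟨μ, k, hk0, hoth, hμ⟩
  · left
    have hall' : ∀ lam : Cfsg.IrrCharacter S, (nn lam : ℤ) = k := hall
    refine ⟨k.toNat, ?_, fun t ht => ?_⟩
    · have h1 : (m : ℤ) = (Nat.card S : ℤ) * k := by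
        rw [hsum1']
        simp only [hall']
        rw [Finset.sum_const, Finset.card_univ, hcard, nsmul_eq_mul]
      have h2 : (k.toNat : ℤ) = k := Int.toNat_of_nonneg hk0
      rw [← h2] at h1
      exact_mod_cast h1
    · rw [hexp t]
      have h1 : ∀ lam : Cfsg.IrrCharacter S, (nn lam : ℂ) = (k : ℂ) := by
        intro lam
        have h2 := hall' lam
        exact_mod_cast h2
      simp only [h1]
      rw [← Finset.mul_sum, hcol t ht, mul_zero]
  · right
    have hoth' : ∀ lam : Cfsg.IrrCharacter S, lam ≠ μ → (nn lam : ℤ) = k := hoth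
    have hμ' : (nn μ : ℤ) = k + 1 ∨ (nn μ : ℤ) = k - 1 := hμ
    obtain ⟨ε, hε, hμε⟩ : ∃ ε : ℤ, (ε = 1 ∨ ε = -1) ∧ (nn μ : ℤ) = k + ε := by
      rcases hμ' with h | h
      · exact ⟨1, Or.inl rfl, h⟩
      · exact ⟨-1, Or.inr rfl, by rw [h]; ring⟩
    have h3 : ∀ lam : Cfsg.IrrCharacter S,
        (nn lam : ℤ) = k + (if lam = μ then ε else 0) := by
      intro lam
      by_cases hl : lam = μ
      · subst hl
        rw [if_pos rfl]
        exact hμε
      · rw [if_neg hl, add_zero]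
        exact hoth' lam hl
    have h1 : ∀ lam : Cfsg.IrrCharacter S,
        (nn lam : ℂ) = (k : ℂ) + (if lam = μ then (ε : ℂ) else 0) := by
      intro lam
      have h4 := h3 lam
      have h5 : ((nn lam : ℤ) : ℂ) = ((k + (if lam = μ then ε else 0) : ℤ) : ℂ) := by
        rw [h4]
      rw [Int.cast_add] at h5
      rw [show (nn lam : ℂ) = ((nn lam : ℤ) : ℂ) by simp, h5]
      congr 1
      split_ifs <;> simp
    refine ⟨ε, (μ : S → ℂ), k.toNat, hε, μ.2, hlin μ, ?_, fun t ht => ?_⟩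
    · have h2 : (k.toNat : ℤ) = k := Int.toNat_of_nonneg hk0
      rw [h2, hsum1']
      simp only [h3]
      rw [Finset.sum_add_distrib, Finset.sum_const, Finset.card_univ, hcard, nsmul_eq_mul,
        Finset.sum_ite_eq' Finset.univ μ]
      simp
    · rw [hexp t]
      simp only [h1, add_mul]
      rw [Finset.sum_add_distrib, ← Finset.mul_sum, hcol t ht, mul_zero, zero_add]
      simp only [ite_mul, zero_mul]
      rw [Finset.sum_ite_eq' Finset.univ μ]
      simp

section fpf

variable {Γ : Type u} [Group Γ] [Fintype Γ] (G S C : Subgroup Γ) [Fintype G] [Fintype C]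
  (hnorm : ∀ s ∈ S, ∀ g ∈ G, s * g * s⁻¹ ∈ G) (hcop : (Nat.card G).Coprime (Nat.card S))
  (htop : G ⊔ S = ⊤) (hC : C = G ⊓ Subgroup.centralizer (S : Set Γ))

omit [Fintype C] in
include hnorm hcop htop hC in
/-- the canonical extension takes the same value on `c t ^ k` for all `k` prime to `|S|`,
for every `t` in `S` -/
theorem cyc_stab_gen (t : Γ) (ht : t ∈ S) (χh : Γ → ℂ) (hχh : Cfsg.IsIrrCharacter Γ χh)
    (hres : Cfsg.IsIrrCharacter G (fun n : G => χh n))
    (hdet : (Cfsg.detOrder χh).Coprime (Nat.card S)) (k : ℕ) (hk : k.Coprime (Nat.card S))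
    (c : C) : χh ((c : Γ) * t ^ k) = χh ((c : Γ) * t) := by
  haveI := cyc_normal G S hnorm htop
  have hidx := cyc_index G S hcop htop
  obtain ⟨m, hm1, hmk⟩ : ∃ m : ℕ, m ≡ 1 [MOD Nat.card G] ∧ m ≡ k [MOD Nat.card S] :=
    ⟨(Nat.chineseRemainder hcop 1 k : ℕ), (Nat.chineseRemainder hcop 1 k).2⟩
  have hmG : m.Coprime (Nat.card G) := by
    have h1 := hm1.gcd_eq
    unfold Nat.Coprime
    rw [h1]
    simp
  have hmS : m.Coprime (Nat.card S) := by
    have h1 := hmk.gcd_eq
    unfold Nat.Coprime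
    rw [h1]
    exact hk
  have hcard : Nat.card Γ = Nat.card G * Nat.card S := by
    rw [← hidx, Subgroup.card_mul_index]
  have hm : m.Coprime (Nat.card Γ) := by
    rw [hcard]
    exact Nat.Coprime.mul_right hmG hmS
  have hcop2 : (Nat.card G).Coprime G.index := by
    rw [hidx]
    exact hcop
  have hdet2 : (Cfsg.detOrder χh).Coprime G.index := by
    rw [hidx]
    exact hdet
  have hpow := canon_ext_pow G hcop2 χh hχh hres hdet2 m hm hm1 ((c : Γ) * t)
  have hc' : (c : Γ) ∈ G ⊓ Subgroup.centralizer (S : Set Γ) := by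
    rw [← hC]
    exact c.2
  have hcs : Commute (c : Γ) t := ((Subgroup.mem_centralizer_iff.mp hc'.2) t ht).symm
  have hcG : (c : Γ) ∈ G := hc'.1
  have e1 : (c : Γ) ^ m = c := by
    have h1 : (c : Γ) ^ m = (c : Γ) ^ 1 := by
      rw [pow_eq_pow_iff_modEq]
      exact hm1.of_dvd (Subgroup.orderOf_dvd_natCard G hcG)
    rw [h1, pow_one]
  have e2 : t ^ m = t ^ k := by
    rw [pow_eq_pow_iff_modEq]
    exact hmk.of_dvd (Subgroup.orderOf_dvd_natCard S ht)
  rw [hcs.mul_pow, e1, e2] at hpow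
  exact hpow

include hnorm hcop htop hC in
theorem cyc_int_gen (s₀ : Γ) (hs₀ : Subgroup.zpowers s₀ = S) (t : Γ) (ht : t ∈ S) (χh : Γ → ℂ)
    (hχh : Cfsg.IsIrrCharacter Γ χh)
    (hres : Cfsg.IsIrrCharacter G (fun n : G => χh n))
    (hdet : (Cfsg.detOrder χh).Coprime (Nat.card S)) (β : C → ℂ)
    (hβ : Cfsg.IsIrrCharacter C β) :
    ∃ z : ℤ, Cfsg.classInner (fun c : C => χh ((c : Γ) * t)) β = (z : ℂ) := by
  have hA := cycA_isCharacter G S C hC s₀ hs₀ χh (isCharacter_of_isIrrCharacter hχh) β hβ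
  obtain ⟨z, hz⟩ := isCharacter_int_of_pow_eq hA ⟨t, ht⟩ (by
    intro m hm
    show Cfsg.classInner (fun c : C => χh ((c : Γ) * (((⟨t, ht⟩ : S) ^ m : S) : Γ))) β
      = Cfsg.classInner (fun c : C => χh ((c : Γ) * t)) β
    congr 1
    funext c
    rw [Subgroup.coe_pow]
    exact cyc_stab_gen G S C hnorm hcop htop hC t ht χh hχh hres hdet m hm c)
  exact ⟨z, hz⟩

include hnorm hcop htop in
theorem cyc_norm_gen (t : Γ) (ht : t ∈ S)
    (hCt : ∀ g : Γ, g ∈ C ↔ g ∈ G ∧ g * t = t * g) (χh : Γ → ℂ)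
    (hχh : Cfsg.IsIrrCharacter Γ χh)
    (hres : Cfsg.IsIrrCharacter G (fun n : G => χh n)) :
    Cfsg.classInner (fun c : C => χh ((c : Γ) * t)) (fun c : C => χh ((c : Γ) * t)) = 1 := by
  haveI := cyc_normal G S hnorm htop
  have hη := (Cfsg.Agent.S0868.result G χh hχh hres χh hχh _ rfl).2.2 rfl
  have h1 : (Nat.card G : ℂ)⁻¹ * ∑ n : G, χh ((n : Γ) * t) * conj (χh ((n : Γ) * t)) = 1 :=
    congrFun hη t
  have hG0 : (Nat.card G : ℂ) ≠ 0 := Nat.cast_ne_zero.mpr Nat.card_pos.ne'
  have hC0 : (Nat.card C : ℂ) ≠ 0 := Nat.cast_ne_zero.mpr Nat.card_pos.ne'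
  rw [inv_mul_eq_iff_eq_mul₀ hG0, mul_one] at h1
  have hfib := cyc_fiber_sum G C t (hnorm t ht)
    (fun g hg => by
      have h2 := hnorm t⁻¹ (S.inv_mem ht) g hg
      simpa using h2)
    (Nat.Coprime.coprime_dvd_left (Subgroup.orderOf_dvd_natCard S ht) hcop.symm) hCt
    (fun x => χh x * conj (χh x)) (by
      intro x y
      rw [isClassFunction_of_isIrrCharacter hχh x y])
  beta_reduce at hfib
  rw [h1] at hfib
  have h3 : ∑ c : C, χh ((c : Γ) * t) * conj (χh ((c : Γ) * t)) = (Nat.card C : ℂ) := by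
    apply mul_left_cancel₀ hG0
    rw [← hfib]
    ring
  rw [classInner_def, h3, inv_mul_cancel₀ hC0]

include hnorm hcop htop hC in
/-- the values of the canonical extension on `C t` are, up to a sign, an irreducible character
of `C`, when `C` is the centraliser of `t` in `G` -/
theorem cyc_exists_gen (s₀ : Γ) (hs₀ : Subgroup.zpowers s₀ = S) (t : Γ) (ht : t ∈ S)
    (hCt : ∀ g : Γ, g ∈ C ↔ g ∈ G ∧ g * t = t * g) (χh : Γ → ℂ)
    (hχh : Cfsg.IsIrrCharacter Γ χh)
    (hres : Cfsg.IsIrrCharacter G (fun n : G => χh n))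
    (hdet : (Cfsg.detOrder χh).Coprime (Nat.card S)) :
    ∃ (β : Cfsg.IrrCharacter C) (ε : ℤ), (ε = 1 ∨ ε = -1) ∧
      ∀ c : C, χh ((c : Γ) * t) = (ε : ℂ) * (β : C → ℂ) c := by
  classical
  haveI := Fintype.ofFinite (Cfsg.IrrCharacter C)
  have hcl : Cfsg.IsClassFunction C (fun c : C => χh ((c : Γ) * t)) := by
    intro g h
    show χh (((h * g * h⁻¹ : C) : Γ) * t) = χh ((g : Γ) * t)
    have hh : Commute (h : Γ) t := ((hCt h).mp h.2).2
    have e : ((h * g * h⁻¹ : C) : Γ) * t = (h : Γ) * ((g : Γ) * t) * (h : Γ)⁻¹ := by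
      simp only [Subgroup.coe_mul, Subgroup.coe_inv]
      rw [mul_assoc _ _ t, hh.inv_left.eq]
      group
    rw [e, isClassFunction_of_isIrrCharacter hχh]
  have hint := fun β : Cfsg.IrrCharacter C =>
    cyc_int_gen G S C hnorm hcop htop hC s₀ hs₀ t ht χh hχh hres hdet β β.2
  choose z hz using hint
  have hnorm1 := cyc_norm_gen G S C hnorm hcop htop t ht hCt χh hχh hres
  rw [classInner_eq_sum _ _ hcl] at hnorm1
  simp only [hz] at hnorm1
  have hsum : ∑ β : Cfsg.IrrCharacter C, z β * z β = 1 := by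
    have h1 : ((∑ β : Cfsg.IrrCharacter C, z β * z β : ℤ) : ℂ) = 1 := by
      push_cast
      refine Eq.trans ?_ hnorm1
      apply Finset.sum_congr rfl
      intro β _
      simp
    exact_mod_cast h1
  obtain ⟨β₀, hβ₀, hoth⟩ := exists_unique_of_sum_sq z hsum
  refine ⟨β₀, z β₀, hβ₀, fun c => ?_⟩
  have hexp := class_fun_expand _ hcl
  have h1 := congrFun hexp c
  rw [Finset.sum_apply, Finset.sum_eq_single β₀] at h1
  · rw [h1, hz]
    rfl
  · intro β _ hβ
    rw [hz, hoth β hβ]
    simp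
  · intro h
    exact absurd (Finset.mem_univ _) h

include hnorm hcop htop hC in
/-- a cyclic group of operators all of whose non-identity elements have the same fixed points:
the values of the canonical extension off `G`, and its restriction to the fixed points -/
theorem cyc_fpf_main (s₀ : Γ) (hs₀ : Subgroup.zpowers s₀ = S)
    (hfpf : ∀ x ∈ S, x ≠ 1 → G ⊓ Subgroup.centralizer ({x} : Set Γ) = C)
    (χh : Γ → ℂ) (hχh : Cfsg.IsIrrCharacter Γ χh)
    (hres : Cfsg.IsIrrCharacter G (fun n : G => χh n))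
    (hdet : (Cfsg.detOrder χh).Coprime (Nat.card S)) (β : Cfsg.IrrCharacter C) (ε₀ : ℤ)
    (hε₀ : ε₀ = 1 ∨ ε₀ = -1) (hβ : ∀ c : C, χh ((c : Γ) * s₀) = (ε₀ : ℂ) * (β : C → ℂ) c) :
    ∃ ε : ℤ, (ε = 1 ∨ ε = -1) ∧
      (∃ μ : S → ℂ, Cfsg.IsCharacter S μ ∧ μ 1 = 1 ∧ (∀ x : S, μ x * μ x = 1) ∧
        ∀ c : C, ∀ x : S, x ≠ 1 → χh ((c : Γ) * x) = (ε : ℂ) * (β : C → ℂ) c * μ x) ∧
      (∃ ϑ : C → ℂ, Cfsg.IsCharacter C ϑ ∧
        (fun c : C => χh (c : Γ))
          = fun c => (Nat.card S : ℂ) * ϑ c + (ε : ℂ) * (β : C → ℂ) c) := by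
  classical
  haveI : Fintype S := Fintype.ofFinite S
  have hs₀S : s₀ ∈ S := by
    rw [← hs₀]
    exact Subgroup.mem_zpowers s₀
  by_cases hs1 : s₀ = 1
  · -- trivial group of operators
    have hS1 : ∀ x : S, x = 1 := by
      intro x
      have hx : (x : Γ) ∈ Subgroup.zpowers s₀ := by
        rw [hs₀]
        exact x.2
      rw [hs1, Subgroup.zpowers_one_eq_bot, Subgroup.mem_bot] at hx
      exact Subtype.ext hx
    refine ⟨ε₀, hε₀, ⟨fun _ => 1, isCharacter_of_isIrrCharacter isIrrCharacter_one, rfl,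
      fun x => by simp, fun c x hx => absurd (hS1 x) hx⟩,
      ⟨0, IsCharacter.zero, ?_⟩⟩
    funext c
    have h1 := hβ c
    rw [hs1, mul_one] at h1
    rw [h1]
    simp
  -- commutativity of `S`
  have hSab : ∀ a b : S, a * b = b * a := by
    intro a b
    have ha : (a : Γ) ∈ Subgroup.zpowers s₀ := by
      rw [hs₀]
      exact a.2
    have hb : (b : Γ) ∈ Subgroup.zpowers s₀ := by
      rw [hs₀]
      exact b.2
    obtain ⟨i, hi⟩ := Subgroup.mem_zpowers_iff.mp ha
    obtain ⟨j, hj⟩ := Subgroup.mem_zpowers_iff.mp hb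
    apply Subtype.ext
    show (a : Γ) * b = b * a
    rw [← hi, ← hj, ← zpow_add, ← zpow_add, add_comm]
  have hS0 : (Nat.card S : ℂ) ≠ 0 := Nat.cast_ne_zero.mpr Nat.card_pos.ne'
  have hχhc : Cfsg.IsCharacter Γ χh := isCharacter_of_isIrrCharacter hχh
  -- the sign and the irreducible character of `C` attached to each non-identity element
  have hex : ∀ t : S, t ≠ 1 → ∃ (b : Cfsg.IrrCharacter C) (e : ℤ), (e = 1 ∨ e = -1) ∧
      ∀ c : C, χh ((c : Γ) * t) = (e : ℂ) * (b : C → ℂ) c := by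
    intro t ht
    have ht1 : (t : Γ) ≠ 1 := fun h => ht (Subtype.ext h)
    have hCt : ∀ g : Γ, g ∈ C ↔ g ∈ G ∧ g * (t : Γ) = (t : Γ) * g := by
      intro g
      rw [← hfpf t t.2 ht1, Subgroup.mem_inf, Subgroup.mem_centralizer_singleton_iff]
    exact cyc_exists_gen G S C hnorm hcop htop hC s₀ hs₀ t t.2 hCt χh hχh hres hdet
  choose b e he hbe using hex
  -- the multiplicity functions
  have hAchar : ∀ γ : Cfsg.IrrCharacter C, Cfsg.IsCharacter S (cycA S C χh γ) :=
    fun γ => cycA_isCharacter G S C hC s₀ hs₀ χh hχhc γ γ.2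
  have hAval : ∀ (γ : Cfsg.IrrCharacter C) (t : S) (ht : t ≠ 1),
      cycA S C χh γ t = if b t ht = γ then (e t ht : ℂ) else 0 := by
    intro γ t ht
    show Cfsg.classInner (fun c : C => χh ((c : Γ) * t)) γ = _
    have h3 : (fun c : C => χh ((c : Γ) * t)) = (e t ht : ℂ) • (b t ht : C → ℂ) := by
      funext c
      rw [hbe t ht c]
      rfl
    rw [h3, classInner_smul_left, classInner_irr (b t ht).2 γ.2]
    by_cases hbg : b t ht = γ
    · rw [if_pos hbg, if_pos (congrArg Subtype.val hbg), mul_one]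
    · rw [if_neg hbg, if_neg (fun h => hbg (Subtype.ext h)), mul_zero]
  have hA1 : ∀ γ : Cfsg.IrrCharacter C,
      cycA S C χh γ 1 = Cfsg.classInner (fun c : C => χh (c : Γ)) γ := by
    intro γ
    show Cfsg.classInner (fun c : C => χh ((c : Γ) * ((1 : S) : Γ))) γ = _
    simp only [OneMemClass.coe_one, mul_one]
  have hmm := fun γ : Cfsg.IrrCharacter C => char_apply_one (hAchar γ)
  choose mm hmm using hmm
  have hApm : ∀ (γ : Cfsg.IrrCharacter C) (t : S), t ≠ 1 →
      cycA S C χh γ t = 0 ∨ cycA S C χh γ t = 1 ∨ cycA S C χh γ t = -1 := by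
    intro γ t ht
    rw [hAval γ t ht]
    by_cases hbg : b t ht = γ
    · rw [if_pos hbg]
      rcases he t ht with h | h
      · right
        left
        rw [h]
        simp
      · right
        right
        rw [h]
        simp
    · rw [if_neg hbg]
      left
      rfl
  -- the function attached to `β`
  have hs₀ne : (⟨s₀, hs₀S⟩ : S) ≠ 1 := by
    intro h
    exact hs1 (congrArg Subtype.val h)
  have hε₀ne : (ε₀ : ℂ) ≠ 0 := by
    rcases hε₀ with h | h <;> simp [h]
  have hAβs : cycA S C χh β ⟨s₀, hs₀S⟩ = (ε₀ : ℂ) := by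
    show Cfsg.classInner (fun c : C => χh ((c : Γ) * s₀)) β = ε₀
    have h3 : (fun c : C => χh ((c : Γ) * s₀)) = (ε₀ : ℂ) • (β : C → ℂ) := by
      funext c
      rw [hβ c]
      rfl
    rw [h3, classInner_smul_left, classInner_irr_self β.2, mul_one]
  rcases abelian_char_pm hSab (cycA S C χh β) (hAchar β) (mm β) (hmm β) (hApm β) with
    ⟨k, -, hzero⟩ | ⟨ε, μ, k, hε, hμirr, hμ1, hmβ, hμval⟩
  · exfalso
    have h1 := hzero _ hs₀ne
    rw [hAβs] at h1
    exact hε₀ne h1
  have hεne : (ε : ℂ) ≠ 0 := by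
    rcases hε with h | h <;> simp [h]
  have hεsq : (ε : ℂ) * (ε : ℂ) = 1 := by
    rcases hε with h | h <;> simp [h]
  obtain ⟨lam, hlam⟩ := hom_of_irr_deg_one hμirr hμ1
  have hμne : ∀ t : S, μ t ≠ 0 := by
    intro t
    rw [hlam]
    exact Units.ne_zero _
  -- all the attached characters are `β`
  have hbβ : ∀ (t : S) (ht : t ≠ 1), b t ht = β := by
    intro t ht
    by_contra hne
    have h1 := hAval β t ht
    rw [if_neg hne, hμval t ht] at h1
    exact (mul_ne_zero hεne (hμne t)) h1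
  have heμ : ∀ (t : S) (ht : t ≠ 1), (e t ht : ℂ) = (ε : ℂ) * μ t := by
    intro t ht
    have h1 := hAval β t ht
    rw [if_pos (hbβ t ht), hμval t ht] at h1
    exact h1.symm
  -- the multiplicities
  have hmult : ∀ γ : Cfsg.IrrCharacter C, ∃ kγ : ℕ,
      Cfsg.classInner (fun c : C => χh (c : Γ)) γ
        = (Nat.card S : ℂ) * (kγ : ℂ) + (if γ = β then (ε : ℂ) else 0) := by
    intro γ
    by_cases hγ : γ = β
    · subst hγ
      refine ⟨k, ?_⟩
      rw [if_pos rfl, ← hA1, hmm]
      have h1 : ((mm γ : ℤ) : ℂ) = (((Nat.card S : ℤ) * (k : ℤ) + ε : ℤ) : ℂ) := by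
        rw [hmβ]
      push_cast at h1
      exact h1
    · simp only [if_neg hγ, add_zero]
      have hzero : ∀ t : S, t ≠ 1 → cycA S C χh γ t = 0 := by
        intro t ht
        rw [hAval γ t ht, if_neg]
        rw [hbβ t ht]
        exact fun h => hγ h.symm
      obtain ⟨kγ, hkγ⟩ := classInner_isCharacter_nat (hAchar γ)
        (isCharacter_of_isIrrCharacter (isIrrCharacter_one (G := S)))
      refine ⟨kγ, ?_⟩
      rw [← hA1, ← hkγ, classInner_def, ← mul_assoc, mul_inv_cancel₀ hS0, one_mul]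
      rw [Finset.sum_eq_single (1 : S)]
      · simp
      · intro t _ ht
        rw [hzero t ht, zero_mul]
      · intro h
        exact absurd (Finset.mem_univ _) h
  refine ⟨ε, hε, ⟨μ, isCharacter_of_isIrrCharacter hμirr, hμ1, ?_, ?_⟩, ?_⟩
  · intro x
    by_cases hx : x = 1
    · rw [hx, hμ1, one_mul]
    · have h1 := heμ x hx
      have h2 : (e x hx : ℂ) * (e x hx : ℂ) = 1 := by
        rcases he x hx with h | h <;> simp [h]
      rw [h1] at h2
      have h3 : (ε : ℂ) * μ x * ((ε : ℂ) * μ x) = (ε : ℂ) * (ε : ℂ) * (μ x * μ x) := by ring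
      rw [h3, hεsq, one_mul] at h2
      exact h2
  · intro c x hx
    rw [hbe x hx c, hbβ x hx, heμ x hx]
    ring
  · refine ⟨(Nat.card S : ℂ)⁻¹ • ((fun c : C => χh (c : Γ)) - (ε : ℂ) • (β : C → ℂ)), ?_, ?_⟩
    · apply isCharacter_of_nat_inner
      · apply IsClassFunction.smul
        apply IsClassFunction.sub
        · exact isClassFunction_of_isCharacter (IsCharacter.restrict hχhc C)
        · exact IsClassFunction.smul _ (isClassFunction_of_isIrrCharacter β.2)
      · intro ψ hψ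
        obtain ⟨kγ, hkγ⟩ := hmult ⟨ψ, hψ⟩
        refine ⟨kγ, ?_⟩
        rw [classInner_smul_left, classInner_sub_left, classInner_smul_left,
          classInner_irr β.2 hψ]
        have h1 : Cfsg.classInner (fun c : C => χh (c : Γ)) ψ
            = (Nat.card S : ℂ) * (kγ : ℂ)
              + (if (⟨ψ, hψ⟩ : Cfsg.IrrCharacter C) = β then (ε : ℂ) else 0) := hkγ
        rw [h1]
        by_cases hψβ : (⟨ψ, hψ⟩ : Cfsg.IrrCharacter C) = β
        · rw [if_pos hψβ, if_pos (congrArg Subtype.val hψβ).symm]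
          field_simp
          ring
        · rw [if_neg hψβ, if_neg (fun h => hψβ (Subtype.ext h.symm))]
          field_simp
          ring
    · funext c
      simp only [Pi.smul_apply, Pi.sub_apply, smul_eq_mul]
      field_simp
      ring

end fpf

end Cfsg.Agent.Lib.Helper2
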