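import Mathlib
import Cfsg.Agent.Lib.Helper2.CycFix
import Cfsg.Agent.Lib.Helper8.TIBound
import Cfsg.Agent.Lib.Helper18.PGroupFrat

set_option autoImplicit false

/-! Nilpotent groups with exactly one irreducible character of degree divisible by `p`. -/

namespace Cfsg.Agent.Lib.Helper2

open scoped ComplexConjugate

universe u

/-- a linear character separating an element outside the derived subgroup -/
theorem exists_hom_ne_one {G : Type*} [Group G] [Finite G] {x : G} (hx : x ∉ commutator G) :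
    ∃ lam : G →* ℂˣ, lam x ≠ 1 := by
  have h1 : (Abelianization.of x : Abelianization G) ≠ 1 := by
    intro h
    apply hx
    have h2 : x ∈ (Abelianization.of (G := G)).ker := h
    rwa [Abelianization.ker_of] at h2
  obtain ⟨μ, hμ⟩ :=
    CommGroup.exists_apply_ne_one_of_hasEnoughRootsOfUnity (Abelianization G) ℂ h1
  exact ⟨μ.comp Abelianization.of, hμ⟩

/-- the number of irreducible characters of degree one is the index of the derived subgroup -/
theorem card_linear {G : Type*} [Group G] [Finite G] :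
    Nat.card {χ : Cfsg.IrrCharacter G // (χ : G → ℂ) 1 = 1} = (commutator G).index := by
  have h1 : Nat.card (G →* ℂˣ)
      = Nat.card {χ : Cfsg.IrrCharacter G // (χ : G → ℂ) 1 = 1} := by
    apply Nat.card_congr
    refine Equiv.ofBijective
      (fun lam => ⟨⟨fun g => (lam g : ℂ), isIrrCharacter_of_hom lam⟩, by simp⟩) ⟨?_, ?_⟩
    · intro a b hab
      apply MonoidHom.ext
      intro g
      apply Units.ext
      have h2 := congrArg
        (fun χ : {χ : Cfsg.IrrCharacter G // (χ : G → ℂ) 1 = 1} => (χ.1 : G → ℂ) g) hab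
      exact h2
    · rintro ⟨χ, hχ⟩
      obtain ⟨lam, hlam⟩ := hom_of_irr_deg_one χ.2 hχ
      refine ⟨lam, ?_⟩
      apply Subtype.ext
      apply Subtype.ext
      exact hlam.symm
  rw [← h1]
  have h2 : Nat.card (G →* ℂˣ) = Nat.card (Abelianization G →* ℂˣ) :=
    Nat.card_congr (Abelianization.lift (G := G) (A := ℂˣ))
  rw [h2, CommGroup.card_monoidHom_of_hasEnoughRootsOfUnity (Abelianization G) ℂ,
    Subgroup.index_eq_card]
  rfl

/-- the sum of the squares of the degrees -/
theorem sum_deg_sq {G : Type*} [Group G] [Fintype G] [Fintype (Cfsg.IrrCharacter G)] :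
    ∑ χ : Cfsg.IrrCharacter G, (χ : G → ℂ) 1 * (χ : G → ℂ) 1 = (Nat.card G : ℂ) := by
  have h := column_orthogonality (1 : G) (1 : G)
  rw [colFun_of_isConj (IsConj.refl 1)] at h
  have hc : Subgroup.centralizer ({1} : Set G) = ⊤ := by
    ext x
    simp [Subgroup.mem_centralizer_singleton_iff]
  rw [hc, Subgroup.card_top] at h
  rw [← h]
  apply Finset.sum_congr rfl
  intro χ _
  obtain ⟨d, -, hd⟩ := irr_apply_one χ.2
  rw [hd]
  simp

/-- a `p`-group with exactly one nonlinear irreducible character is an extraspecial 2-group -/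
theorem extraspecial_of_unique_nonlinear {G : Type*} [Group G] [Finite G] (p : ℕ)
    [hp : Fact p.Prime] (hG : IsPGroup p G) (χ₀ : Cfsg.IrrCharacter G)
    (h1 : (χ₀ : G → ℂ) 1 ≠ 1)
    (huniq : ∀ ψ : Cfsg.IrrCharacter G, (ψ : G → ℂ) 1 ≠ 1 → ψ = χ₀) :
    p = 2 ∧ Cfsg.IsExtraspecial 2 G := by
  classical
  haveI := Fintype.ofFinite G
  haveI := Fintype.ofFinite (Cfsg.IrrCharacter G)
  obtain ⟨d, hdpos, hd⟩ := irr_apply_one χ₀.2
  have hd0 : (d : ℂ) ≠ 0 := Nat.cast_ne_zero.mpr hdpos.ne'
  have hmul : ∀ lam : G →* ℂˣ, ∀ g : G,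
      (lam g : ℂ) * (χ₀ : G → ℂ) g = (χ₀ : G → ℂ) g := by
    intro lam g
    have hirr := isIrrCharacter_hom_mul lam χ₀.2
    have h2 : (⟨_, hirr⟩ : Cfsg.IrrCharacter G) = χ₀ := by
      apply huniq
      show (lam 1 : ℂ) * (χ₀ : G → ℂ) 1 ≠ 1
      rw [map_one, Units.val_one, one_mul]
      exact h1
    have h3 := congrArg (fun ψ : Cfsg.IrrCharacter G => (ψ : G → ℂ) g) h2
    exact h3
  have hvan : ∀ x : G, x ∉ commutator G → (χ₀ : G → ℂ) x = 0 := by
    intro x hx
    obtain ⟨lam, hlam⟩ := exists_hom_ne_one hx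
    have h2 := hmul lam x
    have h3 : ((lam x : ℂ) - 1) * (χ₀ : G → ℂ) x = 0 := by linear_combination h2
    rcases mul_eq_zero.mp h3 with h4 | h4
    · exfalso
      apply hlam
      ext
      rw [Units.val_one]
      exact sub_eq_zero.mp h4
    · exact h4
  have hZle : Subgroup.center G ≤ commutator G := by
    intro z hz
    by_contra hzc
    obtain ⟨ω, hω, hωv⟩ := Cfsg.Agent.Lib.Helper8.central_mul_char χ₀.2 hz
    have h2 := hωv 1
    rw [mul_one, hvan z hzc, hd] at h2
    have hω0 : ω ≠ 0 := by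
      intro h
      rw [h] at hω
      simp at hω
    exact (mul_ne_zero hω0 hd0) h2.symm
  haveI : Nontrivial G := by
    by_contra hnt
    rw [not_nontrivial_iff_subsingleton] at hnt
    exact h1 (irr_deg_one_of_comm (fun a b => Subsingleton.elim _ _) χ₀.2)
  haveI := hG.center_nontrivial
  obtain ⟨⟨z, hz⟩, hz1⟩ := exists_ne (1 : Subgroup.center G)
  have hz1' : z ≠ 1 := fun h => hz1 (Subtype.ext h)
  have hzc : z ∈ commutator G := hZle hz
  obtain ⟨L, hL⟩ : ∃ L : ℕ, L = (Finset.univ.filter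
      (fun χ : Cfsg.IrrCharacter G => (χ : G → ℂ) 1 = 1)).card := ⟨_, rfl⟩
  have hLidx : L = (commutator G).index := by
    rw [hL, ← card_linear, Nat.card_eq_fintype_card, Fintype.card_subtype]
  have hlinz : ∀ χ : Cfsg.IrrCharacter G, (χ : G → ℂ) 1 = 1 → (χ : G → ℂ) z = 1 := by
    intro χ hχ
    obtain ⟨lam, hlam⟩ := hom_of_irr_deg_one χ.2 hχ
    have h2 : z ∈ lam.ker := (Abelianization.commutator_subset_ker lam) hzc
    rw [MonoidHom.mem_ker] at h2
    have hv : (χ : G → ℂ) z = (lam z : ℂ) := by rw [hlam]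
    rw [hv, h2, Units.val_one]
  have hsplit : ∀ f : Cfsg.IrrCharacter G → ℂ, ∑ χ, f χ
      = (∑ χ ∈ Finset.univ.filter (fun χ : Cfsg.IrrCharacter G => (χ : G → ℂ) 1 = 1), f χ)
        + f χ₀ := by
    intro f
    rw [← Finset.sum_filter_add_sum_filter_not Finset.univ
      (fun χ : Cfsg.IrrCharacter G => (χ : G → ℂ) 1 = 1) f]
    congr 1
    apply Finset.sum_eq_single χ₀
    · intro χ hχ hne
      exfalso
      rw [Finset.mem_filter] at hχ
      exact hne (huniq χ hχ.2)
    · intro h
      exfalso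
      apply h
      rw [Finset.mem_filter]
      exact ⟨Finset.mem_univ _, h1⟩
  have horth := column_orthogonality z (1 : G)
  rw [colFun_of_not_isConj (by
    intro hc
    rw [isConj_iff] at hc
    obtain ⟨c, hc⟩ := hc
    apply hz1'
    have h2 : z = c⁻¹ * (c * z * c⁻¹) * c := by group
    rw [h2, hc]
    group), hsplit] at horth
  have e1 : ∑ χ ∈ Finset.univ.filter (fun χ : Cfsg.IrrCharacter G => (χ : G → ℂ) 1 = 1),
      (χ : G → ℂ) z * conj ((χ : G → ℂ) 1) = (L : ℂ) := by
    rw [hL, Finset.card_eq_sum_ones, Nat.cast_sum]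
    apply Finset.sum_congr rfl
    intro χ hχ
    rw [Finset.mem_filter] at hχ
    rw [hlinz χ hχ.2, hχ.2]
    simp
  rw [e1, hd] at horth
  obtain ⟨ω, hω, hωv⟩ := Cfsg.Agent.Lib.Helper8.central_mul_char χ₀.2 hz
  have hχz : (χ₀ : G → ℂ) z = ω * d := by
    have h2 := hωv 1
    rw [mul_one, hd] at h2
    exact h2
  rw [hχz] at horth
  have hconj : conj (d : ℂ) = d := by simp
  rw [hconj] at horth
  have hLd : L = d * d := by
    have h2 : ω * ((d : ℂ) * d) = -(L : ℂ) := by linear_combination horth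
    have h3 : Complex.normSq (ω * ((d : ℂ) * d)) = Complex.normSq (-(L : ℂ)) := by rw [h2]
    rw [map_mul, hω, one_mul, Complex.normSq_neg, ← Nat.cast_mul, Complex.normSq_natCast,
      Complex.normSq_natCast] at h3
    have h4 : (d * d) * (d * d) = L * L := by exact_mod_cast h3
    exact (Nat.mul_self_inj.mp h4).symm
  have hsq := sum_deg_sq (G := G)
  rw [hsplit] at hsq
  have e2 : ∑ χ ∈ Finset.univ.filter (fun χ : Cfsg.IrrCharacter G => (χ : G → ℂ) 1 = 1),
      (χ : G → ℂ) 1 * (χ : G → ℂ) 1 = (L : ℂ) := by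
    rw [hL, Finset.card_eq_sum_ones, Nat.cast_sum]
    apply Finset.sum_congr rfl
    intro χ hχ
    rw [Finset.mem_filter] at hχ
    rw [hχ.2]
    simp
  rw [e2, hd] at hsq
  have hLpos : 0 < L := by
    rw [hLd]
    exact Nat.mul_pos hdpos hdpos
  have hcardG : Nat.card G = 2 * L := by
    have h2 : ((L + d * d : ℕ) : ℂ) = (Nat.card G : ℂ) := by
      push_cast
      exact hsq
    have h3 : L + d * d = Nat.card G := by exact_mod_cast h2
    rw [← hLd] at h3
    omega
  have hcomm2 : Nat.card (commutator G) = 2 := by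
    have h2 := Subgroup.card_mul_index (commutator G)
    rw [← hLidx, hcardG] at h2
    exact Nat.eq_of_mul_eq_mul_right hLpos h2
  have hZ2 : Nat.card (Subgroup.center G) = 2 := by
    have h2 : Nat.card (Subgroup.center G) ≤ 2 := by
      rw [← hcomm2]
      exact Subgroup.card_le_of_le hZle
    have h3 : 1 < Nat.card (Subgroup.center G) := Finite.one_lt_card
    omega
  have hZeq : commutator G = Subgroup.center G := by
    symm
    apply Subgroup.eq_of_le_of_card_ge hZle
    rw [hcomm2, hZ2]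
  have hp2 : p = 2 := by
    obtain ⟨n, hn⟩ := IsPGroup.iff_card.mp hG
    have h2 : 2 ∣ p ^ n := by
      rw [← hn, ← hZ2]
      exact Subgroup.card_subgroup_dvd_card _
    have h3 := (Nat.prime_dvd_prime_iff_eq Nat.prime_two hp.out).mp
      (Nat.Prime.dvd_of_dvd_pow Nat.prime_two h2)
    exact h3.symm
  subst hp2
  refine ⟨rfl, ⟨hG, ?_, hZeq⟩, hZ2⟩
  haveI : Group.IsNilpotent G := hG.isNilpotent
  have hcmem : ∀ a b : G, a * b * a⁻¹ * b⁻¹ ∈ Subgroup.center G := by
    intro a b
    rw [← hZeq, commutator_def]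
    have h2 := Subgroup.commutator_mem_commutator (Subgroup.mem_top a) (Subgroup.mem_top b)
    rwa [commutatorElement_def] at h2
  apply le_antisymm
  · apply Cfsg.Agent.Lib.Helper18.frattini_le_of_elementary (p := 2) (Subgroup.center G) hcmem
    intro a
    rw [Subgroup.mem_center_iff]
    intro b
    have hc := hcmem a b
    have hc2 : (a * b * a⁻¹ * b⁻¹) * (a * b * a⁻¹ * b⁻¹) = 1 := by
      have h2 : (⟨_, hc⟩ : Subgroup.center G) ^ Nat.card (Subgroup.center G) = 1 :=
        pow_card_eq_one'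
      rw [hZ2, pow_two] at h2
      exact congrArg Subtype.val h2
    obtain ⟨c, hcdef⟩ : ∃ c : G, c = a * b * a⁻¹ * b⁻¹ := ⟨_, rfl⟩
    rw [← hcdef] at hc hc2
    have hcb : a * b = c * b * a := by
      rw [hcdef]
      group
    have hcomm := Subgroup.mem_center_iff.mp hc
    symm
    rw [pow_two]
    calc a * a * b = a * (a * b) := by group
      _ = a * (c * b * a) := by rw [← hcb]
      _ = (a * c) * b * a := by group
      _ = (c * a) * b * a := by rw [hcomm a]
      _ = c * (a * b) * a := by group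
      _ = c * (c * b * a) * a := by rw [← hcb]
      _ = (c * c) * b * (a * a) := by group
      _ = b * (a * a) := by rw [hc2, one_mul]
  · rw [← hZeq]
    exact Cfsg.Agent.Lib.Helper18.commutator_le_frattini_of_isNilpotent

/-- a group whose centre has order two and equals the derived subgroup has exactly one
nonlinear irreducible character -/
theorem unique_nonlinear_of_extraspecial {G : Type*} [Group G] [Finite G]
    (hcomm : commutator G = Subgroup.center G) (hZ2 : Nat.card (Subgroup.center G) = 2) :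
    ∃ χ₀ : Cfsg.IrrCharacter G, (χ₀ : G → ℂ) 1 ≠ 1 ∧
      ∀ ψ : Cfsg.IrrCharacter G, (ψ : G → ℂ) 1 ≠ 1 → ψ = χ₀ := by
  classical
  haveI := Fintype.ofFinite G
  haveI := Fintype.ofFinite (Cfsg.IrrCharacter G)
  haveI : Nontrivial (Subgroup.center G) := by
    rw [← Finite.one_lt_card_iff_nontrivial, hZ2]
    norm_num
  obtain ⟨⟨z, hz⟩, hz1⟩ := exists_ne (1 : Subgroup.center G)
  have hz1' : z ≠ 1 := fun h => hz1 (Subtype.ext h)
  have hzz : z * z = 1 := by
    have h2 : (⟨z, hz⟩ : Subgroup.center G) ^ Nat.card (Subgroup.center G) = 1 :=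
      pow_card_eq_one'
    rw [hZ2, pow_two] at h2
    exact congrArg Subtype.val h2
  have hZall : ∀ c ∈ Subgroup.center G, c = 1 ∨ c = z := by
    intro c hc
    obtain ⟨y₀, -, hy₀⟩ := (Nat.card_eq_two_iff' (1 : Subgroup.center G)).mp hZ2
    by_cases hc1 : c = 1
    · left
      exact hc1
    · right
      have e1 := hy₀ ⟨c, hc⟩ (fun h => hc1 (congrArg Subtype.val h))
      have e2 := hy₀ ⟨z, hz⟩ hz1
      exact congrArg Subtype.val (e1.trans e2.symm)
  have hzc : z ∈ commutator G := by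
    rw [hcomm]
    exact hz
  have hkey : ∀ ψ : Cfsg.IrrCharacter G, (ψ : G → ℂ) 1 ≠ 1 →
      (ψ : G → ℂ) z = -(ψ : G → ℂ) 1 ∧
        (∀ x : G, x ∉ Subgroup.center G → (ψ : G → ℂ) x = 0) := by
    intro ψ hψ
    obtain ⟨d, hdpos, hd⟩ := irr_apply_one ψ.2
    have hd0 : (d : ℂ) ≠ 0 := Nat.cast_ne_zero.mpr hdpos.ne'
    obtain ⟨ω, hω, hωv⟩ := Cfsg.Agent.Lib.Helper8.central_mul_char ψ.2 hz
    have a1 : (ψ : G → ℂ) z = ω * (d : ℂ) := by
      have h2 := hωv 1
      rwa [mul_one, hd] at h2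
    have a2 : (d : ℂ) = ω * (ω * (d : ℂ)) := by
      have h2 := hωv z
      rwa [hzz, a1, hd] at h2
    have hωsq : (ω - 1) * (ω + 1) = 0 := by
      have h3 : ((ω - 1) * (ω + 1)) * (d : ℂ) = 0 := by linear_combination -a2
      rcases mul_eq_zero.mp h3 with h4 | h4
      · exact h4
      · exact absurd h4 hd0
    have hω1 : ω = -1 := by
      rcases mul_eq_zero.mp hωsq with h4 | h4
      · exfalso
        have hω' : ω = 1 := by linear_combination h4
        apply hψ
        apply irr_deg_one_of_commutator_trivial ψ.2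
        intro c hc
        rw [hcomm] at hc
        rcases hZall c hc with rfl | rfl
        · rfl
        · rw [a1, hω', one_mul, hd]
      · linear_combination h4
    refine ⟨by rw [a1, hω1, hd]; ring, fun x hx => ?_⟩
    rw [Subgroup.mem_center_iff] at hx
    push Not at hx
    obtain ⟨y, hy⟩ := hx
    have hc : y * x * y⁻¹ * x⁻¹ ∈ Subgroup.center G := by
      rw [← hcomm, commutator_def]
      have h2 := Subgroup.commutator_mem_commutator (Subgroup.mem_top y) (Subgroup.mem_top x)
      rwa [commutatorElement_def] at h2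
    have hcz : y * x * y⁻¹ * x⁻¹ = z := by
      rcases hZall _ hc with h | h
      · exfalso
        apply hy
        have h2 : y * x = (y * x * y⁻¹ * x⁻¹) * (x * y) := by group
        rw [h2, h, one_mul]
      · exact h
    have h5 : y * x * y⁻¹ = z * x := by
      rw [← hcz]
      group
    have h6 : (ψ : G → ℂ) (z * x) = (ψ : G → ℂ) x := by
      rw [← h5]
      exact isClassFunction_of_isIrrCharacter ψ.2 x y
    rw [hωv x, hω1] at h6
    have h7 : 2 * (ψ : G → ℂ) x = 0 := by linear_combination -h6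
    rcases mul_eq_zero.mp h7 with h8 | h8
    · norm_num at h8
    · exact h8
  have hdeg : ∀ ψ : Cfsg.IrrCharacter G, (ψ : G → ℂ) 1 ≠ 1 → ∀ d : ℕ,
      (ψ : G → ℂ) 1 = (d : ℂ) → 2 * (d * d) = Nat.card G := by
    intro ψ hψ d hd
    obtain ⟨hz', hvan⟩ := hkey ψ hψ
    have hnorm := classInner_irr_self ψ.2
    rw [classInner_def] at hnorm
    have hG0 : (Nat.card G : ℂ) ≠ 0 := Nat.cast_ne_zero.mpr Nat.card_pos.ne'
    rw [inv_mul_eq_iff_eq_mul₀ hG0, mul_one] at hnorm
    have hsum : ∑ g : G, (ψ : G → ℂ) g * conj ((ψ : G → ℂ) g) = 2 * ((d : ℂ) * d) := by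
      rw [← Finset.sum_subset (Finset.subset_univ ({1, z} : Finset G))]
      · rw [Finset.sum_pair (Ne.symm hz1'), hz', hd]
        simp
        ring
      · intro x _ hx
        rw [Finset.mem_insert, Finset.mem_singleton] at hx
        push Not at hx
        rw [hvan x (fun hxc => by
          rcases hZall x hxc with h | h
          · exact hx.1 h
          · exact hx.2 h), zero_mul]
    rw [hsum] at hnorm
    exact_mod_cast hnorm
  have hex : ∃ χ₀ : Cfsg.IrrCharacter G, (χ₀ : G → ℂ) 1 ≠ 1 := by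
    by_contra hno
    push Not at hno
    have horth := column_orthogonality z (1 : G)
    rw [colFun_of_not_isConj (by
      intro hc
      rw [isConj_iff] at hc
      obtain ⟨c, hc⟩ := hc
      apply hz1'
      have h2 : z = c⁻¹ * (c * z * c⁻¹) * c := by group
      rw [h2, hc]
      group)] at horth
    have hterm : ∀ χ : Cfsg.IrrCharacter G, (χ : G → ℂ) z * conj ((χ : G → ℂ) 1) = 1 := by
      intro χ
      obtain ⟨lam, hlam⟩ := hom_of_irr_deg_one χ.2 (hno χ)
      have h3 : z ∈ lam.ker := (Abelianization.commutator_subset_ker lam) hzc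
      rw [MonoidHom.mem_ker] at h3
      have hv : (χ : G → ℂ) z = (lam z : ℂ) := by rw [hlam]
      rw [hno χ, hv, h3]
      simp
    simp only [hterm] at horth
    rw [Finset.sum_const, Finset.card_univ, nsmul_eq_mul, mul_one] at horth
    have hpos : 0 < Fintype.card (Cfsg.IrrCharacter G) :=
      Fintype.card_pos_iff.mpr ⟨⟨fun _ => 1, isIrrCharacter_one⟩⟩
    exact (Nat.cast_ne_zero.mpr hpos.ne') horth
  obtain ⟨χ₀, hχ₀⟩ := hex
  refine ⟨χ₀, hχ₀, fun ψ hψ => ?_⟩
  obtain ⟨d, -, hd⟩ := irr_apply_one ψ.2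
  obtain ⟨d', -, hd'⟩ := irr_apply_one χ₀.2
  have e1 := hdeg ψ hψ d hd
  have e2 := hdeg χ₀ hχ₀ d' hd'
  have hdd : d = d' := by
    have h2 : d * d = d' * d' :=
      Nat.eq_of_mul_eq_mul_left (by norm_num : 0 < 2) (e1.trans e2.symm)
    exact Nat.mul_self_inj.mp h2
  apply Subtype.ext
  funext x
  by_cases hx : x ∈ Subgroup.center G
  · rcases hZall x hx with rfl | rfl
    · rw [hd, hd', hdd]
    · rw [(hkey ψ hψ).1, (hkey χ₀ hχ₀).1, hd, hd', hdd]
  · rw [(hkey ψ hψ).2 x hx, (hkey χ₀ hχ₀).2 x hx]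

/-- a nilpotent group with exactly one irreducible character of degree divisible by `p` is a
`p`-group -/
theorem isPGroup_of_unique_pdiv {G : Type u} [Group G] [Finite G] [Group.IsNilpotent G] (p : ℕ)
    [hp : Fact p.Prime] (χ₀ : Cfsg.IrrCharacter G) (d₀ : ℕ) (hd₀ : (χ₀ : G → ℂ) 1 = d₀)
    (hpd : p ∣ d₀)
    (huniq : ∀ (ψ : Cfsg.IrrCharacter G) (d : ℕ), (ψ : G → ℂ) 1 = (d : ℂ) → p ∣ d → ψ = χ₀) :
    IsPGroup p G := by
  classical
  haveI := Fintype.ofFinite G
  obtain ⟨P⟩ : Nonempty (Sylow p G) := inferInstance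
  haveI hPn : (P : Subgroup G).Normal :=
    Sylow.normal_of_normalizerCondition Group.normalizerCondition_of_isNilpotent P
  haveI : Fintype (P : Subgroup G) := Fintype.ofFinite _
  have hM : (P : Subgroup G) ⊔ Subgroup.centralizer ((P : Subgroup G) : Set G) = ⊤ := by
    rw [← Subgroup.index_eq_one]
    by_contra hne
    obtain ⟨q, hq, hqd⟩ := Nat.exists_prime_and_dvd hne
    haveI : Fact q.Prime := ⟨hq⟩
    by_cases hqp : q = p
    · rw [hqp] at hqd
      exact P.not_dvd_index (dvd_trans hqd (Subgroup.index_dvd_of_le le_sup_left))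
    · obtain ⟨Q⟩ : Nonempty (Sylow q G) := inferInstance
      haveI hQn : (Q : Subgroup G).Normal :=
        Sylow.normal_of_normalizerCondition Group.normalizerCondition_of_isNilpotent Q
      have hQle : (Q : Subgroup G)
          ≤ (P : Subgroup G) ⊔ Subgroup.centralizer ((P : Subgroup G) : Set G) := by
        refine le_trans ?_ le_sup_right
        intro x hx
        rw [Subgroup.mem_centralizer_iff]
        intro y hy
        have hdisj : (Q : Subgroup G) ⊓ (P : Subgroup G) = ⊥ :=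
          (IsPGroup.disjoint_of_ne q p hqp _ _ Q.2 P.2).eq_bot
        have hc : x * y * x⁻¹ * y⁻¹ ∈ (Q : Subgroup G) ⊓ (P : Subgroup G) := by
          constructor
          · have h2 := hQn.conj_mem x⁻¹ ((Q : Subgroup G).inv_mem hx) y
            have e : x * y * x⁻¹ * y⁻¹ = x * (y * x⁻¹ * y⁻¹) := by group
            rw [e]
            exact (Q : Subgroup G).mul_mem hx h2
          · have h2 := hPn.conj_mem y hy x
            exact (P : Subgroup G).mul_mem h2 ((P : Subgroup G).inv_mem hy)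
        rw [hdisj, Subgroup.mem_bot] at hc
        have h2 : x * y = (x * y * x⁻¹ * y⁻¹) * (y * x) := by group
        rw [hc, one_mul] at h2
        exact h2.symm
      exact Q.not_dvd_index (dvd_trans hqd (Subgroup.index_dvd_of_le hQle))
  have hinvall : ∀ θ : ↥(P : Subgroup G) → ℂ, Cfsg.IsClassFunction (P : Subgroup G) θ →
      GInv (P : Subgroup G) θ := by
    intro θ hθ g n
    have hg : g ∈ (P : Subgroup G) ⊔ Subgroup.centralizer ((P : Subgroup G) : Set G) := by
      rw [hM]
      trivial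
    obtain ⟨u, hu, c, hc, rfl⟩ := Subgroup.mem_sup_of_normal_left.mp hg
    have h1 : (⟨u * c * n * (u * c)⁻¹, hPn.conj_mem (n : G) n.2 (u * c)⟩ : (P : Subgroup G))
        = ⟨u, hu⟩ * n * ⟨u, hu⟩⁻¹ := by
      apply Subtype.ext
      simp only [Subgroup.coe_mul, Subgroup.coe_inv]
      have hcn : c * (n : G) = n * c := ((Subgroup.mem_centralizer_iff.mp hc) n n.2).symm
      calc u * c * n * (u * c)⁻¹ = u * (c * n) * c⁻¹ * u⁻¹ := by group
        _ = u * (n * c) * c⁻¹ * u⁻¹ := by rw [hcn]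
        _ = u * n * u⁻¹ := by group
    rw [h1, hθ]
  have hres : Cfsg.IsCharacter (P : Subgroup G)
      (fun n : (P : Subgroup G) => (χ₀ : G → ℂ) n) :=
    IsCharacter.restrict (isCharacter_of_isIrrCharacter χ₀.2) _
  have hne : (fun n : (P : Subgroup G) => (χ₀ : G → ℂ) n) ≠ 0 := by
    intro h
    have h2 := congrFun h 1
    simp only [OneMemClass.coe_one, Pi.zero_apply] at h2
    obtain ⟨d, hdpos, hd⟩ := irr_apply_one χ₀.2
    rw [hd] at h2
    exact (Nat.cast_ne_zero.mpr hdpos.ne') h2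
  obtain ⟨θ, hθ, hcon⟩ := exists_irr_constituent hres hne
  obtain ⟨b, hb, hbdvd⟩ := degree_ratio (P : Subgroup G) χ₀.2 hθ hcon
  obtain ⟨t, htpos, ht⟩ := irr_apply_one hθ
  have hpt : p ∣ t := by
    rw [hd₀, ht] at hb
    have h2 : d₀ = b * t := by exact_mod_cast hb
    rw [h2] at hpd
    rcases (Nat.Prime.dvd_mul hp.out).mp hpd with h3 | h3
    · exact absurd (dvd_trans h3 hbdvd) P.not_dvd_index
    · exact h3
  have hcop : (Nat.card (P : Subgroup G)).Coprime (P : Subgroup G).index :=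
    P.card_coprime_index
  obtain ⟨θh, hθh, hext⟩ := exists_ext_of_coprime (P : Subgroup G) hcop θ hθ
    (hinvall θ (isClassFunction_of_isIrrCharacter hθ))
  have hθh1 : θh 1 = (t : ℂ) := by
    have h2 := hext 1
    rw [← ht, ← h2]
    rfl
  have hθh0 : (⟨θh, hθh⟩ : Cfsg.IrrCharacter G) = χ₀ := huniq ⟨θh, hθh⟩ t hθh1 hpt
  by_contra hnp
  have hPtop : (P : Subgroup G) ≠ ⊤ := by
    intro h
    apply hnp
    have h2 : IsPGroup p (⊤ : Subgroup G) := h ▸ P.2
    exact IsPGroup.of_equiv h2 Subgroup.topEquiv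
  haveI : Nontrivial (G ⧸ (P : Subgroup G)) := by
    rw [← not_subsingleton_iff_nontrivial]
    intro hs
    exact hPtop (QuotientGroup.subgroup_eq_top_of_subsingleton _ hs)
  have hlt := Group.IsSolvable.commutator_lt_top_of_nontrivial (G ⧸ (P : Subgroup G))
  obtain ⟨y, hy⟩ : ∃ y : G ⧸ (P : Subgroup G), y ∉ commutator (G ⧸ (P : Subgroup G)) := by
    by_contra hno
    push Not at hno
    exact hlt.ne (eq_top_iff.mpr (fun y _ => hno y))
  obtain ⟨μ, hμ⟩ := exists_hom_ne_one hy
  obtain ⟨g₀, rfl⟩ := QuotientGroup.mk_surjective y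
  obtain ⟨lam, hlamdef⟩ : ∃ lam : G →* ℂˣ, lam = μ.comp (QuotientGroup.mk' (P : Subgroup G)) :=
    ⟨_, rfl⟩
  have hlamP : ∀ n : (P : Subgroup G), lam (n : G) = 1 := by
    intro n
    rw [hlamdef]
    show μ (((n : G) : G ⧸ (P : Subgroup G))) = 1
    rw [(QuotientGroup.eq_one_iff (n : G)).mpr n.2]
    exact map_one μ
  have hlam0 : lam g₀ ≠ 1 := by
    rw [hlamdef]
    exact hμ
  have hirr := isIrrCharacter_hom_mul lam hθh
  have h2 : (⟨_, hirr⟩ : Cfsg.IrrCharacter G) = χ₀ := by
    apply huniq _ t _ hpt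
    show (lam 1 : ℂ) * θh 1 = t
    rw [map_one, Units.val_one, one_mul, hθh1]
  have h3 : ∀ g : G, (lam g : ℂ) * θh g = θh g := by
    intro g
    have h4 := congrArg (fun ψ : Cfsg.IrrCharacter G => (ψ : G → ℂ) g) (h2.trans hθh0.symm)
    exact h4
  have hzero : ∀ n : (P : Subgroup G), θh ((n : G) * g₀) = 0 := by
    intro n
    have h4 := h3 ((n : G) * g₀)
    rw [map_mul, hlamP n, one_mul] at h4
    have h5 : ((lam g₀ : ℂ) - 1) * θh ((n : G) * g₀) = 0 := by linear_combination h4
    rcases mul_eq_zero.mp h5 with h6 | h6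
    · exfalso
      apply hlam0
      ext
      rw [Units.val_one]
      exact sub_eq_zero.mp h6
    · exact h6
  have hresirr : Cfsg.IsIrrCharacter (P : Subgroup G) (fun n : (P : Subgroup G) => θh n) := by
    have h4 : (fun n : (P : Subgroup G) => θh n) = θ := funext hext
    rw [h4]
    exact hθ
  have hη := (Cfsg.Agent.S0868.result (P : Subgroup G) θh hθh hresirr θh hθh _ rfl).2.2 rfl
  have h5 : (Nat.card (P : Subgroup G) : ℂ)⁻¹
      * ∑ n : (P : Subgroup G), θh ((n : G) * g₀) * conj (θh ((n : G) * g₀)) = 1 :=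
    congrFun hη g₀
  simp only [hzero, zero_mul, Finset.sum_const_zero, mul_zero] at h5
  exact zero_ne_one h5

end Cfsg.Agent.Lib.Helper2
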