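import Mathlib
import Cfsg.Prelude
import Cfsg.Agent.Lib.Helper2.ItoConv
import Cfsg.Agent.Lib.Helper2.OneNonlin
import Cfsg.Agent.Lib.Helper2.HallDeg
import Cfsg.Agent.Lib.Helper2.CharMono
import Cfsg.Agent.Lib.Helper2.AbSylow
import Cfsg.Agent.S1489

/-!
# Two character degrees: basic tools
-/

set_option autoImplicit false

namespace Cfsg.Agent.Lib.Helper2

open scoped ComplexConjugate

universe u

/-- linear characters separate the points of a finite commutative group -/
theorem exists_hom_ne_one_of_comm {B : Type*} [Group B] [Finite B]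
    (hab : ∀ a b : B, a * b = b * a) {b : B} (hb : b ≠ 1) : ∃ lam : B →* ℂˣ, lam b ≠ 1 := by
  apply exists_hom_ne_one
  intro hmem
  apply hb
  have h1 : commutator B ≤ ⊥ := by
    rw [commutator_eq_closure, Subgroup.closure_le]
    rintro x ⟨a, c, rfl⟩
    simp only [SetLike.mem_coe, Subgroup.mem_bot, commutatorElement_def]
    rw [hab a c]; group
  exact (Subgroup.mem_bot.mp (h1 hmem))

/-- the degree of an irreducible character is at most the index of any abelian subgroup -/
theorem irr_deg_le_index_of_comm {G : Type*} [Group G] [Fintype G] (S : Subgroup G)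
    (hS : ∀ a ∈ S, ∀ b ∈ S, a * b = b * a) {β : G → ℂ} (hβ : Cfsg.IsIrrCharacter G β) :
    ∃ d : ℕ, β 1 = (d : ℂ) ∧ d ≤ S.index := by
  classical
  have := Fintype.ofFinite S
  have hres : Cfsg.IsCharacter S (fun a : S => β a) :=
    IsCharacter.restrict (isCharacter_of_isIrrCharacter hβ) S
  obtain ⟨d, hd0, hd⟩ := irr_apply_one hβ
  have hne : (fun a : S => β a) ≠ 0 := by
    intro h
    have h1 := congrFun h 1
    simp only [Pi.zero_apply, Subgroup.coe_one] at h1
    rw [hd] at h1
    have : d = 0 := by exact_mod_cast h1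
    omega
  obtain ⟨θ, hθ, hθne⟩ := exists_irr_constituent hres hne
  have hθ1 : θ 1 = 1 := irr_deg_one_of_comm (fun a b => Subtype.ext (hS a a.2 b b.2)) hθ
  have hfrob := frobenius_reciprocity S θ β (isClassFunction_of_isIrrCharacter hβ)
  have hne2 : Cfsg.classInner (Cfsg.indFun S θ) β ≠ 0 := by
    rw [hfrob, ← classInner_conj_symm]
    simpa using hθne
  obtain ⟨N, d', hN, hd', hle⟩ := irr_deg_le_of_inner_ne_zero
    (indFun_isCharacter S (isCharacter_of_isIrrCharacter hθ)) hβ hne2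
  rw [indFun_apply_one, hθ1, mul_one] at hN
  have h1 : N = S.index := by exact_mod_cast hN.symm
  have h2 : d' = d := by rw [hd] at hd'; exact_mod_cast hd'.symm
  exact ⟨d, hd, by omega⟩

/-- induction from the stabilizer of an irreducible character of a normal subgroup -/
theorem ind_irr_of_ext {G : Type*} [Group G] [Fintype G] (H T : Subgroup G) [hN : H.Normal]
    (θ : H → ℂ) (hθ : Cfsg.IsIrrCharacter H θ)
    (hT : ∀ g : G, g ∈ T ↔ ∀ h : H, θ ⟨g * h * g⁻¹, hN.conj_mem h h.2 g⟩ = θ h) (hHT : H ≤ T)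
    (ψ : T → ℂ) (hψ : Cfsg.IsIrrCharacter T ψ) (d : ℕ) (hd : d ≠ 0)
    (hres : ∀ h : H, ψ ⟨h, hHT h.2⟩ = (d : ℂ) * θ h) :
    Cfsg.IsIrrCharacter G (Cfsg.indFun T ψ) := by
  classical
  have := Fintype.ofFinite T
  have := Fintype.ofFinite H
  have := Fintype.ofFinite (H.subgroupOf T)
  have hθ' : Cfsg.IsIrrCharacter (H.subgroupOf T)
      (fun x => θ ⟨(x : T), Subgroup.mem_subgroupOf.mp x.2⟩) := by
    have h1 := isIrrCharacter_comp_of_surjective hθ
      (Subgroup.subgroupOfEquivOfLe hHT).toMonoidHom (Subgroup.subgroupOfEquivOfLe hHT).surjective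
    have h2 : θ ∘ ⇑(Subgroup.subgroupOfEquivOfLe hHT).toMonoidHom
        = (fun x : H.subgroupOf T => θ ⟨(x : T), Subgroup.mem_subgroupOf.mp x.2⟩) := by
      funext x
      rfl
    rwa [h2] at h1
  have hc : Cfsg.classInner (Cfsg.indFun (H.subgroupOf T)
      (fun x => θ ⟨(x : T), Subgroup.mem_subgroupOf.mp x.2⟩)) ψ ≠ 0 := by
    rw [frobenius_reciprocity _ _ _ (isClassFunction_of_isIrrCharacter hψ)]
    have e1 : (fun h : H.subgroupOf T => ψ h)
        = (d : ℂ) • (fun x : H.subgroupOf T => θ ⟨(x : T), Subgroup.mem_subgroupOf.mp x.2⟩) := by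
      funext x
      have := hres ⟨(x : T), Subgroup.mem_subgroupOf.mp x.2⟩
      simp only [Pi.smul_apply, smul_eq_mul]
      rw [← this]
    rw [e1, ← classInner_conj_symm, classInner_smul_left, classInner_irr_self hθ']
    simp [hd]
  exact (Cfsg.Agent.S1489.result H T θ hθ hT hHT ψ ψ hψ hψ hc hc).1

/-- a normal subgroup whose order is coprime to the nonlinear degree is abelian -/
theorem abelian_of_coprime_degrees {G : Type u} [Group G] [Fintype G] (N : Subgroup G)
    [hN : N.Normal] (m : ℕ)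
    (hcd : ∀ χ : G → ℂ, Cfsg.IsIrrCharacter G χ → χ 1 = 1 ∨ χ 1 = (m : ℂ))
    (hcop : Nat.Coprime m (Nat.card N)) : ∀ a ∈ N, ∀ b ∈ N, a * b = b * a := by
  classical
  have := Fintype.ofFinite N
  have key : ∀ ψ : N → ℂ, Cfsg.IsIrrCharacter N ψ → ψ 1 = 1 := by
    intro ψ hψ
    obtain ⟨χ, hχ, hcon⟩ := exists_irr_over N hψ
    obtain ⟨b, hb, -⟩ := degree_ratio N hχ hψ hcon
    obtain ⟨d, hd0, hd⟩ := irr_apply_one hψ
    have hdN : d ∣ Nat.card N := irr_deg_dvd_card' hψ d hd
    have hdm : d ∣ m := by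
      rcases hcd χ hχ with h1 | h1
      · rw [h1, hd] at hb
        have h2 : 1 = b * d := by exact_mod_cast hb
        have h3 : d = 1 := Nat.eq_one_of_mul_eq_one_left h2.symm
        rw [h3]; exact one_dvd _
      · rw [h1, hd] at hb
        have h2 : m = b * d := by exact_mod_cast hb
        exact ⟨b, by rw [h2]; ring⟩
    have h4 : d ∣ Nat.gcd m (Nat.card N) := Nat.dvd_gcd hdm hdN
    rw [hcop.gcd_eq_one] at h4
    rw [hd, Nat.dvd_one.mp h4]; simp
  intro a ha b hb
  exact congrArg Subtype.val (comm_of_all_linear key ⟨a, ha⟩ ⟨b, hb⟩)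

end Cfsg.Agent.Lib.Helper2
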