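import Mathlib
import Cfsg.Prelude
import Cfsg.Agent.Lib.Helper2.TwoDegA
import Cfsg.Agent.Lib.Helper2.PLocal4
import Cfsg.Agent.Lib.Helper18.PGroupFrat
import Cfsg.Agent.S0081

/-!
# Thompson's theorem: nonlinear degrees divisible by `p` force a normal `p`-complement
-/

set_option autoImplicit false

namespace Cfsg.Agent.Lib.Helper2

open scoped ComplexConjugate

/-- every linear character of a Sylow `p`-subgroup extends to the group -/
theorem thompson_ext {G : Type*} [Group G] [Finite G] (p : ℕ) [Fact p.Prime]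
    (h : ∀ χ : G → ℂ, Cfsg.IsIrrCharacter G χ → ∀ d : ℕ, χ 1 = (d : ℂ) → d = 1 ∨ p ∣ d)
    (P : Sylow p G) (lam : (P : Subgroup G) →* ℂˣ) :
    ∃ μ : G →* ℂˣ, ∀ x : (P : Subgroup G), μ x = lam x := by
  classical
  have := Fintype.ofFinite G
  have := Fintype.ofFinite (P : Subgroup G)
  have := Fintype.ofFinite (Cfsg.IrrCharacter G)
  obtain ⟨θ, hθdef⟩ : ∃ θ : ↥(P : Subgroup G) → ℂ, θ = fun x => (lam x : ℂ) := ⟨_, rfl⟩
  have hθ : Cfsg.IsIrrCharacter (P : Subgroup G) θ := hθdef ▸ isIrrCharacter_of_hom lam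
  have hΘ : Cfsg.IsCharacter G (Cfsg.indFun (P : Subgroup G) θ) :=
    indFun_isCharacter _ (isCharacter_of_isIrrCharacter hθ)
  have hΘ1 : Cfsg.indFun (P : Subgroup G) θ 1 = ((P : Subgroup G).index : ℂ) := by
    rw [indFun_apply_one]; simp [hθdef]
  have hex : ∃ ψ : Cfsg.IrrCharacter G,
      Cfsg.classInner (Cfsg.indFun (P : Subgroup G) θ) ψ ≠ 0 ∧ (ψ : G → ℂ) 1 = 1 := by
    by_contra hno
    push Not at hno
    have hnat : ∀ ψ : Cfsg.IrrCharacter G, ∃ n : ℕ,
        Cfsg.classInner (Cfsg.indFun (P : Subgroup G) θ) ψ = (n : ℂ) :=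
      fun ψ => classInner_isCharacter_nat hΘ (isCharacter_of_isIrrCharacter ψ.2)
    choose n hn using hnat
    have hdeg : ∀ ψ : Cfsg.IrrCharacter G, ∃ d : ℕ, (ψ : G → ℂ) 1 = (d : ℂ) := fun ψ => by
      obtain ⟨d, -, hd⟩ := irr_apply_one ψ.2; exact ⟨d, hd⟩
    choose d hd using hdeg
    have hsum := char_apply_one_eq_sum hΘ
    rw [hΘ1] at hsum
    have hsum2 : (P : Subgroup G).index = ∑ ψ : Cfsg.IrrCharacter G, n ψ * d ψ := by
      have h1 : ((P : Subgroup G).index : ℂ)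
          = ((∑ ψ : Cfsg.IrrCharacter G, n ψ * d ψ : ℕ) : ℂ) := by
        rw [hsum]; push_cast
        exact Finset.sum_congr rfl (fun ψ _ => by rw [hn ψ, hd ψ])
      exact_mod_cast h1
    have hdvd : p ∣ (P : Subgroup G).index := by
      rw [hsum2]
      apply Finset.dvd_sum
      intro ψ _
      by_cases h0 : n ψ = 0
      · rw [h0, zero_mul]; exact dvd_zero _
      · have h1 : Cfsg.classInner (Cfsg.indFun (P : Subgroup G) θ) ψ ≠ 0 := by
          rw [hn ψ]; exact_mod_cast h0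
        have h2 := hno ψ h1
        rcases h ψ.1 ψ.2 (d ψ) (hd ψ) with h3 | h3
        · exfalso; apply h2; rw [hd ψ, h3]; simp
        · exact Dvd.dvd.mul_left h3 _
    exact P.not_dvd_index hdvd
  obtain ⟨ψ, hψne, hψ1⟩ := hex
  obtain ⟨μ, hμ⟩ := hom_of_irr_deg_one ψ.2 hψ1
  refine ⟨μ, fun x => ?_⟩
  rw [frobenius_reciprocity _ _ _ (isClassFunction_of_isIrrCharacter ψ.2)] at hψne
  have hres : Cfsg.IsIrrCharacter (P : Subgroup G)
      (fun x : (P : Subgroup G) => (ψ : G → ℂ) x) := by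
    rw [hμ]
    exact isIrrCharacter_of_hom (μ.comp (P : Subgroup G).subtype)
  have heq : θ = fun x : (P : Subgroup G) => (ψ : G → ℂ) x := by
    by_contra hne
    exact hψne (classInner_irr_ne hθ hres hne)
  have h5 := congrFun heq x
  rw [hμ, hθdef] at h5
  exact Units.ext h5.symm

/-- the extension can be taken of `p`-power order -/
theorem thompson_ext_pow {G : Type*} [Group G] [Finite G] (p : ℕ) [Fact p.Prime]
    (h : ∀ χ : G → ℂ, Cfsg.IsIrrCharacter G χ → ∀ d : ℕ, χ 1 = (d : ℂ) → d = 1 ∨ p ∣ d)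
    (P : Sylow p G) (lam : (P : Subgroup G) →* ℂˣ) :
    ∃ μ : G →* ℂˣ, (∀ x : (P : Subgroup G), μ x = lam x) ∧
      μ ^ (Nat.card (P : Subgroup G)) = 1 := by
  obtain ⟨μ₀, hμ₀⟩ := thompson_ext p h P lam
  obtain ⟨q, hq⟩ : ∃ q, q = Nat.card (P : Subgroup G) := ⟨_, rfl⟩
  obtain ⟨r, hr⟩ : ∃ r, r = (P : Subgroup G).index := ⟨_, rfl⟩
  have hqr : q * r = Nat.card G := by rw [hq, hr]; exact Subgroup.card_mul_index _
  have hcop : Nat.Coprime r q := by
    obtain ⟨j, hj⟩ := IsPGroup.iff_card.mp P.isPGroup'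
    rw [hq, hj, hr]
    apply Nat.Coprime.pow_right
    exact (Nat.Coprime.symm ((Nat.Prime.coprime_iff_not_dvd Fact.out).mpr P.not_dvd_index))
  have hlamq : ∀ x : (P : Subgroup G), lam x ^ q = 1 := by
    intro x
    rw [← map_pow, hq, pow_card_eq_one', map_one]
  rw [← hq]
  by_cases hq1 : q = 1
  · refine ⟨1, fun x => ?_, MonoidHom.ext (fun g => by
      rw [MonoidHom.pow_apply, MonoidHom.one_apply, one_pow])⟩
    have h1 := hlamq x
    rw [hq1, pow_one] at h1
    rw [h1]; rfl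
  · have hq2 : 1 < q := by
      have : 0 < q := hq ▸ Nat.card_pos
      omega
    obtain ⟨b, -, hb⟩ := Nat.exists_mul_mod_eq_one_of_coprime hcop hq2
    refine ⟨μ₀ ^ (r * b), fun x => ?_, ?_⟩
    · rw [MonoidHom.pow_apply, hμ₀ x]
      have h1 : r * b = q * (r * b / q) + 1 := by
        have := Nat.div_add_mod (r * b) q
        omega
      rw [h1, pow_succ, pow_mul, hlamq x, one_pow, one_mul]
    · refine MonoidHom.ext (fun g => ?_)
      rw [MonoidHom.pow_apply, MonoidHom.pow_apply, ← pow_mul, MonoidHom.one_apply]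
      have h1 : r * b * q = Nat.card G * b := by rw [← hqr]; ring
      rw [h1, pow_mul, ← map_pow, pow_card_eq_one', map_one, one_pow]

/-- **Thompson**: if `p` divides the degree of every nonlinear irreducible character, the group has
a normal `p`-complement -/
theorem thompson_pcomp {G : Type*} [Group G] [Finite G] (p : ℕ) [Fact p.Prime]
    (h : ∀ χ : G → ℂ, Cfsg.IsIrrCharacter G χ → ∀ d : ℕ, χ 1 = (d : ℂ) → d = 1 ∨ p ∣ d) :
    ∃ A : Subgroup G, A.Normal ∧ Nat.Coprime (Nat.card A) p ∧ ∃ k : ℕ, A.index = p ^ k := by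
  classical
  have hp : p.Prime := Fact.out
  obtain ⟨P⟩ : Nonempty (Sylow p G) := inferInstance
  obtain ⟨q, hq⟩ : ∃ q, q = Nat.card (P : Subgroup G) := ⟨_, rfl⟩
  obtain ⟨j, hj⟩ : ∃ j, q = p ^ j := by
    obtain ⟨j, hj⟩ := IsPGroup.iff_card.mp P.isPGroup'
    exact ⟨j, hq.trans hj⟩
  obtain ⟨N, hNdef⟩ : ∃ N : Subgroup G, N = ⨅ μ : {μ : G →* ℂˣ // μ ^ q = 1}, μ.1.ker :=
    ⟨_, rfl⟩
  have hNmem : ∀ g : G, g ∈ N ↔ ∀ μ : G →* ℂˣ, μ ^ q = 1 → μ g = 1 := by
    intro g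
    rw [hNdef, Subgroup.mem_iInf]
    constructor
    · intro hg μ hμ
      exact MonoidHom.mem_ker.mp (hg ⟨μ, hμ⟩)
    · intro hg μ
      exact MonoidHom.mem_ker.mpr (hg μ.1 μ.2)
  haveI hNn : N.Normal := by
    rw [hNdef]
    exact Subgroup.normal_iInf_normal (fun μ => MonoidHom.normal_ker _)
  have hpowN : ∀ g : G, g ^ q ∈ N := by
    intro g
    rw [hNmem]
    intro μ hμ
    rw [map_pow, ← MonoidHom.pow_apply, hμ, MonoidHom.one_apply]
  have hfr : N ⊓ (P : Subgroup G) ≤ (frattini P).map (P : Subgroup G).subtype := by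
    intro x hx
    obtain ⟨hxN, hxP⟩ := Subgroup.mem_inf.mp hx
    have hcomm : (⟨x, hxP⟩ : (P : Subgroup G)) ∈ commutator (P : Subgroup G) := by
      by_contra hnot
      obtain ⟨lam, hlam⟩ := exists_hom_ne_one hnot
      obtain ⟨μ, hμ, hμq⟩ := thompson_ext_pow p h P lam
      apply hlam
      rw [← hμ ⟨x, hxP⟩]
      exact (hNmem x).mp hxN μ (hq ▸ hμq)
    haveI : Group.IsNilpotent (P : Subgroup G) := P.isPGroup'.isNilpotent
    exact ⟨⟨x, hxP⟩, Cfsg.Agent.Lib.Helper18.commutator_le_frattini_of_isNilpotent hcomm, rfl⟩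
  obtain ⟨Q, M, hMn, hMQ⟩ := Cfsg.Agent.S0081.result P N hfr
  have hMidx : M.index = Nat.card (Q : Subgroup N) := hMQ.symm.index_eq_card
  have hQidx : (Q : Subgroup N).index = Nat.card M := hMQ.index_eq_card
  have hcopM : Nat.Coprime (Nat.card M) p := by
    rw [← hQidx]
    exact (Nat.Coprime.symm ((Nat.Prime.coprime_iff_not_dvd hp).mpr Q.not_dvd_index))
  obtain ⟨a, ha⟩ : ∃ a, Nat.card (Q : Subgroup N) = p ^ a := IsPGroup.iff_card.mp Q.isPGroup'
  have hMchar : ∀ x : N, x ∈ M ↔ x ^ (Nat.card M) = 1 := by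
    intro x
    constructor
    · intro hx
      have h1 := pow_card_eq_one' (x := (⟨x, hx⟩ : M))
      exact congrArg Subtype.val h1
    · intro hx
      haveI := hMn
      apply mem_of_pow_coprime_index M x (Nat.card M) hx
      rw [hMidx, ha]
      exact Nat.Coprime.pow_right _ hcopM
  refine ⟨M.map N.subtype, ?_, ?_, ?_⟩
  · constructor
    intro y hy g
    obtain ⟨x, hx, rfl⟩ := hy
    have hmem : g * (x : G) * g⁻¹ ∈ N := hNn.conj_mem _ x.2 g
    refine ⟨⟨g * (x : G) * g⁻¹, hmem⟩, ?_, rfl⟩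
    rw [SetLike.mem_coe, hMchar]
    apply Subtype.ext
    have h1 := congrArg Subtype.val ((hMchar x).mp hx)
    simp only [Subgroup.coe_pow, Subgroup.coe_one] at h1 ⊢
    rw [conj_pow, h1]; simp
  · have h1 : Nat.card (M.map N.subtype) = Nat.card M :=
      (Nat.card_congr (M.equivMapOfInjective N.subtype N.subtype_injective).toEquiv).symm
    rw [h1]; exact hcopM
  · rw [Subgroup.index_map_subtype, hMidx, ha]
    have hNidx : ∃ b, N.index = p ^ b := by
      rw [Subgroup.index_eq_card]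
      apply IsPGroup.iff_card.mp
      intro gbar
      obtain ⟨g, rfl⟩ := QuotientGroup.mk_surjective gbar
      refine ⟨j, ?_⟩
      rw [← hj, ← QuotientGroup.mk_pow, QuotientGroup.eq_one_iff]
      exact hpowN g
    obtain ⟨b, hb⟩ := hNidx
    exact ⟨a + b, by rw [hb, pow_add]⟩

end Cfsg.Agent.Lib.Helper2
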