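import Mathlib
import Cfsg.Prelude
import Cfsg.Agent.Lib.Helper2.TwoDegA
import Cfsg.Agent.Lib.Helper2.GoingDown
import Cfsg.Agent.Lib.Helper2.CharCover2
import Cfsg.Agent.S0856

/-!
# Two character degrees: a Frobenius-type quotient forces an abelian normal subgroup
-/

set_option autoImplicit false

namespace Cfsg.Agent.Lib.Helper2

open scoped ComplexConjugate

universe u

set_option maxHeartbeats 1600000 in
/-- Let `G/K` have an abelian normal subgroup `V` on which every element outside `V` acts without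
fixed points, `|G/K : V| = m` coprime to `|V|`, and all irreducible character degrees of `G` in
`{1, m}`.  Then the preimage of `V` is abelian. -/
theorem frob_quotient_abelian {G : Type u} [Group G] [Fintype G] (K : Subgroup G)
    [hK : K.Normal] (V : Subgroup (G ⧸ K)) [hV : V.Normal]
    (hVne : V ≠ ⊥)
    (hfpf : ∀ x : G ⧸ K, x ∉ V → ∀ v ∈ V, x * v = v * x → v = 1)
    (hVab : ∀ a ∈ V, ∀ b ∈ V, a * b = b * a)
    (m : ℕ) (hidx : V.index = m) (hcop : Nat.Coprime m (Nat.card V))
    (hcd : ∀ χ : G → ℂ, Cfsg.IsIrrCharacter G χ → χ 1 = 1 ∨ χ 1 = (m : ℂ)) :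
    ∀ a ∈ V.comap (QuotientGroup.mk' K), ∀ b ∈ V.comap (QuotientGroup.mk' K), a * b = b * a := by
  classical
  obtain ⟨N, hNdef⟩ : ∃ N : Subgroup G, N = V.comap (QuotientGroup.mk' K) := ⟨_, rfl⟩
  rw [← hNdef]
  haveI hNn : N.Normal := by rw [hNdef]; infer_instance
  have := Fintype.ofFinite N
  have hmemN : ∀ g : G, g ∈ N ↔ (g : G ⧸ K) ∈ V := by intro g; rw [hNdef]; rfl
  have hNidx : N.index = m := by
    rw [hNdef, Subgroup.index_comap_of_surjective _ (QuotientGroup.mk'_surjective K), hidx]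
  have hm0 : 0 < m := by
    rw [← hidx]; exact Nat.pos_of_ne_zero Subgroup.index_ne_zero_of_finite
  -- the projection
  let π : N →* V :=
    { toFun := fun n => ⟨((n : G) : G ⧸ K), (hmemN n).mp n.2⟩
      map_one' := rfl
      map_mul' := fun a b => rfl }
  have hπsurj : Function.Surjective π := by
    rintro ⟨v, hv⟩
    obtain ⟨g, rfl⟩ := QuotientGroup.mk_surjective v
    exact ⟨⟨g, (hmemN g).mpr hv⟩, rfl⟩
  obtain ⟨K', hK'def⟩ : ∃ K' : Subgroup N, K' = K.subgroupOf N := ⟨_, rfl⟩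
  haveI hK'n : K'.Normal := by rw [hK'def]; infer_instance
  have := Fintype.ofFinite K'
  have hK'ker : K' = π.ker := by
    ext x
    rw [hK'def, Subgroup.mem_subgroupOf, MonoidHom.mem_ker]
    constructor
    · intro hx
      apply Subtype.ext
      exact (QuotientGroup.eq_one_iff _).mpr hx
    · intro hx
      exact (QuotientGroup.eq_one_iff _).mp (congrArg Subtype.val hx)
  have hK'idx : K'.index = Nat.card V := by
    rw [hK'ker, Subgroup.index_ker, MonoidHom.range_eq_top.mpr hπsurj, Subgroup.card_top]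
  have hπK' : ∀ k : K', π (k : N) = 1 := by
    intro k
    have : (k : N) ∈ π.ker := hK'ker ▸ k.2
    exact MonoidHom.mem_ker.mp this
  -- restrictions to K' are irreducible
  have hres : ∀ ψ : N → ℂ, Cfsg.IsIrrCharacter N ψ →
      Cfsg.IsIrrCharacter K' (fun k : K' => ψ k) := by
    intro ψ hψ
    obtain ⟨d, hd0, hd⟩ := irr_apply_one hψ
    obtain ⟨χ, hχ, hcon⟩ := exists_irr_over N hψ
    obtain ⟨b, hb, -⟩ := degree_ratio N hχ hψ hcon
    have hdm : d ∣ m := by
      rcases hcd χ hχ with h1 | h1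
      · rw [h1, hd] at hb
        have h2 : 1 = b * d := by exact_mod_cast hb
        have h3 : d = 1 := Nat.eq_one_of_mul_eq_one_left h2.symm
        rw [h3]; exact one_dvd _
      · rw [h1, hd] at hb
        have h2 : m = b * d := by exact_mod_cast hb
        exact ⟨b, by rw [h2]; ring⟩
    have hresc : Cfsg.IsCharacter K' (fun k : K' => ψ k) :=
      IsCharacter.restrict (isCharacter_of_isIrrCharacter hψ) K'
    have hne : (fun k : K' => ψ k) ≠ 0 := by
      intro h
      have h1 := congrFun h 1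
      simp only [Pi.zero_apply, Subgroup.coe_one] at h1
      rw [hd] at h1
      have : d = 0 := by exact_mod_cast h1
      omega
    obtain ⟨ϑ, hϑ, hϑne⟩ := exists_irr_constituent hresc hne
    obtain ⟨b', hb', hb'dvd⟩ := degree_ratio K' hψ hϑ hϑne
    obtain ⟨e, he0, he⟩ := irr_apply_one hϑ
    have h1 : d = b' * e := by rw [hd, he] at hb'; exact_mod_cast hb'
    have hb'1 : b' = 1 := by
      have h2 : b' ∣ Nat.gcd m (Nat.card V) :=
        Nat.dvd_gcd (Dvd.dvd.trans ⟨e, h1⟩ hdm) (hK'idx ▸ hb'dvd)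
      rw [hcop.gcd_eq_one] at h2; exact Nat.dvd_one.mp h2
    have h3 : (fun k : K' => ψ k) = ϑ := eq_of_constituent_same_degree hresc hϑ hϑne (by
      show ψ ((1 : K') : N) = ϑ 1
      rw [Subgroup.coe_one, hb', hb'1]; simp)
    rw [h3]; exact hϑ
  -- linear characters of N inflated from V
  obtain ⟨β, hβ⟩ : ∃ β : (V →* ℂˣ) → N → ℂ, β = fun ν n => (ν (π n) : ℂ) := ⟨_, rfl⟩
  have hβirr : ∀ (ν : V →* ℂˣ) (ψ : N → ℂ), Cfsg.IsIrrCharacter N ψ →
      Cfsg.IsIrrCharacter N (β ν * ψ) := by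
    intro ν ψ hψ
    rw [hβ]
    exact isIrrCharacter_hom_mul (ν.comp π) hψ
  -- Gallagher injectivity
  have hgal : ∀ ψ : N → ℂ, Cfsg.IsIrrCharacter N ψ → ∀ ν ν' : V →* ℂˣ,
      β ν * ψ = β ν' * ψ → ν = ν' := by
    intro ψ hψ ν ν' hνν'
    have hϑ := hres ψ hψ
    have hprod : Cfsg.IsIrrCharacter K' ((fun _ : K' => (1 : ℂ)) * (fun k : K' => ψ k)) := by
      have e : ((fun _ : K' => (1 : ℂ)) * (fun k : K' => ψ k)) = fun k : K' => ψ k := by
        funext k; simp
      rw [e]; exact hϑ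
    have hbij := Cfsg.Agent.S0856.result K' (fun _ => (1 : ℂ)) (fun k : K' => ψ k)
      isIrrCharacter_one hϑ (fun _ _ => rfl)
      (fun g n => isClassFunction_of_isIrrCharacter hψ (n : N) g) hprod ψ hψ (fun _ => rfl)
    have hsrc : ∀ ν : V →* ℂˣ, β ν ∈ {β : N → ℂ | Cfsg.IsIrrCharacter N β ∧
        Cfsg.classInner (Cfsg.indFun K' (fun _ => (1 : ℂ))) β ≠ 0} := by
      intro ν
      have hirr : Cfsg.IsIrrCharacter N (β ν) := by
        rw [hβ]; exact isIrrCharacter_of_hom (ν.comp π)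
      refine ⟨hirr, ?_⟩
      rw [frobenius_reciprocity _ _ _ (isClassFunction_of_isIrrCharacter hirr)]
      have e : (fun k : K' => β ν k) = fun _ => (1 : ℂ) := by
        funext k
        simp [hβ, hπK' k]
      rw [e, classInner_irr_self isIrrCharacter_one]
      exact one_ne_zero
    have h1 := hbij.injOn (hsrc ν) (hsrc ν') hνν'
    refine MonoidHom.ext (fun v => ?_)
    obtain ⟨n, rfl⟩ := hπsurj v
    have h2 := congrFun h1 n
    rw [hβ] at h2
    exact Units.ext h2
  -- nonlinear characters of N have a stabilizing element outside N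
  have hfix : ∀ φ : N → ℂ, Cfsg.IsIrrCharacter N φ → φ 1 ≠ 1 →
      ∃ x : G, x ∉ N ∧ conjFun N φ x = φ := by
    intro φ hφ hφ1
    by_contra hno
    push Not at hno
    obtain ⟨χ, hχ, hcon⟩ := exists_irr_over N hφ
    obtain ⟨e, he0, he⟩ := clifford_sum N hχ hφ hcon
    have h1 := congrFun he 1
    simp only [Pi.smul_apply, Finset.sum_apply, smul_eq_mul, Subgroup.coe_one] at h1
    have h2 : ∀ ψ ∈ Finset.univ.image (fun k : G => conjFun N φ k), ψ 1 = φ 1 := by
      intro ψ hψ
      obtain ⟨k, -, rfl⟩ := Finset.mem_image.mp hψ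
      rw [conjFun_apply]; congr 1; apply Subtype.ext; simp
    rw [Finset.sum_congr rfl h2, Finset.sum_const, nsmul_eq_mul] at h1
    obtain ⟨c, hc⟩ : ∃ c, c = (Finset.univ.image (fun k : G => conjFun N φ k)).card := ⟨_, rfl⟩
    rw [← hc] at h1
    have hcard : Fintype.card G ≤ Fintype.card N * c := by
      have h3 := Finset.card_le_mul_card_image (s := (Finset.univ : Finset G))
        (f := fun k : G => conjFun N φ k) (n := Fintype.card N) ?_
      · rw [hc]; simpa using h3
      intro a ha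
      obtain ⟨g, -, rfl⟩ := Finset.mem_image.mp ha
      have hsub : (Finset.univ.filter (fun x : G => conjFun N φ x = conjFun N φ g))
          ⊆ (Finset.univ : Finset N).image (fun n : N => (n : G) * g) := by
        intro x hx
        have hx' : conjFun N φ x = conjFun N φ g := (Finset.mem_filter.mp hx).2
        have hmem : x * g⁻¹ ∈ N := by
          by_contra hnot
          apply hno (x * g⁻¹) hnot
          rw [conjFun_mul, hx', ← conjFun_mul, mul_inv_cancel, conjFun_one]
        exact Finset.mem_image.mpr ⟨⟨x * g⁻¹, hmem⟩, Finset.mem_univ _, by simp⟩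
      calc (Finset.univ.filter (fun x : G => conjFun N φ x = conjFun N φ g)).card
          ≤ ((Finset.univ : Finset N).image (fun n : N => (n : G) * g)).card :=
            Finset.card_le_card hsub
        _ ≤ (Finset.univ : Finset N).card := Finset.card_image_le
        _ = Fintype.card N := Finset.card_univ
    have hGN : Fintype.card G = Fintype.card N * m := by
      rw [← hNidx, ← Nat.card_eq_fintype_card, ← Nat.card_eq_fintype_card]
      exact (Subgroup.card_mul_index N).symm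
    have hmc : m ≤ c := by
      rw [hGN] at hcard
      exact Nat.le_of_mul_le_mul_left hcard Fintype.card_pos
    obtain ⟨d, hd0, hd⟩ := irr_apply_one hφ
    have hd2 : 2 ≤ d := by
      have : d ≠ 1 := by
        intro h; apply hφ1; rw [hd, h]; simp
      omega
    rw [hd] at h1
    have hbig : m * 2 ≤ e * (c * d) :=
      calc m * 2 ≤ c * d := Nat.mul_le_mul hmc hd2
        _ ≤ e * (c * d) := Nat.le_mul_of_pos_left _ (Nat.pos_of_ne_zero he0)
    rcases hcd χ hχ with h3 | h3
    · rw [h3] at h1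
      have : 1 = e * (c * d) := by exact_mod_cast h1
      omega
    · rw [h3] at h1
      have : m = e * (c * d) := by exact_mod_cast h1
      omega
  -- fixed-point-freeness on characters of V
  have hfpfchar : ∀ (ν : V →* ℂˣ) (x : G), x ∉ N →
      (∀ v : V, ν ⟨(x : G ⧸ K) * v * (x : G ⧸ K)⁻¹, hV.conj_mem v v.2 _⟩ = ν v) → ν = 1 := by
    intro ν x hx hinv
    have hxV : (x : G ⧸ K) ∉ V := fun h => hx ((hmemN x).mpr h)
    let f : V → V := fun v => ⟨(x : G ⧸ K) * v * (x : G ⧸ K)⁻¹, hV.conj_mem v v.2 _⟩ * v⁻¹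
    have hfinj : Function.Injective f := by
      intro v w hvw
      have h1 : (x : G ⧸ K) * v * (x : G ⧸ K)⁻¹ * (v : G ⧸ K)⁻¹
          = (x : G ⧸ K) * w * (x : G ⧸ K)⁻¹ * (w : G ⧸ K)⁻¹ := congrArg Subtype.val hvw
      have h1' : (x : G ⧸ K) * v * (x : G ⧸ K)⁻¹
          = (x : G ⧸ K) * w * (x : G ⧸ K)⁻¹ * (w : G ⧸ K)⁻¹ * v := by
        rw [← h1]; group
      have h2 : (x : G ⧸ K) * ((w : G ⧸ K)⁻¹ * v) = ((w : G ⧸ K)⁻¹ * v) * x := by
        calc (x : G ⧸ K) * ((w : G ⧸ K)⁻¹ * v)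
            = ((x : G ⧸ K) * w * (x : G ⧸ K)⁻¹)⁻¹ * ((x : G ⧸ K) * v * (x : G ⧸ K)⁻¹) * x := by
              group
          _ = ((w : G ⧸ K)⁻¹ * v) * x := by rw [h1']; group
      have h3 := hfpf x hxV ((w : G ⧸ K)⁻¹ * v) (V.mul_mem (V.inv_mem w.2) v.2) h2
      apply Subtype.ext
      have h4 : (v : G ⧸ K) = w * ((w : G ⧸ K)⁻¹ * v) := by group
      rw [h4, h3, mul_one]
    have hfsurj := Finite.surjective_of_injective hfinj
    refine MonoidHom.ext (fun v => ?_)
    obtain ⟨u, rfl⟩ := hfsurj v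
    rw [map_mul, hinv u, map_inv, mul_inv_cancel, MonoidHom.one_apply]
  -- the key step
  have hstep : ∀ ψ' : N → ℂ, Cfsg.IsIrrCharacter N ψ' → ∀ (ν : V →* ℂˣ) (y : G), y ∉ N →
      conjFun N ψ' y = ψ' → conjFun N (β ν * ψ') y = β ν * ψ' → ν = 1 := by
    intro ψ' hψ' ν y hy h1 h2
    obtain ⟨ν', hν'⟩ : ∃ ν' : V →* ℂˣ, ∀ v : V,
        ν' v = ν ⟨(y : G ⧸ K) * v * (y : G ⧸ K)⁻¹, hV.conj_mem v v.2 _⟩ :=
      ⟨ν.comp (MulAut.conjNormal (y : G ⧸ K) : MulAut V).toMonoidHom, fun v => by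
        rw [MonoidHom.comp_apply]
        congr 1⟩
    have h3 : conjFun N (β ν * ψ') y = β ν' * conjFun N ψ' y := by
      funext n
      rw [conjFun_apply, Pi.mul_apply, Pi.mul_apply, conjFun_apply, hβ]
      simp only
      rw [hν']
      congr 3
    rw [h3, h1] at h2
    have h4 := hgal ψ' hψ' ν' ν h2
    apply hfpfchar ν y hy
    intro v
    rw [← hν', h4]
  -- all irreducible characters of N are linear
  have key : ∀ ψ : N → ℂ, Cfsg.IsIrrCharacter N ψ → ψ 1 = 1 := by
    intro ψ hψ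
    by_contra hψ1
    obtain ⟨v₀, hv₀⟩ := (Subgroup.ne_bot_iff_exists_ne_one).mp hVne
    obtain ⟨ν₀, hν₀⟩ := exists_hom_ne_one_of_comm
      (fun a b : V => Subtype.ext (hVab a a.2 b b.2)) hv₀
    have hν₀1 : ν₀ ≠ 1 := by
      intro h; apply hν₀; rw [h]; rfl
    obtain ⟨νf, hνf⟩ : ∃ νf : G → (V →* ℂˣ), ∀ (g : G) (v : V),
        νf g v = ν₀ ⟨(g : G ⧸ K) * v * (g : G ⧸ K)⁻¹, hV.conj_mem v v.2 _⟩ :=
      ⟨fun g => ν₀.comp (MulAut.conjNormal (g : G ⧸ K) : MulAut V).toMonoidHom, fun g v => by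
        rw [MonoidHom.comp_apply]
        congr 1⟩
    have hβ1 : ∀ ν : V →* ℂˣ, β ν 1 = 1 := by
      intro ν; rw [hβ]; simp
    have hφ : ∀ g : G, ∃ x : G, x ∉ N ∧ conjFun N (β (νf g) * ψ) x = β (νf g) * ψ := by
      intro g
      apply hfix _ (hβirr _ _ hψ)
      rw [Pi.mul_apply, hβ1, one_mul]
      exact hψ1
    choose x hxN hxfix using hφ
    have hinj : ∀ g g' : G, (QuotientGroup.mk (x g) : G ⧸ N) = QuotientGroup.mk (x g') →
        (QuotientGroup.mk g : G ⧸ N) = QuotientGroup.mk g' := by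
      intro g g' hgg'
      have hn : (x g)⁻¹ * x g' ∈ N := QuotientGroup.eq.mp hgg'
      -- x g' fixes both characters
      have hfix1 : conjFun N (β (νf g) * ψ) (x g') = β (νf g) * ψ := by
        have e : x g' = x g * ((x g)⁻¹ * x g') := by group
        rw [e, conjFun_mul, hxfix g]
        exact conjFun_of_mem N (isClassFunction_of_isIrrCharacter (hβirr _ _ hψ)) hn
      have hfix2 := hxfix g'
      -- rewrite the first as a twist of the second
      have e2 : β (νf g) * ψ = β (νf g * (νf g')⁻¹) * (β (νf g') * ψ) := by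
        funext n
        rw [hβ]
        simp only [Pi.mul_apply, MonoidHom.mul_apply, MonoidHom.inv_apply, Units.val_mul]
        rw [← mul_assoc]
        congr 1
        rw [mul_assoc, ← Units.val_mul, inv_mul_cancel, Units.val_one, mul_one]
      rw [e2] at hfix1
      have h5 := hstep _ (hβirr _ _ hψ) (νf g * (νf g')⁻¹) (x g') (hxN g') hfix2 hfix1
      have h6 : νf g = νf g' := by
        rw [← mul_inv_eq_one]; exact h5
      -- hence g' g⁻¹ ∈ N
      have h7 : g' * g⁻¹ ∈ N := by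
        by_contra hnot
        apply hν₀1
        apply hfpfchar ν₀ (g' * g⁻¹) hnot
        intro u
        have hu : (g : G ⧸ K)⁻¹ * u * (g : G ⧸ K) ∈ V := by
          have := hV.conj_mem u u.2 (g : G ⧸ K)⁻¹
          rwa [inv_inv] at this
        have h8 := congrArg (fun ν : V →* ℂˣ => ν ⟨(g : G ⧸ K)⁻¹ * u * (g : G ⧸ K), hu⟩) h6
        simp only [hνf] at h8
        have e3 : (⟨(g : G ⧸ K) * ((g : G ⧸ K)⁻¹ * u * (g : G ⧸ K)) * (g : G ⧸ K)⁻¹,
            hV.conj_mem _ hu _⟩ : V) = u := by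
          apply Subtype.ext
          simp only
          group
        rw [e3] at h8
        rw [h8]
        congr 1
        apply Subtype.ext
        simp only [QuotientGroup.mk_mul, QuotientGroup.mk_inv]
        group
      rw [QuotientGroup.eq]
      have h9 := hNn.conj_mem _ h7 g⁻¹
      have e4 : g⁻¹ * (g' * g⁻¹) * g⁻¹⁻¹ = g⁻¹ * g' := by group
      rwa [e4] at h9
    let Φ : G ⧸ N → G ⧸ N := fun w => QuotientGroup.mk (x (Quotient.out w))
    have hΦinj : Function.Injective Φ := by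
      intro w w' hww'
      have h1 := hinj _ _ hww'
      rw [QuotientGroup.out_eq', QuotientGroup.out_eq'] at h1
      exact h1
    obtain ⟨w, hw⟩ := Finite.surjective_of_injective hΦinj 1
    exact hxN _ ((QuotientGroup.eq_one_iff _).mp hw)
  intro a ha b hb
  exact congrArg Subtype.val (comm_of_all_linear key ⟨a, ha⟩ ⟨b, hb⟩)

end Cfsg.Agent.Lib.Helper2
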