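import Mathlib
import Cfsg.Prelude
import Cfsg.Agent.Lib.Helper2.TwoDegA
import Cfsg.Agent.Lib.Helper2.LinExt
import Cfsg.Agent.Lib.Helper2.CharCover
import Cfsg.Agent.Lib.Helper2.CharCover2

/-!
# Two character degrees: stabilizers of linear characters of an abelian normal Hall subgroup
-/

set_option autoImplicit false

namespace Cfsg.Agent.Lib.Helper2

open scoped ComplexConjugate

universe u

section cj

variable {G : Type*} [Group G] (A : Subgroup G) [hA : A.Normal]

/-- conjugation action of `g` on the linear characters of a normal subgroup -/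
noncomputable def cjHom (g : G) : (A →* ℂˣ) →* (A →* ℂˣ) where
  toFun lam := lam.comp (MulAut.conjNormal g : MulAut A).toMonoidHom
  map_one' := rfl
  map_mul' := fun _ _ => rfl

theorem cjHom_apply (g : G) (lam : A →* ℂˣ) (a : A) :
    cjHom A g lam a = lam ⟨g * a * g⁻¹, hA.conj_mem a a.2 g⟩ := by
  change lam (MulAut.conjNormal g a) = _
  exact congrArg lam (Subtype.ext (by simp))

theorem cjHom_mul (g h : G) (lam : A →* ℂˣ) :
    cjHom A (g * h) lam = cjHom A h (cjHom A g lam) := by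
  refine MonoidHom.ext (fun a => ?_)
  rw [cjHom_apply, cjHom_apply, cjHom_apply]
  exact congrArg lam (Subtype.ext (by simp [mul_assoc]))

theorem cjHom_one (lam : A →* ℂˣ) : cjHom A 1 lam = lam := by
  refine MonoidHom.ext (fun a => ?_)
  rw [cjHom_apply]
  exact congrArg lam (Subtype.ext (by simp))

/-- the stabilizer of a linear character of a normal subgroup -/
noncomputable def linStab (lam : A →* ℂˣ) : Subgroup G where
  carrier := {g | cjHom A g lam = lam}
  one_mem' := cjHom_one A lam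
  mul_mem' := by
    intro g h hg hh
    have hg' : cjHom A g lam = lam := hg
    have hh' : cjHom A h lam = lam := hh
    show cjHom A (g * h) lam = lam
    rw [cjHom_mul, hg', hh']
  inv_mem' := by
    intro g hg
    have hg' : cjHom A g lam = lam := hg
    show cjHom A g⁻¹ lam = lam
    have h1 := cjHom_mul A g g⁻¹ lam
    rw [mul_inv_cancel, cjHom_one, hg'] at h1
    exact h1.symm

theorem mem_linStab (lam : A →* ℂˣ) (g : G) : g ∈ linStab A lam ↔ cjHom A g lam = lam := Iff.rfl

theorem mem_linStab_iff (lam : A →* ℂˣ) (g : G) :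
    g ∈ linStab A lam ↔ ∀ a : A, lam ⟨g * a * g⁻¹, hA.conj_mem a a.2 g⟩ = lam a := by
  rw [mem_linStab, MonoidHom.ext_iff]
  simp only [cjHom_apply]

theorem cjHom_of_mem_centralizer {b : G} (hb : b ∈ Subgroup.centralizer (A : Set G))
    (lam : A →* ℂˣ) : cjHom A b lam = lam := by
  refine MonoidHom.ext (fun a => ?_)
  rw [cjHom_apply]
  refine congrArg lam (Subtype.ext ?_)
  have h1 := Subgroup.mem_centralizer_iff.mp hb a a.2
  show b * a * b⁻¹ = a
  rw [← h1]; group

theorem centralizer_le_linStab (lam : A →* ℂˣ) :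
    Subgroup.centralizer (A : Set G) ≤ linStab A lam :=
  fun _ hb => cjHom_of_mem_centralizer A hb lam

theorem le_linStab_of_comm (hAab : ∀ a ∈ A, ∀ b ∈ A, a * b = b * a) (lam : A →* ℂˣ) :
    A ≤ linStab A lam := by
  intro a ha
  apply centralizer_le_linStab
  rw [Subgroup.mem_centralizer_iff]
  intro h hh
  exact hAab h hh a ha

theorem exists_not_mem_linStab [Finite G] (hAab : ∀ a ∈ A, ∀ b ∈ A, a * b = b * a) {g : G}
    (hg : g ∉ Subgroup.centralizer (A : Set G)) : ∃ lam : A →* ℂˣ, g ∉ linStab A lam := by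
  rw [Subgroup.mem_centralizer_iff] at hg
  push Not at hg
  obtain ⟨a, ha, hne⟩ := hg
  have hc : (⟨g * a * g⁻¹, hA.conj_mem a ha g⟩ : A) * (⟨a, ha⟩ : A)⁻¹ ≠ 1 := by
    intro h
    apply hne
    have h1 := congrArg Subtype.val h
    simp only [Subgroup.coe_mul, Subgroup.coe_inv, Subgroup.coe_one] at h1
    have h2 : g * a * g⁻¹ = a := by
      calc g * a * g⁻¹ = g * a * g⁻¹ * a⁻¹ * a := by group
        _ = a := by rw [h1, one_mul]
    calc a * g = g * a * g⁻¹ * g := by rw [h2]
      _ = g * a := by group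
  obtain ⟨lam, hlam⟩ := exists_hom_ne_one_of_comm
    (fun x y : A => Subtype.ext (hAab x x.2 y y.2)) hc
  refine ⟨lam, fun hmem => hlam ?_⟩
  rw [map_mul, map_inv, (mem_linStab_iff A lam g).mp hmem ⟨a, ha⟩, mul_inv_cancel]

end cj

/-- a linear character of an abelian normal Hall subgroup extends to its stabilizer -/
theorem linStab_ext {G : Type*} [Group G] [Finite G] (A : Subgroup G) [hA : A.Normal]
    (hcop : Nat.Coprime (Nat.card A) A.index) (lam : A →* ℂˣ) (hAT : A ≤ linStab A lam) :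
    ∃ μ : linStab A lam →* ℂˣ, ∀ a : A, μ ⟨a, hAT a.2⟩ = lam a := by
  obtain ⟨T, hTdef⟩ : ∃ T : Subgroup G, T = linStab A lam := ⟨_, rfl⟩
  subst hTdef
  obtain ⟨e, he⟩ : ∃ e : A.subgroupOf (linStab A lam) ≃* A,
      ∀ x, ((e x : A) : G) = ((x : linStab A lam) : G) :=
    ⟨Subgroup.subgroupOfEquivOfLe hAT, fun x => rfl⟩
  obtain ⟨lam', hlam'⟩ : ∃ lam' : A.subgroupOf (linStab A lam) →* ℂˣ, ∀ x, lam' x = lam (e x) :=
    ⟨lam.comp e.toMonoidHom, fun x => rfl⟩
  have hinv : ∀ (g : linStab A lam) (n : A.subgroupOf (linStab A lam)),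
      lam' ⟨g * n * g⁻¹, (inferInstance : (A.subgroupOf (linStab A lam)).Normal).conj_mem
        (n : linStab A lam) n.2 g⟩ = lam' n := by
    intro g n
    rw [hlam', hlam']
    have h1 := (mem_linStab_iff A lam g).mp g.2 (e n)
    rw [← h1]
    refine congrArg lam (Subtype.ext ?_)
    rw [he]
    simp only [Subgroup.coe_mul, Subgroup.coe_inv]
    rw [he]
  have hord : orderOf lam' ∣ Nat.card A := by
    apply orderOf_dvd_of_pow_eq_one
    refine MonoidHom.ext (fun x => ?_)
    rw [MonoidHom.pow_apply, MonoidHom.one_apply, hlam', ← map_pow, pow_card_eq_one', map_one]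
  have hidx : (A.subgroupOf (linStab A lam)).index ∣ A.index :=
    Subgroup.relIndex_dvd_index_of_normal A _
  have hcop' : Nat.Coprime (A.subgroupOf (linStab A lam)).index (orderOf lam') :=
    (Nat.Coprime.coprime_dvd_right hidx (Nat.Coprime.coprime_dvd_left hord hcop)).symm
  obtain ⟨μ, hμ, -, -⟩ := hom_unique_ext (A.subgroupOf (linStab A lam)) lam' hinv hcop'
  refine ⟨μ, fun a => ?_⟩
  have h1 := hμ ⟨⟨a, hAT a.2⟩, Subgroup.mem_subgroupOf.mpr a.2⟩
  rw [hlam'] at h1
  have h2 : e ⟨⟨a, hAT a.2⟩, Subgroup.mem_subgroupOf.mpr a.2⟩ = a := Subtype.ext (he _)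
  rw [h2] at h1
  exact h1

/-- a proper stabilizer has index `m` and is abelian modulo the subgroup -/
theorem linStab_facts {G : Type u} [Group G] [Fintype G] (A : Subgroup G) [hA : A.Normal]
    (hAab : ∀ a ∈ A, ∀ b ∈ A, a * b = b * a)
    (hcop : Nat.Coprime (Nat.card A) A.index) (m : ℕ)
    (hcd : ∀ χ : G → ℂ, Cfsg.IsIrrCharacter G χ → χ 1 = 1 ∨ χ 1 = (m : ℂ))
    (lam : A →* ℂˣ) (hT : linStab A lam ≠ ⊤) :
    (linStab A lam).index = m ∧
      ∀ x ∈ linStab A lam, ∀ y ∈ linStab A lam, x * y * x⁻¹ * y⁻¹ ∈ A := by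
  classical
  have hAT := le_linStab_of_comm A hAab lam
  obtain ⟨μ, hμ⟩ := linStab_ext A hcop lam hAT
  generalize hTdef' : linStab A lam = T at hT hAT μ hμ ⊢
  have hTdef : T = linStab A lam := hTdef'.symm
  have := Fintype.ofFinite T
  have := Fintype.ofFinite A
  obtain ⟨θ, hθdef⟩ : ∃ θ : A → ℂ, θ = fun a => (lam a : ℂ) := ⟨_, rfl⟩
  have hθ : Cfsg.IsIrrCharacter A θ := hθdef ▸ isIrrCharacter_of_hom lam
  have hTiff : ∀ g : G, g ∈ T ↔ ∀ h : A, θ ⟨g * h * g⁻¹, hA.conj_mem h h.2 g⟩ = θ h := by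
    intro g
    rw [hTdef, mem_linStab_iff, hθdef]
    constructor
    · intro h a; exact congrArg Units.val (h a)
    · intro h a; exact Units.ext (h a)
  -- induced characters
  have hind : ∀ β : T → ℂ, Cfsg.IsIrrCharacter T β → (∀ a : A, β ⟨a, hAT a.2⟩ = β 1) →
      ∀ d : ℕ, β 1 = (d : ℂ) → T.index * d = 1 ∨ T.index * d = m := by
    intro β hβ hβA d hd
    have hd0 : d ≠ 0 := by
      obtain ⟨d', hd'0, hd'⟩ := irr_apply_one hβ
      rw [hd] at hd'
      have : d = d' := by exact_mod_cast hd'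
      omega
    have hψ : Cfsg.IsIrrCharacter T ((fun t => (μ t : ℂ)) * β) := isIrrCharacter_hom_mul μ hβ
    have hirr := ind_irr_of_ext A T θ hθ hTiff hAT _ hψ d hd0 (by
      intro h
      rw [Pi.mul_apply, hμ h, hβA h, hd, hθdef]; ring)
    have h1 : Cfsg.indFun T ((fun t => (μ t : ℂ)) * β) 1 = ((T.index * d : ℕ) : ℂ) := by
      rw [indFun_apply_one, Pi.mul_apply, hd]; simp
    rcases hcd _ hirr with h2 | h2
    · left; rw [h1] at h2; exact_mod_cast h2
    · right; rw [h1] at h2; exact_mod_cast h2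
  have hidx : T.index = m := by
    have h1 := hind (fun _ => 1) isIrrCharacter_one (fun _ => rfl) 1 (by simp)
    rw [mul_one] at h1
    rcases h1 with h1 | h1
    · exact absurd (Subgroup.index_eq_one.mp h1) hT
    · exact h1
  refine ⟨hidx, ?_⟩
  have hidx1 : T.index ≠ 1 := fun h => hT (Subgroup.index_eq_one.mp h)
  have hidx0 : T.index ≠ 0 := Subgroup.index_ne_zero_of_finite
  -- the quotient T / A is abelian
  have := Fintype.ofFinite (T ⧸ A.subgroupOf T)
  have hlin : ∀ β' : T ⧸ A.subgroupOf T → ℂ, Cfsg.IsIrrCharacter (T ⧸ A.subgroupOf T) β' →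
      β' 1 = 1 := by
    intro β' hβ'
    have hβ := isIrrCharacter_comp_of_surjective hβ' (QuotientGroup.mk' (A.subgroupOf T))
      (QuotientGroup.mk'_surjective _)
    obtain ⟨d, hd0, hd⟩ := irr_apply_one hβ'
    have h1 := hind _ hβ (by
      intro a
      simp only [Function.comp_apply, map_one]
      congr 1
      exact (QuotientGroup.eq_one_iff _).mpr (Subgroup.mem_subgroupOf.mpr a.2)) d (by
      simp only [Function.comp_apply, map_one]; exact hd)
    have hd1 : d = 1 := by
      rcases h1 with h1 | h1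
      · exact Nat.eq_one_of_mul_eq_one_left h1
      · rw [hidx] at h1
        have hm0 : 0 < m := by rw [← hidx]; omega
        have : m * d = m * 1 := by rw [h1, mul_one]
        exact Nat.eq_of_mul_eq_mul_left hm0 this
    rw [hd, hd1]; simp
  intro x hx y hy
  have h1 := comm_of_all_linear hlin (QuotientGroup.mk (⟨x, hx⟩ : T)) (QuotientGroup.mk ⟨y, hy⟩)
  have h2 : (QuotientGroup.mk ((⟨x, hx⟩ : T) * ⟨y, hy⟩ * (⟨x, hx⟩ : T)⁻¹ * (⟨y, hy⟩ : T)⁻¹) :
      T ⧸ A.subgroupOf T) = 1 := by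
    rw [QuotientGroup.mk_mul, QuotientGroup.mk_mul, QuotientGroup.mk_mul, h1,
      QuotientGroup.mk_inv, QuotientGroup.mk_inv]
    group
  exact Subgroup.mem_subgroupOf.mp ((QuotientGroup.eq_one_iff _).mp h2)

end Cfsg.Agent.Lib.Helper2
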