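import Mathlib
import Cfsg.Prelude
import Cfsg.Agent.Lib.Helper2.TwoDegD

/-!
# Two character degrees: the prime power case
-/

set_option autoImplicit false

namespace Cfsg.Agent.Lib.Helper2

open scoped ComplexConjugate

universe u

/-- an abstract norm argument: commuting actions on a commutative group -/
theorem norm_trick {X Ω : Type*} [Group X] [CommGroup Ω] (act : X → Ω →* Ω)
    (hmul : ∀ (g h : X) (ν : Ω), act (g * h) ν = act h (act g ν)) (hone : ∀ ν : Ω, act 1 ν = ν)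
    (hcomm : ∀ (g h : X) (ν : Ω), act g (act h ν) = act h (act g ν))
    (y : X) (n : ℕ) (hyn : ∀ ν : Ω, act (y ^ n) ν = ν) (hkill : ∀ ν : Ω, ν ^ n = 1 → ν = 1)
    (lam μ : Ω) (hlam : act y lam = lam) (hμ : act y μ ≠ μ) :
    ∃ lam' : Ω, act y lam' ≠ lam' ∧ ∀ g : X, act g lam' = lam' → act g lam = lam := by
  obtain ⟨Nm, hNm⟩ : ∃ Nm : Ω → Ω, Nm = fun ν => ∏ i ∈ Finset.range n, act (y ^ i) ν := ⟨_, rfl⟩
  have hNm_mul : ∀ ν ν', Nm (ν * ν') = Nm ν * Nm ν' := by
    intro ν ν'; rw [hNm]; simp only [map_mul, Finset.prod_mul_distrib]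
  have hNm_inv : ∀ ν, Nm ν⁻¹ = (Nm ν)⁻¹ := by
    intro ν; rw [hNm]; simp only [map_inv, Finset.prod_inv_distrib]
  have hNm_cj : ∀ (g : X) ν, act g (Nm ν) = Nm (act g ν) := by
    intro g ν; rw [hNm]; simp only [map_prod]
    exact Finset.prod_congr rfl (fun i _ => hcomm g (y ^ i) ν)
  have hNm_y : ∀ ν, Nm (act y ν) = Nm ν := by
    intro ν
    rw [hNm]
    simp only
    have h1 : ∀ i, act (y ^ i) (act y ν) = act (y ^ (i + 1)) ν := by
      intro i; rw [pow_succ', hmul]
    simp only [h1]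
    have h2 := Finset.prod_range_succ' (fun i => act (y ^ i) ν) n
    have h3 := Finset.prod_range_succ (fun i => act (y ^ i) ν) n
    rw [h3] at h2
    simp only [pow_zero, hone, hyn] at h2
    exact (mul_right_cancel h2).symm
  have hNm_fix : ∀ ν, act y ν = ν → Nm ν = ν ^ n := by
    intro ν hν
    rw [hNm]
    simp only
    have h1 : ∀ i, act (y ^ i) ν = ν := by
      intro i
      induction i with
      | zero => rw [pow_zero, hone]
      | succ i ih => rw [pow_succ, hmul, ih, hν]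
    simp only [h1, Finset.prod_const, Finset.card_range]
  obtain ⟨w, hw⟩ : ∃ w, w = act y μ * μ⁻¹ := ⟨_, rfl⟩
  have hw1 : w ≠ 1 := by
    intro h; apply hμ; rw [hw] at h; exact mul_inv_eq_one.mp h
  have hNw : Nm w = 1 := by
    rw [hw, hNm_mul, hNm_inv, hNm_y, mul_inv_cancel]
  have hNlw : Nm (lam * w) = lam ^ n := by
    rw [hNm_mul, hNw, mul_one, hNm_fix lam hlam]
  refine ⟨lam * w, ?_, ?_⟩
  · intro h1
    rw [map_mul, hlam] at h1
    have h2 : act y w = w := mul_left_cancel h1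
    have h3 := hNm_fix w h2
    rw [hNw] at h3
    exact hw1 (hkill w h3.symm)
  · intro g h1
    have h2 := congrArg Nm h1
    rw [← hNm_cj, hNlw, map_pow] at h2
    have h3 : (act g lam * lam⁻¹) ^ n = 1 := by
      rw [mul_pow, inv_pow, h2, mul_inv_cancel]
    exact mul_inv_eq_one.mp (hkill _ h3)

section ppow

variable {G : Type u} [Group G] [Fintype G] (A : Subgroup G) [hA : A.Normal]

/-- the quotient by the centralizer of `A` is abelian -/
theorem two_deg_quot_comm (hAab : ∀ a ∈ A, ∀ b ∈ A, a * b = b * a) (m : ℕ)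
    (hcd : ∀ χ : G → ℂ, Cfsg.IsIrrCharacter G χ → χ 1 = 1 ∨ χ 1 = (m : ℂ))
    (p : ℕ) [Fact p.Prime] (hAp : Nat.Coprime (Nat.card A) p) (k : ℕ) (hidx : A.index = p ^ k) :
    ∀ x y : G, x * y * x⁻¹ * y⁻¹ ∈ Subgroup.centralizer (A : Set G) := by
  classical
  have hcop : Nat.Coprime (Nat.card A) A.index := by
    rw [hidx]; exact Nat.Coprime.pow_right _ hAp
  obtain ⟨B, hBdef⟩ : ∃ B : Subgroup G, B = Subgroup.centralizer (A : Set G) := ⟨_, rfl⟩
  rw [← hBdef]
  haveI hBn : B.Normal := by rw [hBdef]; infer_instance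
  have hAB : A ≤ B := by
    intro a ha
    rw [hBdef, Subgroup.mem_centralizer_iff]
    intro h hh
    exact hAab h hh a ha
  have := Fintype.ofFinite (G ⧸ B)
  have hpowA : ∀ g : G, g ^ (p ^ k) ∈ A := by
    intro g
    rw [← QuotientGroup.eq_one_iff, QuotientGroup.mk_pow, ← hidx, Subgroup.index_eq_card]
    exact pow_card_eq_one'
  have hcomm : ∀ x y : G ⧸ B, x * y = y * x := by
    by_contra hnc
    push Not at hnc
    obtain ⟨x₀, y₀, hxy⟩ := hnc
    haveI : Nontrivial (G ⧸ B) := ⟨⟨x₀ * y₀, y₀ * x₀, hxy⟩⟩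
    have hex : ∃ β' : G ⧸ B → ℂ, Cfsg.IsIrrCharacter (G ⧸ B) β' ∧ β' 1 ≠ 1 := by
      by_contra hno
      push Not at hno
      exact hxy (comm_of_all_linear hno x₀ y₀)
    obtain ⟨β', hβ', hβ'1⟩ := hex
    have hβ := isIrrCharacter_comp_of_surjective hβ' (QuotientGroup.mk' B)
      (QuotientGroup.mk'_surjective _)
    have hβ'm : β' 1 = (m : ℂ) := by
      rcases hcd _ hβ with h1 | h1
      · simp only [Function.comp_apply, map_one] at h1; exact absurd h1 hβ'1
      · simpa only [Function.comp_apply, map_one] using h1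
    have hPG : IsPGroup p (G ⧸ B) := by
      intro q
      obtain ⟨g, rfl⟩ := QuotientGroup.mk_surjective q
      refine ⟨k, ?_⟩
      rw [← QuotientGroup.mk_pow, QuotientGroup.eq_one_iff]
      exact hAB (hpowA g)
    haveI := hPG.center_nontrivial
    obtain ⟨z, hz⟩ := exists_ne (1 : Subgroup.center (G ⧸ B))
    obtain ⟨y, hy⟩ := QuotientGroup.mk_surjective (z : G ⧸ B)
    have hyB : y ∉ B := by
      intro h
      apply hz
      apply Subtype.ext
      rw [← hy]
      exact (QuotientGroup.eq_one_iff _).mpr h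
    obtain ⟨lam, hlam⟩ := exists_not_mem_linStab A hAab (hBdef ▸ hyB)
    have hTne : linStab A lam ≠ ⊤ := fun h => hlam (h ▸ Subgroup.mem_top y)
    obtain ⟨hTidx, hTcomm⟩ := linStab_facts A hAab hcop m hcd lam hTne
    obtain ⟨T, hTdef⟩ : ∃ T : Subgroup G, T = linStab A lam := ⟨_, rfl⟩
    rw [← hTdef] at hlam hTne hTidx hTcomm
    have hBT : B ≤ T := by rw [hBdef, hTdef]; exact centralizer_le_linStab A lam
    obtain ⟨Tb, hTb⟩ : ∃ Tb : Subgroup (G ⧸ B), Tb = T.map (QuotientGroup.mk' B) := ⟨_, rfl⟩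
    obtain ⟨S, hSdef⟩ : ∃ S : Subgroup (G ⧸ B), S = Tb ⊔ Subgroup.center (G ⧸ B) := ⟨_, rfl⟩
    have hTbcomm : ∀ a ∈ Tb, ∀ b ∈ Tb, a * b = b * a := by
      intro a ha b hb
      rw [hTb] at ha hb
      obtain ⟨s, hs, rfl⟩ := ha
      obtain ⟨t, ht, rfl⟩ := hb
      have h1 := hAB (hTcomm s hs t ht)
      have h2 : (QuotientGroup.mk' B) (s * t * s⁻¹ * t⁻¹) = 1 :=
        (QuotientGroup.eq_one_iff _).mpr h1
      rw [map_mul, map_mul, map_mul, map_inv, map_inv] at h2
      calc (QuotientGroup.mk' B) s * (QuotientGroup.mk' B) t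
          = ((QuotientGroup.mk' B) s * (QuotientGroup.mk' B) t * ((QuotientGroup.mk' B) s)⁻¹
              * ((QuotientGroup.mk' B) t)⁻¹) * ((QuotientGroup.mk' B) t * (QuotientGroup.mk' B) s) := by
            group
        _ = (QuotientGroup.mk' B) t * (QuotientGroup.mk' B) s := by rw [h2, one_mul]
    have hScomm : ∀ a ∈ S, ∀ b ∈ S, a * b = b * a := by
      intro a ha b hb
      rw [hSdef] at ha hb
      obtain ⟨t, ht, c, hc, rfl⟩ := Subgroup.mem_sup_of_normal_right.mp ha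
      obtain ⟨t', ht', c', hc', rfl⟩ := Subgroup.mem_sup_of_normal_right.mp hb
      have e1 := Subgroup.mem_center_iff.mp hc
      have e2 := Subgroup.mem_center_iff.mp hc'
      calc t * c * (t' * c') = t * (c * t') * c' := by group
        _ = t * (t' * c) * c' := by rw [← e1 t']
        _ = t * t' * (c * c') := by group
        _ = t' * t * (c' * c) := by rw [hTbcomm t ht t' ht', e2 c]
        _ = t' * (t * c') * c := by group
        _ = t' * (c' * t) * c := by rw [e2 t]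
        _ = t' * c' * (t * c) := by group
    have hzS : (z : G ⧸ B) ∈ S := by
      rw [hSdef]; exact Subgroup.mem_sup_right z.2
    have hzT : (z : G ⧸ B) ∉ Tb := by
      intro h
      rw [hTb] at h
      obtain ⟨t, ht, htz⟩ := h
      apply hlam
      have h1 : t⁻¹ * y ∈ B := by
        rw [← QuotientGroup.eq]
        exact htz.trans hy.symm
      have h2 : y = t * (t⁻¹ * y) := by group
      rw [h2]
      exact T.mul_mem ht (hBT h1)
    have hTbidx : Tb.index = m := by
      rw [hTb, Subgroup.index_map_eq T (QuotientGroup.mk'_surjective B)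
        (by rw [QuotientGroup.ker_mk']; exact hBT), hTidx]
    have hTS : Tb ≤ S := by rw [hSdef]; exact le_sup_left
    have hrel := Subgroup.relIndex_mul_index hTS
    rw [hTbidx] at hrel
    have hm0 : m ≠ 0 := by rw [← hTbidx]; exact Subgroup.index_ne_zero_of_finite
    have hr1 : Tb.relIndex S ≠ 1 := fun h => hzT (Subgroup.relIndex_eq_one.mp h hzS)
    have hr0 : Tb.relIndex S ≠ 0 := by
      intro h; rw [h, zero_mul] at hrel; exact hm0 hrel.symm
    have hS0 : S.index ≠ 0 := Subgroup.index_ne_zero_of_finite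
    have h2 : 2 * S.index ≤ m := by
      rw [← hrel]; exact Nat.mul_le_mul_right _ (by omega)
    obtain ⟨d, hd, hdle⟩ := irr_deg_le_index_of_comm S hScomm hβ'
    rw [hβ'm] at hd
    have hdm : m = d := by exact_mod_cast hd
    omega
  intro x y
  rw [← QuotientGroup.eq_one_iff]
  rw [QuotientGroup.mk_mul, QuotientGroup.mk_mul, QuotientGroup.mk_mul,
    hcomm (QuotientGroup.mk x) (QuotientGroup.mk y), QuotientGroup.mk_inv, QuotientGroup.mk_inv]
  group

/-- a proper stabilizer equals the centralizer -/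
theorem linStab_eq_centralizer (hAab : ∀ a ∈ A, ∀ b ∈ A, a * b = b * a) (m : ℕ)
    (hcd : ∀ χ : G → ℂ, Cfsg.IsIrrCharacter G χ → χ 1 = 1 ∨ χ 1 = (m : ℂ))
    (p : ℕ) [Fact p.Prime] (hAp : Nat.Coprime (Nat.card A) p) (k : ℕ) (hidx : A.index = p ^ k)
    (lam : A →* ℂˣ) (hT : linStab A lam ≠ ⊤) :
    linStab A lam = Subgroup.centralizer (A : Set G) := by
  classical
  have hcop : Nat.Coprime (Nat.card A) A.index := by
    rw [hidx]; exact Nat.Coprime.pow_right _ hAp
  have hquot := two_deg_quot_comm A hAab m hcd p hAp k hidx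
  apply le_antisymm _ (centralizer_le_linStab A lam)
  intro y hy
  by_contra hyB
  obtain ⟨n, hn⟩ : ∃ n, n = p ^ k := ⟨_, rfl⟩
  have hAB : A ≤ Subgroup.centralizer (A : Set G) := by
    intro a ha
    rw [Subgroup.mem_centralizer_iff]
    intro h hh
    exact hAab h hh a ha
  have hpowA : ∀ g : G, g ^ n ∈ A := by
    intro g
    rw [hn, ← QuotientGroup.eq_one_iff, QuotientGroup.mk_pow, ← hidx, Subgroup.index_eq_card]
    exact pow_card_eq_one'
  have hcommact : ∀ (g h : G) (ν : A →* ℂˣ),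
      cjHom A g (cjHom A h ν) = cjHom A h (cjHom A g ν) := by
    intro g h ν
    rw [← cjHom_mul, ← cjHom_mul]
    have e : h * g = (h * g * h⁻¹ * g⁻¹) * (g * h) := by group
    rw [e, cjHom_mul, cjHom_of_mem_centralizer A (hquot h g)]
  have hord : ∀ ν : A →* ℂˣ, ν ^ (Nat.card A) = 1 := by
    intro ν
    refine MonoidHom.ext (fun a => ?_)
    rw [MonoidHom.pow_apply, ← map_pow, pow_card_eq_one', map_one, MonoidHom.one_apply]
  have hcopn : Nat.Coprime (Nat.card A) n := hn ▸ Nat.Coprime.pow_right _ hAp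
  have hkill : ∀ ν : A →* ℂˣ, ν ^ n = 1 → ν = 1 := by
    intro ν hν
    have h1 : orderOf ν ∣ Nat.gcd (Nat.card A) n :=
      Nat.dvd_gcd (orderOf_dvd_of_pow_eq_one (hord ν)) (orderOf_dvd_of_pow_eq_one hν)
    rw [hcopn.gcd_eq_one, Nat.dvd_one] at h1
    exact orderOf_eq_one_iff.mp h1
  obtain ⟨μ, hμ⟩ := exists_not_mem_linStab A hAab hyB
  have hμ' : cjHom A y μ ≠ μ := fun h => hμ ((mem_linStab A μ y).mpr h)
  have hylam : cjHom A y lam = lam := (mem_linStab A lam y).mp hy
  obtain ⟨lam', hy'', hle'⟩ := norm_trick (cjHom A) (cjHom_mul A) (cjHom_one A) hcommact y n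
    (fun ν => cjHom_of_mem_centralizer A (hAB (hpowA y)) ν) hkill lam μ hylam hμ'
  have hy' : y ∉ linStab A lam' := fun h => hy'' ((mem_linStab A _ y).mp h)
  have hle : linStab A lam' ≤ linStab A lam := by
    intro g hg
    rw [mem_linStab]
    exact hle' g ((mem_linStab A _ g).mp hg)
  have hT' : linStab A lam' ≠ ⊤ := fun h => hy' (h ▸ Subgroup.mem_top y)
  have hi1 := (linStab_facts A hAab hcop m hcd lam hT).1
  have hi2 := (linStab_facts A hAab hcop m hcd lam' hT').1
  have hrel := Subgroup.relIndex_mul_index hle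
  rw [hi1, hi2] at hrel
  have hm0 : 0 < m := by rw [← hi1]; exact Nat.pos_of_ne_zero Subgroup.index_ne_zero_of_finite
  have hr1 : (linStab A lam').relIndex (linStab A lam) = 1 := by
    have : (linStab A lam').relIndex (linStab A lam) * m = 1 * m := by rw [hrel, one_mul]
    exact Nat.eq_of_mul_eq_mul_right hm0 this
  exact hy' (Subgroup.relIndex_eq_one.mp hr1 hy)

/-- if `A` is not central, its centralizer is abelian of index `m` -/
theorem centralizer_facts (hAab : ∀ a ∈ A, ∀ b ∈ A, a * b = b * a) (m : ℕ)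
    (hcd : ∀ χ : G → ℂ, Cfsg.IsIrrCharacter G χ → χ 1 = 1 ∨ χ 1 = (m : ℂ))
    (p : ℕ) [Fact p.Prime] (hAp : Nat.Coprime (Nat.card A) p) (k : ℕ) (hidx : A.index = p ^ k)
    (hB : Subgroup.centralizer (A : Set G) ≠ ⊤) :
    (∀ a ∈ Subgroup.centralizer (A : Set G), ∀ b ∈ Subgroup.centralizer (A : Set G),
      a * b = b * a) ∧ (Subgroup.centralizer (A : Set G)).index = m := by
  have hcop : Nat.Coprime (Nat.card A) A.index := by
    rw [hidx]; exact Nat.Coprime.pow_right _ hAp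
  obtain ⟨y, hy⟩ : ∃ y, y ∉ Subgroup.centralizer (A : Set G) := by
    by_contra h; push Not at h; exact hB (eq_top_iff.mpr (fun g _ => h g))
  obtain ⟨lam, hlam⟩ := exists_not_mem_linStab A hAab hy
  have hT : linStab A lam ≠ ⊤ := fun h => hlam (h ▸ Subgroup.mem_top y)
  have hTB := linStab_eq_centralizer A hAab m hcd p hAp k hidx lam hT
  obtain ⟨hi, hc⟩ := linStab_facts A hAab hcop m hcd lam hT
  rw [hTB] at hi hc
  refine ⟨?_, hi⟩
  have hpowA : ∀ g : G, g ^ (p ^ k) ∈ A := by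
    intro g
    rw [← QuotientGroup.eq_one_iff, QuotientGroup.mk_pow, ← hidx, Subgroup.index_eq_card]
    exact pow_card_eq_one'
  intro x hx z hz
  obtain ⟨c, hcdef⟩ : ∃ c, c = x * z * x⁻¹ * z⁻¹ := ⟨_, rfl⟩
  have hcA : c ∈ A := hcdef ▸ hc x hx z hz
  have hxc : x * c = c * x := (Subgroup.mem_centralizer_iff.mp hx c hcA).symm
  have hpow : ∀ j : ℕ, x ^ j * z * (x ^ j)⁻¹ * z⁻¹ = c ^ j := by
    intro j
    induction j with
    | zero => simp
    | succ j ih =>
      have hxcj : x * c ^ j = c ^ j * x := Commute.pow_right hxc j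
      calc x ^ (j + 1) * z * (x ^ (j + 1))⁻¹ * z⁻¹
          = x * (x ^ j * z * (x ^ j)⁻¹ * z⁻¹) * x⁻¹ * (x * z * x⁻¹ * z⁻¹) := by
            rw [pow_succ']; group
        _ = x * c ^ j * x⁻¹ * c := by rw [ih, ← hcdef]
        _ = c ^ (j + 1) := by rw [hxcj, pow_succ]; group
  have h1 : c ^ (p ^ k) = 1 := by
    rw [← hpow]
    have h5 := Subgroup.mem_centralizer_iff.mp hz _ (hpowA x)
    rw [h5]; group
  have h2 : c ^ (Nat.card A) = 1 :=
    congrArg Subtype.val (pow_card_eq_one' (x := (⟨c, hcA⟩ : A)))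
  have h3 : orderOf c ∣ Nat.gcd (Nat.card A) (p ^ k) :=
    Nat.dvd_gcd (orderOf_dvd_of_pow_eq_one h2) (orderOf_dvd_of_pow_eq_one h1)
  rw [(Nat.Coprime.pow_right k hAp).gcd_eq_one, Nat.dvd_one] at h3
  have hc1 : c = 1 := orderOf_eq_one_iff.mp h3
  rw [hcdef] at hc1
  calc x * z = (x * z * x⁻¹ * z⁻¹) * (z * x) := by group
    _ = z * x := by rw [hc1, one_mul]

/-- the prime power case of the two-degree theorem -/
theorem two_deg_ppow (hAab : ∀ a ∈ A, ∀ b ∈ A, a * b = b * a) (m : ℕ)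
    (hcd : ∀ χ : G → ℂ, Cfsg.IsIrrCharacter G χ → χ 1 = 1 ∨ χ 1 = (m : ℂ))
    (p : ℕ) [Fact p.Prime] (hAp : Nat.Coprime (Nat.card A) p) (k : ℕ) (hidx : A.index = p ^ k) :
    (∃ B : Subgroup G, B.Normal ∧ (∀ a ∈ B, ∀ b ∈ B, a * b = b * a) ∧ B.index = m) ∨
    ∃ P : Subgroup G, P.Normal ∧ IsPGroup p P ∧ P ⊓ A = ⊥ ∧ P ⊔ A = ⊤ := by
  by_cases hB : Subgroup.centralizer (A : Set G) = ⊤
  · right
    obtain ⟨P⟩ : Nonempty (Sylow p G) := inferInstance
    have hcent : ∀ a ∈ A, ∀ g : G, a * g = g * a := by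
      intro a ha g
      have h1 : g ∈ Subgroup.centralizer (A : Set G) := hB ▸ Subgroup.mem_top g
      exact Subgroup.mem_centralizer_iff.mp h1 a ha
    have hinf : (P : Subgroup G) ⊓ A = ⊥ := by
      rw [eq_bot_iff]
      intro x hx
      obtain ⟨hxP, hxA⟩ := Subgroup.mem_inf.mp hx
      obtain ⟨j, hj⟩ := P.isPGroup' ⟨x, hxP⟩
      have h1 : x ^ (p ^ j) = 1 := congrArg Subtype.val hj
      have h2 : x ^ (Nat.card A) = 1 :=
        congrArg Subtype.val (pow_card_eq_one' (x := (⟨x, hxA⟩ : A)))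
      have h3 : orderOf x ∣ Nat.gcd (Nat.card A) (p ^ j) :=
        Nat.dvd_gcd (orderOf_dvd_of_pow_eq_one h2) (orderOf_dvd_of_pow_eq_one h1)
      rw [(Nat.Coprime.pow_right j hAp).gcd_eq_one, Nat.dvd_one] at h3
      exact Subgroup.mem_bot.mpr (orderOf_eq_one_iff.mp h3)
    have hsup : (P : Subgroup G) ⊔ A = ⊤ := by
      rw [← Subgroup.index_eq_one]
      have h1 : ((P : Subgroup G) ⊔ A).index ∣ (P : Subgroup G).index :=
        Subgroup.index_dvd_of_le le_sup_left
      have h2 : ((P : Subgroup G) ⊔ A).index ∣ p ^ k :=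
        hidx ▸ Subgroup.index_dvd_of_le le_sup_right
      have h3 : Nat.Coprime (P : Subgroup G).index (p ^ k) :=
        Nat.Coprime.pow_right _
          (Nat.Coprime.symm ((Nat.Prime.coprime_iff_not_dvd Fact.out).mpr P.not_dvd_index))
      have h4 := Nat.dvd_gcd h1 h2
      rw [h3.gcd_eq_one] at h4
      exact Nat.dvd_one.mp h4
    refine ⟨P, ?_, P.isPGroup', hinf, hsup⟩
    constructor
    intro x hx g
    have hg : g ∈ (P : Subgroup G) ⊔ A := hsup ▸ Subgroup.mem_top g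
    obtain ⟨u, hu, a, ha, rfl⟩ := Subgroup.mem_sup_of_normal_right.mp hg
    have e : u * a * x * (u * a)⁻¹ = u * x * u⁻¹ := by
      have h1 := hcent a ha x
      calc u * a * x * (u * a)⁻¹ = u * (a * x) * a⁻¹ * u⁻¹ := by group
        _ = u * (x * a) * a⁻¹ * u⁻¹ := by rw [h1]
        _ = u * x * u⁻¹ := by group
    rw [e]
    exact Subgroup.mul_mem _ (Subgroup.mul_mem _ hu hx) (Subgroup.inv_mem _ hu)
  · left
    obtain ⟨h1, h2⟩ := centralizer_facts A hAab m hcd p hAp k hidx hB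
    exact ⟨_, inferInstance, h1, h2⟩

end ppow

end Cfsg.Agent.Lib.Helper2
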