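import Mathlib
import Cfsg.Prelude
import Cfsg.Agent.Lib.Helper2.TwoDegB
import Cfsg.Agent.Lib.Helper2.TwoDegC
import Cfsg.Agent.Lib.Helper2.TwoDegE
import Cfsg.Agent.Lib.Helper2.MaxClass2
import Cfsg.Agent.Lib.Helper2.CharIto

/-!
# Two character degrees: the structure theorem
-/

set_option autoImplicit false

namespace Cfsg.Agent.Lib.Helper2

open scoped ComplexConjugate

universe u

/-- a fixed-point-free conjugation on a normal subgroup: commutators with `x` cover it -/
theorem fpf_comm_surj {Q : Type*} [Group Q] [Finite Q] (V : Subgroup Q) [hV : V.Normal] (x : Q)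
    (hx : ∀ v ∈ V, x * v = v * x → v = 1) :
    ∀ u ∈ V, ∃ v ∈ V, x * v * x⁻¹ * v⁻¹ = u := by
  let f : V → V := fun v => ⟨x * v * x⁻¹, hV.conj_mem v v.2 _⟩ * v⁻¹
  have hfinj : Function.Injective f := by
    intro v w hvw
    have h1 : x * v * x⁻¹ * (v : Q)⁻¹ = x * w * x⁻¹ * (w : Q)⁻¹ := congrArg Subtype.val hvw
    have h1' : x * v * x⁻¹ = x * w * x⁻¹ * (w : Q)⁻¹ * v := by
      rw [← h1]; group
    have h2 : x * ((w : Q)⁻¹ * v) = ((w : Q)⁻¹ * v) * x := by
      calc x * ((w : Q)⁻¹ * v)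
          = (x * w * x⁻¹)⁻¹ * (x * v * x⁻¹) * x := by group
        _ = ((w : Q)⁻¹ * v) * x := by rw [h1']; group
    have h3 := hx ((w : Q)⁻¹ * v) (V.mul_mem (V.inv_mem w.2) v.2) h2
    apply Subtype.ext
    have h4 : (v : Q) = w * ((w : Q)⁻¹ * v) := by group
    rw [h4, h3, mul_one]
  have hfsurj := Finite.surjective_of_injective hfinj
  intro u hu
  obtain ⟨v, hv⟩ := hfsurj ⟨u, hu⟩
  exact ⟨v, v.2, congrArg Subtype.val hv⟩

/-- a linear character invariant under a fixed-point-free conjugation is trivial -/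
theorem fpf_char_trivial {Q : Type*} [Group Q] [Finite Q] (V : Subgroup Q) [hV : V.Normal] (x : Q)
    (hx : ∀ v ∈ V, x * v = v * x → v = 1) (ν : V →* ℂˣ)
    (hinv : ∀ v : V, ν ⟨x * v * x⁻¹, hV.conj_mem v v.2 x⟩ = ν v) : ν = 1 := by
  refine MonoidHom.ext (fun u => ?_)
  obtain ⟨v, hv, huv⟩ := fpf_comm_surj V x hx u u.2
  have e : u = ⟨x * v * x⁻¹, hV.conj_mem v hv x⟩ * (⟨v, hv⟩ : V)⁻¹ := Subtype.ext huv.symm
  rw [e, map_mul, hinv ⟨v, hv⟩, map_inv, mul_inv_cancel, MonoidHom.one_apply]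

set_option maxHeartbeats 1000000 in
/-- structure of a quotient in which the commutator subgroup is the unique minimal normal
subgroup, of order coprime to `m` -/
theorem frob_quotient_structure {Q : Type u} [Group Q] [Fintype Q] (m : ℕ) (hm1 : m ≠ 1)
    (hcd : ∀ χ : Q → ℂ, Cfsg.IsIrrCharacter Q χ → χ 1 = 1 ∨ χ 1 = (m : ℂ))
    (hexm : ∃ χ : Q → ℂ, Cfsg.IsIrrCharacter Q χ ∧ χ 1 = (m : ℂ))
    (hVne : commutator Q ≠ ⊥)
    (hmin : ∀ L : Subgroup Q, L.Normal → L ≠ ⊥ → commutator Q ≤ L)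
    (hcop : Nat.Coprime m (Nat.card (commutator Q))) :
    (∀ a ∈ commutator Q, ∀ b ∈ commutator Q, a * b = b * a) ∧
    (∀ x : Q, x ∉ commutator Q → ∀ v ∈ commutator Q, x * v = v * x → v = 1) ∧
    (commutator Q).index = m := by
  classical
  obtain ⟨V, hVdef⟩ : ∃ V : Subgroup Q, V = commutator Q := ⟨_, rfl⟩
  rw [← hVdef] at hVne hmin hcop ⊢
  haveI hVn : V.Normal := by rw [hVdef]; infer_instance
  have := Fintype.ofFinite V
  have hVab : ∀ a ∈ V, ∀ b ∈ V, a * b = b * a := abelian_of_coprime_degrees V m hcd hcop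
  have hcommV : ∀ g x : Q, g⁻¹ * x * g * x⁻¹ ∈ V := by
    intro g x
    rw [hVdef, commutator_def]
    have h1 := Subgroup.commutator_mem_commutator (Subgroup.mem_top g⁻¹) (Subgroup.mem_top x)
    rw [commutatorElement_def, inv_inv] at h1
    exact h1
  obtain ⟨C, hCdef⟩ : ∃ C : Subgroup Q, C = Subgroup.centralizer (V : Set Q) := ⟨_, rfl⟩
  haveI hCn : C.Normal := by rw [hCdef]; infer_instance
  have hVC : V ≤ C := by
    intro a ha
    rw [hCdef, Subgroup.mem_centralizer_iff]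
    intro h hh
    exact hVab h hh a ha
  -- normality of relative centralizers
  have hnorm : ∀ W : Subgroup Q, W.Normal → W ≤ C → ∀ x : Q,
      (W ⊓ Subgroup.centralizer ({x} : Set Q)).Normal := by
    intro W hW hWC x
    constructor
    intro d hd g
    obtain ⟨hdW, hdx⟩ := Subgroup.mem_inf.mp hd
    refine Subgroup.mem_inf.mpr ⟨hW.conj_mem d hdW g, ?_⟩
    rw [Subgroup.mem_centralizer_iff]
    intro h hh
    rw [Set.mem_singleton_iff] at hh
    subst hh
    obtain ⟨v', hv'⟩ : ∃ v', v' = g⁻¹ * h * g * h⁻¹ := ⟨_, rfl⟩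
    have hv'V : v' ∈ V := hv' ▸ hcommV g h
    have e1 : h * g = g * (v' * h) := by rw [hv']; group
    have hdx' : h * d = d * h := Subgroup.mem_centralizer_iff.mp hdx h rfl
    have hdv' : v' * d = d * v' := by
      have h1 := hWC hdW
      rw [hCdef] at h1
      exact Subgroup.mem_centralizer_iff.mp h1 v' hv'V
    calc h * (g * d * g⁻¹) = (h * g) * d * g⁻¹ := by group
      _ = g * (v' * h) * d * g⁻¹ := by rw [e1]
      _ = g * v' * (h * d) * g⁻¹ := by group
      _ = g * v' * (d * h) * g⁻¹ := by rw [hdx']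
      _ = g * (v' * d) * h * g⁻¹ := by group
      _ = g * (d * v') * h * g⁻¹ := by rw [hdv']
      _ = g * d * g⁻¹ * (g * (v' * h)) * g⁻¹ := by group
      _ = g * d * g⁻¹ * (h * g) * g⁻¹ := by rw [← e1]
      _ = g * d * g⁻¹ * h := by group
  -- C is proper
  have hCtop : C ≠ ⊤ := by
    intro hC
    have hcent : ∀ v ∈ V, ∀ g : Q, v * g = g * v := by
      intro v hv g
      have h1 : g ∈ Subgroup.centralizer (V : Set Q) := by
        rw [← hCdef, hC]; exact Subgroup.mem_top g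
      exact Subgroup.mem_centralizer_iff.mp h1 v hv
    obtain ⟨p, hp, hpm⟩ := Nat.exists_prime_and_dvd hm1
    haveI : Fact p.Prime := ⟨hp⟩
    obtain ⟨P⟩ : Nonempty (Sylow p Q) := inferInstance
    have hpV : Nat.Coprime (Nat.card V) p := by
      have h1 : Nat.Coprime p (Nat.card V) := Nat.Coprime.coprime_dvd_left hpm hcop
      exact h1.symm
    have hPab : ∀ a ∈ (P : Subgroup Q), ∀ b ∈ (P : Subgroup Q), a * b = b * a := by
      intro a ha b hb
      obtain ⟨c, hc⟩ : ∃ c, c = a * b * a⁻¹ * b⁻¹ := ⟨_, rfl⟩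
      have hcP : c ∈ (P : Subgroup Q) := by
        rw [hc]
        exact Subgroup.mul_mem _ (Subgroup.mul_mem _ (Subgroup.mul_mem _ ha hb)
          (Subgroup.inv_mem _ ha)) (Subgroup.inv_mem _ hb)
      have hcV : c ∈ V := by
        have h1 := hcommV a⁻¹ b
        rw [inv_inv] at h1
        rw [hc]
        have e : a * b * a⁻¹ * b⁻¹ = a * b * a⁻¹ * b⁻¹ := rfl
        exact h1
      obtain ⟨j, hj⟩ := P.isPGroup' ⟨c, hcP⟩
      have h1 : c ^ (p ^ j) = 1 := congrArg Subtype.val hj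
      have h2 : c ^ (Nat.card V) = 1 :=
        congrArg Subtype.val (pow_card_eq_one' (x := (⟨c, hcV⟩ : V)))
      have h3 : orderOf c ∣ Nat.gcd (Nat.card V) (p ^ j) :=
        Nat.dvd_gcd (orderOf_dvd_of_pow_eq_one h2) (orderOf_dvd_of_pow_eq_one h1)
      rw [(Nat.Coprime.pow_right j hpV).gcd_eq_one, Nat.dvd_one] at h3
      have hc1 : c = 1 := orderOf_eq_one_iff.mp h3
      rw [hc] at hc1
      calc a * b = (a * b * a⁻¹ * b⁻¹) * (b * a) := by group
        _ = b * a := by rw [hc1, one_mul]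
    obtain ⟨S, hSdef⟩ : ∃ S : Subgroup Q, S = (P : Subgroup Q) ⊔ V := ⟨_, rfl⟩
    have hVS : V ≤ S := by rw [hSdef]; exact le_sup_right
    haveI hSn : S.Normal := by
      constructor
      intro s hs g
      have h1 := hcommV g⁻¹ s
      rw [inv_inv] at h1
      have e : g * s * g⁻¹ = (g * s * g⁻¹ * s⁻¹) * s := by group
      rw [e]
      exact S.mul_mem (hVS h1) hs
    have hSab : ∀ a ∈ S, ∀ b ∈ S, a * b = b * a := by
      intro a ha b hb
      rw [hSdef] at ha hb
      obtain ⟨t, ht, c, hc, rfl⟩ := Subgroup.mem_sup_of_normal_right.mp ha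
      obtain ⟨t', ht', c', hc', rfl⟩ := Subgroup.mem_sup_of_normal_right.mp hb
      have e1 := hcent c hc
      have e2 := hcent c' hc'
      calc t * c * (t' * c') = t * (c * t') * c' := by group
        _ = t * (t' * c) * c' := by rw [e1 t']
        _ = t * t' * (c * c') := by group
        _ = t' * t * (c' * c) := by rw [hPab t ht t' ht', e1 c']
        _ = t' * (t * c') * c := by group
        _ = t' * (c' * t) * c := by rw [← e2 t]
        _ = t' * c' * (t * c) := by group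
    obtain ⟨χ, hχ, hχm⟩ := hexm
    obtain ⟨n, ρ, hρ, rfl⟩ := hχ
    haveI := hρ
    have h1 := ito_degree_dvd_index ρ S hSab
    have h2 : ρ.character 1 = (Module.finrank ℂ (Fin n → ℂ) : ℂ) := Representation.char_one ρ
    rw [hχm] at h2
    have h3 : m = Module.finrank ℂ (Fin n → ℂ) := by exact_mod_cast h2
    rw [← h3] at h1
    have h4 : S.index ∣ (P : Subgroup Q).index :=
      Subgroup.index_dvd_of_le (by rw [hSdef]; exact le_sup_left)
    exact P.not_dvd_index (hpm.trans (h1.trans h4))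
  -- elements outside C act without fixed points
  have hdich : ∀ x : Q, x ∉ C → ∀ v ∈ V, x * v = v * x → v = 1 := by
    intro x hx v hv hxv
    have hn := hnorm V hVn hVC x
    have hbot : V ⊓ Subgroup.centralizer ({x} : Set Q) = ⊥ := by
      by_contra hne
      have h1 := hmin _ hn hne
      apply hx
      rw [hCdef, Subgroup.mem_centralizer_iff]
      intro w hw
      have h2 := (Subgroup.mem_inf.mp (h1 hw)).2
      exact (Subgroup.mem_centralizer_iff.mp h2 x rfl).symm
    have h3 : v ∈ V ⊓ Subgroup.centralizer ({x} : Set Q) := by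
      refine Subgroup.mem_inf.mpr ⟨hv, ?_⟩
      rw [Subgroup.mem_centralizer_iff]
      intro h hh
      rw [Set.mem_singleton_iff] at hh
      rw [hh]; exact hxv
    rw [hbot] at h3
    exact Subgroup.mem_bot.mp h3
  -- C = V
  have hCV : C ≤ V := by
    obtain ⟨y, hy⟩ : ∃ y, y ∉ C := by
      by_contra h; push Not at h; exact hCtop (eq_top_iff.mpr (fun g _ => h g))
    have hn := hnorm C hCn le_rfl y
    have hbot : C ⊓ Subgroup.centralizer ({y} : Set Q) = ⊥ := by
      by_contra hne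
      have h1 := hmin _ hn hne
      apply hVne
      rw [eq_bot_iff]
      intro v hv
      have h2 := (Subgroup.mem_inf.mp (h1 hv)).2
      have h3 : y * v = v * y := Subgroup.mem_centralizer_iff.mp h2 y rfl
      exact Subgroup.mem_bot.mpr (hdich y hy v hv h3)
    intro c hc
    have hu : y * c * y⁻¹ * c⁻¹ ∈ V := by
      have h1 := hcommV y⁻¹ c
      rwa [inv_inv] at h1
    obtain ⟨v, hv, hvu⟩ := fpf_comm_surj V y (hdich y hy) _ hu
    have hd : v⁻¹ * c ∈ C ⊓ Subgroup.centralizer ({y} : Set Q) := by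
      refine Subgroup.mem_inf.mpr ⟨C.mul_mem (C.inv_mem (hVC hv)) hc, ?_⟩
      rw [Subgroup.mem_centralizer_iff]
      intro h hh
      rw [Set.mem_singleton_iff] at hh
      subst hh
      have e1 : h * v * h⁻¹ = (h * c * h⁻¹ * c⁻¹) * v := by rw [← hvu]; group
      have e2 : h * c * h⁻¹ = (h * c * h⁻¹ * c⁻¹) * c := by group
      calc h * (v⁻¹ * c) = (h * v * h⁻¹)⁻¹ * (h * c * h⁻¹) * h := by group
        _ = ((h * c * h⁻¹ * c⁻¹) * v)⁻¹ * ((h * c * h⁻¹ * c⁻¹) * c) * h := by rw [← e1, ← e2]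
        _ = v⁻¹ * c * h := by group
    rw [hbot] at hd
    have h5 : v⁻¹ * c = 1 := Subgroup.mem_bot.mp hd
    have h6 : c = v := by
      calc c = v * (v⁻¹ * c) := by group
        _ = v := by rw [h5, mul_one]
    rw [h6]; exact hv
  have hfpf : ∀ x : Q, x ∉ V → ∀ v ∈ V, x * v = v * x → v = 1 :=
    fun x hx => hdich x (fun h => hx (hCV h))
  refine ⟨hVab, hfpf, ?_⟩
  -- the index
  obtain ⟨v₀, hv₀⟩ := (Subgroup.ne_bot_iff_exists_ne_one).mp hVne
  obtain ⟨ν₀, hν₀⟩ := exists_hom_ne_one_of_comm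
    (fun a b : V => Subtype.ext (hVab a a.2 b b.2)) hv₀
  have hν₀1 : ν₀ ≠ 1 := by
    intro h; apply hν₀; rw [h]; rfl
  obtain ⟨θ, hθdef⟩ : ∃ θ : V → ℂ, θ = fun v => (ν₀ v : ℂ) := ⟨_, rfl⟩
  have hθ : Cfsg.IsIrrCharacter V θ := hθdef ▸ isIrrCharacter_of_hom ν₀
  have hT : ∀ g : Q, g ∈ V ↔ ∀ h : V, θ ⟨g * h * g⁻¹, hVn.conj_mem h h.2 g⟩ = θ h := by
    intro g
    constructor
    · intro hg h
      congr 1
      apply Subtype.ext
      show g * h * g⁻¹ = h
      rw [hVab g hg h h.2]; group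
    · intro hinv
      by_contra hg
      apply hν₀1
      apply fpf_char_trivial V g (hfpf g hg) ν₀
      intro v
      have h1 := hinv v
      rw [hθdef] at h1
      exact Units.ext h1
  have hirr := ind_irr_of_ext V V θ hθ hT le_rfl θ hθ 1 one_ne_zero (by
    intro h; simp)
  have h1 : Cfsg.indFun V θ 1 = ((V.index : ℕ) : ℂ) := by
    rw [indFun_apply_one, hθdef]; simp
  rcases hcd _ hirr with h2 | h2
  · rw [h1] at h2
    have h3 : V.index = 1 := by exact_mod_cast h2
    exfalso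
    apply hCtop
    rw [eq_top_iff, ← Subgroup.index_eq_one.mp h3]
    exact hVC
  · rw [h1] at h2
    exact_mod_cast h2

end Cfsg.Agent.Lib.Helper2
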