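import Mathlib
import Cfsg.Prelude
import Cfsg.Agent.Lib.Helper2.TwoDegF

/-!
# Two character degrees: the main theorem
-/

set_option autoImplicit false

namespace Cfsg.Agent.Lib.Helper2

open scoped ComplexConjugate

universe u

set_option maxHeartbeats 1000000 in
/-- groups with exactly two character degrees `1` and `m` -/
theorem two_deg_main {G : Type u} [Group G] [Fintype G] (m : ℕ) (hm1 : m ≠ 1)
    (hcd : ∀ χ : G → ℂ, Cfsg.IsIrrCharacter G χ → χ 1 = 1 ∨ χ 1 = (m : ℂ))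
    (hexm : ∃ χ : G → ℂ, Cfsg.IsIrrCharacter G χ ∧ χ 1 = (m : ℂ)) :
    (∃ A : Subgroup G, A.Normal ∧ (∀ a ∈ A, ∀ b ∈ A, a * b = b * a) ∧ A.index = m) ∨
    ∃ p e : ℕ, p.Prime ∧ m = p ^ e ∧ ∃ P A : Subgroup G, P.Normal ∧ A.Normal ∧ IsPGroup p P ∧
      (∀ a ∈ A, ∀ b ∈ A, a * b = b * a) ∧ P ⊓ A = ⊥ ∧ P ⊔ A = ⊤ := by
  classical
  -- G is not abelian
  have hnab : ¬ commutator G ≤ ⊥ := by
    intro h
    obtain ⟨χ, hχ, hχm⟩ := hexm
    have h1 : χ 1 = 1 := irr_deg_one_of_commutator_trivial hχ (fun c hc => by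
      rw [Subgroup.mem_bot.mp (h hc)])
    rw [hχm] at h1
    apply hm1
    exact_mod_cast h1
  -- a maximal normal subgroup with nonabelian quotient
  obtain ⟨K, ⟨hKn, hKc⟩, hKmax⟩ := Set.exists_max_image
    {K : Subgroup G | K.Normal ∧ ¬ commutator G ≤ K} (fun K => Nat.card K) (Set.toFinite _)
    ⟨⊥, inferInstance, hnab⟩
  haveI := hKn
  have := Fintype.ofFinite (G ⧸ K)
  have hcdQ : ∀ χ : G ⧸ K → ℂ, Cfsg.IsIrrCharacter (G ⧸ K) χ → χ 1 = 1 ∨ χ 1 = (m : ℂ) := by
    intro χ hχ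
    have h1 := hcd _ (isIrrCharacter_comp_of_surjective hχ (QuotientGroup.mk' K)
      (QuotientGroup.mk'_surjective K))
    simpa only [Function.comp_apply, map_one] using h1
  have hVne : commutator (G ⧸ K) ≠ ⊥ := by
    rw [commutator_quotient_eq_map K]
    intro h
    rw [Subgroup.map_eq_bot_iff, QuotientGroup.ker_mk'] at h
    exact hKc h
  have hmin : ∀ L : Subgroup (G ⧸ K), L.Normal → L ≠ ⊥ → commutator (G ⧸ K) ≤ L := by
    intro L hL hLne
    obtain ⟨L₀, hL₀⟩ : ∃ L₀ : Subgroup G, L₀ = L.comap (QuotientGroup.mk' K) := ⟨_, rfl⟩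
    haveI hL₀n : L₀.Normal := by rw [hL₀]; infer_instance
    have hKL : K ≤ L₀ := by
      intro k hk
      rw [hL₀, Subgroup.mem_comap]
      have : (QuotientGroup.mk' K) k = 1 := (QuotientGroup.eq_one_iff k).mpr hk
      rw [this]; exact L.one_mem
    have hmap : L₀.map (QuotientGroup.mk' K) = L := by
      rw [hL₀]
      exact Subgroup.map_comap_eq_self_of_surjective (QuotientGroup.mk'_surjective K) L
    have hcomm : commutator G ≤ L₀ := by
      by_contra hnot
      have h1 := hKmax L₀ ⟨hL₀n, hnot⟩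
      have h2 : K = L₀ := Subgroup.eq_of_le_of_card_ge hKL h1
      apply hLne
      rw [← hmap, ← h2, Subgroup.map_eq_bot_iff, QuotientGroup.ker_mk']
    rw [commutator_quotient_eq_map K, ← hmap]
    exact Subgroup.map_mono hcomm
  have hexmQ : ∃ χ : G ⧸ K → ℂ, Cfsg.IsIrrCharacter (G ⧸ K) χ ∧ χ 1 = (m : ℂ) := by
    by_contra hno
    push Not at hno
    have hall : ∀ χ : G ⧸ K → ℂ, Cfsg.IsIrrCharacter (G ⧸ K) χ → χ 1 = 1 :=
      fun χ h => (hcdQ χ h).resolve_right (hno χ h)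
    have hc := comm_of_all_linear hall
    apply hVne
    rw [eq_bot_iff, commutator_eq_closure, Subgroup.closure_le]
    rintro x ⟨a, b, rfl⟩
    simp only [SetLike.mem_coe, Subgroup.mem_bot, commutatorElement_def]
    rw [hc a b]; group
  have hm0 : m ≠ 0 := by
    obtain ⟨χ, hχ, hχm⟩ := hexm
    obtain ⟨d, hd0, hd⟩ := irr_apply_one hχ
    rw [hχm] at hd
    have : m = d := by exact_mod_cast hd
    omega
  by_cases hcase : ∃ p : ℕ, p.Prime ∧ p ∣ m ∧ ∃ k : ℕ, Nat.card (G ⧸ K) = p ^ k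
  · -- the prime power case
    obtain ⟨p, hp, hpm, k, hk⟩ := hcase
    haveI : Fact p.Prime := ⟨hp⟩
    obtain ⟨χ, hχ, hχm⟩ := hexmQ
    have hmdvd : m ∣ Nat.card (G ⧸ K) := irr_deg_dvd_card' hχ m hχm
    rw [hk] at hmdvd
    obtain ⟨e, -, he⟩ := (Nat.dvd_prime_pow hp).mp hmdvd
    have hth : ∀ χ : G → ℂ, Cfsg.IsIrrCharacter G χ → ∀ d : ℕ, χ 1 = (d : ℂ) →
        d = 1 ∨ p ∣ d := by
      intro χ hχ d hd
      rcases hcd χ hχ with h1 | h1
      · left; rw [h1] at hd; exact_mod_cast hd.symm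
      · right
        rw [h1] at hd
        have : m = d := by exact_mod_cast hd
        rw [← this]; exact hpm
    obtain ⟨A, hAn, hAp, k', hAidx⟩ := thompson_pcomp p hth
    haveI := hAn
    have hAab : ∀ a ∈ A, ∀ b ∈ A, a * b = b * a :=
      abelian_of_coprime_degrees A m hcd (by rw [he]; exact Nat.Coprime.pow_left e hAp.symm)
    rcases two_deg_ppow A hAab m hcd p hAp k' hAidx with h1 | ⟨P, hPn, hPp, hinf, hsup⟩
    · exact Or.inl h1
    · exact Or.inr ⟨p, e, hp, he, P, A, hPn, hAn, hPp, hAab, hinf, hsup⟩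
  · -- the Frobenius case
    left
    have hcop : Nat.Coprime m (Nat.card (commutator (G ⧸ K))) := by
      apply Nat.coprime_of_dvd
      intro p hp hpm hpV
      haveI : Fact p.Prime := ⟨hp⟩
      have hth : ∀ χ : G ⧸ K → ℂ, Cfsg.IsIrrCharacter (G ⧸ K) χ → ∀ d : ℕ, χ 1 = (d : ℂ) →
          d = 1 ∨ p ∣ d := by
        intro χ hχ d hd
        rcases hcdQ χ hχ with h1 | h1
        · left; rw [h1] at hd; exact_mod_cast hd.symm
        · right
          rw [h1] at hd
          have : m = d := by exact_mod_cast hd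
          rw [← this]; exact hpm
      obtain ⟨M, hMn, hMp, k, hMidx⟩ := thompson_pcomp p hth
      by_cases hM : M = ⊥
      · apply hcase
        refine ⟨p, hp, hpm, k, ?_⟩
        rw [← hMidx, hM, Subgroup.index_bot]
      · have h1 := hmin M hMn hM
        have h2 : p ∣ Nat.card M := hpV.trans (Subgroup.card_dvd_of_le h1)
        have h3 : p ∣ Nat.gcd (Nat.card M) p := Nat.dvd_gcd h2 dvd_rfl
        rw [hMp.gcd_eq_one] at h3
        exact hp.one_lt.ne' (Nat.dvd_one.mp h3)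
    obtain ⟨hVab, hfpf, hVidx⟩ := frob_quotient_structure m hm1 hcdQ hexmQ hVne hmin hcop
    have hab := frob_quotient_abelian K (commutator (G ⧸ K)) hVne hfpf hVab m hVidx hcop hcd
    refine ⟨(commutator (G ⧸ K)).comap (QuotientGroup.mk' K), inferInstance, hab, ?_⟩
    rw [Subgroup.index_comap_of_surjective _ (QuotientGroup.mk'_surjective K), hVidx]

end Cfsg.Agent.Lib.Helper2
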