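import Mathlib
import Cfsg.Prelude
import Cfsg.Agent.Lib.Helper2.TwoDegG
import Cfsg.Agent.Lib.Helper2.CharBasic
import Cfsg.Agent.Lib.Helper2.CharComplete
import Cfsg.Agent.Lib.Helper2.CharCenter
import Cfsg.Agent.Lib.Helper2.GoingDown

/-!
# Degrees `1` and `p`: the centre of a `p`-quotient
-/

set_option autoImplicit false

namespace Cfsg.Agent.Lib.Helper2

open scoped ComplexConjugate

universe u

/-- the norm of the restriction of an irreducible character to the centre is the square of the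
degree -/
theorem norm_restrict_center {G : Type*} [Group G] [Fintype G] [Fintype (Subgroup.center G)]
    {χ : G → ℂ} (hχ : Cfsg.IsIrrCharacter G χ) (d : ℕ) (hd : χ 1 = (d : ℂ)) :
    Cfsg.classInner (fun c : Subgroup.center G => χ c) (fun c : Subgroup.center G => χ c)
      = (d : ℂ) ^ 2 := by
  classical
  obtain ⟨n, ρ, hρ, rfl⟩ := hχ
  haveI := hρ
  have hfin : (Module.finrank ℂ (Fin n → ℂ) : ℂ) = d := by rw [← hd, Representation.char_one]
  have hfin' : Module.finrank ℂ (Fin n → ℂ) = d := by exact_mod_cast hfin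
  have hterm : ∀ c : Subgroup.center G,
      ρ.character c * conj (ρ.character c) = (d : ℂ) ^ 2 := by
    intro c
    have hsc : ∃ ω : ℂ, ρ (c : G) = ω • (LinearMap.id : (Fin n → ℂ) →ₗ[ℂ] (Fin n → ℂ)) := by
      apply schur_scalar ρ
      intro g
      change ρ (c : G) * ρ g = ρ g * ρ (c : G)
      rw [← map_mul, ← map_mul, Subgroup.mem_center_iff.mp c.2 g]
    have h1 := (norm_char_eq_iff ρ (c : G)).mpr hsc
    rw [Complex.mul_conj, Complex.normSq_eq_norm_sq, h1, hfin']
    push_cast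
    rfl
  rw [classInner_def, Finset.sum_congr rfl (fun c _ => hterm c), Finset.sum_const,
    Finset.card_univ, nsmul_eq_mul, ← Nat.card_eq_fintype_card, ← mul_assoc,
    inv_mul_cancel₀ (card_ne_zero_complex _), one_mul]

/-- the square of the degree is at most the index of the centre -/
theorem deg_sq_le_index_center {G : Type*} [Group G] [Fintype G] {χ : G → ℂ}
    (hχ : Cfsg.IsIrrCharacter G χ) (d : ℕ) (hd : χ 1 = (d : ℂ)) :
    d ^ 2 ≤ (Subgroup.center G).index := by
  classical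
  have := Fintype.ofFinite (Subgroup.center G)
  obtain ⟨r, hr, hle, -⟩ := restrict_norm_le (Subgroup.center G) hχ
  rw [norm_restrict_center hχ d hd] at hr
  have h1 : ((d ^ 2 : ℕ) : ℝ) = r := by
    have : (((d ^ 2 : ℕ) : ℝ) : ℂ) = (r : ℂ) := by rw [← hr]; push_cast; rfl
    exact_mod_cast this
  have h2 : ((d ^ 2 : ℕ) : ℝ) ≤ ((Subgroup.center G).index : ℝ) := by rw [h1]; exact hle
  exact_mod_cast h2

set_option maxHeartbeats 1000000 in
/-- a `p`-quotient with minimal commutator subgroup: its centre has index `p ^ 2` and a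
character of degree `p` vanishes off its preimage -/
theorem pquot_center {G : Type u} [Group G] [Fintype G] (p : ℕ) [Fact p.Prime]
    (hcd : ∀ χ : G → ℂ, Cfsg.IsIrrCharacter G χ → χ 1 = 1 ∨ χ 1 = (p : ℂ))
    (K : Subgroup G) [K.Normal] (hPG : IsPGroup p (G ⧸ K)) (hVne : commutator (G ⧸ K) ≠ ⊥)
    (hmin : ∀ L : Subgroup (G ⧸ K), L.Normal → L ≠ ⊥ → commutator (G ⧸ K) ≤ L) :
    ∃ Z : Subgroup G, Z.Normal ∧ Z.index = p ^ 2 ∧ (∀ x y : G, x * y * x⁻¹ * y⁻¹ ∈ Z) ∧
      ∃ χ : G → ℂ, Cfsg.IsIrrCharacter G χ ∧ χ 1 = (p : ℂ) ∧ ∀ g : G, g ∉ Z → χ g = 0 := by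
  classical
  have hp : p.Prime := Fact.out
  have := Fintype.ofFinite (G ⧸ K)
  haveI : Nontrivial (G ⧸ K) := by
    obtain ⟨v, hv⟩ := (Subgroup.ne_bot_iff_exists_ne_one).mp hVne
    exact ⟨⟨(v : G ⧸ K), 1, fun h => hv (Subtype.ext h)⟩⟩
  haveI := hPG.center_nontrivial
  have hcne : Subgroup.center (G ⧸ K) ≠ ⊥ :=
    (Subgroup.nontrivial_iff_ne_bot _).mp inferInstance
  have hQ'Z : commutator (G ⧸ K) ≤ Subgroup.center (G ⧸ K) := hmin _ inferInstance hcne
  have hcdQ : ∀ χ : G ⧸ K → ℂ, Cfsg.IsIrrCharacter (G ⧸ K) χ → χ 1 = 1 ∨ χ 1 = (p : ℂ) := by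
    intro χ hχ
    have h1 := hcd _ (isIrrCharacter_comp_of_surjective hχ (QuotientGroup.mk' K)
      (QuotientGroup.mk'_surjective K))
    simpa only [Function.comp_apply, map_one] using h1
  have hex : ∃ χ : G ⧸ K → ℂ, Cfsg.IsIrrCharacter (G ⧸ K) χ ∧ χ 1 = (p : ℂ) := by
    by_contra hno
    push Not at hno
    have hall : ∀ χ : G ⧸ K → ℂ, Cfsg.IsIrrCharacter (G ⧸ K) χ → χ 1 = 1 :=
      fun χ h => (hcdQ χ h).resolve_right (hno χ h)
    have hc := comm_of_all_linear hall
    apply hVne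
    rw [eq_bot_iff, commutator_eq_closure, Subgroup.closure_le]
    rintro x ⟨a, b, rfl⟩
    simp only [SetLike.mem_coe, Subgroup.mem_bot, commutatorElement_def]
    rw [hc a b]; group
  obtain ⟨χ₀, hχ₀, hχ₀p⟩ := hex
  have := Fintype.ofFinite (Subgroup.center (G ⧸ K))
  have hnorm := norm_restrict_center hχ₀ p hχ₀p
  have hvan : ∀ x : G ⧸ K, x ∉ Subgroup.center (G ⧸ K) → χ₀ x = 0 := by
    obtain ⟨n, ρ, hρ, hρχ⟩ := id hχ₀
    haveI := hρ
    have hfaith : ∀ g : G ⧸ K, ρ g = LinearMap.id → g = 1 := by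
      intro g₀ hg₀
      by_contra hne
      have hker : (MonoidHom.ker ρ) ≠ ⊥ := by
        intro h
        apply hne
        have h1 : g₀ ∈ MonoidHom.ker ρ := MonoidHom.mem_ker.mpr hg₀
        rw [h] at h1
        exact Subgroup.mem_bot.mp h1
      have hle := hmin _ (MonoidHom.normal_ker ρ) hker
      have h1 : χ₀ 1 = 1 := irr_deg_one_of_commutator_trivial hχ₀ (fun c hc => by
        have h2 : ρ c = LinearMap.id := MonoidHom.mem_ker.mp (hle hc)
        rw [← hρχ, (char_eq_finrank_iff ρ c).mpr h2, Representation.char_one])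
      rw [hχ₀p] at h1
      have : p = 1 := by exact_mod_cast h1
      exact hp.ne_one this
    intro x hx
    rw [Subgroup.mem_center_iff] at hx
    push Not at hx
    obtain ⟨y, hy⟩ := hx
    obtain ⟨c, hc⟩ : ∃ c, c = y * x * y⁻¹ * x⁻¹ := ⟨_, rfl⟩
    have hcc : c ∈ commutator (G ⧸ K) := by
      rw [commutator_def, hc]
      have h1 := Subgroup.commutator_mem_commutator (Subgroup.mem_top y) (Subgroup.mem_top x)
      rwa [commutatorElement_def] at h1
    have hcZ := hQ'Z hcc
    have hc1 : c ≠ 1 := by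
      intro h
      apply hy
      calc y * x = c * (x * y) := by rw [hc]; group
        _ = x * y := by rw [h, one_mul]
    obtain ⟨ω, hω⟩ : ∃ ω : ℂ, ρ c = ω • (LinearMap.id : (Fin n → ℂ) →ₗ[ℂ] (Fin n → ℂ)) := by
      apply schur_scalar ρ
      intro g
      change ρ c * ρ g = ρ g * ρ c
      rw [← map_mul, ← map_mul, Subgroup.mem_center_iff.mp hcZ g]
    have hω1 : ω ≠ 1 := by
      intro h
      rw [h, one_smul] at hω
      exact hc1 (hfaith c hω)
    have h1 : ρ.character (c * x) = ω * ρ.character x := by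
      unfold Representation.character
      rw [map_mul, hω, Module.End.mul_eq_comp, LinearMap.smul_comp, LinearMap.id_comp, map_smul,
        smul_eq_mul]
    have h2 : ρ.character (c * x) = ρ.character x := by
      have e : c * x = y * x * y⁻¹ := by rw [hc]; group
      rw [e, Representation.char_conj]
    have h3 : (ω - 1) * ρ.character x = 0 := by rw [sub_mul, one_mul, ← h1, h2, sub_self]
    rcases mul_eq_zero.mp h3 with h4 | h4
    · exact absurd (sub_eq_zero.mp h4) hω1
    · rw [← hρχ]; exact h4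
  have hidx : (Subgroup.center (G ⧸ K)).index = p ^ 2 := by
    obtain ⟨r, hr, -, hreq⟩ := restrict_norm_le (Subgroup.center (G ⧸ K)) hχ₀
    have hr' := hreq hvan
    rw [hnorm] at hr
    have h1 : ((p ^ 2 : ℕ) : ℝ) = r := by
      have : (((p ^ 2 : ℕ) : ℝ) : ℂ) = (r : ℂ) := by rw [← hr]; push_cast; rfl
      exact_mod_cast this
    rw [hr'] at h1
    exact_mod_cast h1.symm
  refine ⟨(Subgroup.center (G ⧸ K)).comap (QuotientGroup.mk' K), inferInstance, ?_, ?_,
    χ₀ ∘ (QuotientGroup.mk' K), isIrrCharacter_comp_of_surjective hχ₀ (QuotientGroup.mk' K)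
      (QuotientGroup.mk'_surjective K), ?_, ?_⟩
  · rw [Subgroup.index_comap_of_surjective _ (QuotientGroup.mk'_surjective K), hidx]
  · intro x y
    rw [Subgroup.mem_comap]
    apply hQ'Z
    rw [commutator_def, map_mul, map_mul, map_mul, map_inv, map_inv]
    have h1 := Subgroup.commutator_mem_commutator
      (Subgroup.mem_top ((QuotientGroup.mk' K) x)) (Subgroup.mem_top ((QuotientGroup.mk' K) y))
    rwa [commutatorElement_def] at h1
  · simp only [Function.comp_apply, map_one]; exact hχ₀p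
  · intro g hg
    simp only [Function.comp_apply]
    exact hvan _ (fun h => hg (Subgroup.mem_comap.mpr h))

end Cfsg.Agent.Lib.Helper2
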