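import Mathlib
import Cfsg.Prelude
import Cfsg.Agent.Lib.Helper2.TwoDegI
import Cfsg.Agent.Lib.Helper2.HallDeg
import Cfsg.Agent.Lib.Helper25.KerPd2

/-!
# Characters of larger degree and smaller kernel: character-theoretic part
-/

set_option autoImplicit false

namespace Cfsg.Agent.Lib.Helper2

open scoped ComplexConjugate

universe u

/-- restriction to a supplement of a subgroup of the kernel is irreducible -/
theorem restrict_irr_of_sup {G : Type*} [Group G] [Finite G] {χ : G → ℂ}
    (hχ : Cfsg.IsIrrCharacter G χ) (K : Subgroup G) [K.Normal] (hK : ∀ k ∈ K, χ k = χ 1)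
    (M : Subgroup G) (hKM : K ⊔ M = ⊤) : Cfsg.IsIrrCharacter M (fun m : M => χ m) := by
  obtain ⟨χ', hχ', hcomp⟩ := exists_irr_deflate (QuotientGroup.mk' K)
    (QuotientGroup.mk'_surjective K) hχ (fun z hz => hK z (by rwa [QuotientGroup.ker_mk'] at hz))
  have hsurj : Function.Surjective ((QuotientGroup.mk' K).comp M.subtype) := by
    intro q
    obtain ⟨g, rfl⟩ := QuotientGroup.mk'_surjective K q
    have hg : g ∈ K ⊔ M := hKM ▸ Subgroup.mem_top g
    obtain ⟨k, hk, m, hm, rfl⟩ := Subgroup.mem_sup_of_normal_left.mp hg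
    refine ⟨⟨m, hm⟩, ?_⟩
    simp only [MonoidHom.comp_apply, Subgroup.coe_subtype, QuotientGroup.mk'_apply,
      QuotientGroup.mk_mul]
    rw [(QuotientGroup.eq_one_iff k).mpr hk, one_mul]
  have h1 := isIrrCharacter_comp_of_surjective hχ' _ hsurj
  have e : (fun m : M => χ m) = χ' ∘ ((QuotientGroup.mk' K).comp M.subtype) := by
    funext m
    rw [hcomp]; rfl
  rw [e]; exact h1

/-- the kernel of an irreducible character is a normal subgroup -/
theorem exists_char_kernel {G : Type*} [Group G] [Finite G] {ψ : G → ℂ}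
    (hψ : Cfsg.IsIrrCharacter G ψ) :
    ∃ L : Subgroup G, L.Normal ∧ ∀ g, g ∈ L ↔ ψ g = ψ 1 := by
  obtain ⟨n, ρ, hρ, rfl⟩ := hψ
  refine ⟨MonoidHom.ker ρ, inferInstance, fun g => ?_⟩
  rw [MonoidHom.mem_ker, Representation.char_one, char_eq_finrank_iff]
  rfl

/-- elements of the kernel of a character do not change its values -/
theorem char_mul_of_mem_ker {G : Type*} [Group G] [Finite G] {ψ : G → ℂ}
    (hψ : Cfsg.IsIrrCharacter G ψ) {k : G} (hk : ψ k = ψ 1) (g : G) : ψ (k * g) = ψ g := by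
  obtain ⟨n, ρ, hρ, rfl⟩ := hψ
  rw [Representation.char_one, char_eq_finrank_iff] at hk
  show LinearMap.trace ℂ _ (ρ (k * g)) = LinearMap.trace ℂ _ (ρ g)
  rw [map_mul, hk]
  rfl

set_option maxHeartbeats 1000000 in
/-- if the restriction of `χ` to `M` is irreducible, either some irreducible character lies over
it without restricting to it, or `χ` vanishes on `M` outside the core of `M` -/
theorem bg_dichotomy {G : Type u} [Group G] [Fintype G] {χ : G → ℂ}
    (hχ : Cfsg.IsIrrCharacter G χ) (M : Subgroup G) [Fintype M]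
    (hθ : Cfsg.IsIrrCharacter M (fun m : M => χ m)) :
    (∃ ψ : G → ℂ, Cfsg.IsIrrCharacter G ψ ∧
      Cfsg.classInner (fun m : M => ψ m) (fun m : M => χ m) ≠ 0 ∧
      (fun m : M => ψ m) ≠ (fun m : M => χ m)) ∨
    (∀ u ∈ M, χ u ≠ 0 → ∀ x : G, x⁻¹ * u * x ∈ M) := by
  classical
  by_cases hex : ∃ ψ : G → ℂ, Cfsg.IsIrrCharacter G ψ ∧
      Cfsg.classInner (fun m : M => ψ m) (fun m : M => χ m) ≠ 0 ∧
      (fun m : M => ψ m) ≠ (fun m : M => χ m)
  · exact Or.inl hex
  right
  push Not at hex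
  have := Fintype.ofFinite (Cfsg.IrrCharacter G)
  obtain ⟨θ, hθdef⟩ : ∃ θ : M → ℂ, θ = fun m : M => χ m := ⟨_, rfl⟩
  rw [← hθdef] at hθ hex
  have hexp := class_fun_expand (Cfsg.indFun M θ) (indFun_isClassFunction M θ)
  obtain ⟨C, hCdef⟩ : ∃ C : ℂ, C = ∑ ψ : Cfsg.IrrCharacter G,
      Cfsg.classInner (Cfsg.indFun M θ) (ψ : G → ℂ) := ⟨_, rfl⟩
  have hval : ∀ u ∈ M, Cfsg.indFun M θ u = C * χ u := by
    intro u hu
    have h1 := congrFun hexp u
    rw [Finset.sum_apply] at h1
    rw [h1, hCdef, Finset.sum_mul]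
    apply Finset.sum_congr rfl
    intro ψ _
    simp only [Pi.smul_apply, smul_eq_mul]
    by_cases h0 : Cfsg.classInner (Cfsg.indFun M θ) (ψ : G → ℂ) = 0
    · rw [h0, zero_mul, zero_mul]
    · congr 1
      have h2 : Cfsg.classInner (fun m : M => (ψ : G → ℂ) m) θ ≠ 0 := by
        rw [frobenius_reciprocity M θ _ (isClassFunction_of_isIrrCharacter ψ.2)] at h0
        intro h3
        apply h0
        rw [← classInner_conj_symm, h3, map_zero]
      have h3 := hex ψ.1 ψ.2 h2
      have h4 := congrFun h3 ⟨u, hu⟩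
      rw [hθdef] at h4
      exact h4
  obtain ⟨d, hd0, hd⟩ := irr_apply_one hχ
  have hdne : (d : ℂ) ≠ 0 := by
    have : d ≠ 0 := by omega
    exact_mod_cast this
  have hC : C = (M.index : ℂ) := by
    have h1 := hval 1 M.one_mem
    rw [indFun_apply_one, hθdef] at h1
    simp only [Subgroup.coe_one] at h1
    rw [hd] at h1
    exact (mul_right_cancel₀ hdne h1).symm
  intro u hu hχu x
  have h1 := hval u hu
  rw [indFun_apply, hC] at h1
  have hterm : ∀ y : G, Cfsg.extendByZero M θ (y⁻¹ * u * y)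
      = if y⁻¹ * u * y ∈ M then χ u else 0 := by
    intro y
    by_cases hy : y⁻¹ * u * y ∈ M
    · rw [if_pos hy, extendByZero_of_mem M θ hy, hθdef]
      have h2 := isClassFunction_of_isIrrCharacter hχ u y⁻¹
      rw [inv_inv] at h2
      exact h2
    · rw [if_neg hy, extendByZero_of_not_mem M θ hy]
  rw [Finset.sum_congr rfl (fun y _ => hterm y), ← Finset.sum_filter, Finset.sum_const,
    nsmul_eq_mul, ← mul_assoc] at h1
  have h2 := mul_right_cancel₀ hχu h1
  have hM0 : (Nat.card M : ℂ) ≠ 0 := card_ne_zero_complex M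
  have h3 : ((Finset.univ.filter (fun y : G => y⁻¹ * u * y ∈ M)).card : ℂ)
      = ((Nat.card M * M.index : ℕ) : ℂ) := by
    push_cast
    rw [← h2, ← mul_assoc, mul_inv_cancel₀ hM0, one_mul]
  have h4 : (Finset.univ.filter (fun y : G => y⁻¹ * u * y ∈ M)).card = Nat.card M * M.index := by
    exact_mod_cast h3
  rw [Subgroup.card_mul_index, Nat.card_eq_fintype_card, ← Finset.card_univ] at h4
  have h5 := Finset.eq_of_subset_of_card_le (Finset.filter_subset _ _) (le_of_eq h4.symm)
  have h6 : x ∈ Finset.univ.filter (fun y : G => y⁻¹ * u * y ∈ M) := by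
    rw [h5]; exact Finset.mem_univ x
  exact (Finset.mem_filter.mp h6).2

set_option maxHeartbeats 1000000 in
/-- an irreducible character lying over `χ_M` without restricting to it has larger degree and
smaller kernel, when `M` is a maximal subgroup supplementing the kernel of `χ` -/
theorem bg_bigger {G : Type u} [Group G] [Fintype G] {χ : G → ℂ}
    (hχ : Cfsg.IsIrrCharacter G χ) (K : Subgroup G) [K.Normal]
    (hK : ∀ g : G, g ∈ K ↔ χ g = χ 1) (M : Subgroup G) [Fintype M] (hKM : K ⊔ M = ⊤)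
    (hMtop : M ≠ ⊤)
    (hmax : ∀ H : Subgroup G, M ≤ H → H = M ∨ H = ⊤)
    {ψ : G → ℂ} (hψ : Cfsg.IsIrrCharacter G ψ)
    (hcon : Cfsg.classInner (fun m : M => ψ m) (fun m : M => χ m) ≠ 0)
    (hne : (fun m : M => ψ m) ≠ (fun m : M => χ m)) :
    (∃ a b : ℕ, χ 1 = (a : ℂ) ∧ ψ 1 = (b : ℂ) ∧ a < b) ∧
      ∃ L : Subgroup G, (∀ g : G, g ∈ L ↔ ψ g = ψ 1) ∧ L < K := by
  classical
  have hθ : Cfsg.IsIrrCharacter M (fun m : M => χ m) :=
    restrict_irr_of_sup hχ K (fun k hk => (hK k).mp hk) M hKM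
  have hres : Cfsg.IsCharacter M (fun m : M => ψ m) :=
    IsCharacter.restrict (isCharacter_of_isIrrCharacter hψ) M
  constructor
  · obtain ⟨N, d, hN, hd, hle⟩ := irr_deg_le_of_inner_ne_zero hres hθ hcon
    simp only [Subgroup.coe_one] at hN hd
    refine ⟨d, N, hd, hN, ?_⟩
    rcases Nat.lt_or_ge d N with h | h
    · exact h
    · exfalso
      have hdN : d = N := le_antisymm hle h
      apply hne
      apply eq_of_constituent_same_degree hres hθ hcon
      show ψ ((1 : M) : G) = χ ((1 : M) : G)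
      rw [Subgroup.coe_one, hN, hd, hdN]
  · obtain ⟨L, hLn, hL⟩ := exists_char_kernel hψ
    haveI := hLn
    have hLM : L ≤ M := by
      by_contra hnot
      have hsup : L ⊔ M = ⊤ := by
        rcases hmax (L ⊔ M) le_sup_right with h | h
        · exact absurd (h ▸ le_sup_left) hnot
        · exact h
      have hψM := restrict_irr_of_sup hψ L (fun k hk => (hL k).mp hk) M hsup
      apply hne
      by_contra hne'
      exact hcon (classInner_irr_ne hψM hθ hne')
    have hLK : L ≤ K := by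
      intro l hl
      rw [hK]
      have h1 : (fun m : M => ψ m) ⟨l, hLM hl⟩ = (fun m : M => ψ m) 1 := by
        show ψ l = ψ ((1 : M) : G)
        rw [Subgroup.coe_one]
        exact (hL l).mp hl
      have h2 := Cfsg.Agent.Lib.Helper25.kerpd_ker_constituent hres h1 hθ hcon
      simpa only [Subgroup.coe_one] using h2
    refine ⟨L, hL, lt_of_le_of_ne hLK ?_⟩
    intro hLeq
    apply hMtop
    rw [← hKM, ← hLeq]
    exact (sup_of_le_right hLM).symm

end Cfsg.Agent.Lib.Helper2
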