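import Mathlib
import Cfsg.Prelude
import Cfsg.Agent.Lib.Helper2.BGChar
import Cfsg.Agent.Lib.Helper2.BergerGrp

/-!
# Characters of larger degree and smaller kernel: the main theorem
-/

set_option autoImplicit false

namespace Cfsg.Agent.Lib.Helper2

open scoped ComplexConjugate

universe u

/-- the Frattini argument for a normal subgroup containing a Sylow subgroup of a bigger
subgroup -/
theorem frattini_sub {G : Type*} [Group G] [Finite G] (p : ℕ) [Fact p.Prime] (E D : Subgroup G)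
    [D.Normal] (hDE : D ≤ E) (P : Sylow p E)
    (hPD : (P : Subgroup E).map E.subtype ≤ D) :
    Subgroup.normalizer (((P : Subgroup E).map E.subtype : Subgroup G) : Set G) ⊔ D = ⊤ := by
  obtain ⟨Q, hQdef⟩ : ∃ Q : Subgroup G, Q = (P : Subgroup E).map E.subtype := ⟨_, rfl⟩
  rw [← hQdef] at hPD ⊢
  have hp : p.Prime := Fact.out
  have hcardQ : Nat.card Q = p ^ (Nat.card E).factorization p := by
    rw [hQdef, Subgroup.card_map_of_injective E.subtype_injective]
    exact P.card_eq_multiplicity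
  have hfac : (Nat.card D).factorization p = (Nat.card E).factorization p := by
    apply le_antisymm
    · have h1 : Nat.card D ∣ Nat.card E := Subgroup.card_dvd_of_le hDE
      exact (Nat.factorization_le_iff_dvd Nat.card_pos.ne' Nat.card_pos.ne').mpr h1 p
    · have h1 : Nat.card Q ∣ Nat.card D := Subgroup.card_dvd_of_le hPD
      rw [hcardQ] at h1
      exact (hp.pow_dvd_iff_le_factorization Nat.card_pos.ne').mp h1
  have hcard' : Nat.card (Q.subgroupOf D) = p ^ (Nat.card D).factorization p := by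
    rw [hfac, ← hcardQ]
    exact Nat.card_congr (Subgroup.subgroupOfEquivOfLe hPD).toEquiv
  have h1 := Sylow.normalizer_sup_eq_top (Sylow.ofCard (Q.subgroupOf D) hcard')
  rw [Sylow.coe_ofCard, Subgroup.map_subgroupOf_eq_of_le hPD] at h1
  exact h1

/-- a maximal subgroup above a proper subgroup -/
theorem exists_maximal_ge {G : Type*} [Group G] [Finite G] (N : Subgroup G) (hN : N ≠ ⊤) :
    ∃ M : Subgroup G, N ≤ M ∧ M ≠ ⊤ ∧ ∀ H : Subgroup G, M ≤ H → H = M ∨ H = ⊤ := by
  obtain ⟨M, ⟨hNM, hMtop⟩, hMmax⟩ := Set.exists_max_image {H : Subgroup G | N ≤ H ∧ H ≠ ⊤}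
    (fun H => Nat.card H) (Set.toFinite _) ⟨N, le_rfl, hN⟩
  refine ⟨M, hNM, hMtop, fun H hMH => ?_⟩
  by_cases hH : H = ⊤
  · exact Or.inr hH
  · left
    have h1 := hMmax H ⟨hNM.trans hMH, hH⟩
    exact (Subgroup.eq_of_le_of_card_ge hMH h1).symm

/-- a normal subgroup outside the Fitting subgroup has a Sylow subgroup that is not normal -/
theorem exists_sylow_nonnormal {G : Type*} [Group G] [Finite G] (K : Subgroup G) [K.Normal]
    (hK : ¬ K ≤ Cfsg.fittingSubgroup G) :
    ∃ (p : ℕ) (_ : Fact p.Prime) (P : Sylow p K),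
      Subgroup.normalizer (((P : Subgroup K).map K.subtype : Subgroup G) : Set G) ≠ ⊤ := by
  have hnil : ¬ Group.IsNilpotent K := by
    intro h
    apply hK
    exact le_sSup (show K ∈ {N : Subgroup G | N.Normal ∧ Group.IsNilpotent N} from
      ⟨inferInstance, h⟩)
  have h1 := (Group.isNilpotent_of_finite_tfae (G := K)).out 0 3
  rw [h1] at hnil
  push Not at hnil
  obtain ⟨p, hp, P, hP⟩ := hnil
  refine ⟨p, hp, P, fun htop => hP ?_⟩
  have hQn : ((P : Subgroup K).map K.subtype).Normal := Subgroup.normalizer_eq_top_iff.mp htop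
  have h2 : (P : Subgroup K) = ((P : Subgroup K).map K.subtype).comap K.subtype :=
    (Subgroup.comap_map_eq_self_of_injective K.subtype_injective _).symm
  rw [h2]
  exact hQn.comap _

/-- a chief factor above the Fitting subgroup and a Sylow subgroup covering it -/
theorem exists_chief_sylow {G : Type*} [Group G] [Finite G] (K : Subgroup G) [K.Normal]
    (hKF : K = Cfsg.fittingSubgroup G) (hsolv : Group.IsSolvable (G ⧸ K)) (hKtop : K ≠ ⊤) :
    ∃ (E : Subgroup G) (p : ℕ) (_ : Fact p.Prime) (P : Sylow p E), E.Normal ∧ K < E ∧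
      (∀ C : Subgroup G, C.Normal → K < C → C ≤ E → C = E) ∧
      E ≤ K ⊔ (P : Subgroup E).map E.subtype ∧
      Subgroup.normalizer (((P : Subgroup E).map E.subtype : Subgroup G) : Set G) ≠ ⊤ := by
  obtain ⟨E, hEn, hKE, hmin⟩ := exists_min_above K hKtop
  haveI := hEn
  obtain ⟨-, p, k, hp, hk, hrel⟩ := chief_pow K E hKE hmin hsolv
  haveI : Fact p.Prime := ⟨hp⟩
  obtain ⟨P⟩ : Nonempty (Sylow p E) := inferInstance
  obtain ⟨Q, hQdef⟩ : ∃ Q : Subgroup G, Q = (P : Subgroup E).map E.subtype := ⟨_, rfl⟩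
  have hsup : E ≤ K ⊔ Q := by
    rw [← Subgroup.relIndex_eq_one]
    have h1 : (K ⊔ Q).relIndex E ∣ K.relIndex E := Subgroup.relIndex_dvd_of_le_left E le_sup_left
    have h2 : (K ⊔ Q).relIndex E ∣ Q.relIndex E := Subgroup.relIndex_dvd_of_le_left E le_sup_right
    have h3 : Q.relIndex E = (P : Subgroup E).index := by
      unfold Subgroup.relIndex
      rw [hQdef]
      congr 1
      exact Subgroup.comap_map_eq_self_of_injective E.subtype_injective _
    rw [hrel] at h1
    rw [h3] at h2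
    obtain ⟨j, -, hj⟩ := (Nat.dvd_prime_pow hp).mp h1
    rw [hj] at h2 ⊢
    rcases Nat.eq_zero_or_pos j with rfl | hjpos
    · rw [pow_zero]
    · exfalso
      exact P.not_dvd_index ((dvd_pow_self p hjpos.ne').trans h2)
  refine ⟨E, p, ⟨hp⟩, P, hEn, hKE, hmin, by rw [← hQdef]; exact hsup, ?_⟩
  rw [← hQdef]
  intro htop
  have hQn : Q.Normal := Subgroup.normalizer_eq_top_iff.mp htop
  have hQp : IsPGroup p Q := by rw [hQdef]; exact P.isPGroup'.map _
  have hQnil : Group.IsNilpotent Q := hQp.isNilpotent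
  have hQK : Q ≤ K := by
    rw [hKF]
    exact le_sSup (show Q ∈ {N : Subgroup G | N.Normal ∧ Group.IsNilpotent N} from ⟨hQn, hQnil⟩)
  have hEK : E ≤ K := hsup.trans (sup_le le_rfl hQK)
  exact absurd (lt_of_lt_of_le hKE hEK) (lt_irrefl _)

set_option maxHeartbeats 1600000 in
/-- the common core of the two cases -/
theorem bg_core {G : Type u} [Group G] [Fintype G] {χ : G → ℂ} (hχ : Cfsg.IsIrrCharacter G χ)
    (K : Subgroup G) [K.Normal] (hK : ∀ g : G, g ∈ K ↔ χ g = χ 1)
    (E : Subgroup G) [E.Normal] (hKE : K ≤ E)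
    (hmin : ∀ C : Subgroup G, C.Normal → K ≤ C → C ≤ E → C = K ∨ C = E)
    (p : ℕ) [Fact p.Prime] (P : Sylow p E)
    (hsup : E ≤ K ⊔ (P : Subgroup E).map E.subtype)
    (hnorm : Subgroup.normalizer (((P : Subgroup E).map E.subtype : Subgroup G) : Set G) ≠ ⊤) :
    ∃ ψ : G → ℂ, Cfsg.IsIrrCharacter G ψ ∧ (∃ a b : ℕ, χ 1 = (a : ℂ) ∧ ψ 1 = (b : ℂ) ∧ a < b) ∧
      ∃ L : Subgroup G, (∀ g : G, g ∈ L ↔ ψ g = ψ 1) ∧ L < K := by
  classical
  have hfr0 := frattini_sub p E E le_rfl P (by rintro x ⟨y, -, rfl⟩; exact y.2)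
  obtain ⟨Q, hQdef⟩ : ∃ Q : Subgroup G, Q = (P : Subgroup E).map E.subtype := ⟨_, rfl⟩
  rw [← hQdef] at hsup hnorm hfr0
  have hQE : Q ≤ E := by rw [hQdef]; rintro x ⟨y, -, rfl⟩; exact y.2
  obtain ⟨M, hNM, hMtop, hmax⟩ := exists_maximal_ge _ hnorm
  have hQM : Q ≤ M := Subgroup.le_normalizer.trans hNM
  have hKM : K ⊔ M = ⊤ := by
    rcases hmax (K ⊔ M) le_sup_right with h1 | h1
    · exfalso
      have hKleM : K ≤ M := h1 ▸ le_sup_left
      have hEM : E ≤ M := hsup.trans (sup_le hKleM hQM)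
      apply hMtop
      rw [eq_top_iff, ← hfr0]
      exact sup_le hNM hEM
    · exact h1
  have := Fintype.ofFinite M
  have hθ := restrict_irr_of_sup hχ K (fun k hk => (hK k).mp hk) M hKM
  rcases bg_dichotomy hχ M hθ with ⟨ψ, hψ, hcon, hne⟩ | hvan
  · obtain ⟨hdeg, hL⟩ := bg_bigger hχ K hK M hKM hMtop hmax hψ hcon hne
    exact ⟨ψ, hψ, hdeg, hL⟩
  exfalso
  obtain ⟨d, hd0, hd⟩ := irr_apply_one hχ
  have hdne : (d : ℂ) ≠ 0 := by
    have : d ≠ 0 := by omega
    exact_mod_cast this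
  obtain ⟨C, hCdef⟩ : ∃ C : Subgroup G, C = M.normalCore := ⟨_, rfl⟩
  haveI hCn : C.Normal := by rw [hCdef]; exact Subgroup.normalCore_normal M
  have hCM : C ≤ M := by rw [hCdef]; exact Subgroup.normalCore_le M
  have hstar : ∀ u ∈ M, χ u ≠ 0 → u ∈ C := by
    intro u hu hne
    rw [hCdef]
    show ∀ b : G, b * u * b⁻¹ ∈ M
    intro b
    have h1 := hvan u hu hne b⁻¹
    rwa [inv_inv] at h1
  have hKMC : ∀ u, u ∈ K → u ∈ M → u ∈ C := by
    intro u huK huM
    apply hstar u huM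
    rw [(hK u).mp huK, hd]; exact hdne
  have hQC : ¬ Q ≤ C := by
    intro hQC
    have h1 := frattini_sub p E (C ⊓ E) inf_le_right P (by rw [← hQdef]; exact le_inf hQC hQE)
    rw [← hQdef] at h1
    apply hMtop
    rw [eq_top_iff, ← h1]
    exact sup_le hNM (inf_le_left.trans hCM)
  by_cases hE : E ≤ K ⊔ C
  · apply hQC
    intro x hx
    have hx' : x ∈ K ⊔ C := hE (hQE hx)
    obtain ⟨k, hk, c, hc, rfl⟩ := Subgroup.mem_sup_of_normal_left.mp hx'
    have hkM : k ∈ M := by
      have h1 : k * c ∈ M := hQM hx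
      have h2 : k = (k * c) * c⁻¹ := by group
      rw [h2]
      exact M.mul_mem h1 (M.inv_mem (hCM hc))
    exact C.mul_mem (hKMC k hk hkM) hc
  · have hE1 : E ⊓ (K ⊔ C) = K := by
      rcases hmin (E ⊓ (K ⊔ C)) inferInstance (le_inf hKE le_sup_left) inf_le_left with h1 | h1
      · exact h1
      · exact absurd (h1 ▸ inf_le_right) hE
    have hvanE : ∀ e ∈ E, e ∉ K → χ e = 0 := by
      intro e he heK
      by_contra hne
      have he' : e ∈ K ⊔ M := hKM ▸ Subgroup.mem_top e
      obtain ⟨k, hk, m, hm, rfl⟩ := Subgroup.mem_sup_of_normal_left.mp he'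
      rw [char_mul_of_mem_ker hχ ((hK k).mp hk) m] at hne
      have hmC := hstar m hm hne
      apply heK
      rw [← hE1]
      exact Subgroup.mem_inf.mpr ⟨he, Subgroup.mul_mem_sup hk hmC⟩
    have := Fintype.ofFinite E
    have hcon : Cfsg.classInner (fun e : E => χ e) (fun _ => (1 : ℂ)) ≠ 0 := by
      rw [classInner_def]
      have hterm : ∀ e : E, χ e * conj (1 : ℂ) = if (e : G) ∈ K then (d : ℂ) else 0 := by
        intro e
        rw [map_one, mul_one]
        by_cases he : (e : G) ∈ K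
        · rw [if_pos he, (hK e).mp he, hd]
        · rw [if_neg he, hvanE e e.2 he]
      rw [Finset.sum_congr rfl (fun e _ => hterm e), ← Finset.sum_filter, Finset.sum_const,
        nsmul_eq_mul]
      apply mul_ne_zero (inv_ne_zero (card_ne_zero_complex E))
      refine mul_ne_zero ?_ hdne
      have hne : (Finset.univ.filter (fun e : E => (e : G) ∈ K)).card ≠ 0 := by
        apply Finset.card_ne_zero.mpr
        exact ⟨1, Finset.mem_filter.mpr ⟨Finset.mem_univ _, by
          rw [Subgroup.coe_one]; exact K.one_mem⟩⟩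
      exact_mod_cast hne
    have hker := Cfsg.Agent.Lib.Helper25.kerpd_clifford_ker E hχ hcon
    apply hE
    intro e he
    exact Subgroup.mem_sup_left ((hK e).mpr (hker e he))

/-- Broline--Garrison: a character whose kernel is not nilpotent, or is the Fitting subgroup with
solvable nontrivial quotient, is dominated by a character of larger degree and smaller kernel -/
theorem bg_main {G : Type u} [Group G] [Fintype G] {χ : G → ℂ} (hχ : Cfsg.IsIrrCharacter G χ)
    (K : Subgroup G) [K.Normal] (hK : ∀ g : G, g ∈ K ↔ χ g = χ 1)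
    (h : ¬ K ≤ Cfsg.fittingSubgroup G ∨
      (K = Cfsg.fittingSubgroup G ∧ Group.IsSolvable (G ⧸ K) ∧ K ≠ ⊤)) :
    ∃ ψ : G → ℂ, Cfsg.IsIrrCharacter G ψ ∧ (∃ a b : ℕ, χ 1 = (a : ℂ) ∧ ψ 1 = (b : ℂ) ∧ a < b) ∧
      ∃ L : Subgroup G, (∀ g : G, g ∈ L ↔ ψ g = ψ 1) ∧ L < K := by
  rcases h with h1 | ⟨hKF, hsolv, hKtop⟩
  · obtain ⟨p, hp, P, hnorm⟩ := exists_sylow_nonnormal K h1
    haveI := hp
    exact bg_core hχ K hK K le_rfl (fun C _ hKC hCK => Or.inl (le_antisymm hCK hKC)) p P
      le_sup_left hnorm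
  · obtain ⟨E, p, hp, P, hEn, hKE, hmin, hsup, hnorm⟩ := exists_chief_sylow K hKF hsolv hKtop
    haveI := hp
    haveI := hEn
    exact bg_core hχ K hK E hKE.le (fun C hC hKC hCE => by
      rcases eq_or_lt_of_le hKC with h | h
      · exact Or.inl h.symm
      · exact Or.inr (hmin C hC h hCE)) p P hsup hnorm

end Cfsg.Agent.Lib.Helper2
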