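import Mathlib
import Cfsg.Agent.Lib.Helper2.CharGen
import Cfsg.Agent.Lib.Helper2.CharIntegral

set_option autoImplicit false

/-! Normal complements from Brauer's characterisation of characters, part 1: the power map on
an elementary subgroup, and generalized characters of norm one. -/

namespace Cfsg.Agent.Lib.Helper2

open scoped ComplexConjugate

section bscomp1

variable {G : Type*} [Group G]

/-- a generalized character of norm one with positive degree is irreducible -/
theorem genChar_irr_of_norm_one [Fintype G] {θ : G → ℂ} (hθ : Cfsg.IsGeneralizedCharacter G θ)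
    (h1 : Cfsg.classInner θ θ = 1) (hpos : ∃ d : ℕ, 0 < d ∧ θ 1 = (d : ℂ)) :
    Cfsg.IsIrrCharacter G θ := by
  classical
  have := Fintype.ofFinite (Cfsg.IrrCharacter G)
  have hcf := genChar_isClassFunction hθ
  have hz : ∀ φ : Cfsg.IrrCharacter G, ∃ z : ℤ, Cfsg.classInner θ φ = (z : ℂ) :=
    fun φ => genChar_inner_int hθ φ.2
  choose z hz using hz
  have hpar := classInner_eq_sum θ θ hcf
  rw [h1] at hpar
  simp only [hz, map_intCast] at hpar
  have hsum : ∑ φ : Cfsg.IrrCharacter G, z φ ^ 2 = 1 := by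
    have : ((∑ φ : Cfsg.IrrCharacter G, z φ ^ 2 : ℤ) : ℂ) = 1 := by
      push_cast
      rw [hpar]
      apply Finset.sum_congr rfl
      intro φ _
      ring
    exact_mod_cast this
  have hex : ∃ a, z a ≠ 0 := by
    by_contra hall
    push Not at hall
    simp [hall] at hsum
  obtain ⟨a, ha⟩ := hex
  have h2 := Finset.add_sum_erase Finset.univ (fun i => z i ^ 2) (Finset.mem_univ a)
  rw [hsum] at h2
  have hnn : 0 ≤ ∑ x ∈ Finset.univ.erase a, z x ^ 2 :=
    Finset.sum_nonneg (fun i _ => sq_nonneg _)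
  have hpos' : 0 < z a ^ 2 := by positivity
  have ha1 : z a ^ 2 = 1 := by
    have : z a ^ 2 + ∑ x ∈ Finset.univ.erase a, z x ^ 2 = 1 := h2
    omega
  have hrest : ∑ x ∈ Finset.univ.erase a, z x ^ 2 = 0 := by
    have : z a ^ 2 + ∑ x ∈ Finset.univ.erase a, z x ^ 2 = 1 := h2
    omega
  have hzero : ∀ i, i ≠ a → z i = 0 := by
    intro i hi
    have hmem : i ∈ Finset.univ.erase a := Finset.mem_erase.mpr ⟨hi, Finset.mem_univ i⟩
    have := (Finset.sum_eq_zero_iff_of_nonneg (fun i _ => sq_nonneg (z i))).mp hrest i hmem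
    exact pow_eq_zero_iff (by norm_num) |>.mp this
  have hexp := class_fun_expand θ hcf
  simp only [hz] at hexp
  have hexp2 : θ = (z a : ℂ) • (a : G → ℂ) := by
    rw [hexp]
    apply Finset.sum_eq_single a
    · intro c _ hc
      rw [hzero c hc]
      simp
    · intro hn
      exact absurd (Finset.mem_univ a) hn
  obtain ⟨d, hdpos, hd⟩ := hpos
  obtain ⟨n, hnpos, hn⟩ := irr_apply_one a.2
  have hza : z a = 1 ∨ z a = -1 := by
    have : (z a - 1) * (z a + 1) = 0 := by ring_nf; linarith
    rcases mul_eq_zero.mp this with h | h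
    · left; linarith
    · right; linarith
  rcases hza with h | h
  · rw [hexp2, h]
    simp only [Int.cast_one, one_smul]
    exact a.2
  · exfalso
    have h3 := congrFun hexp2 1
    rw [Pi.smul_apply, hd, hn, h] at h3
    have h4 : (d : ℂ) = -(n : ℂ) := by
      rw [h3]
      simp
    have h5 : ((d + n : ℕ) : ℂ) = 0 := by
      push_cast
      rw [h4]
      ring
    have h6 : d + n = 0 := by exact_mod_cast h5
    omega

/-- on a subgroup elementary for the prime `p`, the projection to the `π`-part (`π` the primes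
of `H`) is a homomorphism into a conjugate of `H` -/
theorem exists_elem_hom [Finite G] (H : Subgroup G)
    (hHall : Nat.Coprime (Nat.card H) H.index)
    (helem : ∀ (E : Subgroup G) (p : ℕ), p.Prime → Cfsg.IsElementary p E →
      Nat.card E ∣ Nat.card H → ∃ g : G, E.map (MulAut.conj g).toMonoidHom ≤ H)
    (e : ℕ) (he1 : e ≡ 1 [MOD Nat.card H]) (he0 : e ≡ 0 [MOD H.index])
    (E : Subgroup G) (p : ℕ) (hp : p.Prime) (hE : Cfsg.IsElementary p E) :
    ∃ ψ : E →* H, ∀ z : E, IsConj ((z : G) ^ e) (ψ z : G) := by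
  classical
  haveI : Fact p.Prime := ⟨hp⟩
  have hab : Nat.card G = Nat.card H * H.index := (Subgroup.card_mul_index H).symm
  have hbe : H.index ∣ e := (Nat.modEq_zero_iff_dvd).mp he0
  have P1 : ∀ g : G, (g ^ e) ^ Nat.card H = 1 := by
    intro g
    obtain ⟨t, ht⟩ := hbe
    rw [← pow_mul, ht]
    have : H.index * t * Nat.card H = Nat.card G * t := by
      rw [hab]
      ring
    rw [this, pow_mul, pow_card_eq_one', one_pow]
  have P2 : ∀ g : G, g ^ Nat.card H = 1 → g ^ e = g := by
    intro g hg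
    have h1 : e ≡ 1 [MOD orderOf g] := Nat.ModEq.of_dvd (orderOf_dvd_of_pow_eq_one hg) he1
    have := pow_eq_pow_iff_modEq.mpr h1
    rwa [pow_one] at this
  have P3 : ∀ g : G, g ^ H.index = 1 → g ^ e = 1 := by
    intro g hg
    obtain ⟨t, ht⟩ := hbe
    rw [ht, pow_mul, hg, one_pow]
  obtain ⟨x, hxc, hxcop, k, hk⟩ := hE
  have hxcomm : ∀ z : E, z * x = x * z := fun z => Subgroup.mem_center_iff.mp hxc z
  have hZcomm : ∀ c ∈ Subgroup.zpowers x, ∀ w : E, Commute c w := by
    intro c hc w
    obtain ⟨i, rfl⟩ := Subgroup.mem_zpowers_iff.mp hc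
    have h1 : Commute x w := (hxcomm w).symm
    exact h1.zpow_left i
  haveI hZn : (Subgroup.zpowers x).Normal := ⟨fun c hc z => by
    have h1 := (hZcomm c hc z).eq
    have h2 : z * c * z⁻¹ = c := by
      rw [← h1, mul_inv_cancel_right]
    rw [h2]
    exact hc⟩
  obtain ⟨P⟩ := (inferInstance : Nonempty (Sylow p E))
  have hcardE : Nat.card E = orderOf x * p ^ k := by
    rw [← Subgroup.card_mul_index (Subgroup.zpowers x), Nat.card_zpowers, hk]
  have hpn : ¬ p ∣ orderOf x := by
    intro h
    have h1 := Nat.dvd_gcd h (dvd_refl p)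
    rw [Nat.Coprime.gcd_eq_one hxcop] at h1
    exact hp.one_lt.ne' (Nat.dvd_one.mp h1)
  have hPcard : Nat.card (P : Subgroup E) = p ^ k := by
    rw [Sylow.card_eq_multiplicity, hcardE,
      Nat.factorization_mul (orderOf_pos x).ne' (pow_pos hp.pos k).ne']
    congr 1
    rw [Finsupp.add_apply, Nat.factorization_eq_zero_of_not_dvd hpn, zero_add,
      Nat.Prime.factorization_pow hp, Finsupp.single_eq_same]
  have hsup : Subgroup.zpowers x ⊔ (P : Subgroup E) = ⊤ := by
    apply Subgroup.eq_top_of_le_card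
    have h1 : Nat.card (Subgroup.zpowers x) ∣ Nat.card ↥(Subgroup.zpowers x ⊔ (P : Subgroup E)) :=
      Subgroup.card_dvd_of_le le_sup_left
    have h2 : Nat.card (P : Subgroup E) ∣ Nat.card ↥(Subgroup.zpowers x ⊔ (P : Subgroup E)) :=
      Subgroup.card_dvd_of_le le_sup_right
    rw [Nat.card_zpowers] at h1
    rw [hPcard] at h2
    have h3 := Nat.Coprime.mul_dvd_of_dvd_of_dvd (Nat.Coprime.pow_right k hxcop) h1 h2
    rw [← hcardE] at h3
    exact Nat.le_of_dvd Nat.card_pos h3
  have hdec : ∀ z : E, ∃ c ∈ Subgroup.zpowers x, ∃ y ∈ (P : Subgroup E), z = c * y := by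
    intro z
    have hz : z ∈ (↑(Subgroup.zpowers x ⊔ (P : Subgroup E)) : Set E) := by
      rw [hsup]
      trivial
    rw [Subgroup.normal_mul] at hz
    obtain ⟨c, hc, y, hy, rfl⟩ := hz
    exact ⟨c, hc, y, hy, rfl⟩
  have hPpow : (∀ y ∈ (P : Subgroup E), y ^ e = y) ∨ (∀ y ∈ (P : Subgroup E), y ^ e = 1) := by
    have hyP : ∀ y ∈ (P : Subgroup E), (y : G) ^ p ^ k = 1 := by
      intro y hy
      have h1 : (⟨y, hy⟩ : (P : Subgroup E)) ^ Nat.card (P : Subgroup E) = 1 := pow_card_eq_one'
      rw [hPcard] at h1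
      have h2 : y ^ p ^ k = 1 := congrArg Subtype.val h1
      have h3 := congrArg Subtype.val h2
      simpa using h3
    have hdvd : p ^ k ∣ Nat.card H * H.index := by
      rw [← hab]
      have h1 : p ^ k ∣ Nat.card E := by
        rw [hcardE]
        exact dvd_mul_left _ _
      exact dvd_trans h1 (Subgroup.card_subgroup_dvd_card E)
    by_cases hpa : p ∣ Nat.card H
    · left
      intro y hy
      have hpb : ¬ p ∣ H.index := by
        intro h
        have h1 := Nat.dvd_gcd hpa h
        rw [Nat.Coprime.gcd_eq_one hHall] at h1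
        exact hp.one_lt.ne' (Nat.dvd_one.mp h1)
      have hcop : Nat.Coprime (p ^ k) H.index :=
        Nat.Coprime.pow_left k ((Nat.Prime.coprime_iff_not_dvd hp).mpr hpb)
      have hda : p ^ k ∣ Nat.card H := hcop.dvd_of_dvd_mul_right hdvd
      have h1 : (y : G) ^ Nat.card H = 1 := by
        obtain ⟨t, ht⟩ := hda
        rw [ht, pow_mul, hyP y hy, one_pow]
      apply Subtype.ext
      rw [Subgroup.coe_pow]
      exact P2 _ h1
    · right
      intro y hy
      have hcop : Nat.Coprime (p ^ k) (Nat.card H) :=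
        Nat.Coprime.pow_left k ((Nat.Prime.coprime_iff_not_dvd hp).mpr hpa)
      have hdb : p ^ k ∣ H.index := hcop.dvd_of_dvd_mul_left hdvd
      have h1 : (y : G) ^ H.index = 1 := by
        obtain ⟨t, ht⟩ := hdb
        rw [ht, pow_mul, hyP y hy, one_pow]
      apply Subtype.ext
      rw [Subgroup.coe_pow]
      exact P3 _ h1
  have hmulpow : ∀ z z' : E, (z * z') ^ e = z ^ e * z' ^ e := by
    intro z z'
    obtain ⟨c, hc, y, hy, rfl⟩ := hdec z
    obtain ⟨c', hc', y', hy', rfl⟩ := hdec z'
    have hyy : (y * y') ^ e = y ^ e * y' ^ e := by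
      rcases hPpow with h | h
      · rw [h y hy, h y' hy', h (y * y') (Subgroup.mul_mem _ hy hy')]
      · rw [h y hy, h y' hy', h (y * y') (Subgroup.mul_mem _ hy hy'), one_mul]
    have e1 : c * y * (c' * y') = (c * c') * (y * y') := by
      have h1 := (hZcomm c' hc' y).eq
      calc c * y * (c' * y') = c * (y * c') * y' := by group
        _ = c * (c' * y) * y' := by rw [← h1]
        _ = (c * c') * (y * y') := by group
    rw [e1, (hZcomm (c * c') (Subgroup.mul_mem _ hc hc') (y * y')).mul_pow,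
      (hZcomm c hc c').mul_pow, hyy, (hZcomm c hc y).mul_pow, (hZcomm c' hc' y').mul_pow]
    have h2 := (hZcomm (c' ^ e) (Subgroup.pow_mem _ hc' e) (y ^ e)).eq
    calc c ^ e * c' ^ e * (y ^ e * y' ^ e) = c ^ e * (c' ^ e * y ^ e) * y' ^ e := by group
      _ = c ^ e * (y ^ e * c' ^ e) * y' ^ e := by rw [h2]
      _ = c ^ e * y ^ e * (c' ^ e * y' ^ e) := by group
  let f : E →* G :=
    { toFun := fun z => ((z ^ e : E) : G)
      map_one' := by simp
      map_mul' := fun z z' => by
        rw [hmulpow]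
        rfl }
  have hf : ∀ z : E, f z = (z : G) ^ e := fun z => by
    show ((z ^ e : E) : G) = _
    simp
  have hR : Cfsg.IsElementary p f.range := by
    refine ⟨f.rangeRestrict x, ?_, ?_, ?_⟩
    · rw [Subgroup.mem_center_iff]
      intro w
      obtain ⟨z, rfl⟩ := f.rangeRestrict_surjective w
      rw [← map_mul, ← map_mul, hxcomm z]
    · exact Nat.Coprime.coprime_dvd_left (orderOf_map_dvd f.rangeRestrict x) hxcop
    · have h1 : (Subgroup.zpowers (f.rangeRestrict x)).index ∣ p ^ k := by
        rw [← hk, ← MonoidHom.map_zpowers]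
        exact Subgroup.index_map_dvd _ f.rangeRestrict_surjective
      obtain ⟨j, -, hj⟩ := (Nat.dvd_prime_pow hp).mp h1
      exact ⟨j, hj⟩
  have hRa : Nat.card f.range ∣ Nat.card H := by
    have h1 : Nat.card f.range ∣ Nat.card H * H.index :=
      hab ▸ Subgroup.card_subgroup_dvd_card f.range
    have hcop : Nat.Coprime (Nat.card f.range) H.index := by
      apply Nat.coprime_of_dvd
      intro r hr hrR hrb
      haveI : Fact r.Prime := ⟨hr⟩
      obtain ⟨w, hw⟩ := exists_prime_orderOf_dvd_card' r hrR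
      obtain ⟨z, rfl⟩ := f.rangeRestrict_surjective w
      have h2 : (f.rangeRestrict z) ^ Nat.card H = 1 := by
        apply Subtype.ext
        show (f z) ^ Nat.card H = 1
        rw [hf]
        exact P1 _
      have h3 : r ∣ Nat.card H := hw ▸ orderOf_dvd_of_pow_eq_one h2
      have h4 := Nat.dvd_gcd h3 hrb
      rw [Nat.Coprime.gcd_eq_one hHall] at h4
      exact hr.one_lt.ne' (Nat.dvd_one.mp h4)
    exact hcop.dvd_of_dvd_mul_right h1
  obtain ⟨g₀, hg₀⟩ := helem f.range p hp hR hRa
  have hmem : ∀ z : E, g₀ * f z * g₀⁻¹ ∈ H := by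
    intro z
    apply hg₀
    exact ⟨f z, ⟨z, rfl⟩, by simp [MulAut.conj_apply]⟩
  refine ⟨(((MulAut.conj g₀).toMonoidHom.comp f).codRestrict H
    (fun z => by simpa [MulAut.conj_apply] using hmem z)), ?_⟩
  intro z
  rw [← hf]
  exact isConj_iff.mpr ⟨g₀, by simp [MulAut.conj_apply]⟩

end bscomp1

end Cfsg.Agent.Lib.Helper2
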