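import Mathlib
import Cfsg.Agent.Lib.Helper2.BSComp1
import Cfsg.Agent.Lib.Helper2.ItoConv
import Cfsg.Agent.Lib.Helper2.CharProd
import Cfsg.Agent.S0164

set_option autoImplicit false

/-! Normal complements from Brauer's characterisation of characters, part 2. -/

namespace Cfsg.Agent.Lib.Helper2

open scoped ComplexConjugate

section bscomp2

variable {G : Type*} [Group G]

/-- **Brauer–Suzuki**: a Hall subgroup `H` controlling its own fusion, into which every
elementary subgroup of order dividing `|H|` can be conjugated, has a normal complement. -/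
theorem hall_normal_complement [Finite G] (H : Subgroup G)
    (hHall : Nat.Coprime (Nat.card H) H.index)
    (hfus : ∀ x ∈ H, ∀ y ∈ H, IsConj x y → ∃ h ∈ H, h * x * h⁻¹ = y)
    (helem : ∀ (E : Subgroup G) (p : ℕ), p.Prime → Cfsg.IsElementary p E →
      Nat.card E ∣ Nat.card H → ∃ g : G, E.map (MulAut.conj g).toMonoidHom ≤ H) :
    ∃ K : Subgroup G, K.Normal ∧ K ⊔ H = ⊤ ∧ K ⊓ H = ⊥ := by
  classical
  haveI := Fintype.ofFinite G
  haveI : Fintype H := Fintype.ofFinite H
  haveI := Fintype.ofFinite (Cfsg.IrrCharacter H)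
  have hab : Nat.card G = Nat.card H * H.index := (Subgroup.card_mul_index H).symm
  obtain ⟨e, he1, he0⟩ := Nat.chineseRemainder hHall 1 0
  have hbe : H.index ∣ e := (Nat.modEq_zero_iff_dvd).mp he0
  have P1 : ∀ g : G, (g ^ e) ^ Nat.card H = 1 := by
    intro g
    obtain ⟨t, ht⟩ := hbe
    rw [← pow_mul, ht]
    have : H.index * t * Nat.card H = Nat.card G * t := by
      rw [hab]
      ring
    rw [this, pow_mul, pow_card_eq_one', one_pow]
  have P2 : ∀ g : G, g ^ Nat.card H = 1 → g ^ e = g := by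
    intro g hg
    have h1 : e ≡ 1 [MOD orderOf g] := Nat.ModEq.of_dvd (orderOf_dvd_of_pow_eq_one hg) he1
    have := pow_eq_pow_iff_modEq.mpr h1
    rwa [pow_one] at this
  -- the map τ
  have hτex : ∀ g : G, ∃ h : H, IsConj (g ^ e) (h : G) := by
    intro g
    set c := g ^ e with hc
    obtain ⟨q, hq, hqp⟩ := Nat.exists_infinite_primes (orderOf c + 1)
    have hcop : Nat.Coprime (orderOf c) q := by
      apply Nat.Coprime.symm
      rw [Nat.Prime.coprime_iff_not_dvd hqp]
      intro hd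
      have := Nat.le_of_dvd (orderOf_pos c) hd
      omega
    have hE : Cfsg.IsElementary q (Subgroup.zpowers c) := by
      refine ⟨⟨c, Subgroup.mem_zpowers c⟩, ?_, ?_, 0, ?_⟩
      · rw [Subgroup.mem_center_iff]
        rintro ⟨w, hw⟩
        obtain ⟨i, rfl⟩ := Subgroup.mem_zpowers_iff.mp hw
        apply Subtype.ext
        show c ^ i * c = c * c ^ i
        exact ((Commute.refl c).zpow_left i).eq
      · rw [Subgroup.orderOf_mk]
        exact hcop
      · rw [pow_zero]
        have : Subgroup.zpowers (⟨c, Subgroup.mem_zpowers c⟩ : Subgroup.zpowers c) = ⊤ := by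
          rw [Subgroup.eq_top_iff']
          rintro ⟨w, hw⟩
          obtain ⟨i, rfl⟩ := Subgroup.mem_zpowers_iff.mp hw
          exact Subgroup.mem_zpowers_iff.mpr ⟨i, Subtype.ext (by simp)⟩
        rw [this, Subgroup.index_top]
    have hcard : Nat.card (Subgroup.zpowers c) ∣ Nat.card H := by
      rw [Nat.card_zpowers]
      exact orderOf_dvd_of_pow_eq_one (P1 g)
    obtain ⟨g₀, hg₀⟩ := helem _ q hqp hE hcard
    have hmem : g₀ * c * g₀⁻¹ ∈ H :=
      hg₀ ⟨c, Subgroup.mem_zpowers c, by simp [MulAut.conj_apply]⟩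
    exact ⟨⟨_, hmem⟩, isConj_iff.mpr ⟨g₀, rfl⟩⟩
  choose τ hτ using hτex
  have hcl : ∀ φ : H → ℂ, Cfsg.IsClassFunction H φ → ∀ u v : H, IsConj (u : G) (v : G) →
      φ u = φ v := by
    intro φ hφ u v huv
    obtain ⟨h, hh, hhu⟩ := hfus u u.2 v v.2 huv
    have h1 : v = ⟨h, hh⟩ * u * ⟨h, hh⟩⁻¹ := Subtype.ext hhu.symm
    rw [h1]
    exact (hφ u ⟨h, hh⟩).symm
  have hτconj : ∀ g x : G, IsConj (τ (x * g * x⁻¹) : G) (τ g : G) := by
    intro g x
    have h1 : IsConj ((x * g * x⁻¹) ^ e) (g ^ e) := by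
      rw [conj_pow]
      exact isConj_iff.mpr ⟨x⁻¹, by group⟩
    exact ((hτ (x * g * x⁻¹)).symm.trans h1).trans (hτ g)
  have hτH : ∀ h : H, IsConj (τ (h : G) : G) (h : G) := by
    intro h
    have h1 : (h : G) ^ Nat.card H = 1 := by
      have h2 : h ^ Nat.card H = 1 := pow_card_eq_one'
      have h3 : ((h ^ Nat.card H : H) : G) = ((1 : H) : G) := congrArg Subtype.val h2
      rw [Subgroup.coe_pow, Subgroup.coe_one] at h3
      exact h3
    have h2 := (hτ (h : G)).symm
    rwa [P2 _ h1] at h2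
  have hτ1 : τ 1 = 1 := by
    have h1 := hτ 1
    rw [one_pow] at h1
    apply Subtype.ext
    exact isConj_one_right.mp h1
  have hcfτ : ∀ φ : H → ℂ, Cfsg.IsClassFunction H φ → Cfsg.IsClassFunction G (φ ∘ τ) := by
    intro φ hφ g x
    exact hcl φ hφ _ _ (hτconj g x)
  -- generalized characters
  have hgen : ∀ θ : H → ℂ, Cfsg.IsCharacter H θ → Cfsg.IsGeneralizedCharacter G (θ ∘ τ) := by
    intro θ hθ
    have hθcf := isClassFunction_of_isCharacter hθ
    apply Cfsg.Agent.S0164.result (θ ∘ τ) (hcfτ θ hθcf)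
    intro E p hp hE
    obtain ⟨ψ, hψ⟩ := exists_elem_hom H hHall helem e he1 he0 E p hp hE
    have h1 : (fun z : E => (θ ∘ τ) (z : G)) = θ ∘ ψ := by
      funext z
      exact hcl θ hθcf (τ z) (ψ z) ((hτ z).symm.trans (hψ z))
    rw [h1]
    exact ⟨θ ∘ ψ, 0, IsCharacter.comp_hom hθ ψ, IsCharacter.zero, by simp⟩
  -- counting
  let cnt : H → ℕ := fun h => ∑ k : H, ∑ g : G, if τ g = k * h * k⁻¹ then 1 else 0
  have hsumφ : ∀ φ : H → ℂ, Cfsg.IsClassFunction H φ →
      ∑ h : H, φ h * (cnt h : ℂ) = (Nat.card H : ℂ) * ∑ g : G, φ (τ g) := by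
    intro φ hφ
    have h1 : ∀ h : H, φ h * (cnt h : ℂ)
        = ∑ k : H, ∑ g : G, if τ g = k * h * k⁻¹ then φ h else 0 := by
      intro h
      show φ h * ((∑ k : H, ∑ g : G, if τ g = k * h * k⁻¹ then 1 else 0 : ℕ) : ℂ) = _
      push_cast
      rw [Finset.mul_sum]
      apply Finset.sum_congr rfl
      intro k _
      rw [Finset.mul_sum]
      apply Finset.sum_congr rfl
      intro g _
      split_ifs <;> simp
    simp_rw [h1]
    rw [Finset.sum_comm]
    have h2 : ∀ k : H, ∑ h : H, ∑ g : G, (if τ g = k * h * k⁻¹ then φ h else 0)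
        = ∑ g : G, φ (τ g) := by
      intro k
      rw [Finset.sum_comm]
      apply Finset.sum_congr rfl
      intro g _
      rw [Finset.sum_eq_single (k⁻¹ * τ g * k)]
      · rw [if_pos (by group)]
        have := hφ (τ g) k⁻¹
        simpa using this
      · intro h _ hne
        rw [if_neg]
        intro hh
        apply hne
        rw [hh]
        group
      · intro hn
        exact absurd (Finset.mem_univ _) hn
    simp_rw [h2]
    rw [Finset.sum_const, Finset.card_univ, nsmul_eq_mul, ← Nat.card_eq_fintype_card]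
  have hone_cf : Cfsg.IsClassFunction H (fun _ => (1 : ℂ)) := fun _ _ => rfl
  have hcnt_total : ∑ h : H, cnt h = Nat.card H * Nat.card G := by
    have h1 := hsumφ (fun _ => 1) hone_cf
    simp only [one_mul, Finset.sum_const, Finset.card_univ, nsmul_eq_mul, mul_one] at h1
    rw [← Nat.card_eq_fintype_card] at h1
    exact_mod_cast h1
  have hcnt_pos : ∀ h : H, 0 < cnt h := by
    intro h
    obtain ⟨k, hk, hkh⟩ := hfus h h.2 (τ (h : G)) (τ (h : G)).2 (hτH h).symm
    have h1 : τ (h : G) = ⟨k, hk⟩ * h * ⟨k, hk⟩⁻¹ := Subtype.ext hkh.symm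
    have h2 : (1 : ℕ) ≤ ∑ g : G, if τ g = (⟨k, hk⟩ : H) * h * (⟨k, hk⟩ : H)⁻¹ then 1 else 0 := by
      have h3 := Finset.single_le_sum (f := fun g : G =>
        if τ g = (⟨k, hk⟩ : H) * h * (⟨k, hk⟩ : H)⁻¹ then (1 : ℕ) else 0)
        (fun _ _ => Nat.zero_le _) (Finset.mem_univ (h : G))
      have h5 : (if τ (h : G) = (⟨k, hk⟩ : H) * h * (⟨k, hk⟩ : H)⁻¹ then (1 : ℕ) else 0) = 1 :=
        if_pos h1
      beta_reduce at h3
      rw [h5] at h3
      exact h3
    have h4 := Finset.single_le_sum (f := fun k' : H =>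
      ∑ g : G, if τ g = k' * h * k'⁻¹ then 1 else 0)
      (fun _ _ => Nat.zero_le _) (Finset.mem_univ (⟨k, hk⟩ : H))
    exact lt_of_lt_of_le h2 h4
  have hcnt_conj : ∀ h k₀ : H, cnt (k₀ * h * k₀⁻¹) = cnt h := by
    intro h k₀
    show (∑ k : H, ∑ g : G, if τ g = k * (k₀ * h * k₀⁻¹) * k⁻¹ then 1 else 0)
      = ∑ k : H, ∑ g : G, if τ g = k * h * k⁻¹ then 1 else 0
    rw [← Equiv.sum_comp (Equiv.mulRight k₀)
      (fun k : H => ∑ g : G, if τ g = k * h * k⁻¹ then 1 else 0)]
    apply Finset.sum_congr rfl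
    intro k _
    apply Finset.sum_congr rfl
    intro g _
    have : k * (k₀ * h * k₀⁻¹) * k⁻¹ = (Equiv.mulRight k₀) k * h * ((Equiv.mulRight k₀) k)⁻¹ := by
      simp only [Equiv.coe_mulRight]
      group
    rw [this]
  have hG0 : (Nat.card G : ℂ) ≠ 0 := by
    exact_mod_cast (Nat.card_pos (α := G)).ne'
  have hH0 : (Nat.card H : ℂ) ≠ 0 := by
    exact_mod_cast (Nat.card_pos (α := H)).ne'
  let W : H → ℂ := fun h => (cnt h : ℂ) / (Nat.card G : ℂ)
  have hWcf : Cfsg.IsClassFunction H W := by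
    intro h k₀
    show (cnt (k₀ * h * k₀⁻¹) : ℂ) / _ = (cnt h : ℂ) / _
    rw [hcnt_conj]
  have hWconj : ∀ h : H, conj (W h) = W h := by
    intro h
    show conj ((cnt h : ℂ) / (Nat.card G : ℂ)) = _
    rw [map_div₀, Complex.conj_natCast, Complex.conj_natCast]
  have hinnerτ : ∀ φ φ' : H → ℂ, Cfsg.IsClassFunction H φ → Cfsg.IsClassFunction H φ' →
      Cfsg.classInner (φ ∘ τ) (φ' ∘ τ)
        = (Nat.card H : ℂ)⁻¹ * ∑ h : H, φ h * conj (φ' h) * W h := by
    intro φ φ' hφ hφ'
    have hprod : Cfsg.IsClassFunction H (fun h => φ h * conj (φ' h)) := by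
      intro h k
      show φ (k * h * k⁻¹) * conj (φ' (k * h * k⁻¹)) = φ h * conj (φ' h)
      rw [hφ h k, hφ' h k]
    have h1 := hsumφ _ hprod
    rw [classInner_def]
    have h2 : ∑ g : G, (φ ∘ τ) g * conj ((φ' ∘ τ) g)
        = (Nat.card H : ℂ)⁻¹ * ∑ h : H, φ h * conj (φ' h) * (cnt h : ℂ) := by
      rw [h1]
      field_simp
      rfl
    rw [h2, Finset.mul_sum, Finset.mul_sum, Finset.mul_sum]
    apply Finset.sum_congr rfl
    intro h _
    show _ = (Nat.card H : ℂ)⁻¹ * (φ h * conj (φ' h) * ((cnt h : ℂ) / (Nat.card G : ℂ)))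
    field_simp
  have hWint : ∀ η : Cfsg.IrrCharacter H, ∃ z : ℤ, Cfsg.classInner W (η : H → ℂ) = (z : ℂ) := by
    intro η
    have h1 := hinnerτ (η : H → ℂ) (fun _ => 1) (isClassFunction_of_isIrrCharacter η.2) hone_cf
    have h2 : ((fun _ : H => (1 : ℂ)) ∘ τ) = fun _ : G => (1 : ℂ) := rfl
    rw [h2] at h1
    obtain ⟨z, hz⟩ := genChar_inner_int (hgen η (isCharacter_of_isIrrCharacter η.2))
      (isIrrCharacter_one (G := G))
    rw [hz] at h1
    refine ⟨z, ?_⟩
    rw [← classInner_conj_symm, classInner_def]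
    have h3 : ∑ g : H, (η : H → ℂ) g * conj (W g)
        = ∑ h : H, (η : H → ℂ) h * conj ((fun _ : H => (1 : ℂ)) h) * W h := by
      apply Finset.sum_congr rfl
      intro h _
      rw [hWconj]
      simp
    rw [h3, ← h1]
    simp
  have hWintegral : ∀ h : H, IsIntegral ℤ (W h) := by
    intro h
    choose z hz using hWint
    have hexp := class_fun_expand W hWcf
    have h1 : W h = ∑ η : Cfsg.IrrCharacter H, (z η : ℂ) * (η : H → ℂ) h := by
      conv_lhs => rw [hexp]
      rw [Finset.sum_apply]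
      apply Finset.sum_congr rfl
      intro η _
      rw [Pi.smul_apply, hz, smul_eq_mul]
    rw [h1]
    apply IsIntegral.sum
    intro η _
    apply IsIntegral.mul
    · have h5 := isIntegral_algebraMap (R := ℤ) (A := ℂ) (x := z η)
      rw [algebraMap_int_eq, Int.coe_castRingHom] at h5
      exact h5
    · obtain ⟨n, ρ, -, hρ⟩ := η.2
      rw [← hρ]
      exact char_isIntegral ρ h
  have hdvd : ∀ h : H, Nat.card G ∣ cnt h := fun h =>
    nat_dvd_of_isIntegral_div (Nat.card_pos (α := G)).ne' (hWintegral h)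
  have hge : ∀ h : H, Nat.card G ≤ cnt h := fun h => Nat.le_of_dvd (hcnt_pos h) (hdvd h)
  have heq : ∀ h : H, cnt h = Nat.card G := by
    have h1 : ∑ _h : H, Nat.card G = ∑ h : H, cnt h := by
      rw [hcnt_total, Finset.sum_const, Finset.card_univ, smul_eq_mul,
        ← Nat.card_eq_fintype_card]
    have h2 := (Finset.sum_eq_sum_iff_of_le (fun h _ => hge h)).mp h1
    intro h
    exact (h2 h (Finset.mem_univ h)).symm
  have hW1 : ∀ h : H, W h = 1 := by
    intro h
    show (cnt h : ℂ) / (Nat.card G : ℂ) = 1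
    rw [heq h]
    exact div_self hG0
  have hisom : ∀ φ φ' : H → ℂ, Cfsg.IsClassFunction H φ → Cfsg.IsClassFunction H φ' →
      Cfsg.classInner (φ ∘ τ) (φ' ∘ τ) = Cfsg.classInner φ φ' := by
    intro φ φ' hφ hφ'
    rw [hinnerτ φ φ' hφ hφ', classInner_def]
    congr 1
    apply Finset.sum_congr rfl
    intro h _
    rw [hW1 h, mul_one]
  have hirr : ∀ θ : Cfsg.IrrCharacter H, Cfsg.IsIrrCharacter G ((θ : H → ℂ) ∘ τ) := by
    intro θ
    apply genChar_irr_of_norm_one (hgen θ (isCharacter_of_isIrrCharacter θ.2))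
    · rw [hisom _ _ (isClassFunction_of_isIrrCharacter θ.2)
        (isClassFunction_of_isIrrCharacter θ.2)]
      exact classInner_irr_self θ.2
    · obtain ⟨d, hd, hd1⟩ := irr_apply_one θ.2
      refine ⟨d, hd, ?_⟩
      show (θ : H → ℂ) (τ 1) = d
      rw [hτ1, hd1]
  -- kernels
  have hker : ∀ θ : Cfsg.IrrCharacter H, ∃ K : Subgroup G, K.Normal ∧
      ∀ g : G, g ∈ K ↔ (θ : H → ℂ) (τ g) = (θ : H → ℂ) 1 := by
    intro θ
    obtain ⟨n, ρ, hρ, hχ⟩ := hirr θ
    refine ⟨MonoidHom.ker ρ, MonoidHom.normal_ker ρ, ?_⟩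
    intro g
    have h1 : (θ : H → ℂ) (τ g) = ρ.character g := (congrFun hχ g).symm
    have h2 : (θ : H → ℂ) 1 = ρ.character 1 := by
      have := congrFun hχ 1
      simp only [Function.comp_apply, hτ1] at this
      exact this.symm
    rw [MonoidHom.mem_ker, h1, h2, Representation.char_one, char_eq_finrank_iff]
    rfl
  choose Kθ hKn hKmem using hker
  let K : Subgroup G := ⨅ θ, Kθ θ
  have hKnormal : K.Normal := Subgroup.normal_iInf_normal hKn
  have hKτ : ∀ g : G, g ∈ K ↔ τ g = 1 := by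
    intro g
    constructor
    · intro hg
      have h1 : ∀ θ : Cfsg.IrrCharacter H, (θ : H → ℂ) (τ g) = (θ : H → ℂ) 1 :=
        fun θ => (hKmem θ g).mp ((Subgroup.mem_iInf.mp hg) θ)
      have h2 : IsConj (τ g) 1 := isConj_of_irr_eq (τ g) 1 (fun χ hχ => h1 ⟨χ, hχ⟩)
      exact isConj_one_left.mp h2
    · intro hg
      apply Subgroup.mem_iInf.mpr
      intro θ
      rw [hKmem θ g, hg]
  have hKH : K ⊓ H = ⊥ := by
    rw [eq_bot_iff]
    intro g hg
    rw [Subgroup.mem_bot]
    have h1 := (hKτ g).mp hg.1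
    have h2 := hτH ⟨g, hg.2⟩
    simp only at h2
    rw [h1] at h2
    exact isConj_one_right.mp h2
  have hKcard : Nat.card H * Nat.card K = Nat.card G := by
    have h1 := heq 1
    have h2 : cnt 1 = Nat.card H * Nat.card K := by
      show (∑ k : H, ∑ g : G, if τ g = k * 1 * k⁻¹ then 1 else 0) = _
      have h3 : ∀ k : H, (∑ g : G, if τ g = k * 1 * k⁻¹ then 1 else 0) = Nat.card K := by
        intro k
        rw [mul_one, mul_inv_cancel, Nat.card_eq_fintype_card, Fintype.card_subtype,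
          Finset.card_filter]
        apply Finset.sum_congr rfl
        intro g _
        simp only [hKτ g]
      simp_rw [h3]
      rw [Finset.sum_const, Finset.card_univ, smul_eq_mul, ← Nat.card_eq_fintype_card]
    rw [← h2, h1]
  refine ⟨K, hKnormal, ?_, hKH⟩
  apply Subgroup.eq_top_of_le_card
  have hKidx : Nat.card K = H.index := by
    have hpos : 0 < Nat.card H := Nat.card_pos
    apply Nat.eq_of_mul_eq_mul_left hpos
    rw [hKcard, hab]
  have h1 : Nat.card K ∣ Nat.card ↥(K ⊔ H) := Subgroup.card_dvd_of_le le_sup_left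
  have h2 : Nat.card H ∣ Nat.card ↥(K ⊔ H) := Subgroup.card_dvd_of_le le_sup_right
  rw [hKidx] at h1
  have h3 := Nat.Coprime.mul_dvd_of_dvd_of_dvd hHall h2 h1
  rw [← hab] at h3
  exact Nat.le_of_dvd Nat.card_pos h3

end bscomp2

end Cfsg.Agent.Lib.Helper2
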