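import Mathlib
import Cfsg.Prelude.Def_Characters
import Cfsg.Agent.Lib.Helper2.CharPerm
import Cfsg.Agent.Lib.Helper2.CharIntegral
import Cfsg.Agent.Lib.Helper2.CharLinear

set_option autoImplicit false

namespace Cfsg.Agent.Lib.Helper2

open Representation Module

open scoped ComplexConjugate

section odd

variable {G : Type*} [Group G]

theorem eq_one_of_isConj_inv_of_odd [Finite G] (hodd : Odd (Nat.card G)) {g : G}
    (h : IsConj g g⁻¹) : g = 1 := by
  obtain ⟨x, hx⟩ := isConj_iff.mp h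
  have h1 : x * g⁻¹ * x⁻¹ = g := by
    have e : x * g⁻¹ * x⁻¹ = (x * g * x⁻¹)⁻¹ := by group
    rw [e, hx, inv_inv]
  have hx2 : (x * x) * g = g * (x * x) := by
    calc (x * x) * g = x * (x * g * x⁻¹) * x⁻¹ * (x * x) := by group
      _ = x * g⁻¹ * x⁻¹ * (x * x) := by rw [hx]
      _ = g * (x * x) := by rw [h1]
  have hxodd : Odd (orderOf x) := hodd.of_dvd_nat (orderOf_dvd_natCard x)
  obtain ⟨k, hk⟩ := hxodd
  have hxpow : x = (x * x) ^ (k + 1) := by
    rw [← pow_two, ← pow_mul, show 2 * (k + 1) = orderOf x + 1 by omega, pow_succ,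
      pow_orderOf_eq_one, one_mul]
  have hcomm : Commute x g := by
    rw [hxpow]
    exact Commute.pow_left hx2 (k + 1)
  have hg : g⁻¹ = g := by
    rw [← hx, hcomm.eq]
    group
  have hg2 : g ^ 2 = 1 := by
    rw [pow_two]
    nth_rewrite 2 [← hg]
    exact mul_inv_cancel g
  have hord : orderOf g ∣ 2 := orderOf_dvd_of_pow_eq_one hg2
  have hgodd : Odd (orderOf g) := hodd.of_dvd_nat (orderOf_dvd_natCard g)
  rcases (Nat.dvd_prime Nat.prime_two).mp hord with h1 | h2
  · exact orderOf_eq_one_iff.mp h1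
  · rw [h2] at hgodd
    exact absurd hgodd (by decide)

theorem irr_comp_inv_eq_iff_real [Finite G] (χ : Cfsg.IrrCharacter G) :
    (χ : G → ℂ) ∘ (fun g : G => g⁻¹) = (χ : G → ℂ) ↔ ∀ g : G, ((χ : G → ℂ) g).im = 0 := by
  have hinv : ∀ g : G, (χ : G → ℂ) g⁻¹ = (starRingEnd ℂ) ((χ : G → ℂ) g) := by
    obtain ⟨n, ρ, hρ, hχ⟩ := χ.2
    intro g
    rw [← hχ]
    exact char_inv ρ g
  constructor
  · intro h g
    have := congrFun h g
    change (χ : G → ℂ) g⁻¹ = (χ : G → ℂ) g at this
    rw [hinv, Complex.conj_eq_iff_im] at this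
    exact this
  · intro h
    funext g
    change (χ : G → ℂ) g⁻¹ = (χ : G → ℂ) g
    rw [hinv, Complex.conj_eq_iff_im]
    exact h g

/-- in a group of odd order the only real irreducible character is the trivial one -/
theorem real_irr_eq_one_of_odd [Finite G] (hodd : Odd (Nat.card G)) (χ : Cfsg.IrrCharacter G)
    (hreal : ∀ g : G, ((χ : G → ℂ) g).im = 0) : (χ : G → ℂ) = fun _ => 1 := by
  classical
  have := Fintype.ofFinite G
  have key := card_fixed_irr_eq_card_fixed_classes (fun g : G => g⁻¹)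
    (fun χ hχ => isIrrCharacter_comp_inv hχ)
    (fun g h hgh => by
      obtain ⟨c, hc⟩ := isConj_iff.mp hgh
      exact isConj_iff.mpr ⟨c, by rw [← hc]; group⟩)
  have hsub : Subsingleton
      {C : ConjClasses G // ∀ g : G, ConjClasses.mk g = C → IsConj g⁻¹ g} := by
    have hall : ∀ C : {C : ConjClasses G // ∀ g : G, ConjClasses.mk g = C → IsConj g⁻¹ g},
        C.1 = ConjClasses.mk 1 := by
      intro C
      obtain ⟨k, hk⟩ := ConjClasses.exists_rep C.1
      have hc := C.2 k hk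
      rw [← hk, eq_one_of_isConj_inv_of_odd hodd hc.symm]
    exact ⟨fun C C' => Subtype.ext ((hall C).trans (hall C').symm)⟩
  have hle : Nat.card {χ : Cfsg.IrrCharacter G //
      (χ : G → ℂ) ∘ (fun g : G => g⁻¹) = (χ : G → ℂ)} ≤ 1 := by
    rw [key]
    exact Finite.card_le_one_iff_subsingleton.mpr hsub
  have hsub2 := Finite.card_le_one_iff_subsingleton.mp hle
  have e := hsub2.elim ⟨χ, (irr_comp_inv_eq_iff_real χ).mpr hreal⟩
    ⟨⟨fun _ => 1, isIrrCharacter_one⟩, rfl⟩
  exact congrArg (fun x => (x.1 : G → ℂ)) e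

theorem card_modEq_card_conjClasses_of_odd [Finite G] (hodd : Odd (Nat.card G)) :
    Nat.card G ≡ Nat.card (ConjClasses G) [MOD 16] := by
  classical
  have := Fintype.ofFinite G
  have := Fintype.ofFinite (Cfsg.IrrCharacter G)
  rw [← card_irr_eq_card_conjClasses]
  have hdeg : ∀ χ : Cfsg.IrrCharacter G, ∃ d : ℕ, (χ : G → ℂ) 1 = (d : ℂ) ∧ Odd d := by
    intro χ
    obtain ⟨n, ρ, hρ, hχ⟩ := χ.2
    refine ⟨n, ?_, ?_⟩
    · rw [← hχ, Representation.char_one]
      simp
    · have := irr_degree_dvd_card ρ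
      rw [Module.finrank_fin_fun] at this
      exact hodd.of_dvd_nat this
  choose d hd hdodd using hdeg
  have hsq : ∑ χ : Cfsg.IrrCharacter G, d χ ^ 2 = Nat.card G := by
    have h := column_orthogonality (1 : G) (1 : G)
    rw [colFun_of_isConj (IsConj.refl 1)] at h
    have hcent : Nat.card (Subgroup.centralizer ({1} : Set G)) = Nat.card G := by
      have : Subgroup.centralizer ({1} : Set G) = ⊤ := by
        ext x
        simp [Subgroup.mem_centralizer_iff]
      rw [this, Subgroup.card_top]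
    rw [hcent] at h
    have : ((∑ χ : Cfsg.IrrCharacter G, d χ ^ 2 : ℕ) : ℂ) = (Nat.card G : ℂ) := by
      rw [← h]
      push_cast
      apply Finset.sum_congr rfl
      intro χ _
      rw [hd χ]
      simp [pow_two]
    exact_mod_cast this
  have hm : ∀ χ, ∃ m : ℕ, d χ ^ 2 = 8 * m + 1 := by
    intro χ
    obtain ⟨k, hk⟩ := hdodd χ
    have h2 : 2 ∣ k * (k + 1) := (Nat.even_mul_succ_self k).two_dvd
    obtain ⟨j, hj⟩ := h2
    refine ⟨j, ?_⟩
    rw [hk]
    nlinarith
  choose m hm using hm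
  let σ : Cfsg.IrrCharacter G → Cfsg.IrrCharacter G :=
    fun χ => ⟨(χ : G → ℂ) ∘ (fun g : G => g⁻¹), isIrrCharacter_comp_inv χ.2⟩
  have hσσ : ∀ χ, σ (σ χ) = χ := by
    intro χ
    apply Subtype.ext
    funext g
    simp [σ]
  have hdσ : ∀ χ, d (σ χ) = d χ := by
    intro χ
    have h1 := hd (σ χ)
    have h2 : ((σ χ : Cfsg.IrrCharacter G) : G → ℂ) 1 = (χ : G → ℂ) 1 := by simp [σ]
    rw [h2, hd χ] at h1
    exact_mod_cast h1.symm
  have hmσ : ∀ χ, m (σ χ) = m χ := by
    intro χ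
    have h1 := hm (σ χ)
    rw [hdσ, hm χ] at h1
    omega
  have hfix : ∀ χ, σ χ = χ → m χ = 0 := by
    intro χ h
    have hreal : ∀ g : G, ((χ : G → ℂ) g).im = 0 :=
      (irr_comp_inv_eq_iff_real χ).mp (congrArg (fun x => (x.1 : G → ℂ)) h)
    have h1 := real_irr_eq_one_of_odd hodd χ hreal
    have h2 := hd χ
    rw [h1] at h2
    have h3 : d χ = 1 := by
      have h2' : (1 : ℂ) = (d χ : ℂ) := h2
      exact_mod_cast h2'.symm
    have h4 := hm χ
    rw [h3] at h4
    omega
  have hev : (∑ χ : Cfsg.IrrCharacter G, (m χ : ZMod 2)) = 0 := by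
    apply Finset.sum_involution (fun χ _ => σ χ)
    · intro χ _
      rw [hmσ]
      exact CharTwo.add_self_eq_zero _
    · intro χ _ hne hfixed
      apply hne
      rw [hfix χ hfixed]
      simp
    · intro χ _
      exact Finset.mem_univ _
    · intro χ _
      exact hσσ χ
  have hev2 : 2 ∣ ∑ χ : Cfsg.IrrCharacter G, m χ := by
    rw [← Nat.cast_sum] at hev
    exact (ZMod.natCast_eq_zero_iff _ 2).mp hev
  obtain ⟨j, hj⟩ := hev2
  have hfinal : Nat.card G = Nat.card (Cfsg.IrrCharacter G) + 16 * j := by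
    rw [← hsq]
    simp only [hm]
    rw [Finset.sum_add_distrib, ← Finset.mul_sum, hj, Finset.sum_const, Finset.card_univ,
      Nat.card_eq_fintype_card]
    simp
    ring
  rw [hfinal]
  change (_ + 16 * j) % 16 = _ % 16
  omega

end odd

end Cfsg.Agent.Lib.Helper2
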