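import Mathlib

set_option autoImplicit false

namespace Cfsg.Agent.Lib.Helper2

variable {G : Type*} [Group G]

theorem invol_sq {x : G} (hx : orderOf x = 2) : x * x = 1 := by
  have := pow_orderOf_eq_one x
  rw [hx, pow_two] at this
  exact this

theorem invol_inv {x : G} (hx : orderOf x = 2) : x⁻¹ = x :=
  inv_eq_of_mul_eq_one_left (invol_sq hx)

theorem invol_ne_one {x : G} (hx : orderOf x = 2) : x ≠ 1 := by
  intro h
  rw [h, orderOf_one] at hx
  omega

/-- `x * a^k = a^(-k) * x` for `a = x * y`. -/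
theorem invol_mul_zpow {x y : G} (hx : orderOf x = 2) (hy : orderOf y = 2) (k : ℤ) :
    x * (x * y) ^ k = (x * y) ^ (-k) * x := by
  have hxx := invol_sq hx
  have hyy := invol_sq hy
  have h1 : x * (x * y) * x⁻¹ = (x * y)⁻¹ := by
    rw [invol_inv hx, mul_inv_rev, invol_inv hx, invol_inv hy]
    calc x * (x * y) * x = (x * x) * y * x := by group
      _ = y * x := by rw [hxx, one_mul]
  have h2 : x * (x * y) ^ k * x⁻¹ = ((x * y)⁻¹) ^ k := by
    rw [← h1]
    exact (conj_zpow (a := x) (b := x * y) (i := k)).symm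
  rw [zpow_neg, ← inv_zpow, ← h2]
  group

theorem invol_y_eq {x y : G} (hx : orderOf x = 2) : y = x * (x * y) := by
  rw [← mul_assoc, invol_sq hx, one_mul]

theorem invol_y_eq' {x y : G} (hx : orderOf x = 2) (hy : orderOf y = 2) :
    y = (x * y) ^ (-1 : ℤ) * x := by
  have := invol_mul_zpow hx hy 1
  rw [zpow_one] at this
  rw [← this]
  exact invol_y_eq hx

theorem invol_closure_form {x y : G} (hx : orderOf x = 2) (hy : orderOf y = 2) {d : G}
    (hd : d ∈ Subgroup.closure ({x, y} : Set G)) :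
    ∃ k : ℤ, d = (x * y) ^ k ∨ d = (x * y) ^ k * x := by
  induction hd using Subgroup.closure_induction with
  | mem z hz =>
    rcases hz with rfl | hz
    · exact ⟨0, Or.inr (by simp)⟩
    · rw [Set.mem_singleton_iff] at hz
      subst hz
      exact ⟨-1, Or.inr (invol_y_eq' hx hy)⟩
  | one => exact ⟨0, Or.inl (by simp)⟩
  | mul u v _ _ hu hv =>
    obtain ⟨k, hk | hk⟩ := hu <;> obtain ⟨l, hl | hl⟩ := hv
    · exact ⟨k + l, Or.inl (by rw [hk, hl, zpow_add])⟩
    · exact ⟨k + l, Or.inr (by rw [hk, hl, zpow_add, mul_assoc])⟩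
    · refine ⟨k - l, Or.inr ?_⟩
      rw [hk, hl, mul_assoc, invol_mul_zpow hx hy, ← mul_assoc, ← zpow_add, sub_eq_add_neg]
    · refine ⟨k - l, Or.inl ?_⟩
      rw [hk, hl]
      calc (x * y) ^ k * x * ((x * y) ^ l * x) = (x * y) ^ k * (x * (x * y) ^ l) * x := by group
        _ = (x * y) ^ k * ((x * y) ^ (-l) * x) * x := by rw [invol_mul_zpow hx hy]
        _ = (x * y) ^ k * (x * y) ^ (-l) * (x * x) := by group
        _ = (x * y) ^ (k - l) := by rw [invol_sq hx, mul_one, ← zpow_add, sub_eq_add_neg]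
  | inv u _ hu =>
    obtain ⟨k, hk | hk⟩ := hu
    · exact ⟨-k, Or.inl (by rw [hk, zpow_neg])⟩
    · refine ⟨k, Or.inr ?_⟩
      rw [hk, mul_inv_rev, invol_inv hx, ← zpow_neg, invol_mul_zpow hx hy, neg_neg]

theorem invol_mem_closure_left {x y : G} : x ∈ Subgroup.closure ({x, y} : Set G) :=
  Subgroup.subset_closure (by simp)

theorem invol_mem_closure_right {x y : G} : y ∈ Subgroup.closure ({x, y} : Set G) :=
  Subgroup.subset_closure (by simp)

theorem invol_zpow_mem_closure {x y : G} (k : ℤ) :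
    (x * y) ^ k ∈ Subgroup.closure ({x, y} : Set G) :=
  Subgroup.zpow_mem _ (Subgroup.mul_mem _ invol_mem_closure_left invol_mem_closure_right) k

/-- Conjugating `x` by any element of `⟨x, y⟩` gives `a^(2k) * x` for some `k`. -/
theorem invol_conj_form {x y : G} (hx : orderOf x = 2) (hy : orderOf y = 2) {d : G}
    (hd : d ∈ Subgroup.closure ({x, y} : Set G)) :
    ∃ k : ℤ, d * x * d⁻¹ = (x * y) ^ (2 * k) * x := by
  obtain ⟨k, hk | hk⟩ := invol_closure_form hx hy hd
  · refine ⟨k, ?_⟩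
    rw [hk, mul_assoc, ← zpow_neg, invol_mul_zpow hx hy, neg_neg, ← mul_assoc, ← zpow_add, two_mul]
  · refine ⟨k, ?_⟩
    rw [hk, mul_inv_rev, invol_inv hx]
    calc (x * y) ^ k * x * x * (x * ((x * y) ^ k)⁻¹)
        = (x * y) ^ k * (x * x) * (x * (x * y) ^ (-k)) := by rw [zpow_neg]; group
      _ = (x * y) ^ k * ((x * y) ^ k * x) := by rw [invol_sq hx, mul_one, invol_mul_zpow hx hy, neg_neg]
      _ = (x * y) ^ (2 * k) * x := by rw [← mul_assoc, ← zpow_add, two_mul]

theorem invol_conj_zpow_form {x y : G} (hx : orderOf x = 2) (hy : orderOf y = 2) (k : ℤ) :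
    (x * y) ^ k * x * ((x * y) ^ k)⁻¹ = (x * y) ^ (2 * k) * x := by
  rw [mul_assoc, ← zpow_neg, invol_mul_zpow hx hy, neg_neg, ← mul_assoc, ← zpow_add, two_mul]

end Cfsg.Agent.Lib.Helper2
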