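import Mathlib
import Cfsg.Prelude

set_option autoImplicit false

namespace Cfsg.Agent.Lib.Helper2

open Subgroup

section NF

variable {G : Type*} [Group G]

/-- `y x^a = x^a y w^a` when `y x = x y w` with `w` commuting with `x` and `y`. -/
theorem nf_step {x y w : G} (h : y * x = x * y * w) (hwx : Commute w x) (hwy : Commute w y)
    (a : ℤ) : y * x ^ a = x ^ a * y * w ^ a := by
  have h1 : y * x * y⁻¹ = x * w := by
    rw [h, mul_assoc x y w, ← hwy.eq]; simp [mul_assoc]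
  have h2 : y * x ^ a * y⁻¹ = x ^ a * w ^ a := by
    rw [← conj_zpow, h1, hwx.symm.mul_zpow]
  have h3 : y * x ^ a = x ^ a * w ^ a * y := by
    rw [← h2]; simp [mul_assoc]
  rw [h3, mul_assoc, mul_assoc, (hwy.zpow_left a).eq]

/-- `y^b x^a = x^a y^b w^(a b)` when `y x = x y w` with `w` commuting with `x` and `y`. -/
theorem nf_comm {x y w : G} (h : y * x = x * y * w) (hwx : Commute w x) (hwy : Commute w y)
    (a b : ℤ) : y ^ b * x ^ a = x ^ a * y ^ b * w ^ (a * b) := by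
  have h1 := nf_step h hwx hwy a
  have h2 : x ^ a * y = y * x ^ a * (w ^ a)⁻¹ := by rw [h1]; simp [mul_assoc]
  have c1 : Commute (w ^ a)⁻¹ y := (hwy.zpow_left a).inv_left
  have c2 : Commute (w ^ a)⁻¹ (x ^ a) := ((hwx.zpow_left a).zpow_right a).inv_left
  have h3 := nf_step h2 c1 c2 b
  rw [zpow_mul, h3, inv_zpow]; simp [mul_assoc]

/-- The set of normal forms `X^a Y^b d` is a subgroup. -/
def nfSub (D : Subgroup G) (X Y W : G) (hX : ∀ d ∈ D, Commute X d) (hY : ∀ d ∈ D, Commute Y d)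
    (hW : W ∈ D) (h : Y * X = X * Y * W) : Subgroup G where
  carrier := {g | ∃ a b : ℤ, ∃ d ∈ D, g = X ^ a * Y ^ b * d}
  one_mem' := ⟨0, 0, 1, D.one_mem, by simp⟩
  mul_mem' := by
    rintro _ _ ⟨a, b, d, hd, rfl⟩ ⟨a', b', d', hd', rfl⟩
    refine ⟨a + a', b + b', W ^ (a' * b) * d * d',
      D.mul_mem (D.mul_mem (D.zpow_mem hW _) hd) hd', ?_⟩
    have key := nf_comm h (hX W hW).symm (hY W hW).symm a' b
    have c1 : d * X ^ a' = X ^ a' * d := ((hX d hd).symm.zpow_right a').eq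
    have c2 : d * Y ^ b' = Y ^ b' * d := ((hY d hd).symm.zpow_right b').eq
    have c3 : W ^ (a' * b) * Y ^ b' = Y ^ b' * W ^ (a' * b) :=
      (((hY W hW).symm.zpow_right b').zpow_left (a' * b)).eq
    calc X ^ a * Y ^ b * d * (X ^ a' * Y ^ b' * d')
        = X ^ a * Y ^ b * (d * X ^ a') * Y ^ b' * d' := by simp only [mul_assoc]
      _ = X ^ a * Y ^ b * (X ^ a' * d) * Y ^ b' * d' := by rw [c1]
      _ = X ^ a * (Y ^ b * X ^ a') * (d * Y ^ b') * d' := by simp only [mul_assoc]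
      _ = X ^ a * (X ^ a' * Y ^ b * W ^ (a' * b)) * (Y ^ b' * d) * d' := by rw [key, c2]
      _ = X ^ a * X ^ a' * Y ^ b * (W ^ (a' * b) * Y ^ b') * d * d' := by simp only [mul_assoc]
      _ = X ^ a * X ^ a' * Y ^ b * (Y ^ b' * W ^ (a' * b)) * d * d' := by rw [c3]
      _ = (X ^ a * X ^ a') * (Y ^ b * Y ^ b') * (W ^ (a' * b) * d * d') := by
          simp only [mul_assoc]
      _ = _ := by rw [zpow_add, zpow_add]
  inv_mem' := by
    rintro _ ⟨a, b, d, hd, rfl⟩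
    refine ⟨-a, -b, W ^ (a * b) * d⁻¹, D.mul_mem (D.zpow_mem hW _) (D.inv_mem hd), ?_⟩
    have key := nf_comm h (hX W hW).symm (hY W hW).symm (-a) (-b)
    have c1 : d⁻¹ * (Y ^ b)⁻¹ = (Y ^ b)⁻¹ * d⁻¹ :=
      (((hY d hd).symm.zpow_right b).inv_left.inv_right).eq
    have c2 : d⁻¹ * (X ^ a)⁻¹ = (X ^ a)⁻¹ * d⁻¹ :=
      (((hX d hd).symm.zpow_right a).inv_left.inv_right).eq
    have e : -a * -b = a * b := by ring
    rw [e] at key
    calc (X ^ a * Y ^ b * d)⁻¹ = d⁻¹ * (Y ^ b)⁻¹ * (X ^ a)⁻¹ := by simp [mul_assoc]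
      _ = (Y ^ b)⁻¹ * (d⁻¹ * (X ^ a)⁻¹) := by rw [c1, mul_assoc]
      _ = (Y ^ b)⁻¹ * ((X ^ a)⁻¹ * d⁻¹) := by rw [c2]
      _ = (Y ^ (-b) * X ^ (-a)) * d⁻¹ := by rw [zpow_neg, zpow_neg]; simp only [mul_assoc]
      _ = X ^ (-a) * Y ^ (-b) * W ^ (a * b) * d⁻¹ := by rw [key]
      _ = _ := by simp only [mul_assoc]

theorem mem_nfSub (D : Subgroup G) (X Y W : G) (hX : ∀ d ∈ D, Commute X d)
    (hY : ∀ d ∈ D, Commute Y d) (hW : W ∈ D) (h : Y * X = X * Y * W) (g : G) :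
    g ∈ nfSub D X Y W hX hY hW h ↔ ∃ a b : ℤ, ∃ d ∈ D, g = X ^ a * Y ^ b * d := Iff.rfl

end NF

/-- A subgroup of a product whose two projections are bijective is the graph of an
isomorphism. -/
theorem exists_equiv_of_graph {E₁ E₂ : Type*} [Group E₁] [Group E₂] (Γ : Subgroup (E₁ × E₂))
    (s1 : ∀ g : E₁, ∃ g', (g, g') ∈ Γ) (s2 : ∀ g' : E₂, ∃ g, (g, g') ∈ Γ)
    (i1 : ∀ g', ((1 : E₁), g') ∈ Γ → g' = 1) (i2 : ∀ g, (g, (1 : E₂)) ∈ Γ → g = 1) :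
    ∃ φ : E₁ ≃* E₂, ∀ g g', (g, g') ∈ Γ → φ g = g' := by
  let π₁ : Γ →* E₁ := (MonoidHom.fst E₁ E₂).comp Γ.subtype
  let π₂ : Γ →* E₂ := (MonoidHom.snd E₁ E₂).comp Γ.subtype
  have b1 : Function.Bijective π₁ := by
    constructor
    · rw [injective_iff_map_eq_one]
      rintro ⟨⟨g, g'⟩, hg⟩ h1
      have h1' : g = 1 := h1
      subst h1'
      have := i1 g' hg
      subst this
      rfl
    · intro g
      obtain ⟨g', h⟩ := s1 g
      exact ⟨⟨(g, g'), h⟩, rfl⟩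
  have b2 : Function.Bijective π₂ := by
    constructor
    · rw [injective_iff_map_eq_one]
      rintro ⟨⟨g, g'⟩, hg⟩ h1
      have h1' : g' = 1 := h1
      subst h1'
      have := i2 g hg
      subst this
      rfl
    · intro g'
      obtain ⟨g, h⟩ := s2 g'
      exact ⟨⟨(g, g'), h⟩, rfl⟩
  let e₁ := MulEquiv.ofBijective π₁ b1
  let e₂ := MulEquiv.ofBijective π₂ b2
  refine ⟨e₁.symm.trans e₂, ?_⟩
  intro g g' h
  have h1 : e₁ ⟨(g, g'), h⟩ = g := rfl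
  rw [MulEquiv.trans_apply, ← h1, MulEquiv.symm_apply_apply]
  rfl

/-- Iso-extension lemma: an isomorphism `ψ : C₁ ≃* C₂` extends to `E₁ ≃* E₂` when
`E_i = ⟨x_i⟩ ⟨y_i⟩ C_i` with matching relations. -/
theorem ext_iso {E₁ E₂ : Type*} [Group E₁] [Group E₂] (p : ℕ) (C₁ : Subgroup E₁)
    (C₂ : Subgroup E₂) (ψ : C₁ ≃* C₂) (x₁ y₁ : E₁) (x₂ y₂ : E₂) (w u v : C₁)
    (hx₁ : ∀ c ∈ C₁, Commute x₁ c) (hy₁ : ∀ c ∈ C₁, Commute y₁ c)
    (hx₂ : ∀ c ∈ C₂, Commute x₂ c) (hy₂ : ∀ c ∈ C₂, Commute y₂ c)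
    (hw₁ : y₁ * x₁ = x₁ * y₁ * w) (hw₂ : y₂ * x₂ = x₂ * y₂ * ψ w)
    (hu₁ : x₁ ^ p = u) (hu₂ : x₂ ^ p = ψ u) (hv₁ : y₁ ^ p = v) (hv₂ : y₂ ^ p = ψ v)
    (hi₁ : ∀ a b : ℤ, x₁ ^ a * y₁ ^ b ∈ C₁ → (p : ℤ) ∣ a ∧ (p : ℤ) ∣ b)
    (hi₂ : ∀ a b : ℤ, x₂ ^ a * y₂ ^ b ∈ C₂ → (p : ℤ) ∣ a ∧ (p : ℤ) ∣ b)
    (hg₁ : ∀ g : E₁, ∃ a b : ℤ, ∃ c ∈ C₁, g = x₁ ^ a * y₁ ^ b * c)
    (hg₂ : ∀ g : E₂, ∃ a b : ℤ, ∃ c ∈ C₂, g = x₂ ^ a * y₂ ^ b * c) :
    ∃ φ : E₁ ≃* E₂, φ x₁ = x₂ ∧ φ y₁ = y₂ ∧ ∀ c : C₁, φ c = ψ c := by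
  classical
  let D : Subgroup (E₁ × E₂) :=
    (MonoidHom.prod C₁.subtype (C₂.subtype.comp ψ.toMonoidHom)).range
  have hD : ∀ d : E₁ × E₂, d ∈ D ↔ ∃ c : C₁, d = ((c : E₁), ((ψ c : C₂) : E₂)) := by
    intro d
    constructor
    · rintro ⟨c, rfl⟩
      exact ⟨c, rfl⟩
    · rintro ⟨c, rfl⟩
      exact ⟨c, rfl⟩
  have hX : ∀ d ∈ D, Commute ((x₁, x₂) : E₁ × E₂) d := by
    intro d hd
    obtain ⟨c, rfl⟩ := (hD d).1 hd
    exact Prod.ext (hx₁ c c.2).eq (hx₂ _ (ψ c).2).eq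
  have hY : ∀ d ∈ D, Commute ((y₁, y₂) : E₁ × E₂) d := by
    intro d hd
    obtain ⟨c, rfl⟩ := (hD d).1 hd
    exact Prod.ext (hy₁ c c.2).eq (hy₂ _ (ψ c).2).eq
  have hW : (((w : E₁), ((ψ w : C₂) : E₂)) : E₁ × E₂) ∈ D := (hD _).2 ⟨w, rfl⟩
  have hrel : ((y₁, y₂) : E₁ × E₂) * (x₁, x₂)
      = (x₁, x₂) * (y₁, y₂) * ((w : E₁), ((ψ w : C₂) : E₂)) := Prod.ext hw₁ hw₂
  let Γ : Subgroup (E₁ × E₂) := nfSub D (x₁, x₂) (y₁, y₂) _ hX hY hW hrel
  have hΓ : ∀ g g', (g, g') ∈ Γ ↔ ∃ a b : ℤ, ∃ c : C₁,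
      g = x₁ ^ a * y₁ ^ b * c ∧ g' = x₂ ^ a * y₂ ^ b * (ψ c : C₂) := by
    intro g g'
    constructor
    · rintro ⟨a, b, d, hd, h⟩
      obtain ⟨c, rfl⟩ := (hD d).1 hd
      exact ⟨a, b, c, congrArg Prod.fst h, congrArg Prod.snd h⟩
    · rintro ⟨a, b, c, h1, h2⟩
      exact ⟨a, b, _, (hD _).2 ⟨c, rfl⟩, Prod.ext h1 h2⟩
  -- key computation: if `p ∣ a, b` then the normal form lies in the graph of `ψ`
  have hred : ∀ a' b' : ℤ, ∀ c : C₁,
      x₁ ^ ((p : ℤ) * a') * y₁ ^ ((p : ℤ) * b') * c = ((u ^ a' * v ^ b' * c : C₁) : E₁) ∧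
      x₂ ^ ((p : ℤ) * a') * y₂ ^ ((p : ℤ) * b') * (ψ c : C₂)
        = ((ψ (u ^ a' * v ^ b' * c) : C₂) : E₂) := by
    intro a' b' c
    constructor
    · rw [zpow_mul, zpow_mul, zpow_natCast, zpow_natCast, hu₁, hv₁]
      simp
    · rw [zpow_mul, zpow_mul, zpow_natCast, zpow_natCast, hu₂, hv₂]
      simp
  have i1 : ∀ g', ((1 : E₁), g') ∈ Γ → g' = 1 := by
    intro g' hg
    obtain ⟨a, b, c, h1, h2⟩ := (hΓ _ _).1 hg
    have hmem : x₁ ^ a * y₁ ^ b ∈ C₁ := by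
      have : x₁ ^ a * y₁ ^ b = ((c⁻¹ : C₁) : E₁) := by
        rw [Subgroup.coe_inv, eq_inv_iff_mul_eq_one]
        exact h1.symm
      rw [this]
      exact (c⁻¹).2
    obtain ⟨⟨a', rfl⟩, ⟨b', rfl⟩⟩ := hi₁ a b hmem
    obtain ⟨r1, r2⟩ := hred a' b' c
    rw [r1] at h1
    rw [r2] at h2
    have h3 : u ^ a' * v ^ b' * c = 1 := Subtype.ext h1.symm
    rw [h2, h3, map_one]
    rfl
  have i2 : ∀ g, (g, (1 : E₂)) ∈ Γ → g = 1 := by
    intro g hg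
    obtain ⟨a, b, c, h1, h2⟩ := (hΓ _ _).1 hg
    have hmem : x₂ ^ a * y₂ ^ b ∈ C₂ := by
      have : x₂ ^ a * y₂ ^ b = (((ψ c)⁻¹ : C₂) : E₂) := by
        rw [Subgroup.coe_inv, eq_inv_iff_mul_eq_one]
        exact h2.symm
      rw [this]
      exact ((ψ c)⁻¹).2
    obtain ⟨⟨a', rfl⟩, ⟨b', rfl⟩⟩ := hi₂ a b hmem
    obtain ⟨r1, r2⟩ := hred a' b' c
    rw [r1] at h1
    rw [r2] at h2
    have h3 : ψ (u ^ a' * v ^ b' * c) = 1 := Subtype.ext h2.symm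
    have h4 : u ^ a' * v ^ b' * c = 1 := by
      have := congrArg ψ.symm h3
      simpa using this
    rw [h1, h4]
    rfl
  have s1 : ∀ g : E₁, ∃ g', (g, g') ∈ Γ := by
    intro g
    obtain ⟨a, b, c, hc, rfl⟩ := hg₁ g
    exact ⟨_, (hΓ _ _).2 ⟨a, b, ⟨c, hc⟩, rfl, rfl⟩⟩
  have s2 : ∀ g' : E₂, ∃ g, (g, g') ∈ Γ := by
    intro g'
    obtain ⟨a, b, c, hc, rfl⟩ := hg₂ g'
    refine ⟨_, (hΓ _ _).2 ⟨a, b, ψ.symm ⟨c, hc⟩, rfl, ?_⟩⟩
    simp
  obtain ⟨φ, hφ⟩ := exists_equiv_of_graph Γ s1 s2 i1 i2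
  refine ⟨φ, ?_, ?_, ?_⟩
  · apply hφ
    exact (hΓ _ _).2 ⟨1, 0, 1, by simp, by simp⟩
  · apply hφ
    exact (hΓ _ _).2 ⟨0, 1, 1, by simp, by simp⟩
  · intro c
    apply hφ
    exact (hΓ _ _).2 ⟨0, 0, c, by simp, by simp⟩

/-- `z` is central of order `p`, commutators are powers of `z`, and the centre is `⟨z⟩`:
the group is cyclic of order `p` or extraspecial. -/
structure WG (p : ℕ) (E : Type*) [Group E] (z : E) : Prop where
  zc : ∀ g : E, Commute z g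
  z1 : z ≠ 1
  zp : z ^ p = 1
  comm : ∀ x y : E, ∃ k : ℕ, x * y * x⁻¹ * y⁻¹ = z ^ k
  cent : ∀ g : E, (∀ h, Commute g h) → ∃ k : ℕ, g = z ^ k

namespace WG

variable {p : ℕ} {E : Type*} [Group E] {z : E}

theorem comm_central (h : WG p E z) (x y g : E) : Commute (x * y * x⁻¹ * y⁻¹) g := by
  obtain ⟨k, hk⟩ := h.comm x y
  rw [hk]
  exact (h.zc g).pow_left k

/-- `g ↦ [w, g]` as a homomorphism. -/
def commHom (h : WG p E z) (w : E) : E →* E where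
  toFun g := w * g * w⁻¹ * g⁻¹
  map_one' := by simp
  map_mul' := by
    intro a b
    have c := (h.comm_central w b a).inv_right.eq
    calc w * (a * b) * w⁻¹ * (a * b)⁻¹
        = w * a * w⁻¹ * ((w * b * w⁻¹ * b⁻¹) * a⁻¹) := by group
      _ = w * a * w⁻¹ * (a⁻¹ * (w * b * w⁻¹ * b⁻¹)) := by rw [c]
      _ = _ := by group

theorem commHom_apply (h : WG p E z) (w g : E) : h.commHom w g = w * g * w⁻¹ * g⁻¹ := rfl

theorem commHom_eq_one_iff (h : WG p E z) (w g : E) : h.commHom w g = 1 ↔ Commute w g := by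
  rw [commHom_apply, mul_inv_eq_one, mul_inv_eq_iff_eq_mul]
  exact Iff.rfl

theorem commHom_self (h : WG p E z) (w : E) : h.commHom w w = 1 :=
  (h.commHom_eq_one_iff w w).2 (Commute.refl w)

theorem commHom_swap (h : WG p E z) (w g : E) : h.commHom w g = (h.commHom g w)⁻¹ := by
  rw [commHom_apply, commHom_apply]
  group

theorem orderOf_eq (h : WG p E z) [hp : Fact p.Prime] : orderOf z = p :=
  orderOf_eq_prime h.zp h.z1

theorem commHom_pow (h : WG p E z) (w g : E) : h.commHom w g ^ p = 1 := by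
  obtain ⟨k, hk⟩ := h.comm w g
  rw [commHom_apply, hk, ← pow_mul, mul_comm, pow_mul, h.zp, one_pow]

theorem pow (h : WG p E z) (x : E) : ∃ k : ℕ, x ^ p = z ^ k := by
  apply h.cent
  intro g
  have h1 : h.commHom g (x ^ p) = 1 := by rw [map_pow, h.commHom_pow]
  exact ((h.commHom_eq_one_iff g (x ^ p)).1 h1).symm

theorem exists_pair (h : WG p E z) [hp : Fact p.Prime] (hnc : ¬ ∀ g g' : E, Commute g g') :
    ∃ x y : E, x * y * x⁻¹ * y⁻¹ = z := by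
  push Not at hnc
  obtain ⟨x, y₀, hxy⟩ := hnc
  obtain ⟨k, hk⟩ := h.comm x y₀
  have hk1 : z ^ k ≠ 1 := by
    rw [← hk]
    intro h1
    exact hxy ((h.commHom_eq_one_iff x y₀).1 h1)
  have hcop : k.Coprime (orderOf z) := by
    rw [h.orderOf_eq, Nat.coprime_comm, Nat.Prime.coprime_iff_not_dvd hp.out]
    rintro ⟨m, rfl⟩
    exact hk1 (by rw [pow_mul, h.zp, one_pow])
  obtain ⟨m, hm⟩ := exists_pow_eq_self_of_coprime hcop
  refine ⟨x, y₀ ^ m, ?_⟩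
  have : h.commHom x (y₀ ^ m) = z := by
    rw [map_pow, commHom_apply, hk, hm]
  exact this

section Decomp

theorem mem_cen_iff (x y g : E) :
    g ∈ centralizer ({x, y} : Set E) ↔ Commute x g ∧ Commute y g := by
  rw [Subgroup.mem_centralizer_iff]
  constructor
  · intro hg
    exact ⟨hg x (by simp), hg y (by simp)⟩
  · rintro ⟨h1, h2⟩ w hw
    rcases hw with rfl | rfl
    · exact h1
    · exact h2

theorem commHom_xy (h : WG p E z) {x y : E} (hxy : x * y * x⁻¹ * y⁻¹ = z) :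
    h.commHom x y = z := hxy

theorem commHom_yx (h : WG p E z) {x y : E} (hxy : x * y * x⁻¹ * y⁻¹ = z) :
    h.commHom y x = z⁻¹ := by
  rw [h.commHom_swap, h.commHom_xy hxy]

theorem z_mem_cen (h : WG p E z) (x y : E) : z ∈ centralizer ({x, y} : Set E) :=
  (mem_cen_iff x y z).2 ⟨(h.zc x).symm, (h.zc y).symm⟩

theorem gen (h : WG p E z) {x y : E} (hxy : x * y * x⁻¹ * y⁻¹ = z) (g : E) : ∃ a b : ℤ, ∃ c ∈ centralizer ({x, y} : Set E), g = x ^ a * y ^ b * c := by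
  obtain ⟨i, hi⟩ := h.comm x g
  obtain ⟨j, hj⟩ := h.comm y g
  refine ⟨-(j : ℤ), (i : ℤ), (x ^ (-(j : ℤ)) * y ^ (i : ℤ))⁻¹ * g, ?_, by group⟩
  rw [mem_cen_iff]
  constructor
  · rw [← h.commHom_eq_one_iff]
    have hi' : h.commHom x g = z ^ i := hi
    simp only [map_mul, map_inv, map_zpow, h.commHom_self, h.commHom_xy hxy, hi']
    simp
  · rw [← h.commHom_eq_one_iff]
    have hj' : h.commHom y g = z ^ j := hj
    simp only [map_mul, map_inv, map_zpow, h.commHom_self, h.commHom_yx hxy, hj']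
    simp

theorem ind (h : WG p E z) {x y : E} (hxy : x * y * x⁻¹ * y⁻¹ = z) [hp : Fact p.Prime]
    (a b : ℤ) (hab : x ^ a * y ^ b ∈ centralizer ({x, y} : Set E)) :
    (p : ℤ) ∣ a ∧ (p : ℤ) ∣ b := by
  rw [mem_cen_iff] at hab
  obtain ⟨h1, h2⟩ := hab
  rw [← h.commHom_eq_one_iff] at h1 h2
  simp only [map_mul, map_zpow, h.commHom_self, h.commHom_xy hxy, h.commHom_yx hxy] at h1 h2
  constructor
  · have : z ^ a = 1 := by simpa using h2
    rw [← h.orderOf_eq]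
    exact orderOf_dvd_iff_zpow_eq_one.2 this
  · have : z ^ b = 1 := by simpa using h1
    rw [← h.orderOf_eq]
    exact orderOf_dvd_iff_zpow_eq_one.2 this

theorem sub (h : WG p E z) {x y : E} (hxy : x * y * x⁻¹ * y⁻¹ = z) :
    WG p ↥(centralizer ({x, y} : Set E)) ⟨z, h.z_mem_cen x y⟩ where
  zc := fun g => Subtype.ext (h.zc g)
  z1 := fun h1 => h.z1 (congrArg Subtype.val h1)
  zp := Subtype.ext h.zp
  comm := by
    intro a b
    obtain ⟨k, hk⟩ := h.comm a b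
    exact ⟨k, Subtype.ext hk⟩
  cent := by
    intro g hg
    have hg' : ∀ w : E, Commute (g : E) w := by
      intro w
      obtain ⟨a, b, c, hc, rfl⟩ := h.gen hxy w
      have hgx := ((mem_cen_iff x y g).1 g.2).1.symm
      have hgy := ((mem_cen_iff x y g).1 g.2).2.symm
      have hgc : Commute (g : E) c := congrArg Subtype.val (hg ⟨c, hc⟩).eq
      exact ((hgx.zpow_right a).mul_right (hgy.zpow_right b)).mul_right hgc
    obtain ⟨k, hk⟩ := h.cent g hg'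
    exact ⟨k, Subtype.ext hk⟩

theorem card_eq (h : WG p E z) {x y : E} (hxy : x * y * x⁻¹ * y⁻¹ = z) [hp : Fact p.Prime] :
    Nat.card E = p ^ 2 * Nat.card ↥(centralizer ({x, y} : Set E)) := by
  let Φ : E →* E × E := (h.commHom x).prod (h.commHom y)
  have hker : Φ.ker = centralizer ({x, y} : Set E) := by
    ext g
    rw [MonoidHom.mem_ker, mem_cen_iff, ← h.commHom_eq_one_iff, ← h.commHom_eq_one_iff]
    exact Prod.ext_iff
  have hrange : Φ.range = (zpowers z).prod (zpowers z) := by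
    ext ⟨s, t⟩
    rw [Subgroup.mem_prod]
    constructor
    · rintro ⟨g, hg⟩
      obtain ⟨i, hi⟩ := h.comm x g
      obtain ⟨j, hj⟩ := h.comm y g
      have h1 : s = z ^ i := by rw [← hi]; exact (congrArg Prod.fst hg).symm
      have h2 : t = z ^ j := by rw [← hj]; exact (congrArg Prod.snd hg).symm
      exact ⟨by rw [h1]; exact Subgroup.pow_mem _ (mem_zpowers z) _,
        by rw [h2]; exact Subgroup.pow_mem _ (mem_zpowers z) _⟩
    · rintro ⟨hs, ht⟩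
      obtain ⟨i, rfl⟩ := mem_zpowers_iff.1 hs
      obtain ⟨j, rfl⟩ := mem_zpowers_iff.1 ht
      refine ⟨x ^ (-j) * y ^ i, ?_⟩
      apply Prod.ext
      · show h.commHom x (x ^ (-j) * y ^ i) = z ^ i
        simp only [map_mul, map_zpow, h.commHom_self, h.commHom_xy hxy]
        simp
      · show h.commHom y (x ^ (-j) * y ^ i) = z ^ j
        simp only [map_mul, map_zpow, h.commHom_self, h.commHom_yx hxy]
        simp
  have hc1 : Nat.card Φ.range = p * p := by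
    rw [hrange, Nat.card_congr (Subgroup.prodEquiv _ _).toEquiv, Nat.card_prod,
      Nat.card_zpowers, h.orderOf_eq]
  have hc2 := Subgroup.card_mul_index Φ.ker
  rw [Subgroup.index_ker, hc1, hker] at hc2
  rw [← hc2]
  ring

end Decomp

theorem rel (h : WG p E z) {x y : E} (hxy : x * y * x⁻¹ * y⁻¹ = z) :
    y * x = x * y * z⁻¹ := by
  have h1 : x * y = z * y * x := by rw [← hxy]; group
  rw [h1, mul_assoc z, (h.zc (y * x)).eq]
  simp [mul_assoc]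

theorem all_mem_zpowers (h : WG p E z) (hc : ∀ g g' : E, Commute g g') (g : E) :
    g ∈ zpowers z := by
  obtain ⟨k, hk⟩ := h.cent g (hc g)
  rw [hk]
  exact Subgroup.pow_mem _ (mem_zpowers z) _

theorem card_of_comm (h : WG p E z) [hp : Fact p.Prime] (hc : ∀ g g' : E, Commute g g') :
    Nat.card E = p := by
  have h1 : zpowers z = ⊤ := by
    rw [eq_top_iff]
    intro g _
    exact h.all_mem_zpowers hc g
  rw [← Subgroup.card_top (G := E), ← h1, Nat.card_zpowers, h.orderOf_eq]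

theorem comm_of_card (h : WG p E z) [hp : Fact p.Prime] [Finite E] (hcard : Nat.card E = p) :
    ∀ g g' : E, Commute g g' := by
  by_contra hnc
  obtain ⟨x, y, hxy⟩ := h.exists_pair hnc
  have h1 := h.card_eq hxy
  have h2 : 0 < Nat.card ↥(centralizer ({x, y} : Set E)) := Nat.card_pos
  have h3 := hp.out.one_lt
  rw [hcard] at h1
  nlinarith

theorem iso_of_comm {E₁ : Type*} {E₂ : Type*} [Group E₁] [Group E₂] {z₁ : E₁} {z₂ : E₂}
    [hp : Fact p.Prime] (h₁ : WG p E₁ z₁) (h₂ : WG p E₂ z₂)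
    (hc₁ : ∀ g g' : E₁, Commute g g') (hc₂ : ∀ g g' : E₂, Commute g g') :
    ∃ φ : E₁ ≃* E₂, φ z₁ = z₂ :=
  ⟨mulEquivOfOrderOfEq (h₁.all_mem_zpowers hc₁) (h₂.all_mem_zpowers hc₂)
      (by rw [h₁.orderOf_eq, h₂.orderOf_eq]),
    mulEquivOfOrderOfEq_apply_gen _ _ _⟩

end WG

/-- An extraspecial group satisfies `WG` for a suitable central element. -/
theorem wg_of_extraspecial {p : ℕ} [hp : Fact p.Prime] {E : Type*} [Group E] [Finite E]
    (hE : Cfsg.IsExtraspecial p E) : ∃ z : E, WG p E z := by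
  have hZ := hE.2
  have h1 : 1 < Nat.card (center E) := by rw [hZ]; exact hp.out.one_lt
  have hne : center E ≠ ⊥ := (Subgroup.one_lt_card_iff_ne_bot _).1 h1
  obtain ⟨⟨z, hz⟩, hz1⟩ := (Subgroup.ne_bot_iff_exists_ne_one).1 hne
  have hz1' : z ≠ 1 := fun h => hz1 (Subtype.ext h)
  have hzp : z ^ p = 1 := by
    have h2 := pow_card_eq_one' (G := center E) (x := ⟨z, hz⟩)
    rw [hZ] at h2
    exact congrArg Subtype.val h2
  have hord : orderOf z = p := orderOf_eq_prime hzp hz1'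
  have heq : zpowers z = center E := by
    apply Subgroup.eq_of_le_of_card_ge (zpowers_le.2 hz)
    rw [Nat.card_zpowers, hord, hZ]
  have hmem : ∀ g : E, g ∈ center E → ∃ k : ℕ, g = z ^ k := by
    intro g hg
    rw [← heq, ← mem_powers_iff_mem_zpowers, Submonoid.mem_powers_iff] at hg
    obtain ⟨k, hk⟩ := hg
    exact ⟨k, hk.symm⟩
  refine ⟨z, ⟨fun g => ?_, hz1', hzp, fun x y => ?_, fun g hg => ?_⟩⟩
  · exact (Subgroup.mem_center_iff.1 hz g).symm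
  · apply hmem
    have h3 : x * y * x⁻¹ * y⁻¹ ∈ _root_.commutator E := by
      rw [_root_.commutator_def]
      exact Subgroup.commutator_mem_commutator (mem_top x) (mem_top y)
    rw [hE.1.2.2] at h3
    exact h3
  · apply hmem
    rw [Subgroup.mem_center_iff]
    intro w
    exact (hg w).symm

universe u v w

/-- `WG`-groups of exponent `p` and equal order are isomorphic, by an isomorphism matching
the chosen central elements. -/
theorem wg_iso_exp (p : ℕ) [hp : Fact p.Prime] : ∀ n : ℕ, ∀ (E₁ : Type u) (E₂ : Type v)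
    [Group E₁] [Group E₂] [Finite E₁] [Finite E₂] (z₁ : E₁) (z₂ : E₂), WG p E₁ z₁ → WG p E₂ z₂ →
    (∀ g : E₁, g ^ p = 1) → (∀ g : E₂, g ^ p = 1) → Nat.card E₁ = Nat.card E₂ →
    Nat.card E₁ ≤ n → ∃ φ : E₁ ≃* E₂, φ z₁ = z₂ := by
  intro n
  induction n with
  | zero =>
    intro E₁ E₂ _ _ _ _ z₁ z₂ h₁ h₂ e₁ e₂ hc hn
    have := Nat.card_pos (α := E₁)
    omega
  | succ n ih =>
    intro E₁ E₂ _ _ _ _ z₁ z₂ h₁ h₂ e₁ e₂ hc hn
    by_cases hc₁ : ∀ g g' : E₁, Commute g g'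
    · have k1 := h₁.card_of_comm hc₁
      have hc₂ := h₂.comm_of_card (hc ▸ k1)
      exact WG.iso_of_comm h₁ h₂ hc₁ hc₂
    · have hc₂ : ¬ ∀ g g' : E₂, Commute g g' := fun hc₂ =>
        hc₁ (h₁.comm_of_card (by rw [hc, h₂.card_of_comm hc₂]))
      obtain ⟨x₁, y₁, hxy₁⟩ := h₁.exists_pair hc₁
      obtain ⟨x₂, y₂, hxy₂⟩ := h₂.exists_pair hc₂
      have k₁ := h₁.card_eq hxy₁
      have k₂ := h₂.card_eq hxy₂
      have hp1 := hp.out.one_lt
      have hpp : 0 < p ^ 2 := by positivity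
      have hcC : Nat.card ↥(centralizer ({x₁, y₁} : Set E₁))
          = Nat.card ↥(centralizer ({x₂, y₂} : Set E₂)) := by
        rw [k₁, k₂] at hc
        exact Nat.eq_of_mul_eq_mul_left hpp hc
      have hlt : Nat.card ↥(centralizer ({x₁, y₁} : Set E₁)) ≤ n := by
        have h2 : 0 < Nat.card ↥(centralizer ({x₁, y₁} : Set E₁)) := Nat.card_pos
        rw [k₁] at hn
        nlinarith
      obtain ⟨ψ, hψ⟩ := ih ↥(centralizer ({x₁, y₁} : Set E₁)) ↥(centralizer ({x₂, y₂} : Set E₂))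
        ⟨z₁, h₁.z_mem_cen x₁ y₁⟩ ⟨z₂, h₂.z_mem_cen x₂ y₂⟩ (h₁.sub hxy₁) (h₂.sub hxy₂)
        (fun g => Subtype.ext (e₁ g)) (fun g => Subtype.ext (e₂ g)) hcC hlt
      obtain ⟨φ, -, -, hφ⟩ := ext_iso p (centralizer ({x₁, y₁} : Set E₁))
        (centralizer ({x₂, y₂} : Set E₂)) ψ x₁ y₁ x₂ y₂
        (⟨z₁, h₁.z_mem_cen x₁ y₁⟩⁻¹) 1 1
        (fun c hc => ((WG.mem_cen_iff x₁ y₁ c).1 hc).1)
        (fun c hc => ((WG.mem_cen_iff x₁ y₁ c).1 hc).2)
        (fun c hc => ((WG.mem_cen_iff x₂ y₂ c).1 hc).1)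
        (fun c hc => ((WG.mem_cen_iff x₂ y₂ c).1 hc).2)
        (h₁.rel hxy₁) (by rw [map_inv, hψ]; exact h₂.rel hxy₂)
        (e₁ x₁) (by rw [map_one]; exact e₂ x₂) (e₁ y₁) (by rw [map_one]; exact e₂ y₂)
        (h₁.ind hxy₁) (h₂.ind hxy₂) (h₁.gen hxy₁) (h₂.gen hxy₂)
      refine ⟨φ, ?_⟩
      have h3 := hφ ⟨z₁, h₁.z_mem_cen x₁ y₁⟩
      rw [hψ] at h3
      exact h3

end Cfsg.Agent.Lib.Helper2
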