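import Mathlib
import Cfsg.Prelude.Def_Solvable
import Cfsg.Prelude.Def_TwoFusion
import Cfsg.Prelude.Def_CaseTheorems
import Cfsg.Agent.Lib.Helper23.Coprime
import Cfsg.Agent.Lib.Helper1.Cores
import Cfsg.Agent.Lib.Helper10.ZS7

set_option autoImplicit false

namespace Cfsg.Agent.Lib.Helper2

universe u

open scoped Pointwise

theorem mcj {G : Type*} [Group G] {a d : G} : a ∈ conjugatesOf d ↔ IsConj d a := Iff.rfl

section FischerP

variable {K : Type*} [Group K] [Finite K]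

/-- Fixed points of an automorphism, as a subgroup. -/
def fixSub (φ : MulAut K) : Subgroup K where
  carrier := {x | φ x = x}
  mul_mem' := by
    intro a b ha hb
    simp only [Set.mem_ofPred_eq] at ha hb ⊢
    rw [map_mul, ha, hb]
  one_mem' := map_one φ
  inv_mem' := by
    intro a ha
    simp only [Set.mem_ofPred_eq] at ha ⊢
    rw [map_inv, ha]

theorem mem_fixSub (φ : MulAut K) (x : K) : x ∈ fixSub φ ↔ φ x = x := Iff.rfl

/-- An involutory automorphism of a group of odd order fixes some Sylow `q`-subgroup. -/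
theorem exists_inv_sylow (φ : MulAut K) (hφ : φ * φ = 1) (hodd : Odd (Nat.card K))
    (q : ℕ) [Fact q.Prime] : ∃ Q : Sylow q K, ∀ x ∈ Q, φ x ∈ Q := by
  classical
  haveI : Fintype (Sylow q K) := Fintype.ofFinite _
  have hcard : ¬ 2 ∣ Fintype.card (Sylow q K) := by
    intro h2
    have h1 : Nat.card (Sylow q K) ∣ Nat.card K :=
      (Sylow.card_dvd_index (default : Sylow q K)).trans (Subgroup.index_dvd_card _)
    rw [Nat.card_eq_fintype_card] at h1
    have := h2.trans h1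
    exact (Nat.not_even_iff_odd.mpr hodd) (even_iff_two_dvd.mpr this)
  have hσ : (MulAction.toPermHom (MulAut K) (Sylow q K) φ) ^ 2 ^ 1 = 1 := by
    rw [pow_one, pow_two, ← map_mul, hφ, map_one]
  haveI : Fact (Nat.Prime 2) := ⟨Nat.prime_two⟩
  obtain ⟨Q, hQ⟩ := Equiv.Perm.exists_fixed_point_of_prime (p := 2) (n := 1) hcard hσ
  refine ⟨Q, fun x hx => ?_⟩
  have hQ' : φ • Q = Q := hQ
  have h1 : φ • x ∈ φ • (Q : Subgroup K) := Subgroup.smul_mem_pointwise_smul x φ _ hx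
  rw [← Sylow.pointwise_smul_def, hQ'] at h1
  exact h1

/-- If all twisted commutators `φ x * x⁻¹` of an involutory automorphism of an odd-order group
have `p`-power order, they all lie in a common `φ`-invariant `p`-subgroup. -/
theorem twisted_comm_mem (φ : MulAut K) (hφ : φ * φ = 1) (hodd : Odd (Nat.card K))
    (p : ℕ) [hp : Fact p.Prime]
    (h : ∀ x : K, ∃ k : ℕ, orderOf (φ x * x⁻¹) = p ^ k) :
    ∃ P : Subgroup K, IsPGroup p P ∧ (∀ u ∈ P, φ u ∈ P) ∧ ∀ x : K, φ x * x⁻¹ ∈ P := by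
  obtain ⟨P, hP⟩ := exists_inv_sylow φ hφ hodd p
  refine ⟨P, P.isPGroup', hP, ?_⟩
  have hcop : (fixSub φ).index.Coprime (P : Subgroup K).index := by
    apply Nat.coprime_of_dvd
    intro q hq hq1 hq2
    haveI : Fact q.Prime := ⟨hq⟩
    by_cases hqp : q = p
    · subst hqp
      exact P.not_dvd_index hq2
    · obtain ⟨Q, hQ⟩ := exists_inv_sylow φ hφ hodd q
      have hle : (Q : Subgroup K) ≤ fixSub φ := by
        intro x hx
        rw [mem_fixSub]
        have hmem : φ x * x⁻¹ ∈ (Q : Subgroup K) := mul_mem (hQ x hx) (inv_mem hx)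
        obtain ⟨k, hk⟩ := h x
        obtain ⟨j, hj⟩ := Q.isPGroup' ⟨φ x * x⁻¹, hmem⟩
        have hj' : (φ x * x⁻¹) ^ (q ^ j) = 1 := by
          have := congrArg Subtype.val hj
          simpa using this
        have hdvd : p ^ k ∣ q ^ j := hk ▸ orderOf_dvd_of_pow_eq_one hj'
        have hk0 : k = 0 := by
          by_contra hk0
          have h1 : p ∣ q ^ j := (dvd_pow_self p hk0).trans hdvd
          have h2 := (Nat.prime_dvd_prime_iff_eq hp.out hq).mp (hp.out.dvd_of_dvd_pow h1)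
          exact hqp h2.symm
        rw [hk0, pow_zero, orderOf_eq_one_iff] at hk
        exact mul_inv_eq_one.mp hk
      exact Q.not_dvd_index (hq1.trans (Subgroup.index_dvd_of_le hle))
  intro x
  obtain ⟨u, hu, c, hc, hx⟩ :=
    Cfsg.Agent.Lib.Helper23.exists_mul_of_coprime_index (fixSub φ) (P : Subgroup K) hcop x
  rw [mem_fixSub] at hc
  rw [hx, map_mul, hc, mul_inv_rev, mul_assoc, mul_inv_cancel_left]
  exact mul_mem (hP u hu) (inv_mem hu)

/-- In a group of odd order, an element inverted by `φ` is a twisted commutator. -/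
theorem exists_twist_of_inverted (φ : MulAut K) (hodd : Odd (Nat.card K)) (k : K)
    (hk : φ k = k⁻¹) : ∃ x : K, k = φ x * x⁻¹ := by
  obtain ⟨m, hm⟩ := hodd
  refine ⟨(k ^ (m + 1))⁻¹, ?_⟩
  have h1 : k ^ (2 * m + 1) = 1 := by rw [← hm]; exact pow_card_eq_one'
  simp only [map_inv, map_pow, hk, inv_pow, inv_inv]
  rw [← pow_add]
  have h2 : m + 1 + (m + 1) = (2 * m + 1) + 1 := by ring
  rw [h2, pow_succ, h1, one_mul]

end FischerP

/-- Fischer-type theorem: if `d` is an involution such that the product of any two conjugates of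
`d` has order a power of the odd prime `p`, then all these products lie in `O_p(G)`.
(Uses Glauberman's `Z*`-theorem.) -/
theorem fischer_products {G : Type u} [Group G] [Finite G] {p : ℕ} (hp : p.Prime) (hp2 : p ≠ 2)
    (d : G) (hd : orderOf d = 2)
    (hprod : ∀ a ∈ conjugatesOf d, ∀ b ∈ conjugatesOf d, ∃ k : ℕ, orderOf (a * b) = p ^ k) :
    ∀ a ∈ conjugatesOf d, ∀ b ∈ conjugatesOf d, a * b ∈ Cfsg.pCore p G := by
  haveI : Fact p.Prime := ⟨hp⟩
  have hdd : d * d = 1 := by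
    rw [← pow_two, ← hd]; exact pow_orderOf_eq_one d
  have hdinv : d⁻¹ = d := inv_eq_of_mul_eq_one_left hdd
  have hinvol : ∀ a ∈ conjugatesOf d, a * a = 1 := by
    intro a ha
    obtain ⟨g, rfl⟩ := isConj_iff.mp (mcj.mp ha)
    calc g * d * g⁻¹ * (g * d * g⁻¹) = g * (d * d) * g⁻¹ := by group
      _ = 1 := by rw [hdd]; group
  have hiso : Cfsg.IsIsolatedInvolution d := by
    refine ⟨hd, fun g hc => ?_⟩
    have ha : g * d * g⁻¹ ∈ conjugatesOf d :=
      mcj.mpr (isConj_iff.mpr ⟨g, rfl⟩)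
    obtain ⟨k, hk⟩ := hprod d mem_conjugatesOf_self _ ha
    have hsq : (d * (g * d * g⁻¹)) ^ 2 = 1 := by
      rw [pow_two]
      calc d * (g * d * g⁻¹) * (d * (g * d * g⁻¹))
          = d * ((g * d * g⁻¹) * d) * (g * d * g⁻¹) := by group
        _ = d * (d * (g * d * g⁻¹)) * (g * d * g⁻¹) := by rw [hc.eq]
        _ = (d * d) * ((g * d * g⁻¹) * (g * d * g⁻¹)) := by group
        _ = 1 := by rw [hdd, hinvol _ ha, one_mul]
    have hdvd : p ^ k ∣ 2 := hk ▸ orderOf_dvd_of_pow_eq_one hsq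
    have hk0 : k = 0 := by
      by_contra hk0
      have h1 : p ∣ 2 := (dvd_pow_self p hk0).trans hdvd
      exact hp2 ((Nat.prime_dvd_prime_iff_eq hp Nat.prime_two).mp h1)
    rw [hk0, pow_zero, orderOf_eq_one_iff] at hk
    have h3 : g * d * g⁻¹ = d⁻¹ := eq_inv_of_mul_eq_one_right hk
    rw [h3, hdinv]
  haveI hKn : (Cfsg.oddCore G).Normal := Cfsg.Agent.Lib.Helper1.pPrimeCore_normal 2
  have hKodd : Odd (Nat.card (Cfsg.oddCore G)) :=
    (Cfsg.Agent.Lib.Helper1.pPrimeCore_coprime (G := G) 2).odd_of_right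
  let φ : MulAut (Cfsg.oddCore G) := MulAut.conjNormal d
  have hφ : φ * φ = 1 := by
    change MulAut.conjNormal d * MulAut.conjNormal d = 1
    rw [← map_mul, hdd, map_one]
  have hφa : ∀ x : Cfsg.oddCore G, ((φ x : Cfsg.oddCore G) : G) = d * x * d⁻¹ :=
    fun x => MulAut.conjNormal_apply d x
  have h : ∀ x : Cfsg.oddCore G, ∃ k : ℕ, orderOf (φ x * x⁻¹) = p ^ k := by
    intro x
    have ha : (x : G) * d * (x : G)⁻¹ ∈ conjugatesOf d :=
      mcj.mpr (isConj_iff.mpr ⟨x, rfl⟩)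
    obtain ⟨k, hk⟩ := hprod d mem_conjugatesOf_self _ ha
    refine ⟨k, ?_⟩
    rw [← Subgroup.orderOf_coe, ← hk]
    congr 1
    rw [Subgroup.coe_mul, hφa, Subgroup.coe_inv, hdinv]
    group
  obtain ⟨P, hPp, hPinv, hPmem⟩ := twisted_comm_mem φ hφ hKodd p h
  have hP' : IsPGroup p (P.map (Cfsg.oddCore G).subtype) := hPp.map _
  have key : ∀ a ∈ conjugatesOf d, d * a ∈ P.map (Cfsg.oddCore G).subtype := by
    intro a ha
    have haa := hinvol a ha
    have hainv : a⁻¹ = a := inv_eq_of_mul_eq_one_left haa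
    obtain ⟨g, hg⟩ := isConj_iff.mp (mcj.mp ha)
    have hz := Cfsg.Agent.Lib.Helper10.ZS.zstar d hiso g
    have hmemK : d * a ∈ Cfsg.oddCore G := by
      have he : d * a = d * g * d⁻¹ * g⁻¹ := by rw [← hg, hdinv]; group
      rw [he]; exact hz
    have hinv : φ ⟨d * a, hmemK⟩ = (⟨d * a, hmemK⟩ : Cfsg.oddCore G)⁻¹ := by
      apply Subtype.ext
      rw [hφa, Subgroup.coe_inv]
      change d * (d * a) * d⁻¹ = (d * a)⁻¹
      rw [mul_inv_rev, hainv, ← mul_assoc, hdd, one_mul]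
    obtain ⟨x, hx⟩ := exists_twist_of_inverted φ hKodd ⟨d * a, hmemK⟩ hinv
    refine ⟨⟨d * a, hmemK⟩, ?_, rfl⟩
    rw [hx]
    exact hPmem x
  have hPd : ∀ w ∈ P.map (Cfsg.oddCore G).subtype, d * w * d⁻¹ ∈ P.map (Cfsg.oddCore G).subtype := by
    rintro w ⟨u, hu, rfl⟩
    exact ⟨φ u, hPinv u hu, hφa u⟩
  have hab : ∀ a ∈ conjugatesOf d, ∀ b ∈ conjugatesOf d,
      a * b ∈ P.map (Cfsg.oddCore G).subtype := by
    intro a ha b hb
    have h1 := hPd _ (key a ha)
    have h2 := key b hb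
    have h3 := mul_mem h1 h2
    have he : d * (d * a) * d⁻¹ * (d * b) = a * b := by
      rw [← mul_assoc d d a, hdd, one_mul, mul_assoc a, ← mul_assoc d⁻¹, inv_mul_cancel, one_mul]
    rwa [he] at h3
  let S : Set G := {c | ∃ a ∈ conjugatesOf d, ∃ b ∈ conjugatesOf d, c = a * b}
  have hNle : Subgroup.normalClosure S ≤ P.map (Cfsg.oddCore G).subtype := by
    unfold Subgroup.normalClosure
    rw [Subgroup.closure_le]
    intro y hy
    obtain ⟨c, ⟨a, ha, b, hb, rfl⟩, hcy⟩ := Group.mem_conjugatesOfSet_iff.mp hy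
    obtain ⟨g, rfl⟩ := isConj_iff.mp hcy
    have ha' : g * a * g⁻¹ ∈ conjugatesOf d :=
      mcj.mpr ((mcj.mp ha).trans (isConj_iff.mpr ⟨g, rfl⟩))
    have hb' : g * b * g⁻¹ ∈ conjugatesOf d :=
      mcj.mpr ((mcj.mp hb).trans (isConj_iff.mpr ⟨g, rfl⟩))
    have he : g * (a * b) * g⁻¹ = (g * a * g⁻¹) * (g * b * g⁻¹) := by group
    rw [SetLike.mem_coe, he]
    exact hab _ ha' _ hb'
  have hNp : IsPGroup p (Subgroup.normalClosure S) := hP'.to_le hNle
  have hNcore : Subgroup.normalClosure S ≤ Cfsg.pCore p G :=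
    le_sSup ⟨Subgroup.normalClosure_normal, hNp⟩
  intro a ha b hb
  exact hNcore (Subgroup.subset_normalClosure ⟨a, ha, b, hb, rfl⟩)

end Cfsg.Agent.Lib.Helper2
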