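import Mathlib
import Cfsg.Agent.Lib.Helper2.InvLin
import Cfsg.Agent.Lib.Helper2.AbSylow
import Cfsg.Agent.S0856
import Cfsg.Agent.S0886

set_option autoImplicit false

/-! Characters over an invariant character of a normal subgroup with cyclic quotient, and the
arithmetic behind the congruence for fully ramified sections under a Frobenius action. -/

namespace Cfsg.Agent.Lib.Helper2

open scoped ComplexConjugate

universe u

section cycdecomp

variable {H : Type u} [Group H] [Fintype H]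

omit [Fintype H] in
theorem commutator_le_of_cyclic_quot (M : Subgroup H) [hM : M.Normal]
    (hcyc : IsCyclic (H ⧸ M)) : commutator H ≤ M := by
  rw [commutator_def, Subgroup.commutator_le]
  intro a _ b _
  rw [commutatorElement_def]
  obtain ⟨g, hg⟩ := IsCyclic.exists_generator (α := H ⧸ M)
  obtain ⟨i, hi⟩ := Subgroup.mem_zpowers_iff.mp (hg (QuotientGroup.mk a))
  obtain ⟨j, hj⟩ := Subgroup.mem_zpowers_iff.mp (hg (QuotientGroup.mk b))
  apply (QuotientGroup.eq_one_iff _).mp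
  rw [QuotientGroup.mk_mul, QuotientGroup.mk_mul, QuotientGroup.mk_mul, QuotientGroup.mk_inv,
    QuotientGroup.mk_inv, ← hi, ← hj, ← zpow_add, ← zpow_neg, ← zpow_add, ← zpow_neg, ← zpow_add]
  have : i + j + -i + -j = 0 := by ring
  rw [this, zpow_zero]

/-- an irreducible character over the trivial character of a normal subgroup with cyclic
quotient is linear -/
theorem deg_one_of_over_trivial (M : Subgroup H) [hM : M.Normal] [Fintype M]
    (hcyc : IsCyclic (H ⧸ M)) {β : H → ℂ} (hβ : Cfsg.IsIrrCharacter H β)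
    (hcon : Cfsg.classInner (Cfsg.indFun M (fun _ => (1 : ℂ))) β ≠ 0) : β 1 = 1 := by
  classical
  rw [frobenius_reciprocity M _ _ (isClassFunction_of_isIrrCharacter hβ)] at hcon
  have hcon' : Cfsg.classInner (fun x : M => β x) (fun x => (((1 : M →* ℂˣ) x : ℂˣ) : ℂ)) ≠ 0 := by
    intro h0
    apply hcon
    have h1 := classInner_conj_symm (fun x : M => β x) (fun x => (((1 : M →* ℂˣ) x : ℂˣ) : ℂ))
    rw [h0, map_zero] at h1
    rw [h1]
    rfl
  have hres := restrict_of_linear_inv M hβ (1 : M →* ℂˣ) (fun _ _ => rfl) hcon'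
  apply irr_deg_one_of_commutator_trivial hβ
  intro c hc
  have hcM : c ∈ M := commutator_le_of_cyclic_quot M hcyc hc
  have := hres ⟨c, hcM⟩
  simpa using this

/-- the characters over an invariant character of a normal subgroup with cyclic quotient -/
theorem cyc_over_decomp (M : Subgroup H) [hM : M.Normal] [Fintype M]
    (hcyc : IsCyclic (H ⧸ M)) {θ : M → ℂ} (hθ : Cfsg.IsIrrCharacter M θ)
    (hinv : ∀ (h : H) (m : M), θ ⟨h * m * h⁻¹, hM.conj_mem m m.2 h⟩ = θ m)
    {Ψ : H → ℂ} (hΨ : Cfsg.IsCharacter H Ψ) (e : ℕ) (hres : ∀ m : M, Ψ m = (e : ℂ) * θ m) :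
    ∃ (J : Finset (Cfsg.IrrCharacter H)) (c : Cfsg.IrrCharacter H → ℕ), J.card = M.index ∧
      ∑ ξ ∈ J, c ξ = e ∧ ((∑ ξ ∈ J, (c ξ) ^ 2 : ℕ) : ℂ) = Cfsg.classInner Ψ Ψ := by
  classical
  haveI := Fintype.ofFinite (Cfsg.IrrCharacter H)
  obtain ⟨θh, hθh, hθhext⟩ := Cfsg.Agent.S0886.result M hcyc θ hθ hinv
  obtain ⟨d, hd0, hd⟩ := irr_apply_one hθ
  have hd' : (d : ℂ) ≠ 0 := by exact_mod_cast hd0.ne'
  have hΘ : Cfsg.IsCharacter H (Cfsg.indFun M θ) :=
    indFun_isCharacter M (isCharacter_of_isIrrCharacter hθ)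
  have hmex : ∀ ξ : Cfsg.IrrCharacter H, ∃ n : ℕ,
      Cfsg.classInner (Cfsg.indFun M θ) (ξ : H → ℂ) = n :=
    fun ξ => classInner_isCharacter_nat hΘ (isCharacter_of_isIrrCharacter ξ.2)
  choose m hm using hmex
  have hcex : ∀ ξ : Cfsg.IrrCharacter H, ∃ n : ℕ, Cfsg.classInner Ψ (ξ : H → ℂ) = n :=
    fun ξ => classInner_isCharacter_nat hΨ (isCharacter_of_isIrrCharacter ξ.2)
  choose c hc using hcex
  have hone : ((fun _ => (1 : ℂ)) * θ : M → ℂ) = θ := by
    funext x
    simp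
  have hbij := Cfsg.Agent.S0856.result M (fun _ => (1 : ℂ)) θ isIrrCharacter_one hθ
    (fun _ _ => rfl) hinv (by rw [hone]; exact hθ) θh hθh hθhext
  have hθh1 : θh 1 = (d : ℂ) := by
    have := hθhext 1
    rw [← hd, ← this]
    rfl
  have hK1 : ∀ ξ : Cfsg.IrrCharacter H, m ξ ≠ 0 → (ξ : H → ℂ) 1 = (d : ℂ) := by
    intro ξ hξ
    have hmem : (ξ : H → ℂ) ∈ {ψ : H → ℂ | Cfsg.IsIrrCharacter H ψ ∧
        Cfsg.classInner (Cfsg.indFun M ((fun _ => (1 : ℂ)) * θ)) ψ ≠ 0} := by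
      refine ⟨ξ.2, ?_⟩
      rw [hone, hm]
      exact_mod_cast hξ
    obtain ⟨β, ⟨hβ, hβc⟩, hβξ⟩ := hbij.surjOn hmem
    have hβ1 := deg_one_of_over_trivial M hcyc hβ hβc
    have h1 := congrFun hβξ 1
    rw [← h1]
    show β 1 * θh 1 = _
    rw [hβ1, one_mul, hθh1]
  have hK2 : ∑ ξ : Cfsg.IrrCharacter H, m ξ = M.index := by
    have h1 := char_apply_one_eq_sum hΘ
    rw [indFun_apply_one, hd] at h1
    have h2 : ∑ ξ : Cfsg.IrrCharacter H,
        Cfsg.classInner (Cfsg.indFun M θ) (ξ : H → ℂ) * (ξ : H → ℂ) 1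
        = ∑ ξ : Cfsg.IrrCharacter H, ((m ξ : ℂ) * (d : ℂ)) := by
      apply Finset.sum_congr rfl
      intro ξ _
      rw [hm]
      by_cases h0 : m ξ = 0
      · rw [h0]
        simp
      · rw [hK1 ξ h0]
    rw [h2, ← Finset.sum_mul] at h1
    have h3 := mul_right_cancel₀ hd' h1
    exact_mod_cast h3.symm
  have hK3 : ∑ ξ : Cfsg.IrrCharacter H, (m ξ) ^ 2 = M.index := by
    have h1 := classInner_eq_sum (Cfsg.indFun M θ) (Cfsg.indFun M θ)
      (isClassFunction_of_isCharacter hΘ)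
    have h2 : Cfsg.classInner (Cfsg.indFun M θ) (Cfsg.indFun M θ) = (M.index : ℂ) := by
      rw [frobenius_reciprocity M _ _ (isClassFunction_of_isCharacter hΘ)]
      have h3 : (fun h : M => Cfsg.indFun M θ (h : H)) = (M.index : ℂ) • θ := by
        rw [indFun_restrict_normal]
        have h4 : ∑ x : H, conjFun M θ x⁻¹ = (Nat.card H : ℂ) • θ := by
          have h5 : ∀ x : H, conjFun M θ x⁻¹ = θ := by
            intro x
            funext n
            rw [conjFun_apply, hinv]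
          rw [Finset.sum_congr rfl (fun x _ => h5 x), Finset.sum_const, Finset.card_univ,
            Nat.card_eq_fintype_card]
          exact (Nat.cast_smul_eq_nsmul ℂ _ _).symm
        rw [h4, smul_smul]
        congr 1
        have h6 : (Nat.card H : ℂ) = (Nat.card M : ℂ) * (M.index : ℂ) := by
          rw [← Nat.cast_mul, Subgroup.card_mul_index]
        rw [h6, ← mul_assoc, inv_mul_cancel₀ (card_ne_zero_complex M), one_mul]
      rw [h3, classInner_smul_right, classInner_irr_self hθ]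
      simp
    rw [h2] at h1
    have h5 : ∑ ξ : Cfsg.IrrCharacter H, Cfsg.classInner (Cfsg.indFun M θ) (ξ : H → ℂ) *
        conj (Cfsg.classInner (Cfsg.indFun M θ) (ξ : H → ℂ))
        = ∑ ξ : Cfsg.IrrCharacter H, (((m ξ) ^ 2 : ℕ) : ℂ) := by
      apply Finset.sum_congr rfl
      intro ξ _
      rw [hm]
      simp [pow_two]
    rw [h5] at h1
    exact_mod_cast h1.symm
  have hm01 : ∀ ξ : Cfsg.IrrCharacter H, m ξ = 0 ∨ m ξ = 1 := by
    have hle : ∀ ξ ∈ (Finset.univ : Finset (Cfsg.IrrCharacter H)), m ξ ≤ (m ξ) ^ 2 :=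
      fun ξ _ => Nat.le_self_pow (by norm_num) _
    have heq := (Finset.sum_eq_sum_iff_of_le hle).mp (by rw [hK2, hK3])
    intro ξ
    have h1 := heq ξ (Finset.mem_univ ξ)
    rcases Nat.eq_zero_or_pos (m ξ) with h | h
    · left
      exact h
    · right
      nlinarith
  let J : Finset (Cfsg.IrrCharacter H) := Finset.univ.filter (fun ξ => m ξ ≠ 0)
  have hJcard : J.card = M.index := by
    rw [← hK2, Finset.card_eq_sum_ones, Finset.sum_filter]
    apply Finset.sum_congr rfl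
    intro ξ _
    rcases hm01 ξ with h | h <;> simp [h]
  have hK4 : ∀ ξ : Cfsg.IrrCharacter H, c ξ ≠ 0 → m ξ ≠ 0 := by
    intro ξ hcξ hmξ
    have hcon : Cfsg.classInner Ψ (ξ : H → ℂ) ≠ 0 := by
      rw [hc]
      exact_mod_cast hcξ
    have hΦ := IsCharacter.sub_irr hΨ ξ.2 hcon
    have hξM : Cfsg.IsCharacter M (fun x : M => (ξ : H → ℂ) x) :=
      IsCharacter.restrict (isCharacter_of_isIrrCharacter ξ.2) M
    have hΦM : Cfsg.IsCharacter M (fun x : M => (Ψ - (ξ : H → ℂ)) x) :=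
      IsCharacter.restrict hΦ M
    have hne : (fun x : M => (ξ : H → ℂ) x) ≠ 0 := by
      intro h0
      have h1 := congrFun h0 1
      obtain ⟨k, hk0, hk⟩ := irr_apply_one ξ.2
      have h2 : (ξ : H → ℂ) 1 = 0 := h1
      rw [hk] at h2
      exact hk0.ne' (by exact_mod_cast h2)
    obtain ⟨φ, hφ, hφc⟩ := exists_irr_constituent hξM hne
    obtain ⟨n₁, hn₁⟩ := classInner_isCharacter_nat hξM (isCharacter_of_isIrrCharacter hφ)
    obtain ⟨n₂, hn₂⟩ := classInner_isCharacter_nat hΦM (isCharacter_of_isIrrCharacter hφ)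
    have hΨM : (fun x : M => Ψ x) = (e : ℂ) • θ := by
      funext x
      rw [hres]
      rfl
    have hsum : (fun x : M => Ψ x)
        = (fun x : M => (ξ : H → ℂ) x) + (fun x : M => (Ψ - (ξ : H → ℂ)) x) := by
      funext x
      simp
    have h1 : Cfsg.classInner ((e : ℂ) • θ) φ = (n₁ : ℂ) + n₂ := by
      rw [← hΨM, hsum, classInner_add_left, hn₁, hn₂]
    rw [classInner_smul_left] at h1
    have hn1 : n₁ ≠ 0 := by
      intro h
      apply hφc
      rw [hn₁, h]
      simp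
    have hθφ : Cfsg.classInner θ φ ≠ 0 := by
      intro h0
      rw [h0, mul_zero] at h1
      have : (n₁ + n₂ : ℕ) = 0 := by exact_mod_cast h1.symm
      omega
    have hθeq : θ = φ := by
      by_contra hne'
      exact hθφ (classInner_irr_ne hθ hφ hne')
    subst hθeq
    have h2 : Cfsg.classInner (Cfsg.indFun M θ) (ξ : H → ℂ)
        = Cfsg.classInner θ (fun x : M => (ξ : H → ℂ) x) :=
      frobenius_reciprocity M _ _ (isClassFunction_of_isIrrCharacter ξ.2)
    rw [hm, hmξ] at h2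
    have h3 := classInner_conj_symm θ (fun x : M => (ξ : H → ℂ) x)
    rw [← h2] at h3
    apply hφc
    rw [← h3]
    simp
  refine ⟨J, c, hJcard, ?_, ?_⟩
  · have h1 := char_apply_one_eq_sum hΨ
    have h0 : Ψ 1 = (e : ℂ) * d := by
      have := hres 1
      rw [← hd, ← this]
      rfl
    have h2 : ∑ ξ : Cfsg.IrrCharacter H, Cfsg.classInner Ψ (ξ : H → ℂ) * (ξ : H → ℂ) 1
        = ∑ ξ ∈ J, ((c ξ : ℂ) * d) := by
      rw [Finset.sum_filter]
      apply Finset.sum_congr rfl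
      intro ξ _
      rw [hc]
      by_cases h : m ξ ≠ 0
      · rw [if_pos h, hK1 ξ h]
      · rw [if_neg h]
        have : c ξ = 0 := by
          by_contra h'
          exact h (hK4 ξ h')
        rw [this]
        simp
    rw [h0, h2, ← Finset.sum_mul] at h1
    have h3 := mul_right_cancel₀ hd' h1
    exact_mod_cast h3.symm
  · have h1 := classInner_eq_sum Ψ Ψ (isClassFunction_of_isCharacter hΨ)
    rw [h1]
    push_cast
    rw [Finset.sum_filter]
    apply Finset.sum_congr rfl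
    intro ξ _
    rw [hc]
    by_cases h : m ξ ≠ 0
    · rw [if_pos h]
      simp [pow_two]
    · rw [if_neg h]
      have : c ξ = 0 := by
        by_contra h'
        exact h (hK4 ξ h')
      rw [this]
      simp

end cycdecomp

section arith

/-- the arithmetic: `a` numbers with sum `e` and sum of squares `(e² + a - 1)/a` force
`e ≡ ±1 (mod a)` -/
theorem dvd_of_sums {ι : Type*} (J : Finset ι) (c : ι → ℕ) (a e : ℕ) (ha : 2 ≤ a)
    (hJ : J.card = a) (h1 : ∑ i ∈ J, c i = e) (h2 : a * ∑ i ∈ J, (c i) ^ 2 = e ^ 2 + a - 1) :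
    (a : ℤ) ∣ (e : ℤ) - 1 ∨ (a : ℤ) ∣ (e : ℤ) + 1 := by
  set q : ℤ := (e : ℤ) / a with hq
  set r : ℤ := (e : ℤ) % a with hr
  have ha0 : (0 : ℤ) < a := by exact_mod_cast (by omega : 0 < a)
  have her : (e : ℤ) = a * q + r := by
    rw [hq, hr]
    exact (Int.mul_ediv_add_emod _ _).symm
  have hr0 : 0 ≤ r := Int.emod_nonneg _ ha0.ne'
  have hra : r < a := Int.emod_lt_of_pos _ ha0
  have h1' : ∑ i ∈ J, (c i : ℤ) = e := by exact_mod_cast h1
  have h2' : (a : ℤ) * ∑ i ∈ J, (c i : ℤ) ^ 2 = (e : ℤ) ^ 2 + a - 1 := by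
    have : e ^ 2 + a - 1 = e ^ 2 + (a - 1) := by omega
    rw [this] at h2
    have h3 : ((a * ∑ i ∈ J, (c i) ^ 2 : ℕ) : ℤ) = ((e ^ 2 + (a - 1) : ℕ) : ℤ) := by rw [h2]
    push_cast [Nat.cast_sub (by omega : 1 ≤ a)] at h3
    linarith
  have hsum : ∑ i ∈ J, ((c i : ℤ) - q) * ((c i : ℤ) - q - 1)
      = ∑ i ∈ J, (c i : ℤ) ^ 2 - (2 * q + 1) * ∑ i ∈ J, (c i : ℤ) + a * (q * (q + 1)) := by
    have : ∀ i ∈ J, ((c i : ℤ) - q) * ((c i : ℤ) - q - 1)
        = (c i : ℤ) ^ 2 - (2 * q + 1) * (c i : ℤ) + q * (q + 1) := fun i _ => by ring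
    rw [Finset.sum_congr rfl this, Finset.sum_add_distrib, Finset.sum_sub_distrib,
      ← Finset.mul_sum, Finset.sum_const, hJ]
    simp
  have hnn : 0 ≤ ∑ i ∈ J, ((c i : ℤ) - q) * ((c i : ℤ) - q - 1) := by
    apply Finset.sum_nonneg
    intro i _
    rcases le_or_gt ((c i : ℤ) - q) 0 with h | h
    · nlinarith
    · nlinarith
  have hkey : (a : ℤ) * ∑ i ∈ J, ((c i : ℤ) - q) * ((c i : ℤ) - q - 1) = (r - 1) * (r - a + 1) := by
    rw [hsum, h1']
    have : (a : ℤ) * (∑ i ∈ J, (c i : ℤ) ^ 2 - (2 * q + 1) * e + a * (q * (q + 1)))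
        = ((e : ℤ) ^ 2 + a - 1) - a * ((2 * q + 1) * e) + a * a * (q * (q + 1)) := by
      rw [← h2']
      ring
    rw [this, her]
    ring
  rcases eq_or_lt_of_le hr0 with h0 | hpos
  · -- r = 0
    exfalso
    rw [← h0] at hkey
    have hdvd : (a : ℤ) ∣ (0 - 1) * (0 - (a : ℤ) + 1) := Dvd.intro _ hkey
    have h3 : (a : ℤ) ∣ (a : ℤ) - 1 := by
      have : (0 - 1) * (0 - (a : ℤ) + 1) = (a : ℤ) - 1 := by ring
      rwa [this] at hdvd
    have h4 : (a : ℤ) ∣ 1 := by
      have := Int.dvd_sub (dvd_refl (a : ℤ)) h3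
      simpa using this
    have h5 := Int.le_of_dvd (by norm_num) h4
    have : (2 : ℤ) ≤ a := by exact_mod_cast ha
    omega
  · have hle : (r - 1) * (r - a + 1) ≤ 0 := by nlinarith
    have hge : 0 ≤ (r - 1) * (r - a + 1) := by
      rw [← hkey]
      exact mul_nonneg ha0.le hnn
    have hz : (r - 1) * (r - a + 1) = 0 := le_antisymm hle hge
    rcases mul_eq_zero.mp hz with h | h
    · left
      refine ⟨q, ?_⟩
      rw [her]
      linarith
    · right
      refine ⟨q + 1, ?_⟩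
      rw [her]
      linarith

end arith

end Cfsg.Agent.Lib.Helper2
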