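import Mathlib
import Cfsg.Agent.Lib.Helper2.FullRam

set_option autoImplicit false

/-! Fully ramified characters under a cyclic Frobenius action: the index divides `e ± 1`. -/

namespace Cfsg.Agent.Lib.Helper2

open scoped ComplexConjugate

universe u

section counting

variable {Γ : Type u} [Group Γ] [Fintype Γ]

theorem sum_subgroup_eq (K : Subgroup Γ) [Fintype K] [DecidablePred (· ∈ K)] (f : Γ → ℂ) :
    ∑ k : K, f k = ∑ y : Γ, if y ∈ K then f y else 0 := by
  rw [← Finset.sum_filter]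
  exact (Finset.sum_subtype (Finset.univ.filter (· ∈ K)) (by simp) f).symm

theorem card_filter_mem (K : Subgroup Γ) [DecidablePred (· ∈ K)] :
    (Finset.univ.filter (· ∈ K)).card = Nat.card K := by
  haveI : Fintype K := Fintype.ofFinite _
  rw [Nat.card_eq_fintype_card]
  exact (Fintype.card_of_subtype (Finset.univ.filter (· ∈ K)) (by simp)).symm

theorem conj_count_le (G N H : Subgroup Γ) [hG : G.Normal] [DecidablePred (· ∈ G)]
    [DecidablePred (· ∈ H)] [DecidablePred (· ∈ N)]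
    (hHG : ∀ h ∈ H, h ∈ G → h ∈ N)
    (hfrob : ∀ x : Γ, x ∉ G → ∀ g : Γ, g ∈ G → x * g * x⁻¹ * g⁻¹ ∈ N → g ∈ N)
    (y : Γ) (hy : y ∉ G) :
    (Finset.univ.filter (fun g : Γ => g ∈ G ∧ g⁻¹ * y * g ∈ H)).card ≤ Nat.card N := by
  classical
  rcases Finset.eq_empty_or_nonempty (Finset.univ.filter (fun g : Γ => g ∈ G ∧ g⁻¹ * y * g ∈ H))
    with h0 | ⟨g₀, hg₀⟩
  · rw [h0]
    simp
  · rw [Finset.mem_filter] at hg₀
    obtain ⟨-, hg₀G, hg₀H⟩ := hg₀
    rw [← card_filter_mem N]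
    apply Finset.card_le_card_of_injOn (fun g => g₀⁻¹ * g)
    · intro g hg
      rw [Finset.mem_coe, Finset.mem_filter] at hg
      obtain ⟨-, hgG, hgH⟩ := hg
      rw [Finset.mem_coe, Finset.mem_filter]
      refine ⟨Finset.mem_univ _, ?_⟩
      have hh₀ : g₀⁻¹ * y * g₀ ∉ G := by
        intro h
        apply hy
        have := hG.conj_mem _ h g₀
        simpa [mul_assoc] using this
      have hu : g₀⁻¹ * g ∈ G := G.mul_mem (G.inv_mem hg₀G) hgG
      have key : (g₀⁻¹ * y * g₀) * (g₀⁻¹ * g)⁻¹ * (g₀⁻¹ * y * g₀)⁻¹ * ((g₀⁻¹ * g)⁻¹)⁻¹ ∈ N := by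
        apply hHG
        · have e1 : (g₀⁻¹ * y * g₀) * (g₀⁻¹ * g)⁻¹ * (g₀⁻¹ * y * g₀)⁻¹ * ((g₀⁻¹ * g)⁻¹)⁻¹
              = (g₀⁻¹ * y * g₀) * (g⁻¹ * y * g)⁻¹ := by group
          rw [e1]
          exact H.mul_mem hg₀H (H.inv_mem hgH)
        · exact G.mul_mem (hG.conj_mem _ (G.inv_mem hu) _) (by simpa using hu)
      have := hfrob _ hh₀ _ (G.inv_mem hu) key
      simpa using N.inv_mem this
    · intro g _ g' _ h
      exact mul_left_cancel h

theorem double_count (G H : Subgroup Γ) [hG : G.Normal] [DecidablePred (· ∈ G)]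
    [DecidablePred (· ∈ H)] (F : Γ → ℂ) (hF : ∀ g y : Γ, F (g * y * g⁻¹) = F y) :
    ∑ y : Γ, (if y ∉ G then
        ((Finset.univ.filter (fun g : Γ => g ∈ G ∧ g⁻¹ * y * g ∈ H)).card : ℂ) * F y else 0)
      = (Nat.card G : ℂ) * ∑ y : Γ, (if y ∈ H ∧ y ∉ G then F y else 0) := by
  classical
  have h1 : ∀ y : Γ, (if y ∉ G then
        ((Finset.univ.filter (fun g : Γ => g ∈ G ∧ g⁻¹ * y * g ∈ H)).card : ℂ) * F y else 0)
      = ∑ g : Γ, if (y ∉ G ∧ (g ∈ G ∧ g⁻¹ * y * g ∈ H)) then F y else 0 := by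
    intro y
    by_cases hy : y ∉ G
    · rw [if_pos hy]
      simp only [hy, not_false_eq_true, true_and]
      rw [← Finset.sum_filter, Finset.sum_const, nsmul_eq_mul]
    · rw [if_neg hy]
      simp [hy]
  rw [Finset.sum_congr rfl (fun y _ => h1 y), Finset.sum_comm]
  have h2 : ∀ g : Γ, (∑ y : Γ, if (y ∉ G ∧ (g ∈ G ∧ g⁻¹ * y * g ∈ H)) then F y else 0)
      = if g ∈ G then ∑ y : Γ, (if y ∈ H ∧ y ∉ G then F y else 0) else 0 := by
    intro g
    by_cases hg : g ∈ G
    · rw [if_pos hg]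
      simp only [hg, true_and]
      apply Fintype.sum_equiv (MulAut.conj g⁻¹).toEquiv
      intro y
      have e1 : (MulAut.conj g⁻¹).toEquiv y = g⁻¹ * y * g := by simp
      rw [e1]
      have e2 : g⁻¹ * y * g ∈ G ↔ y ∈ G := by
        constructor
        · intro h
          have := hG.conj_mem _ h g
          simpa [mul_assoc] using this
        · intro h
          have := hG.conj_mem _ h g⁻¹
          simpa [mul_assoc] using this
      have e3 : F (g⁻¹ * y * g) = F y := by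
        have := hF g⁻¹ y
        simpa using this
      rw [e3]
      simp only [e2, and_comm]
    · rw [if_neg hg]
      simp [hg]
  rw [Finset.sum_congr rfl (fun g _ => h2 g), ← Finset.sum_filter, Finset.sum_const,
    nsmul_eq_mul, card_filter_mem]

end counting

section counting2

variable {Γ : Type u} [Group Γ] [Fintype Γ]

theorem sum_off_eq (G N H : Subgroup Γ) [hG : G.Normal] [DecidablePred (· ∈ G)]
    [DecidablePred (· ∈ H)] (hNH : N ≤ H) (hNG : N ≤ G)
    (hHG : ∀ h ∈ H, h ∈ G → h ∈ N)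
    (hfrob : ∀ x : Γ, x ∉ G → ∀ g : Γ, g ∈ G → x * g * x⁻¹ * g⁻¹ ∈ N → g ∈ N)
    (hcard : Nat.card H * Nat.card G = Nat.card N * Nat.card Γ)
    (F : Γ → ℂ) (hF : ∀ g y : Γ, F (g * y * g⁻¹) = F y) :
    (Nat.card G : ℂ) * ∑ y : Γ, (if y ∈ H ∧ y ∉ G then F y else 0)
      = (Nat.card N : ℂ) * ∑ y : Γ, (if y ∉ G then F y else 0) := by
  classical
  set cnt : Γ → ℕ := fun y =>
    (Finset.univ.filter (fun g : Γ => g ∈ G ∧ g⁻¹ * y * g ∈ H)).card with hcnt
  have hle : ∀ y ∈ Finset.univ.filter (fun y : Γ => y ∉ G), cnt y ≤ Nat.card N := by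
    intro y hy
    rw [Finset.mem_filter] at hy
    exact conj_count_le G N H hHG hfrob y hy.2
  have h1 := double_count G H (fun _ => (1 : ℂ)) (fun _ _ => rfl)
  have hA : (Finset.univ.filter (fun y : Γ => y ∈ H ∧ y ∉ G)).card + Nat.card N
      = Nat.card H := by
    rw [← card_filter_mem N, ← card_filter_mem H]
    have h2 := Finset.card_filter_add_card_filter_not
      (s := Finset.univ.filter (fun y : Γ => y ∈ H)) (fun y : Γ => y ∉ G)
    rw [Finset.filter_filter, Finset.filter_filter] at h2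
    rw [← h2]
    congr 2
    ext y
    simp only [Finset.mem_filter, Finset.mem_univ, true_and, not_not]
    constructor
    · intro h
      exact ⟨hNH h, hNG h⟩
    · rintro ⟨h, h'⟩
      exact hHG y h h'
  have hB : (Finset.univ.filter (fun y : Γ => y ∉ G)).card + Nat.card G = Nat.card Γ := by
    rw [← card_filter_mem G, Nat.card_eq_fintype_card, ← Finset.card_univ, add_comm]
    exact Finset.card_filter_add_card_filter_not (s := Finset.univ) (fun y : Γ => y ∈ G)
  have h2 : ∑ y ∈ Finset.univ.filter (fun y : Γ => y ∉ G), cnt y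
      = Nat.card G * (Finset.univ.filter (fun y : Γ => y ∈ H ∧ y ∉ G)).card := by
    have e1 : ∑ y : Γ, (if y ∉ G then (cnt y : ℂ) * (fun _ => (1 : ℂ)) y else 0)
        = ((∑ y ∈ Finset.univ.filter (fun y : Γ => y ∉ G), cnt y : ℕ) : ℂ) := by
      rw [Nat.cast_sum, Finset.sum_filter]
      apply Finset.sum_congr rfl
      intro y _
      simp
    have e2 : ∑ y : Γ, (if y ∈ H ∧ y ∉ G then (fun _ => (1 : ℂ)) y else 0)
        = ((Finset.univ.filter (fun y : Γ => y ∈ H ∧ y ∉ G)).card : ℂ) := by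
      rw [Finset.sum_boole]
    rw [e1, e2] at h1
    exact_mod_cast h1
  have h3 : ∑ y ∈ Finset.univ.filter (fun y : Γ => y ∉ G), cnt y
      = ∑ y ∈ Finset.univ.filter (fun y : Γ => y ∉ G), Nat.card N := by
    rw [h2, Finset.sum_const, smul_eq_mul]
    have e3 : Nat.card G * (Finset.univ.filter (fun y : Γ => y ∈ H ∧ y ∉ G)).card
        + Nat.card G * Nat.card N
        = (Finset.univ.filter (fun y : Γ => y ∉ G)).card * Nat.card N
        + Nat.card G * Nat.card N := by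
      rw [← Nat.mul_add, hA, ← Nat.add_mul, hB, mul_comm, hcard, mul_comm]
    exact Nat.add_right_cancel e3
  have h4 := (Finset.sum_eq_sum_iff_of_le hle).mp h3
  have h5 := double_count G H F hF
  rw [← h5, Finset.mul_sum]
  apply Finset.sum_congr rfl
  intro y _
  by_cases hy : y ∉ G
  · rw [if_pos hy, if_pos hy]
    have := h4 y (Finset.mem_filter.mpr ⟨Finset.mem_univ _, hy⟩)
    rw [← this]
  · rw [if_neg hy, if_neg hy, mul_zero]

end counting2

section main

theorem indFun_restrict_of_inv {K : Type*} [Group K] [Fintype K] (M : Subgroup K)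
    [hM : M.Normal] [Fintype M] (θ : M → ℂ)
    (hinv : ∀ (h : K) (m : M), θ ⟨h * m * h⁻¹, hM.conj_mem m m.2 h⟩ = θ m) :
    (fun h : M => Cfsg.indFun M θ (h : K)) = (M.index : ℂ) • θ := by
  rw [indFun_restrict_normal]
  have h4 : ∑ x : K, conjFun M θ x⁻¹ = (Nat.card K : ℂ) • θ := by
    have h5 : ∀ x : K, conjFun M θ x⁻¹ = θ := by
      intro x
      funext n
      rw [conjFun_apply, hinv]
    rw [Finset.sum_congr rfl (fun x _ => h5 x), Finset.sum_const, Finset.card_univ,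
      Nat.card_eq_fintype_card]
    exact (Nat.cast_smul_eq_nsmul ℂ _ _).symm
  rw [h4, smul_smul]
  congr 1
  have h6 : (Nat.card K : ℂ) = (Nat.card M : ℂ) * (M.index : ℂ) := by
    rw [← Nat.cast_mul, Subgroup.card_mul_index]
  rw [h6, ← mul_assoc, inv_mul_cancel₀ (card_ne_zero_complex M), one_mul]

variable {Γ : Type u} [Group Γ] [Fintype Γ]

set_option maxHeartbeats 1600000 in
/-- **fully ramified sections under a cyclic Frobenius action** -/
theorem frob_ram_dvd (G N : Subgroup Γ) [hG : G.Normal] [hN : N.Normal] [Fintype G] [Fintype N]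
    (hNG : N ≤ G) (hGlt : G ≠ ⊤) (hcyc : IsCyclic (Γ ⧸ G))
    (hfrob : ∀ x : Γ, x ∉ G → ∀ g : Γ, g ∈ G → x * g * x⁻¹ * g⁻¹ ∈ N → g ∈ N)
    (θ : N → ℂ) (hθ : Cfsg.IsIrrCharacter N θ)
    (hinv : ∀ (x : Γ) (n : N), θ ⟨x * n * x⁻¹, hN.conj_mem n n.2 x⟩ = θ n)
    (χ : G → ℂ) (hχ : Cfsg.IsIrrCharacter G χ) (e : ℕ)
    (hram : Cfsg.indFun (N.subgroupOf G) (fun n : N.subgroupOf G => θ ⟨(n : G), n.2⟩)
      = fun g => (e : ℂ) * χ g) :
    (G.index : ℤ) ∣ (e : ℤ) - 1 ∨ (G.index : ℤ) ∣ (e : ℤ) + 1 := by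
  classical
  let N' : Subgroup G := N.subgroupOf G
  haveI : Fintype N' := Fintype.ofFinite _
  let eN : N' ≃* N := Subgroup.subgroupOfEquivOfLe hNG
  let θ' : N' → ℂ := fun n => θ ⟨(n : G), n.2⟩
  have hθ' : Cfsg.IsIrrCharacter N' θ' := Cfsg.Agent.S1489.isIrrCharacter_comp_iso hθ eN
  have hN'n : N'.Normal := inferInstance
  have hθ'inv : ∀ (g : G) (n : N'), θ' ⟨g * n * g⁻¹, hN'n.conj_mem n n.2 g⟩ = θ' n := by
    intro g n
    exact hinv (g : Γ) ⟨(n : G), n.2⟩
  obtain ⟨d, hd0, hd⟩ := irr_apply_one hθ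
  have hd' : (d : ℂ) ≠ 0 := by exact_mod_cast hd0.ne'
  have hidx0 : (N'.index : ℂ) ≠ 0 := by
    exact_mod_cast (Subgroup.index_ne_zero_of_finite (H := N'))
  have hθ'1 : θ' 1 = d := hd
  have he0 : (e : ℂ) ≠ 0 := by
    intro h0
    have h1 : Cfsg.indFun N' θ' 1 = (e : ℂ) * χ 1 := congrFun hram 1
    rw [indFun_apply_one, hθ'1, h0, zero_mul] at h1
    exact (mul_ne_zero hidx0 hd') h1
  have hres1 := indFun_restrict_of_inv N' θ' hθ'inv
  have hχN' : (fun n : N' => χ n) = ((N'.index : ℂ) / e) • θ' := by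
    funext n
    have h1 := congrFun hram (n : G)
    have h2 := congrFun hres1 n
    simp only [Pi.smul_apply, smul_eq_mul] at h2 ⊢
    have h3 : (e : ℂ) * χ n = (N'.index : ℂ) * θ' n := by rw [← h1, ← h2]
    field_simp
    linear_combination h3
  have hee : (N'.index : ℂ) / e = e := by
    have h1 : Cfsg.classInner (Cfsg.indFun N' θ') χ = e := by
      rw [hram]
      have : (fun g => (e : ℂ) * χ g) = (e : ℂ) • χ := by
        funext g
        simp
      rw [this, classInner_smul_left, classInner_irr_self hχ, mul_one]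
    rw [frobenius_reciprocity N' θ' χ (isClassFunction_of_isIrrCharacter hχ), hχN',
      classInner_smul_right, classInner_irr_self hθ', mul_one] at h1
    have := congrArg (starRingEnd ℂ) h1
    simpa using this
  rw [hee] at hχN'
  have hχN : ∀ n : N, χ ⟨n, hNG n.2⟩ = (e : ℂ) * θ n := by
    intro n
    exact congrFun hχN' ⟨⟨n, hNG n.2⟩, Subgroup.mem_subgroupOf.mpr n.2⟩
  have hχinv : ∀ (γ : Γ) (g : G), χ ⟨γ * g * γ⁻¹, hG.conj_mem g g.2 γ⟩ = χ g := by
    intro γ g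
    have h1 := congrFun hram ⟨γ * g * γ⁻¹, hG.conj_mem g g.2 γ⟩
    have h2 := congrFun hram g
    have h3 : Cfsg.indFun N' θ' ⟨γ * g * γ⁻¹, hG.conj_mem g g.2 γ⟩ = Cfsg.indFun N' θ' g := by
      rw [indFun_apply, indFun_apply]
      congr 1
      apply Fintype.sum_equiv (MulAut.conjNormal γ⁻¹ : MulAut G).toEquiv
      intro x
      have e1 : ((MulAut.conjNormal γ⁻¹ : MulAut G).toEquiv x)⁻¹ * g
            * ((MulAut.conjNormal γ⁻¹ : MulAut G).toEquiv x)
          = (MulAut.conjNormal γ⁻¹ : MulAut G)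
            (x⁻¹ * ⟨γ * g * γ⁻¹, hG.conj_mem g g.2 γ⟩ * x) := by
        apply Subtype.ext
        simp [MulAut.conjNormal_apply, mul_assoc]
      rw [e1]
      generalize x⁻¹ * (⟨γ * g * γ⁻¹, hG.conj_mem g g.2 γ⟩ : G) * x = z
      by_cases hzN : z ∈ N'
      · have hz' : (MulAut.conjNormal γ⁻¹ : MulAut G) z ∈ N' := by
          show ((MulAut.conjNormal γ⁻¹ : MulAut G) z : Γ) ∈ N
          rw [MulAut.conjNormal_apply]
          exact hN.conj_mem _ hzN γ⁻¹
        rw [extendByZero_of_mem N' θ' hzN, extendByZero_of_mem N' θ' hz']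
        have h4 := hinv γ⁻¹ ⟨(z : Γ), hzN⟩
        show θ ⟨(z : Γ), hzN⟩ = θ ⟨((MulAut.conjNormal γ⁻¹ : MulAut G) z : Γ), hz'⟩
        rw [← h4]
        congr 1
      · have hz' : (MulAut.conjNormal γ⁻¹ : MulAut G) z ∉ N' := by
          intro h
          apply hzN
          show (z : Γ) ∈ N
          have h' : ((MulAut.conjNormal γ⁻¹ : MulAut G) z : Γ) ∈ N := h
          rw [MulAut.conjNormal_apply] at h'
          have := hN.conj_mem _ h' γ
          simpa [mul_assoc] using this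
        rw [extendByZero_of_not_mem N' θ' hzN, extendByZero_of_not_mem N' θ' hz']
    rw [h3, h2] at h1
    exact (mul_left_cancel₀ he0 h1).symm
  obtain ⟨ψ, hψ, hψext⟩ := Cfsg.Agent.S0886.result G hcyc χ hχ hχinv
  have hψcf := isClassFunction_of_isIrrCharacter hψ
  obtain ⟨y, hy⟩ := IsCyclic.exists_generator (α := Γ ⧸ G)
  obtain ⟨x, rfl⟩ := QuotientGroup.mk_surjective y
  set a := G.index with ha
  have hacard : a = Nat.card (Γ ⧸ G) := Subgroup.index_eq_card G
  have hxG : x ∉ G := by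
    intro h
    apply hGlt
    have h1 : (QuotientGroup.mk x : Γ ⧸ G) = 1 := (QuotientGroup.eq_one_iff x).mpr h
    haveI : Subsingleton (Γ ⧸ G) := ⟨fun u v => by
      have hu := hy u
      have hv := hy v
      rw [h1, Subgroup.zpowers_one_eq_bot, Subgroup.mem_bot] at hu hv
      rw [hu, hv]⟩
    exact QuotientGroup.subgroup_eq_top_of_subsingleton G this
  have hxpow : ∀ γ : Γ, ∃ k : ℤ, (x ^ k)⁻¹ * γ ∈ G := by
    intro γ
    obtain ⟨k, hk⟩ := Subgroup.mem_zpowers_iff.mp (hy (QuotientGroup.mk γ))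
    refine ⟨k, ?_⟩
    rw [← QuotientGroup.mk_zpow] at hk
    exact QuotientGroup.eq.mp hk
  have hxa : x ^ a ∈ G := by
    apply (QuotientGroup.eq_one_iff _).mp
    rw [QuotientGroup.mk_pow, hacard, pow_card_eq_one']
  have hxaN : x ^ a ∈ N := by
    apply hfrob x hxG (x ^ a) hxa
    have : x * x ^ a * x⁻¹ * (x ^ a)⁻¹ = 1 := by
      rw [← pow_succ', pow_succ, mul_inv_cancel_right, mul_inv_cancel]
    rw [this]
    exact N.one_mem
  have hord : orderOf (QuotientGroup.mk x : Γ ⧸ G) = a := by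
    rw [hacard]
    exact orderOf_eq_card_of_forall_mem_zpowers hy
  have hxk : ∀ k : ℤ, x ^ k ∈ G → x ^ k ∈ N := by
    intro k hk
    have h1 : (QuotientGroup.mk x : Γ ⧸ G) ^ k = 1 := by
      rw [← QuotientGroup.mk_zpow]
      exact (QuotientGroup.eq_one_iff _).mpr hk
    have h2 := orderOf_dvd_iff_zpow_eq_one.mpr h1
    rw [hord] at h2
    obtain ⟨j, rfl⟩ := h2
    rw [zpow_mul, zpow_natCast]
    exact N.zpow_mem hxaN j
  let H : Subgroup Γ := N ⊔ Subgroup.zpowers x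
  have hNH : N ≤ H := le_sup_left
  have hxH : x ∈ H := (le_sup_right : Subgroup.zpowers x ≤ H) (Subgroup.mem_zpowers x)
  have hHmem : ∀ h ∈ H, ∃ n ∈ N, ∃ k : ℤ, h = n * x ^ k := by
    intro h hh
    have h1 : h ∈ ((N ⊔ Subgroup.zpowers x : Subgroup Γ) : Set Γ) := hh
    rw [Subgroup.normal_mul] at h1
    obtain ⟨n, hn, z, hz, rfl⟩ := Set.mem_mul.mp h1
    obtain ⟨k, rfl⟩ := Subgroup.mem_zpowers_iff.mp hz
    exact ⟨n, hn, k, rfl⟩
  have hHG : ∀ h ∈ H, h ∈ G → h ∈ N := by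
    intro h hh hg
    obtain ⟨n, hn, k, rfl⟩ := hHmem h hh
    have h1 : x ^ k ∈ G := by
      have := G.mul_mem (G.inv_mem (hNG hn)) hg
      simpa using this
    exact N.mul_mem hn (hxk k h1)
  have hHtop : H ⊔ G = ⊤ := by
    rw [eq_top_iff]
    intro γ _
    obtain ⟨k, hk⟩ := hxpow γ
    have h1 : γ = x ^ k * ((x ^ k)⁻¹ * γ) := by group
    rw [h1]
    exact Subgroup.mul_mem_sup (H.zpow_mem hxH k) hk
  have hrel : N.relIndex H = a := by
    have h1 : G.relIndex (H ⊔ G) = G.relIndex H := Subgroup.relIndex_sup_right H G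
    rw [hHtop, Subgroup.relIndex_top_right] at h1
    have h2 : (G ⊓ H).relIndex H = G.relIndex H := Subgroup.inf_relIndex_right G H
    have h3 : G ⊓ H = N := le_antisymm (fun z hz => hHG z hz.2 hz.1) (le_inf hNG hNH)
    rw [h3] at h2
    rw [h2, ← h1]
  haveI : Fintype H := Fintype.ofFinite _
  have hcardH : Nat.card H = a * Nat.card N := by
    have h1 := Subgroup.card_mul_index (N.subgroupOf H)
    have h2 : Nat.card (N.subgroupOf H) = Nat.card N :=
      Nat.card_congr (Subgroup.subgroupOfEquivOfLe hNH).toEquiv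
    rw [h2] at h1
    rw [← h1, ← hrel]
    exact mul_comm _ _
  have hcardΓ : Nat.card Γ = a * Nat.card G := by
    rw [← Subgroup.card_mul_index G, mul_comm]
  let M : Subgroup H := N.subgroupOf H
  haveI hMn : M.Normal := inferInstance
  haveI : Fintype M := Fintype.ofFinite _
  let eM : M ≃* N := Subgroup.subgroupOfEquivOfLe hNH
  let θM : M → ℂ := θ ∘ eM
  have hθM : Cfsg.IsIrrCharacter M θM := Cfsg.Agent.S1489.isIrrCharacter_comp_iso hθ eM
  have hθMinv : ∀ (h : H) (m : M), θM ⟨h * m * h⁻¹, hMn.conj_mem m m.2 h⟩ = θM m := by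
    intro h m
    exact hinv (h : Γ) (eM m)
  have hMcyc : IsCyclic (H ⧸ M) := by
    refine ⟨⟨QuotientGroup.mk ⟨x, hxH⟩, fun y => ?_⟩⟩
    obtain ⟨h, rfl⟩ := QuotientGroup.mk_surjective y
    obtain ⟨n, hn, k, hk⟩ := hHmem h h.2
    refine ⟨k, ?_⟩
    show (QuotientGroup.mk ⟨x, hxH⟩ : H ⧸ M) ^ k = QuotientGroup.mk h
    rw [← QuotientGroup.mk_zpow, QuotientGroup.eq]
    show ((⟨x, hxH⟩ : H) ^ k)⁻¹ * h ∈ N.subgroupOf H
    rw [Subgroup.mem_subgroupOf]
    have e1 : ((((⟨x, hxH⟩ : H) ^ k)⁻¹ * h : H) : Γ) = (x ^ k)⁻¹ * n * ((x ^ k)⁻¹)⁻¹ := by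
      rw [Subgroup.coe_mul, Subgroup.coe_inv, Subgroup.coe_zpow, hk]
      simp [mul_assoc]
    rw [e1]
    exact hN.conj_mem n hn _
  have hMidx : M.index = a := hrel
  let Ψ : H → ℂ := fun h => ψ h
  have hΨ : Cfsg.IsCharacter H Ψ := IsCharacter.restrict (isCharacter_of_isIrrCharacter hψ) H
  have hψN : ∀ n : N, ψ (n : Γ) = (e : ℂ) * θ n := by
    intro n
    rw [← hχN n, ← hψext]
  have hΨres : ∀ m : M, Ψ m = (e : ℂ) * θM m := by
    intro m
    exact hψN (eM m)
  obtain ⟨J, c, hJ, hc1, hc2⟩ := cyc_over_decomp M hMcyc hθM hθMinv hΨ e hΨres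
  let F : Γ → ℂ := fun y => ψ y * conj (ψ y)
  have hF : ∀ g y : Γ, F (g * y * g⁻¹) = F y := by
    intro g y
    show ψ _ * conj (ψ _) = _
    rw [hψcf y g]
  have hG0 := card_ne_zero_complex G
  have hN0 := card_ne_zero_complex N
  have hΓ0 := card_ne_zero_complex Γ
  have hsumΓ : ∑ y : Γ, F y = (Nat.card Γ : ℂ) := by
    have h1 := classInner_irr_self hψ
    rw [classInner_def] at h1
    have h2 : ∑ y : Γ, F y = (Nat.card Γ : ℂ) * ((Nat.card Γ : ℂ)⁻¹ * ∑ y : Γ, F y) := by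
      rw [← mul_assoc, mul_inv_cancel₀ hΓ0, one_mul]
    rw [h2]
    show (Nat.card Γ : ℂ) * ((Nat.card Γ : ℂ)⁻¹ * ∑ y : Γ, ψ y * conj (ψ y)) = _
    rw [h1, mul_one]
  have hsumG : ∑ y : Γ, (if y ∈ G then F y else 0) = (Nat.card G : ℂ) := by
    rw [← sum_subgroup_eq G F]
    have h1 := classInner_irr_self hχ
    rw [classInner_def] at h1
    have h2 : ∑ g : G, F g = ∑ g : G, χ g * conj (χ g) := by
      apply Finset.sum_congr rfl
      intro g _
      show ψ g * conj (ψ g) = _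
      rw [hψext]
    rw [h2]
    have h3 : ∑ g : G, χ g * conj (χ g)
        = (Nat.card G : ℂ) * ((Nat.card G : ℂ)⁻¹ * ∑ g : G, χ g * conj (χ g)) := by
      rw [← mul_assoc, mul_inv_cancel₀ hG0, one_mul]
    rw [h3, h1, mul_one]
  have hsumoff : ∑ y : Γ, (if y ∉ G then F y else 0) = (Nat.card Γ : ℂ) - Nat.card G := by
    rw [← hsumΓ, ← hsumG, ← Finset.sum_sub_distrib]
    apply Finset.sum_congr rfl
    intro y _
    by_cases h : y ∈ G <;> simp [h]
  have hcardeq : Nat.card H * Nat.card G = Nat.card N * Nat.card Γ := by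
    rw [hcardH, hcardΓ]
    ring
  have hoff := sum_off_eq G N H hNH hNG hHG hfrob hcardeq F hF
  have hsumN : ∑ y : Γ, (if y ∈ N then F y else 0) = (e : ℂ) ^ 2 * Nat.card N := by
    rw [← sum_subgroup_eq N F]
    have h1 := classInner_irr_self hθ
    rw [classInner_def] at h1
    have h2 : ∑ n : N, F n = (e : ℂ) ^ 2 * ∑ n : N, θ n * conj (θ n) := by
      rw [Finset.mul_sum]
      apply Finset.sum_congr rfl
      intro n _
      show ψ n * conj (ψ n) = _
      rw [hψN n, map_mul, Complex.conj_natCast]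
      ring
    rw [h2]
    have h3 : ∑ n : N, θ n * conj (θ n)
        = (Nat.card N : ℂ) * ((Nat.card N : ℂ)⁻¹ * ∑ n : N, θ n * conj (θ n)) := by
      rw [← mul_assoc, mul_inv_cancel₀ hN0, one_mul]
    rw [h3, h1, mul_one]
  have hsumH : ∑ y : Γ, (if y ∈ H then F y else 0)
      = ∑ y : Γ, (if y ∈ N then F y else 0) + ∑ y : Γ, (if y ∈ H ∧ y ∉ G then F y else 0) := by
    rw [← Finset.sum_add_distrib]
    apply Finset.sum_congr rfl
    intro y _
    by_cases hH : y ∈ H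
    · by_cases hGy : y ∈ G
      · have := hHG y hH hGy
        simp [hH, hGy, this]
      · have : y ∉ N := fun h => hGy (hNG h)
        simp [hH, hGy, this]
    · have : y ∉ N := fun h => hH (hNH h)
      simp [hH, this]
  have ha2 : 2 ≤ a := by
    have h0 : a ≠ 0 := Subgroup.index_ne_zero_of_finite
    have h1 : a ≠ 1 := fun h => hGlt (Subgroup.index_eq_one.mp h)
    omega
  have ha0 : (a : ℂ) ≠ 0 := by exact_mod_cast (by omega : a ≠ 0)
  have hΨΨ : Cfsg.classInner Ψ Ψ = ((e : ℂ) ^ 2 + a - 1) / a := by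
    rw [classInner_def]
    have h1 : ∑ h : H, Ψ h * conj (Ψ h) = ∑ y : Γ, (if y ∈ H then F y else 0) :=
      sum_subgroup_eq H F
    rw [h1, hsumH, hsumN]
    have hT : ∑ y : Γ, (if y ∈ H ∧ y ∉ G then F y else 0)
        = (Nat.card N : ℂ) * ((a : ℂ) - 1) := by
      have h2 := hoff
      rw [hsumoff, hcardΓ] at h2
      push_cast at h2
      have h3 : (Nat.card G : ℂ) * ∑ y : Γ, (if y ∈ H ∧ y ∉ G then F y else 0)
          = (Nat.card G : ℂ) * ((Nat.card N : ℂ) * ((a : ℂ) - 1)) := by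
        rw [h2]
        ring
      exact mul_left_cancel₀ hG0 h3
    rw [hT, hcardH]
    push_cast
    field_simp
    ring
  rw [hMidx] at hJ
  apply dvd_of_sums J c a e ha2 hJ hc1
  have h1 : ((a * ∑ ξ ∈ J, c ξ ^ 2 : ℕ) : ℂ) = ((e ^ 2 + a - 1 : ℕ) : ℂ) := by
    rw [Nat.cast_mul, hc2, hΨΨ]
    have h2 : e ^ 2 + a - 1 = e ^ 2 + (a - 1) := by omega
    rw [h2]
    push_cast [Nat.cast_sub (by omega : 1 ≤ a)]
    field_simp
    ring
  exact_mod_cast h1

end main

end Cfsg.Agent.Lib.Helper2
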