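import Mathlib
import Cfsg.Prelude
import Cfsg.Agent.Lib.Helper2.TwoDegI
import Cfsg.Agent.Lib.Helper2.BGChar
import Cfsg.Agent.Lib.Helper2.ItoConv
import Cfsg.Agent.Lib.Helper2.CharCover2
import Cfsg.Agent.Lib.Helper2.AbSylow
import Cfsg.Agent.Lib.Helper2.CharLinear
import Cfsg.Agent.Lib.Helper12.CN

/-!
# Same-degree characters conjugate under power maps: general lemmas
-/

set_option autoImplicit false

namespace Cfsg.Agent.Lib.Helper2

open scoped ComplexConjugate

/-- same-degree non-linear irreducible characters are conjugate under a power map -/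
def GalHyp (G : Type*) [Group G] : Prop :=
  ∀ χ ψ : G → ℂ, Cfsg.IsIrrCharacter G χ → Cfsg.IsIrrCharacter G ψ → χ 1 ≠ 1 → χ 1 = ψ 1 →
    ∃ k : ℕ, Nat.Coprime k (Nat.card G) ∧ ∀ g : G, ψ g = χ (g ^ k)

/-- power-map conjugate characters have the same kernel -/
theorem gal_ker_iff {G : Type*} [Group G] [Finite G] {χ ψ : G → ℂ}
    (hχ : Cfsg.IsIrrCharacter G χ) (k : ℕ) (hk : Nat.Coprime k (Nat.card G))
    (h : ∀ g : G, ψ g = χ (g ^ k)) (z : G) : ψ z = ψ 1 ↔ χ z = χ 1 := by
  obtain ⟨L, -, hL⟩ := exists_char_kernel hχ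
  have h1 : ψ 1 = χ 1 := by rw [h 1, one_pow]
  rw [h1, h z, ← hL, ← hL]
  constructor
  · intro hz
    have hco : Nat.Coprime k (orderOf z) :=
      Nat.Coprime.coprime_dvd_right (orderOf_dvd_natCard z) hk
    obtain ⟨m, hm⟩ := exists_pow_eq_self_of_coprime hco
    rw [← hm]
    exact L.pow_mem hz m
  · intro hz
    exact L.pow_mem hz k

/-- under the hypothesis, the kernel of a non-linear irreducible character lies in the
commutator subgroup -/
theorem gal_ker_le_commutator {G : Type*} [Group G] [Finite G] (hH : GalHyp G) {χ : G → ℂ}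
    (hχ : Cfsg.IsIrrCharacter G χ) (hnl : χ 1 ≠ 1) (z : G) (hz : χ z = χ 1) :
    z ∈ commutator G := by
  by_contra hzc
  obtain ⟨lam, hlam⟩ := exists_hom_ne_one hzc
  have hψ := isIrrCharacter_hom_mul lam hχ
  have hψ1 : ((fun γ => (lam γ : ℂ)) * χ) 1 = χ 1 := by
    simp [Pi.mul_apply]
  obtain ⟨k, hk, h⟩ := hH χ _ hχ hψ hnl hψ1.symm
  have h2 := (gal_ker_iff hχ k hk h z).mpr hz
  rw [hψ1] at h2
  have h3 : (lam z : ℂ) * χ z = χ 1 := h2
  rw [hz] at h3
  obtain ⟨n, hn, hn1⟩ := irr_apply_one hχ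
  have hne : χ 1 ≠ 0 := by rw [hn1]; exact_mod_cast hn.ne'
  have h4 : (lam z : ℂ) = 1 := mul_right_cancel₀ hne (h3.trans (one_mul _).symm)
  exact hlam (Units.ext h4)

/-- the hypothesis passes to quotients -/
theorem galHyp_quot {G : Type*} [Group G] [Finite G] (hH : GalHyp G) (K : Subgroup G)
    [K.Normal] : GalHyp (G ⧸ K) := by
  intro χ ψ hχ hψ hnl hdeg
  have hs := QuotientGroup.mk'_surjective K
  obtain ⟨k, hk, h⟩ := hH (χ ∘ QuotientGroup.mk' K) (ψ ∘ QuotientGroup.mk' K)
    (isIrrCharacter_comp_of_surjective hχ _ hs) (isIrrCharacter_comp_of_surjective hψ _ hs)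
    (by simpa using hnl) (by simpa using hdeg)
  refine ⟨k, Nat.Coprime.coprime_dvd_right (Subgroup.card_quotient_dvd_card K) hk, ?_⟩
  intro q
  obtain ⟨g, rfl⟩ := hs q
  have := h g
  simpa using this

/-- a faithful irreducible character of a group of class two is fully ramified over the
centre -/
theorem faithful_class_two_sq {Q : Type*} [Group Q] [Finite Q] {ψ : Q → ℂ}
    (hψ : Cfsg.IsIrrCharacter Q ψ) (hfaith : ∀ g : Q, ψ g = ψ 1 → g = 1)
    (hcl : commutator Q ≤ Subgroup.center Q) (d : ℕ) (hd : ψ 1 = (d : ℂ)) :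
    (Subgroup.center Q).index = d ^ 2 := by
  classical
  have := Fintype.ofFinite Q
  have := Fintype.ofFinite (Subgroup.center Q)
  have hnorm := norm_restrict_center hψ d hd
  have hvan : ∀ x : Q, x ∉ Subgroup.center Q → ψ x = 0 := by
    obtain ⟨n, ρ, hρ, hρχ⟩ := id hψ
    haveI := hρ
    intro x hx
    rw [Subgroup.mem_center_iff] at hx
    push Not at hx
    obtain ⟨y, hy⟩ := hx
    obtain ⟨c, hc⟩ : ∃ c, c = y * x * y⁻¹ * x⁻¹ := ⟨_, rfl⟩
    have hcc : c ∈ commutator Q := by
      rw [commutator_def, hc]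
      have h1 := Subgroup.commutator_mem_commutator (Subgroup.mem_top y) (Subgroup.mem_top x)
      rwa [commutatorElement_def] at h1
    have hcZ := hcl hcc
    have hc1 : c ≠ 1 := by
      intro h
      apply hy
      calc y * x = c * (x * y) := by rw [hc]; group
        _ = x * y := by rw [h, one_mul]
    obtain ⟨ω, hω⟩ : ∃ ω : ℂ, ρ c = ω • (LinearMap.id : (Fin n → ℂ) →ₗ[ℂ] (Fin n → ℂ)) := by
      apply schur_scalar ρ
      intro g
      change ρ c * ρ g = ρ g * ρ c
      rw [← map_mul, ← map_mul, Subgroup.mem_center_iff.mp hcZ g]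
    have hω1 : ω ≠ 1 := by
      intro h
      rw [h, one_smul] at hω
      apply hc1
      apply hfaith
      rw [← hρχ, (char_eq_finrank_iff ρ c).mpr hω, Representation.char_one]
    have h1 : ρ.character (c * x) = ω * ρ.character x := by
      unfold Representation.character
      rw [map_mul, hω, Module.End.mul_eq_comp, LinearMap.smul_comp, LinearMap.id_comp, map_smul,
        smul_eq_mul]
    have h2 : ρ.character (c * x) = ρ.character x := by
      have e : c * x = y * x * y⁻¹ := by rw [hc]; group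
      rw [e, Representation.char_conj]
    have h3 : (ω - 1) * ρ.character x = 0 := by rw [sub_mul, one_mul, ← h1, h2, sub_self]
    rcases mul_eq_zero.mp h3 with h4 | h4
    · exact absurd (sub_eq_zero.mp h4) hω1
    · rw [← hρχ]; exact h4
  obtain ⟨r, hr, -, hreq⟩ := restrict_norm_le (Subgroup.center Q) hψ
  have hr' := hreq hvan
  rw [hnorm] at hr
  have h1 : ((d ^ 2 : ℕ) : ℝ) = r := by
    have : (((d ^ 2 : ℕ) : ℝ) : ℂ) = (r : ℂ) := by rw [← hr]; push_cast; rfl
    exact_mod_cast this
  rw [hr'] at h1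
  exact_mod_cast h1.symm

/-- a group with a faithful irreducible character has cyclic centre -/
theorem center_cyclic_of_faithful {Q : Type*} [Group Q] [Finite Q] {ψ : Q → ℂ}
    (hψ : Cfsg.IsIrrCharacter Q ψ) (hfaith : ∀ g : Q, ψ g = ψ 1 → g = 1) :
    IsCyclic (Subgroup.center Q) := by
  classical
  obtain ⟨n, hn, hn1⟩ := irr_apply_one hψ
  obtain ⟨n', ρ, hρ, hρχ⟩ := id hψ
  haveI := hρ
  have hnn : n' = n := by
    have h1 : ρ.character 1 = (n : ℂ) := by rw [hρχ]; exact hn1
    rw [Representation.char_one, Module.finrank_fin_fun] at h1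
    exact_mod_cast h1
  subst hnn
  have hsc : ∀ z : Subgroup.center Q, ∃ ω : ℂ,
      ρ (z : Q) = ω • (LinearMap.id : (Fin n' → ℂ) →ₗ[ℂ] (Fin n' → ℂ)) := by
    intro z
    apply schur_scalar ρ
    intro g
    change ρ (z : Q) * ρ g = ρ g * ρ (z : Q)
    rw [← map_mul, ← map_mul, Subgroup.mem_center_iff.mp z.2 g]
  choose ω hω using hsc
  have hinj : ∀ a b : ℂ, a • (LinearMap.id : (Fin n' → ℂ) →ₗ[ℂ] (Fin n' → ℂ))
      = b • LinearMap.id → a = b := by
    intro a b hab
    have h1 := congrArg (fun T : (Fin n' → ℂ) →ₗ[ℂ] (Fin n' → ℂ) =>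
      T (fun _ => (1 : ℂ)) ⟨0, hn⟩) hab
    simpa using h1
  let f : Subgroup.center Q →* ℂ :=
    { toFun := ω
      map_one' := by
        apply hinj
        rw [← hω, one_smul, Subgroup.coe_one, map_one]
        rfl
      map_mul' := by
        intro a b
        apply hinj
        rw [← hω, Subgroup.coe_mul, map_mul, hω a, hω b]
        ext v i
        simp [mul_smul]
        ring }
  apply isCyclic_of_injective_ringHom f
  intro a b hab
  have hab' : ω a = ω b := hab
  have h1 : ρ ((a : Q)⁻¹ * (b : Q)) = LinearMap.id := by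
    have h2 : ρ (a : Q) = ρ (b : Q) := by rw [hω a, hω b, hab']
    rw [map_mul, ← h2, ← map_mul, inv_mul_cancel, map_one]
    rfl
  have h3 : ψ ((a : Q)⁻¹ * (b : Q)) = ψ 1 := by
    rw [← hρχ, (char_eq_finrank_iff ρ _).mpr h1, Representation.char_one]
  have h4 := hfaith _ h3
  apply Subtype.ext
  exact inv_mul_eq_one.mp h4

/-- in a `p`-group a normal subgroup of order `p` is central -/
theorem normal_prime_le_center {G : Type*} [Group G] [Finite G] (p : ℕ) [hp : Fact p.Prime]
    (hG : IsPGroup p G) (N : Subgroup G) [N.Normal] (hN : Nat.card N = p) :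
    N ≤ Subgroup.center G := by
  haveI := hG.isNilpotent
  have hne : N ≠ ⊥ := by
    intro h
    rw [h, Subgroup.card_bot] at hN
    exact hp.out.ne_one hN.symm
  have h1 := Cfsg.Agent.Lib.Helper12.normal_inf_center_ne_bot' N hne
  have h2 : Nat.card (N ⊓ Subgroup.center G : Subgroup G) ∣ p := by
    rw [← hN]; exact Subgroup.card_dvd_of_le inf_le_left
  rcases (Nat.dvd_prime hp.out).mp h2 with h3 | h3
  · exact absurd (Subgroup.eq_bot_of_card_eq _ h3) h1
  · have h4 : N ⊓ Subgroup.center G = N :=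
      Subgroup.eq_of_le_of_card_ge inf_le_left (by rw [h3, hN])
    rw [← h4]; exact inf_le_right

/-- the centre of a quotient has index at most that of the centre -/
theorem index_center_quot_le {G : Type*} [Group G] [Finite G] (N : Subgroup G) [N.Normal] :
    (Subgroup.center (G ⧸ N)).index ≤ (Subgroup.center G).index := by
  have hle : Subgroup.center G ≤ (Subgroup.center (G ⧸ N)).comap (QuotientGroup.mk' N) := by
    intro z hz
    rw [Subgroup.mem_comap, Subgroup.mem_center_iff]
    intro q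
    obtain ⟨g, rfl⟩ := QuotientGroup.mk'_surjective N q
    rw [← map_mul, ← map_mul, Subgroup.mem_center_iff.mp hz g]
  have hidx : ((Subgroup.center (G ⧸ N)).comap (QuotientGroup.mk' N)).index
      = (Subgroup.center (G ⧸ N)).index :=
    Subgroup.index_comap_of_surjective _ (QuotientGroup.mk'_surjective N)
  rw [← hidx]
  exact Nat.le_of_dvd (Nat.pos_of_ne_zero Subgroup.index_ne_zero_of_finite)
    (Subgroup.index_dvd_of_le hle)

/-- if the centre of the quotient by a central subgroup of exponent `p` is cyclic, the index of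
the centre grows by at most the factor `p` -/
theorem index_center_le_quot {G : Type*} [Group G] [Finite G] (p : ℕ) (hp0 : 0 < p)
    (N : Subgroup G) [N.Normal] (hNZ : N ≤ Subgroup.center G) (hNp : ∀ c ∈ N, c ^ p = 1)
    (hcyc : IsCyclic (Subgroup.center (G ⧸ N))) :
    (Subgroup.center G).index ≤ p * (Subgroup.center (G ⧸ N)).index := by
  classical
  obtain ⟨ZN, hZN⟩ : ∃ ZN : Subgroup G,
      ZN = (Subgroup.center (G ⧸ N)).comap (QuotientGroup.mk' N) := ⟨_, rfl⟩
  have hmem : ∀ z : G, z ∈ ZN ↔ (QuotientGroup.mk' N z) ∈ Subgroup.center (G ⧸ N) := by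
    intro z; rw [hZN, Subgroup.mem_comap]
  have hle : Subgroup.center G ≤ ZN := by
    intro z hz
    rw [hmem, Subgroup.mem_center_iff]
    intro q
    obtain ⟨g, rfl⟩ := QuotientGroup.mk'_surjective N q
    rw [← map_mul, ← map_mul, Subgroup.mem_center_iff.mp hz g]
  have hidx : ZN.index = (Subgroup.center (G ⧸ N)).index := by
    rw [hZN]
    exact Subgroup.index_comap_of_surjective _ (QuotientGroup.mk'_surjective N)
  obtain ⟨⟨wq, hwq⟩, hgen⟩ := hcyc.exists_generator
  obtain ⟨w, rfl⟩ := QuotientGroup.mk'_surjective N wq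
  have hwZN : w ∈ ZN := (hmem w).mpr hwq
  have hwp : w ^ p ∈ Subgroup.center G := by
    rw [Subgroup.mem_center_iff]
    intro h
    have hc : w⁻¹ * (h⁻¹ * w * h) ∈ N := by
      have h1 := Subgroup.mem_center_iff.mp hwq (QuotientGroup.mk' N h)
      rw [← QuotientGroup.ker_mk' N, MonoidHom.mem_ker, map_mul, map_mul, map_mul, map_inv,
        map_inv, mul_assoc (QuotientGroup.mk' N h)⁻¹, ← h1]
      group
    obtain ⟨c, hcdef⟩ : ∃ c, c = w⁻¹ * (h⁻¹ * w * h) := ⟨_, rfl⟩
    rw [← hcdef] at hc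
    have hcz := hNZ hc
    have e1 : h⁻¹ * w * h = w * c := by rw [hcdef]; group
    have e2 : h⁻¹ * w ^ p * h = w ^ p * c ^ p := by
      have e3 : (h⁻¹ * w * h) ^ p = h⁻¹ * w ^ p * h := by
        have := conj_pow (a := h⁻¹) (b := w) (i := p)
        simpa using this
      have hcomm : Commute w c := Subgroup.mem_center_iff.mp hcz w
      rw [← e3, e1, hcomm.mul_pow]
    rw [hNp c hc, mul_one] at e2
    calc h * w ^ p = h * (h⁻¹ * w ^ p * h) := by rw [e2]
      _ = w ^ p * h := by group
  have hrel : (Subgroup.center G).relIndex ZN ≤ p := by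
    haveI : ((Subgroup.center G).subgroupOf ZN).Normal := inferInstance
    obtain ⟨a, ha⟩ : ∃ a : ZN ⧸ (Subgroup.center G).subgroupOf ZN,
        a = QuotientGroup.mk ⟨w, hwZN⟩ := ⟨_, rfl⟩
    have hall : ∀ x : ZN ⧸ (Subgroup.center G).subgroupOf ZN, x ∈ Subgroup.zpowers a := by
      intro x
      obtain ⟨⟨z, hz⟩, rfl⟩ := QuotientGroup.mk_surjective x
      have h1 := hgen ⟨QuotientGroup.mk' N z, (hmem z).mp hz⟩
      obtain ⟨i, hi⟩ := Subgroup.mem_zpowers_iff.mp h1
      have hi' : (QuotientGroup.mk' N w) ^ i = QuotientGroup.mk' N z := by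
        have := congrArg Subtype.val hi
        simpa using this
      have h2 : (w ^ i)⁻¹ * z ∈ N := by
        rw [← QuotientGroup.ker_mk' N, MonoidHom.mem_ker, map_mul, map_inv, map_zpow, hi',
          inv_mul_cancel]
      rw [Subgroup.mem_zpowers_iff]
      refine ⟨i, ?_⟩
      rw [ha, ← QuotientGroup.mk_zpow, QuotientGroup.eq]
      rw [Subgroup.mem_subgroupOf]
      have h3 : (((⟨w, hwZN⟩ : ZN) ^ i)⁻¹ * (⟨z, hz⟩ : ZN) : ZN).1 = (w ^ i)⁻¹ * z := by
        simp
      rw [h3]
      exact hNZ h2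
    have hap : a ^ p = 1 := by
      rw [ha, ← QuotientGroup.mk_pow, QuotientGroup.eq_one_iff, Subgroup.mem_subgroupOf]
      exact hwp
    have hcard : Nat.card (ZN ⧸ (Subgroup.center G).subgroupOf ZN) = orderOf a :=
      (orderOf_eq_card_of_forall_mem_zpowers hall).symm
    have hle2 : orderOf a ≤ p := orderOf_le_of_pow_eq_one hp0 hap
    have hrel' : (Subgroup.center G).relIndex ZN
        = Nat.card (ZN ⧸ (Subgroup.center G).subgroupOf ZN) := rfl
    rw [hrel', hcard]
    exact hle2
  rw [← Subgroup.relIndex_mul_index hle, hidx]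
  exact Nat.mul_le_mul_right _ hrel

end Cfsg.Agent.Lib.Helper2
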