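import Mathlib
import Cfsg.Agent.S0129
import Cfsg.Agent.Lib.Helper2.CyclicMax

set_option autoImplicit false

namespace Cfsg.Agent.Lib.Helper2

open scoped commutatorElement

section pchain

variable {G : Type*} [Group G]

/-- a normal subgroup of order `p ^ a` of a `p`-group contains normal subgroups of every order
`p ^ k`, `k ≤ a`, and the index of its centralizer is bounded -/
theorem exists_normal_chain [Finite G] {p : ℕ} [Fact p.Prime] (hG : IsPGroup p G)
    (A : Subgroup G) [A.Normal] (a : ℕ) (ha : Nat.card A = p ^ a) :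
    ∀ c ≤ a, ∃ C : Subgroup G, C.Normal ∧ C ≤ A ∧ Nat.card C = p ^ c ∧
      Nat.card G ≤ Nat.card (Subgroup.centralizer (C : Set G)) * p ^ (c.choose 2) := by
  classical
  have hp : p.Prime := Fact.out
  intro c
  induction c with
  | zero =>
    intro _
    refine ⟨⊥, inferInstance, bot_le, by simp, ?_⟩
    have h1 : Subgroup.centralizer (((⊥ : Subgroup G) : Subgroup G) : Set G) = ⊤ := by
      rw [eq_top_iff]
      intro g _
      rw [Subgroup.mem_centralizer_iff]
      intro h hh
      have : h = 1 := Subgroup.mem_bot.mp hh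
      rw [this, one_mul, mul_one]
    rw [h1]
    simp
  | succ c ih =>
    intro hc
    obtain ⟨C, hCn, hCA, hCcard, hle⟩ := ih (by omega)
    have hCltA : C < A := by
      refine lt_of_le_of_ne hCA ?_
      rintro rfl
      rw [ha] at hCcard
      have := Nat.pow_right_injective hp.two_le hCcard
      omega
    obtain ⟨x, hxA, hxC, hxp, hcomm⟩ := Cfsg.Agent.S0129.exists_step hG C A hCltA
    have hC'n : (C ⊔ Subgroup.zpowers x).Normal := normal_sup_of_commutator_le C _ hcomm
    refine ⟨C ⊔ Subgroup.zpowers x, hC'n, sup_le hCA (Subgroup.zpowers_le.mpr hxA), ?_, ?_⟩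
    · rw [card_sup_zpowers_of_pow_mem C x p hxC hxp, hCcard, pow_succ]
    · have h1 := Cfsg.Agent.S0129.card_centralizer_le C x (fun g _ => by
        have h2 : ⁅x, g⁆ ∈ C := hcomm (Subgroup.commutator_mem_commutator
          (Subgroup.mem_zpowers x) (Subgroup.mem_top g))
        have h3 := C.inv_mem h2
        rw [commutatorElement_def] at h3
        have h4 : (x * g * x⁻¹ * g⁻¹)⁻¹ = g * x * g⁻¹ * x⁻¹ := by group
        rw [h4] at h3
        exact h3)
      have harith : (c + 1).choose 2 = c + c.choose 2 := by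
        rw [Nat.choose_succ_succ' c 1, Nat.choose_one_right]
      calc Nat.card G ≤ Nat.card (Subgroup.centralizer (C : Set G)) * p ^ (c.choose 2) := hle
        _ ≤ (Nat.card (Subgroup.centralizer ((C ⊔ Subgroup.zpowers x : Subgroup G) : Set G))
              * Nat.card C) * p ^ (c.choose 2) := Nat.mul_le_mul_right _ h1
        _ = Nat.card (Subgroup.centralizer ((C ⊔ Subgroup.zpowers x : Subgroup G) : Set G))
              * p ^ ((c + 1).choose 2) := by
          rw [hCcard, mul_assoc, ← pow_add, harith]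

theorem exists_normal_le_card [Finite G] {p : ℕ} [Fact p.Prime] (hG : IsPGroup p G)
    (A : Subgroup G) [A.Normal] (a : ℕ) (ha : Nat.card A = p ^ a) (k : ℕ) (hk : k ≤ a) :
    ∃ C : Subgroup G, C.Normal ∧ C ≤ A ∧ Nat.card C = p ^ k := by
  obtain ⟨C, h1, h2, h3, -⟩ := exists_normal_chain hG A a ha k hk
  exact ⟨C, h1, h2, h3⟩

theorem card_le_card_centralizer_mul [Finite G] {p : ℕ} [Fact p.Prime] (hG : IsPGroup p G)
    (A : Subgroup G) [A.Normal] (a : ℕ) (ha : Nat.card A = p ^ a) :
    Nat.card G ≤ Nat.card (Subgroup.centralizer (A : Set G)) * p ^ (a.choose 2) := by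
  obtain ⟨C, -, hCA, hCcard, hle⟩ := exists_normal_chain hG A a ha a le_rfl
  have hCeq : C = A := Subgroup.eq_of_le_of_card_ge hCA (by rw [ha, hCcard])
  rw [hCeq] at hle
  exact hle

/-- maximal normal abelian subgroups of exponent dividing `m` containing a given one -/
theorem exists_max_normal_abelian_exp [Finite G] (m : ℕ) (B₀ : Subgroup G) (hB₀n : B₀.Normal)
    (hB₀c : IsMulCommutative B₀) (hB₀e : ∀ b ∈ B₀, b ^ m = 1) :
    ∃ A : Subgroup G, A.Normal ∧ IsMulCommutative A ∧ (∀ a ∈ A, a ^ m = 1) ∧ B₀ ≤ A ∧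
      ∀ B : Subgroup G, B.Normal → IsMulCommutative B → (∀ b ∈ B, b ^ m = 1) → A ≤ B → B = A := by
  classical
  have hne : Nonempty {A : Subgroup G // A.Normal ∧ IsMulCommutative A ∧ (∀ a ∈ A, a ^ m = 1)
      ∧ B₀ ≤ A} := ⟨⟨B₀, hB₀n, hB₀c, hB₀e, le_rfl⟩⟩
  obtain ⟨⟨A, hA1, hA2, hA3, hA4⟩, hmax⟩ := Finite.exists_max
    (fun A : {A : Subgroup G // A.Normal ∧ IsMulCommutative A ∧ (∀ a ∈ A, a ^ m = 1) ∧ B₀ ≤ A} =>
      Nat.card A.1)
  refine ⟨A, hA1, hA2, hA3, hA4, ?_⟩
  intro B hB1 hB2 hB3 hAB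
  have := hmax ⟨B, hB1, hB2, hB3, le_trans hA4 hAB⟩
  exact (Subgroup.eq_of_le_of_card_ge hAB this).symm

theorem card_le_card_inf_mul_index [Finite G] (E C : Subgroup G) [C.Normal] :
    Nat.card E ≤ Nat.card (C ⊓ E : Subgroup G) * C.index := by
  have h1 : Nat.card (C.subgroupOf E) * (C.subgroupOf E).index = Nat.card E :=
    Subgroup.card_mul_index _
  have h2 : (C.subgroupOf E).index ≤ C.index :=
    Nat.le_of_dvd (Nat.pos_of_ne_zero Subgroup.index_ne_zero_of_finite)
      (Subgroup.relIndex_dvd_index_of_normal C E)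
  have h3 : Nat.card (C.subgroupOf E) = Nat.card (C ⊓ E : Subgroup G) := by
    rw [← Subgroup.inf_subgroupOf_right]
    exact Nat.card_congr (Subgroup.subgroupOfEquivOfLe inf_le_right).toEquiv
  rw [← h1, h3]
  exact Nat.mul_le_mul_left _ h2

end pchain

end Cfsg.Agent.Lib.Helper2
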