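import Mathlib
import Cfsg.Prelude
import Cfsg.Agent.Lib.Helper2.GalA
import Cfsg.Agent.Lib.Helper2.PChain
import Cfsg.Agent.Lib.Helper2.CharIto

/-!
# Same-degree characters conjugate under power maps: the forward direction
-/

set_option autoImplicit false

namespace Cfsg.Agent.Lib.Helper2

open scoped ComplexConjugate

/-- the commutator subgroup of a quotient is the image of the commutator subgroup -/
theorem commutator_quot_eq_map {G : Type*} [Group G] (K : Subgroup G) [K.Normal] :
    commutator (G ⧸ K) = (commutator G).map (QuotientGroup.mk' K) := by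
  rw [commutator_def, commutator_def, Subgroup.map_commutator,
    Subgroup.map_top_of_surjective _ (QuotientGroup.mk'_surjective K)]

/-- order of the commutator subgroup of a quotient by a subgroup of the commutator subgroup -/
theorem card_commutator_quot {G : Type*} [Group G] [Finite G] (K : Subgroup G) [K.Normal]
    (hK : K ≤ commutator G) :
    Nat.card (commutator (G ⧸ K)) * Nat.card K = Nat.card (commutator G) := by
  have hs := QuotientGroup.mk'_surjective K
  have hidx : (commutator (G ⧸ K)).index = (commutator G).index := by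
    rw [commutator_quot_eq_map K]
    exact Subgroup.index_map_eq _ hs (by rw [QuotientGroup.ker_mk']; exact hK)
  have h1 := Subgroup.card_mul_index (commutator (G ⧸ K))
  have h2 := Subgroup.card_mul_index (commutator G)
  have h3 := Subgroup.card_eq_card_quotient_mul_card_subgroup K
  rw [hidx] at h1
  have hpos : 0 < (commutator G).index := Nat.pos_of_ne_zero Subgroup.index_ne_zero_of_finite
  apply Nat.eq_of_mul_eq_mul_right hpos
  calc Nat.card (commutator (G ⧸ K)) * Nat.card K * (commutator G).index
      = (Nat.card (commutator (G ⧸ K)) * (commutator G).index) * Nat.card K := by ring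
    _ = Nat.card (G ⧸ K) * Nat.card K := by rw [h1]
    _ = Nat.card G := h3.symm
    _ = Nat.card (commutator G) * (commutator G).index := h2.symm

/-- a quotient of a group of class two has class two -/
theorem commutator_quot_le_center {G : Type*} [Group G] (N : Subgroup G) [N.Normal]
    (h : commutator G ≤ Subgroup.center G) : commutator (G ⧸ N) ≤ Subgroup.center (G ⧸ N) := by
  rw [commutator_quot_eq_map N]
  rintro _ ⟨c, hc, rfl⟩
  rw [Subgroup.mem_center_iff]
  intro q
  obtain ⟨g, rfl⟩ := QuotientGroup.mk'_surjective N q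
  rw [← map_mul, ← map_mul, Subgroup.mem_center_iff.mp (h hc) g]

/-- in a subgroup of prime order every element is a power of any non-trivial element -/
theorem mem_zpowers_of_prime_sub {G : Type*} [Group G] (p : ℕ) [Fact p.Prime] (K : Subgroup G)
    (hK : Nat.card K = p) {x y : G} (hx : x ∈ K) (hy : y ∈ K) (hy1 : y ≠ 1) :
    ∃ i : ℤ, y ^ i = x := by
  have h1 : (⟨x, hx⟩ : K) ∈ Subgroup.zpowers (⟨y, hy⟩ : K) :=
    mem_zpowers_of_prime_card hK (fun h => hy1 (congrArg Subtype.val h))
  obtain ⟨i, hi⟩ := Subgroup.mem_zpowers_iff.mp h1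
  refine ⟨i, ?_⟩
  have := congrArg Subtype.val hi
  simpa using this

/-- if the commutator subgroup has prime order, the hypothesis gives a faithful non-linear
irreducible character -/
theorem faithful_of_prime_commutator {G : Type*} [Group G] [Finite G] (p : ℕ)
    [hp : Fact p.Prime] (hH : GalHyp G) (hc : Nat.card (commutator G) = p) :
    ∃ ψ : G → ℂ, Cfsg.IsIrrCharacter G ψ ∧ ψ 1 ≠ 1 ∧ ∀ g : G, ψ g = ψ 1 → g = 1 := by
  classical
  have := Fintype.ofFinite G
  have hex : ∃ ψ : G → ℂ, Cfsg.IsIrrCharacter G ψ ∧ ψ 1 ≠ 1 := by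
    by_contra hno
    push Not at hno
    have hcm := comm_of_all_linear hno
    have hbot : commutator G = ⊥ := by
      rw [eq_bot_iff, commutator_eq_closure, Subgroup.closure_le]
      rintro x ⟨a, b, rfl⟩
      simp only [SetLike.mem_coe, Subgroup.mem_bot, commutatorElement_def]
      rw [hcm a b]; group
    rw [hbot, Subgroup.card_bot] at hc
    exact hp.out.ne_one hc.symm
  obtain ⟨ψ, hψ, hnl⟩ := hex
  refine ⟨ψ, hψ, hnl, ?_⟩
  intro q hq
  by_contra hq1
  have hqc := gal_ker_le_commutator hH hψ hnl q hq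
  obtain ⟨L, -, hL⟩ := exists_char_kernel hψ
  apply hnl
  apply irr_deg_one_of_commutator_trivial hψ
  intro c hcm
  obtain ⟨i, hi⟩ := mem_zpowers_of_prime_sub p (commutator G) hc hcm hqc hq1
  rw [← hL, ← hi]
  exact L.zpow_mem ((hL q).mpr hq) i

/-- squares of two powers of `p` in the same window `[m / p, m]` coincide -/
theorem pow_eq_of_sandwich (p : ℕ) (hp : 1 < p) (a b m : ℕ) (h1 : (p ^ a) ^ 2 ≤ m)
    (h2 : m ≤ p * (p ^ b) ^ 2) (h3 : (p ^ b) ^ 2 ≤ m) (h4 : m ≤ p * (p ^ a) ^ 2) : a = b := by
  have e1 : p ^ (a * 2) ≤ p ^ (b * 2 + 1) := by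
    calc p ^ (a * 2) = (p ^ a) ^ 2 := pow_mul p a 2
      _ ≤ m := h1
      _ ≤ p * (p ^ b) ^ 2 := h2
      _ = p ^ (b * 2 + 1) := by rw [← pow_mul]; ring
  have e2 : p ^ (b * 2) ≤ p ^ (a * 2 + 1) := by
    calc p ^ (b * 2) = (p ^ b) ^ 2 := pow_mul p b 2
      _ ≤ m := h3
      _ ≤ p * (p ^ a) ^ 2 := h4
      _ = p ^ (a * 2 + 1) := by rw [← pow_mul]; ring
  have e3 := (Nat.pow_le_pow_iff_right hp).mp e1
  have e4 := (Nat.pow_le_pow_iff_right hp).mp e2
  omega

set_option maxHeartbeats 1600000 in
/-- the hypothesis is impossible when the commutator subgroup has order `p ^ 2` -/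
theorem gal_no_sq {P : Type*} [Group P] [Finite P] (p : ℕ) [hp : Fact p.Prime]
    (hP : IsPGroup p P) (hH : GalHyp P) (hc : Nat.card (commutator P) = p ^ 2) : False := by
  classical
  have := Fintype.ofFinite P
  have hpp : p.Prime := hp.out
  obtain ⟨K, hKn, hKle, hKc⟩ := exists_normal_le_card hP (commutator P) 2 hc 1 (by norm_num)
  rw [pow_one] at hKc
  haveI := hKn
  have hKZ : K ≤ Subgroup.center P := normal_prime_le_center p hP K hKc
  have hs := QuotientGroup.mk'_surjective K
  have hPQ : IsPGroup p (P ⧸ K) := hP.to_quotient K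
  have hHQ : GalHyp (P ⧸ K) := galHyp_quot hH K
  have hQc : Nat.card (commutator (P ⧸ K)) = p := by
    have h1 := card_commutator_quot K hKle
    rw [hKc, hc, pow_two] at h1
    exact Nat.eq_of_mul_eq_mul_right hpp.pos h1
  have hQ'Z : commutator (P ⧸ K) ≤ Subgroup.center (P ⧸ K) :=
    normal_prime_le_center p hPQ (commutator (P ⧸ K)) hQc
  obtain ⟨ψ', hψ', hnl', hfaith'⟩ := faithful_of_prime_commutator p hHQ hQc
  have hcycQ := center_cyclic_of_faithful hψ' hfaith'
  obtain ⟨dK, hdKpos, hdK⟩ := irr_apply_one hψ'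
  have hsqK := faithful_class_two_sq hψ' hfaith' hQ'Z dK hdK
  have hKp : ∀ c ∈ K, c ^ p = 1 := by
    intro c hcK
    have h1 := pow_card_eq_one' (G := K) (x := ⟨c, hcK⟩)
    rw [hKc] at h1
    have := congrArg Subtype.val h1
    simpa using this
  have hB : (Subgroup.center P).index ≤ p * dK ^ 2 := by
    rw [← hsqK]; exact index_center_le_quot p hpp.pos K hKZ hKp hcycQ
  have hB' : dK ^ 2 ≤ (Subgroup.center P).index := by
    rw [← hsqK]; exact index_center_quot_le K
  obtain ⟨nQ, hnQ⟩ := (IsPGroup.iff_card).mp hPQ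
  obtain ⟨a, -, ha⟩ := (Nat.dvd_prime_pow hpp).mp (hnQ ▸ irr_deg_dvd_card' hψ' dK hdK)
  have hdK1 : dK ≠ 1 := by
    intro h
    apply hnl'
    rw [hdK, h]; simp
  have hψ : Cfsg.IsIrrCharacter P (ψ' ∘ QuotientGroup.mk' K) :=
    isIrrCharacter_comp_of_surjective hψ' _ hs
  have hψK : ∀ x ∈ K, (ψ' ∘ QuotientGroup.mk' K) x = (ψ' ∘ QuotientGroup.mk' K) 1 := by
    intro x hx
    simp only [Function.comp_apply, map_one]
    have : QuotientGroup.mk' K x = 1 := by
      rw [← MonoidHom.mem_ker, QuotientGroup.ker_mk']; exact hx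
    rw [this]
  have hKne : K ≠ ⊥ := by
    intro h
    rw [h, Subgroup.card_bot] at hKc
    exact hpp.ne_one hKc.symm
  obtain ⟨⟨x₀, hx₀K⟩, hx₀1'⟩ := Subgroup.ne_bot_iff_exists_ne_one.mp hKne
  have hx₀1 : x₀ ≠ 1 := fun h => hx₀1' (Subtype.ext h)
  obtain ⟨χ, hχ, hχx⟩ : ∃ χ : P → ℂ, Cfsg.IsIrrCharacter P χ ∧ χ x₀ ≠ χ 1 := by
    by_contra hno
    push Not at hno
    exact hx₀1 (isConj_one_left.mp (isConj_of_irr_eq x₀ 1 hno))
  have hχnl : χ 1 ≠ 1 := by
    intro h1
    obtain ⟨lam, hlam⟩ := hom_of_irr_deg_one hχ h1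
    apply hχx
    have h2 : x₀ ∈ lam.ker := Abelianization.commutator_subset_ker lam (hKle hx₀K)
    rw [hlam]
    simp only
    rw [MonoidHom.mem_ker.mp h2, map_one]
  obtain ⟨dχ, hdχpos, hdχ⟩ := irr_apply_one hχ
  obtain ⟨nP, hnP⟩ := (IsPGroup.iff_card).mp hP
  obtain ⟨b, -, hb⟩ := (Nat.dvd_prime_pow hpp).mp (hnP ▸ irr_deg_dvd_card' hχ dχ hdχ)
  have hdχ1 : dχ ≠ 1 := by
    intro h
    apply hχnl
    rw [hdχ, h]; simp
  obtain ⟨N, hNn, hN⟩ := exists_char_kernel hχ
  haveI := hNn
  have hNle : N ≤ commutator P :=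
    fun z hz => gal_ker_le_commutator hH hχ hχnl z ((hN z).mp hz)
  have hx₀N : x₀ ∉ N := fun h => hχx ((hN x₀).mp h)
  have hNK : N ⊓ K = ⊥ := by
    rw [eq_bot_iff]
    intro y hy
    rw [Subgroup.mem_bot]
    by_contra hy1
    obtain ⟨i, hi⟩ := mem_zpowers_of_prime_sub p K hKc hx₀K hy.2 hy1
    apply hx₀N
    rw [← hi]
    exact N.zpow_mem hy.1 i
  have hfin : dχ = dK → False := by
    intro heq
    obtain ⟨k, hk, h⟩ := hH χ (ψ' ∘ QuotientGroup.mk' K) hχ hψ hχnl (by
      simp only [Function.comp_apply, map_one]; rw [hdχ, hdK, heq])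
    exact hχx ((gal_ker_iff hχ k hk h x₀).mp (hψK x₀ hx₀K))
  by_cases hcl : commutator P ≤ Subgroup.center P
  · obtain ⟨χ', hχ', hχeq⟩ := exists_irr_deflate (QuotientGroup.mk' N)
      (QuotientGroup.mk'_surjective N) hχ (by
        intro z hz
        rw [QuotientGroup.ker_mk'] at hz
        exact (hN z).mp hz)
    have hχ'1 : χ' 1 = χ 1 := by rw [hχeq]; simp
    have hfaith2 : ∀ q : P ⧸ N, χ' q = χ' 1 → q = 1 := by
      intro q hq
      obtain ⟨g, rfl⟩ := QuotientGroup.mk'_surjective N q
      have h1 : χ g = χ 1 := by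
        rw [← hχ'1, ← hq, hχeq]; rfl
      have h2 := (hN g).mpr h1
      rw [← MonoidHom.mem_ker, QuotientGroup.ker_mk']; exact h2
    have hcl2 := commutator_quot_le_center N hcl
    have hsq2 := faithful_class_two_sq hχ' hfaith2 hcl2 dχ (by rw [hχ'1]; exact hdχ)
    have hcyc2 := center_cyclic_of_faithful hχ' hfaith2
    have hNp : ∀ c ∈ N, c ^ p = 1 := by
      intro c hcN
      have hcP' := hNle hcN
      have h1 : QuotientGroup.mk' K c ∈ commutator (P ⧸ K) := by
        rw [commutator_quot_eq_map K]; exact Subgroup.mem_map_of_mem _ hcP'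
      have h2 := pow_card_eq_one' (G := commutator (P ⧸ K)) (x := ⟨_, h1⟩)
      rw [hQc] at h2
      have h3 : (QuotientGroup.mk' K c) ^ p = 1 := by
        have := congrArg Subtype.val h2
        simpa using this
      have h4 : c ^ p ∈ K := by
        rw [← QuotientGroup.ker_mk' K, MonoidHom.mem_ker, map_pow]; exact h3
      have h5 : c ^ p ∈ N ⊓ K := ⟨N.pow_mem hcN p, h4⟩
      rw [hNK] at h5
      exact Subgroup.mem_bot.mp h5
    have hB2 : (Subgroup.center P).index ≤ p * dχ ^ 2 := by
      rw [← hsq2]; exact index_center_le_quot p hpp.pos N (hNle.trans hcl) hNp hcyc2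
    have hB2' : dχ ^ 2 ≤ (Subgroup.center P).index := by
      rw [← hsq2]; exact index_center_quot_le N
    apply hfin
    have hba := pow_eq_of_sandwich p hpp.one_lt b a (Subgroup.center P).index
      (by rw [← hb]; exact hB2') (by rw [← ha]; exact hB) (by rw [← ha]; exact hB')
      (by rw [← hb]; exact hB2)
    rw [hb, ha, hba]
  · have hPZ : commutator P ⊓ Subgroup.center P = K := by
      have hle : K ≤ commutator P ⊓ Subgroup.center P := le_inf hKle hKZ
      have hdvd : Nat.card (commutator P ⊓ Subgroup.center P : Subgroup P) ∣ p ^ 2 := by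
        rw [← hc]; exact Subgroup.card_dvd_of_le inf_le_left
      obtain ⟨j, hj, hjc⟩ := (Nat.dvd_prime_pow hpp).mp hdvd
      have hj2 : j ≠ 2 := by
        intro h
        apply hcl
        have h1 : commutator P ⊓ Subgroup.center P = commutator P :=
          Subgroup.eq_of_le_of_card_ge inf_le_left (by rw [hjc, h, hc])
        rw [← h1]; exact inf_le_right
      have hj0 : j ≠ 0 := by
        intro h
        rw [h, pow_zero] at hjc
        have h1 := Subgroup.card_dvd_of_le hle
        rw [hjc, hKc] at h1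
        exact hpp.one_lt.ne' (Nat.dvd_one.mp h1)
      have hj1 : j = 1 := by omega
      rw [hj1, pow_one] at hjc
      exact (Subgroup.eq_of_le_of_card_ge hle (by rw [hjc, hKc])).symm
    have hdχle : dχ ^ 2 ≤ (Subgroup.center P).index := deg_sq_le_index_center hχ dχ hdχ
    have hdKp : dK ∣ p := by
      obtain ⟨u, huP', huZ⟩ := SetLike.not_le_iff_exists.mp hcl
      have huK : ∀ g : P, u⁻¹ * g⁻¹ * u * g ∈ K := by
        intro g
        have h1 : QuotientGroup.mk' K u ∈ commutator (P ⧸ K) := by
          rw [commutator_quot_eq_map K]; exact Subgroup.mem_map_of_mem _ huP'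
        have h2 := Subgroup.mem_center_iff.mp (hQ'Z h1) (QuotientGroup.mk' K g)
        rw [← QuotientGroup.ker_mk' K, MonoidHom.mem_ker, map_mul, map_mul, map_mul, map_inv,
          map_inv, mul_assoc, ← h2]
        group
      let φ : P →* K :=
        { toFun := fun g => ⟨u⁻¹ * g⁻¹ * u * g, huK g⟩
          map_one' := by apply Subtype.ext; simp
          map_mul' := by
            intro g h
            apply Subtype.ext
            have hcz := Subgroup.mem_center_iff.mp (hKZ (huK g))
            change u⁻¹ * (g * h)⁻¹ * u * (g * h)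
              = (u⁻¹ * g⁻¹ * u * g) * (u⁻¹ * h⁻¹ * u * h)
            calc u⁻¹ * (g * h)⁻¹ * u * (g * h)
                = u⁻¹ * h⁻¹ * u * ((u⁻¹ * g⁻¹ * u * g) * h) := by group
              _ = u⁻¹ * h⁻¹ * u * (h * (u⁻¹ * g⁻¹ * u * g)) := by rw [← hcz h]
              _ = (u⁻¹ * h⁻¹ * u * h) * (u⁻¹ * g⁻¹ * u * g) := by group
              _ = (u⁻¹ * g⁻¹ * u * g) * (u⁻¹ * h⁻¹ * u * h) := hcz _ }
      have hker : ∀ g : P, g ∈ φ.ker ↔ g * u = u * g := by
        intro g
        rw [MonoidHom.mem_ker]
        constructor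
        · intro h
          have h1 : u⁻¹ * g⁻¹ * u * g = 1 := congrArg Subtype.val h
          calc g * u = g * u * (u⁻¹ * g⁻¹ * u * g) := by rw [h1, mul_one]
            _ = u * g := by group
        · intro h
          apply Subtype.ext
          change u⁻¹ * g⁻¹ * u * g = 1
          calc u⁻¹ * g⁻¹ * u * g = u⁻¹ * g⁻¹ * (u * g) := by group
            _ = u⁻¹ * g⁻¹ * (g * u) := by rw [h]
            _ = 1 := by group
      have hidx : φ.ker.index ∣ p := by
        rw [Subgroup.index_ker, ← hKc]
        exact Subgroup.card_subgroup_dvd_card φ.range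
      have hcent : ∀ g ∈ φ.ker, ∀ v ∈ commutator P, v * g = g * v := by
        intro g hg v hv
        have hS : commutator P ≤ Subgroup.centralizer ({g} : Set P) := by
          have hKS : K ≤ Subgroup.centralizer ({g} : Set P) ⊓ commutator P := by
            intro k hk
            refine Subgroup.mem_inf.mpr ⟨?_, hKle hk⟩
            rw [Subgroup.mem_centralizer_iff]
            intro y hy
            rw [Set.mem_singleton_iff] at hy
            rw [hy]
            exact Subgroup.mem_center_iff.mp (hKZ hk) g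
          have huS : u ∈ Subgroup.centralizer ({g} : Set P) ⊓ commutator P := by
            refine Subgroup.mem_inf.mpr ⟨?_, huP'⟩
            rw [Subgroup.mem_centralizer_iff]
            intro y hy
            rw [Set.mem_singleton_iff] at hy
            rw [hy]
            exact (hker g).mp hg
          have hdvd : Nat.card (Subgroup.centralizer ({g} : Set P) ⊓ commutator P : Subgroup P)
              ∣ p ^ 2 := by
            rw [← hc]; exact Subgroup.card_dvd_of_le inf_le_right
          obtain ⟨j, hj, hjc⟩ := (Nat.dvd_prime_pow hpp).mp hdvd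
          have hj0 : j ≠ 0 := by
            intro h
            rw [h, pow_zero] at hjc
            have h1 := Subgroup.card_dvd_of_le hKS
            rw [hjc, hKc] at h1
            exact hpp.one_lt.ne' (Nat.dvd_one.mp h1)
          have hj1 : j ≠ 1 := by
            intro h
            rw [h, pow_one] at hjc
            have h1 : K = Subgroup.centralizer ({g} : Set P) ⊓ commutator P :=
              Subgroup.eq_of_le_of_card_ge hKS (by rw [hjc, hKc])
            apply huZ
            apply hKZ
            rw [h1]; exact huS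
          have hj2 : j = 2 := by omega
          have h1 : Subgroup.centralizer ({g} : Set P) ⊓ commutator P = commutator P :=
            Subgroup.eq_of_le_of_card_ge inf_le_right (by rw [hjc, hj2, hc])
          rw [← h1]; exact inf_le_left
        have h1 := Subgroup.mem_centralizer_iff.mp (hS hv) g (Set.mem_singleton g)
        exact h1.symm
      have hTT : ∀ s ∈ φ.ker, ∀ t ∈ φ.ker, s * t * s⁻¹ * t⁻¹ ∈ K := by
        have h1 : ⁅⁅φ.ker, (⊤ : Subgroup P)⁆, φ.ker⁆ = ⊥ := by
          rw [Subgroup.commutator_eq_bot_iff_le_centralizer]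
          intro x hx
          have hx' : x ∈ commutator P := by
            rw [commutator_def]; exact Subgroup.commutator_mono le_top le_rfl hx
          rw [Subgroup.mem_centralizer_iff]
          intro g hg
          exact (hcent g hg x hx').symm
        have h2 : ⁅⁅(⊤ : Subgroup P), φ.ker⁆, φ.ker⁆ = ⊥ := by
          rw [Subgroup.commutator_eq_bot_iff_le_centralizer]
          intro x hx
          have hx' : x ∈ commutator P := by
            rw [commutator_def]; exact Subgroup.commutator_mono le_rfl le_top hx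
          rw [Subgroup.mem_centralizer_iff]
          intro g hg
          exact (hcent g hg x hx').symm
        have h3 := Subgroup.commutator_commutator_eq_bot_of_rotate h1 h2
        intro s hs' t ht'
        have hst : s * t * s⁻¹ * t⁻¹ ∈ ⁅φ.ker, φ.ker⁆ := by
          have h4 := Subgroup.commutator_mem_commutator hs' ht'
          rwa [commutatorElement_def] at h4
        rw [← hPZ]
        refine Subgroup.mem_inf.mpr ⟨?_, ?_⟩
        · rw [commutator_def]; exact Subgroup.commutator_mono le_top le_top hst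
        · rw [Subgroup.mem_center_iff]
          intro g
          have h4 := (Subgroup.commutator_eq_bot_iff_le_centralizer.mp h3) hst
          exact Subgroup.mem_centralizer_iff.mp h4 g (Subgroup.mem_top g)
      obtain ⟨n', ρ, hρ, hρχ⟩ := id hψ'
      haveI := hρ
      have hnorm : (φ.ker.map (QuotientGroup.mk' K)).Normal :=
        Subgroup.Normal.map inferInstance _ hs
      haveI := hnorm
      have hab : ∀ x ∈ φ.ker.map (QuotientGroup.mk' K),
          ∀ y ∈ φ.ker.map (QuotientGroup.mk' K), x * y = y * x := by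
        rintro _ ⟨s, hs', rfl⟩ _ ⟨t, ht', rfl⟩
        have h1 := hTT s hs' t ht'
        have h2 : QuotientGroup.mk' K (s * t * s⁻¹ * t⁻¹) = 1 := by
          rw [← MonoidHom.mem_ker, QuotientGroup.ker_mk']; exact h1
        rw [map_mul, map_mul, map_mul, map_inv, map_inv] at h2
        calc QuotientGroup.mk' K s * QuotientGroup.mk' K t
            = (QuotientGroup.mk' K s * QuotientGroup.mk' K t * (QuotientGroup.mk' K s)⁻¹
                * (QuotientGroup.mk' K t)⁻¹) * (QuotientGroup.mk' K t * QuotientGroup.mk' K s) := by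
              group
          _ = QuotientGroup.mk' K t * QuotientGroup.mk' K s := by rw [h2, one_mul]
      have h5 := ito_degree_dvd_index ρ (φ.ker.map (QuotientGroup.mk' K)) hab
      rw [Module.finrank_fin_fun] at h5
      have hidx2 : (φ.ker.map (QuotientGroup.mk' K)).index = φ.ker.index := by
        apply Subgroup.index_map_eq _ hs
        rw [QuotientGroup.ker_mk']
        intro k hk
        rw [hker]
        exact (Subgroup.mem_center_iff.mp (hKZ hk) u).symm
      rw [hidx2] at h5
      have hn'd : n' = dK := by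
        have h6 : ρ.character 1 = (dK : ℂ) := by rw [hρχ]; exact hdK
        rw [Representation.char_one, Module.finrank_fin_fun] at h6
        exact_mod_cast h6
      rw [hn'd] at h5
      exact h5.trans hidx
    have hdKeq : dK = p := ((Nat.dvd_prime hpp).mp hdKp).resolve_left hdK1
    apply hfin
    rw [hdKeq]
    have hb0 : b ≠ 0 := by
      intro h
      apply hdχ1
      rw [hb, h, pow_zero]
    have h7 : p ^ (b * 2) ≤ p ^ 3 := by
      calc p ^ (b * 2) = dχ ^ 2 := by rw [hb, pow_mul]
        _ ≤ (Subgroup.center P).index := hdχle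
        _ ≤ p * dK ^ 2 := hB
        _ = p ^ 3 := by rw [hdKeq]; ring
    have h8 := (Nat.pow_le_pow_iff_right hpp.one_lt).mp h7
    have hb1 : b = 1 := by omega
    rw [hb, hb1, pow_one]

/-- the forward direction: the hypothesis forces a cyclic centre and a commutator subgroup of
order `p` -/
theorem gal_forward {P : Type*} [Group P] [Finite P] (p : ℕ) [hp : Fact p.Prime]
    (hP : IsPGroup p P) (hna : ¬ IsMulCommutative P) (hH : GalHyp P) :
    IsCyclic (Subgroup.center P) ∧ Nat.card (commutator P) = p := by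
  classical
  have hpp := hp.out
  obtain ⟨a, ha⟩ := (IsPGroup.iff_card).mp (hP.to_subgroup (commutator P))
  have ha0 : a ≠ 0 := by
    intro h
    rw [h, pow_zero] at ha
    have hbot := Subgroup.eq_bot_of_card_eq _ ha
    apply hna
    refine ⟨⟨fun x y => ?_⟩⟩
    have h1 : x * y * x⁻¹ * y⁻¹ ∈ commutator P := by
      rw [commutator_def]
      have h2 := Subgroup.commutator_mem_commutator (Subgroup.mem_top x) (Subgroup.mem_top y)
      rwa [commutatorElement_def] at h2
    rw [hbot, Subgroup.mem_bot] at h1
    calc x * y = x * y * x⁻¹ * y⁻¹ * (y * x) := by group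
      _ = y * x := by rw [h1, one_mul]
  have ha1 : a = 1 := by
    by_contra hne
    have ha2 : 2 ≤ a := by omega
    obtain ⟨L, hLn, hLle, hLc⟩ :=
      exists_normal_le_card hP (commutator P) a ha (a - 2) (by omega)
    haveI := hLn
    have h1 := card_commutator_quot L hLle
    rw [hLc, ha] at h1
    have h2 : Nat.card (commutator (P ⧸ L)) = p ^ 2 := by
      have h3 : p ^ a = p ^ 2 * p ^ (a - 2) := by rw [← pow_add]; congr 1; omega
      rw [h3] at h1
      exact Nat.eq_of_mul_eq_mul_right (pow_pos hpp.pos _) h1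
    exact gal_no_sq p (hP.to_quotient L) (galHyp_quot hH L) h2
  rw [ha1, pow_one] at ha
  refine ⟨?_, ha⟩
  obtain ⟨ψ, hψ, -, hfaith⟩ := faithful_of_prime_commutator p hH ha
  exact center_cyclic_of_faithful hψ hfaith

end Cfsg.Agent.Lib.Helper2
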