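import Mathlib
import Cfsg.Prelude
import Cfsg.Agent.Lib.Helper2.GalB

/-!
# Same-degree characters conjugate under power maps: the backward direction
-/

set_option autoImplicit false

namespace Cfsg.Agent.Lib.Helper2

open scoped ComplexConjugate

/-- values of an irreducible character on the powers of a central element -/
theorem central_pow_char {G : Type*} [Group G] [Finite G] {χ : G → ℂ}
    (hχ : Cfsg.IsIrrCharacter G χ) (z : G) (hz : z ∈ Subgroup.center G) :
    ∃ ω : ℂ, ∀ j : ℕ, χ (z ^ j) = ω ^ j * χ 1 := by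
  obtain ⟨n, ρ, hρ, rfl⟩ := hχ
  haveI := hρ
  obtain ⟨ω, hω⟩ : ∃ ω : ℂ, ρ z = ω • (LinearMap.id : (Fin n → ℂ) →ₗ[ℂ] (Fin n → ℂ)) := by
    apply schur_scalar ρ
    intro g
    change ρ z * ρ g = ρ g * ρ z
    rw [← map_mul, ← map_mul, Subgroup.mem_center_iff.mp hz g]
  refine ⟨ω, fun j => ?_⟩
  have h1 : ρ (z ^ j) = (ω ^ j) • (1 : Module.End ℂ (Fin n → ℂ)) := by
    rw [map_pow, hω, ← Module.End.one_eq_id, smul_pow, one_pow]
  unfold Representation.character
  rw [h1, map_smul, smul_eq_mul, map_one ρ]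

/-- with central commutator subgroup of prime order, a non-linear irreducible character is
faithful on the commutator subgroup and vanishes off the centre -/
theorem nonlinear_vanish {G : Type*} [Group G] [Finite G] (p : ℕ) [hp : Fact p.Prime]
    (hc : Nat.card (commutator G) = p) (hcl : commutator G ≤ Subgroup.center G) {χ : G → ℂ}
    (hχ : Cfsg.IsIrrCharacter G χ) (hnl : χ 1 ≠ 1) :
    (∀ c ∈ commutator G, χ c = χ 1 → c = 1) ∧ ∀ x : G, x ∉ Subgroup.center G → χ x = 0 := by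
  have hker : ∀ c ∈ commutator G, χ c = χ 1 → c = 1 := by
    intro c hcc hc1
    by_contra hne
    obtain ⟨L, -, hL⟩ := exists_char_kernel hχ
    apply hnl
    apply irr_deg_one_of_commutator_trivial hχ
    intro c' hc'
    obtain ⟨i, hi⟩ := mem_zpowers_of_prime_sub p (commutator G) hc hc' hcc hne
    rw [← hL, ← hi]
    exact L.zpow_mem ((hL c).mpr hc1) i
  refine ⟨hker, ?_⟩
  obtain ⟨n, ρ, hρ, hρχ⟩ := id hχ
  haveI := hρ
  intro x hx
  rw [Subgroup.mem_center_iff] at hx
  push Not at hx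
  obtain ⟨y, hy⟩ := hx
  obtain ⟨c, hc'⟩ : ∃ c, c = y * x * y⁻¹ * x⁻¹ := ⟨_, rfl⟩
  have hcc : c ∈ commutator G := by
    rw [commutator_def, hc']
    have h1 := Subgroup.commutator_mem_commutator (Subgroup.mem_top y) (Subgroup.mem_top x)
    rwa [commutatorElement_def] at h1
  have hcZ := hcl hcc
  have hc1 : c ≠ 1 := by
    intro h
    apply hy
    calc y * x = c * (x * y) := by rw [hc']; group
      _ = x * y := by rw [h, one_mul]
  obtain ⟨ω, hω⟩ : ∃ ω : ℂ, ρ c = ω • (LinearMap.id : (Fin n → ℂ) →ₗ[ℂ] (Fin n → ℂ)) := by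
    apply schur_scalar ρ
    intro g
    change ρ c * ρ g = ρ g * ρ c
    rw [← map_mul, ← map_mul, Subgroup.mem_center_iff.mp hcZ g]
  have hω1 : ω ≠ 1 := by
    intro h
    rw [h, one_smul] at hω
    apply hc1
    apply hker c hcc
    rw [← hρχ, (char_eq_finrank_iff ρ c).mpr hω, Representation.char_one]
  have h1 : ρ.character (c * x) = ω * ρ.character x := by
    unfold Representation.character
    rw [map_mul, hω, Module.End.mul_eq_comp, LinearMap.smul_comp, LinearMap.id_comp, map_smul,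
      smul_eq_mul]
  have h2 : ρ.character (c * x) = ρ.character x := by
    have e : c * x = y * x * y⁻¹ := by rw [hc']; group
    rw [e, Representation.char_conj]
  have h3 : (ω - 1) * ρ.character x = 0 := by rw [sub_mul, one_mul, ← h1, h2, sub_self]
  rcases mul_eq_zero.mp h3 with h4 | h4
  · exact absurd (sub_eq_zero.mp h4) hω1
  · rw [← hρχ]; exact h4

set_option maxHeartbeats 800000 in
/-- the backward direction: cyclic centre and commutator subgroup of order `p` give the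
hypothesis -/
theorem gal_backward {P : Type*} [Group P] [Finite P] (p : ℕ) [hp : Fact p.Prime]
    (hP : IsPGroup p P) (hcyc : IsCyclic (Subgroup.center P))
    (hc : Nat.card (commutator P) = p) : GalHyp P := by
  classical
  have hpp := hp.out
  intro χ ψ hχ hψ hnl hdeg
  have hcl : commutator P ≤ Subgroup.center P := normal_prime_le_center p hP (commutator P) hc
  have hψnl : ψ 1 ≠ 1 := by rw [← hdeg]; exact hnl
  obtain ⟨hkχ, hvχ⟩ := nonlinear_vanish p hc hcl hχ hnl
  obtain ⟨hkψ, hvψ⟩ := nonlinear_vanish p hc hcl hψ hψnl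
  obtain ⟨⟨z₀, hz₀⟩, hgen⟩ := hcyc.exists_generator
  obtain ⟨a, ha⟩ := central_pow_char hχ z₀ hz₀
  obtain ⟨b, hb⟩ := central_pow_char hψ z₀ hz₀
  obtain ⟨d, hdpos, hd⟩ := irr_apply_one hχ
  have hχ0 : χ 1 ≠ 0 := by rw [hd]; exact_mod_cast hdpos.ne'
  have hψ0 : ψ 1 ≠ 0 := by rw [← hdeg]; exact hχ0
  obtain ⟨e, he⟩ := (IsPGroup.iff_card).mp (hP.to_subgroup (Subgroup.center P))
  have hz₀N : z₀ ^ (p ^ e) = 1 := by
    have h1 := pow_card_eq_one' (G := Subgroup.center P) (x := ⟨z₀, hz₀⟩)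
    rw [he] at h1
    have := congrArg Subtype.val h1
    simpa using this
  have haN : a ^ (p ^ e) = 1 := by
    have h1 := ha (p ^ e)
    rw [hz₀N] at h1
    exact mul_right_cancel₀ hχ0 (by rw [one_mul]; exact h1.symm)
  have hbN : b ^ (p ^ e) = 1 := by
    have h1 := hb (p ^ e)
    rw [hz₀N] at h1
    exact mul_right_cancel₀ hψ0 (by rw [one_mul]; exact h1.symm)
  have he0 : e ≠ 0 := by
    intro h
    rw [h, pow_zero] at he
    have h1 := Subgroup.card_dvd_of_le hcl
    rw [hc, he] at h1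
    exact hpp.one_lt.ne' (Nat.dvd_one.mp h1)
  obtain ⟨e', rfl⟩ := Nat.exists_eq_succ_of_ne_zero he0
  have hcne : commutator P ≠ ⊥ := by
    intro h
    rw [h, Subgroup.card_bot] at hc
    exact hpp.ne_one hc.symm
  obtain ⟨⟨c, hcc⟩, hc1'⟩ := Subgroup.ne_bot_iff_exists_ne_one.mp hcne
  have hc1 : c ≠ 1 := fun h => hc1' (Subtype.ext h)
  have hnat : ∀ x ∈ Subgroup.center P, ∃ j : ℕ, z₀ ^ j = x := by
    intro x hx
    have h1 := hgen ⟨x, hx⟩
    rw [← mem_powers_iff_mem_zpowers] at h1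
    obtain ⟨j, hj⟩ := (Submonoid.mem_powers_iff _ _).mp h1
    exact ⟨j, by have := congrArg Subtype.val hj; simpa using this⟩
  obtain ⟨j, hj⟩ := hnat c (hcl hcc)
  have hcp : c ^ p = 1 := by
    have h1 := pow_card_eq_one' (G := commutator P) (x := ⟨c, hcc⟩)
    rw [hc] at h1
    have := congrArg Subtype.val h1
    simpa using this
  have hord : orderOf z₀ = p ^ (e' + 1) := by
    have h1 := orderOf_eq_card_of_forall_mem_zpowers hgen
    rw [he] at h1
    rw [← h1]
    exact Subgroup.orderOf_coe (⟨z₀, hz₀⟩ : Subgroup.center P)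
  have key : ∀ (θ : P → ℂ) (w : ℂ), (∀ c ∈ commutator P, θ c = θ 1 → c = 1) → θ 1 ≠ 0 →
      (∀ j : ℕ, θ (z₀ ^ j) = w ^ j * θ 1) → w ^ (p ^ (e' + 1)) = 1 → w ^ (p ^ e') ≠ 1 := by
    intro θ w hk h0 hw hwN hwe
    apply hc1
    apply hk c hcc
    rw [← hj, hw j]
    have h1 : orderOf z₀ ∣ j * p := by
      apply orderOf_dvd_of_pow_eq_one
      rw [pow_mul, hj, hcp]
    rw [hord, pow_succ] at h1
    have h2 : p ^ e' ∣ j := Nat.dvd_of_mul_dvd_mul_right hpp.pos h1
    obtain ⟨t, ht⟩ := h2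
    rw [ht, pow_mul, hwe, one_pow, one_mul]
  have hae := key χ a hkχ hχ0 ha haN
  have hbe := key ψ b hkψ hψ0 hb hbN
  have horda : orderOf a = p ^ (e' + 1) := orderOf_eq_prime_pow hae haN
  have hprim : IsPrimitiveRoot a (p ^ (e' + 1)) := by
    rw [← horda]; exact IsPrimitiveRoot.orderOf a
  haveI : NeZero (p ^ (e' + 1)) := ⟨(pow_pos hpp.pos _).ne'⟩
  obtain ⟨k, hklt, hk⟩ := hprim.eq_pow_of_pow_eq_one hbN
  have hkp : ¬ p ∣ k := by
    rintro ⟨t, rfl⟩
    apply hbe
    rw [← hk, ← pow_mul]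
    have e1 : p * t * p ^ e' = p ^ (e' + 1) * t := by ring
    rw [e1, pow_mul, haN, one_pow]
  have hcop : Nat.Coprime k (Nat.card P) := by
    obtain ⟨n, hn⟩ := (IsPGroup.iff_card).mp hP
    rw [hn]
    exact Nat.Coprime.pow_right n ((Nat.Prime.coprime_iff_not_dvd hpp).mpr hkp).symm
  refine ⟨k, hcop, ?_⟩
  intro g
  by_cases hg : g ∈ Subgroup.center P
  · obtain ⟨j', rfl⟩ := hnat g hg
    rw [hb j', ← pow_mul, ha (j' * k), ← hk, ← hdeg]
    ring
  · rw [hvψ g hg]
    symm
    apply hvχ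
    intro hgk
    apply hg
    have hco : Nat.Coprime k (orderOf g) :=
      Nat.Coprime.coprime_dvd_right (orderOf_dvd_natCard g) hcop
    obtain ⟨m, hm⟩ := exists_pow_eq_self_of_coprime hco
    rw [← hm]
    exact (Subgroup.center P).pow_mem hgk m

end Cfsg.Agent.Lib.Helper2
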