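import Mathlib
import Cfsg.Prelude
import Cfsg.Agent.Lib.Helper2.BGMain
import Cfsg.Agent.Lib.Helper2.PResSquares
import Cfsg.Agent.Lib.Helper24.Solvable

/-!
# Nilpotent length and the number of character degrees
-/

set_option autoImplicit false

namespace Cfsg.Agent.Lib.Helper2

universe u

/-- a quotient is nilpotent if it is dominated by a homomorphism into a nilpotent group -/
theorem nilpotent_quot_of_hom {X Z : Type*} [Group X] [Group Z] (φ : X →* Z)
    (hZ : Group.IsNilpotent Z) (N : Subgroup X) [N.Normal] (hker : φ.ker ≤ N) :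
    Group.IsNilpotent (X ⧸ N) := by
  haveI := hZ
  haveI h1 : Group.IsNilpotent φ.range := inferInstance
  haveI h2 : Group.IsNilpotent (X ⧸ φ.ker) :=
    Group.nilpotent_of_mulEquiv (QuotientGroup.quotientKerEquivRange φ).symm
  refine Group.nilpotent_of_surjective (QuotientGroup.map φ.ker N (MonoidHom.id X) hker) ?_
  apply QuotientGroup.map_surjective_of_surjective
  intro q
  obtain ⟨x, rfl⟩ := QuotientGroup.mk_surjective q
  exact ⟨x, rfl⟩

/-- the set of character degrees is finite -/
theorem cd_finite {G : Type*} [Group G] [Finite G] :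
    {d : ℕ | ∃ χ : Cfsg.IrrCharacter G, Cfsg.charDegree (χ : G → ℂ) = d}.Finite := by
  have h : {d : ℕ | ∃ χ : Cfsg.IrrCharacter G, Cfsg.charDegree (χ : G → ℂ) = d}
      = Set.range (fun χ : Cfsg.IrrCharacter G => Cfsg.charDegree (χ : G → ℂ)) := rfl
  rw [h]; exact Set.finite_range _

/-- shifting a chain of subgroups of a quotient to a chain of subgroups of the group -/
def shiftChain {G : Type*} [Group G] (F : Subgroup G) [F.Normal] (c' : ℕ → Subgroup (G ⧸ F)) :
    ℕ → Subgroup G
  | 0 => ⊥
  | (j + 1) => (c' j).comap (QuotientGroup.mk' F)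

set_option maxHeartbeats 1000000 in
/-- a solvable group has more character degrees than its quotient by the Fitting subgroup -/
theorem cd_quot_fitting_lt {G : Type u} [Group G] [Finite G] (hsolv : Group.IsSolvable G)
    (F : Subgroup G) [F.Normal] (hF : F = Cfsg.fittingSubgroup G) (hFtop : F ≠ ⊤) :
    Set.ncard {d : ℕ | ∃ χ : Cfsg.IrrCharacter (G ⧸ F), Cfsg.charDegree (χ : G ⧸ F → ℂ) = d} + 1
      ≤ Set.ncard {d : ℕ | ∃ χ : Cfsg.IrrCharacter G, Cfsg.charDegree (χ : G → ℂ) = d} := by
  classical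
  have := Fintype.ofFinite G
  obtain ⟨S, hSdef⟩ : ∃ S : Set ℕ, S = {d : ℕ | ∃ χ : Cfsg.IrrCharacter G,
      Cfsg.charDegree (χ : G → ℂ) = d} := ⟨_, rfl⟩
  obtain ⟨S', hS'def⟩ : ∃ S' : Set ℕ, S' = {d : ℕ | ∃ χ : Cfsg.IrrCharacter (G ⧸ F),
      Cfsg.charDegree (χ : G ⧸ F → ℂ) = d} := ⟨_, rfl⟩
  rw [← hSdef, ← hS'def]
  have hSfin : S.Finite := hSdef ▸ cd_finite
  have hS'fin : S'.Finite := hS'def ▸ cd_finite
  have hSne : S.Nonempty := by
    rw [hSdef]
    exact ⟨_, ⟨⟨fun _ => 1, isIrrCharacter_one⟩, rfl⟩⟩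
  have hinfl : ∀ χ' : G ⧸ F → ℂ, Cfsg.IsIrrCharacter (G ⧸ F) χ' →
      Cfsg.IsIrrCharacter G (χ' ∘ QuotientGroup.mk' F) ∧
        Cfsg.charDegree (χ' ∘ QuotientGroup.mk' F) = Cfsg.charDegree χ' := by
    intro χ' hχ'
    refine ⟨isIrrCharacter_comp_of_surjective hχ' _ (QuotientGroup.mk'_surjective F), ?_⟩
    unfold Cfsg.charDegree
    rw [Function.comp_apply, map_one]
  have hsub : S' ⊆ S := by
    intro d hd
    rw [hS'def] at hd
    obtain ⟨χ', rfl⟩ := hd
    rw [hSdef]
    exact ⟨⟨_, (hinfl χ'.1 χ'.2).1⟩, (hinfl χ'.1 χ'.2).2⟩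
  obtain ⟨m, hmS, hmmax⟩ := Set.exists_max_image S id hSfin hSne
  have hmS' : m ∉ S' := by
    intro hm
    rw [hS'def] at hm
    obtain ⟨χ', hχ'm⟩ := hm
    obtain ⟨hχ, hdeg⟩ := hinfl χ'.1 χ'.2
    obtain ⟨K, hKn, hK⟩ := exists_char_kernel hχ
    haveI := hKn
    have hFK : F ≤ K := by
      intro x hx
      rw [hK]
      simp only [Function.comp_apply, QuotientGroup.mk'_apply]
      rw [(QuotientGroup.eq_one_iff x).mpr hx]
      rfl
    have hcase : ¬ K ≤ Cfsg.fittingSubgroup G ∨
        (K = Cfsg.fittingSubgroup G ∧ Group.IsSolvable (G ⧸ K) ∧ K ≠ ⊤) := by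
      by_cases hKF : K ≤ Cfsg.fittingSubgroup G
      · right
        have hKeq : K = F := le_antisymm (hF ▸ hKF) hFK
        haveI := hsolv
        refine ⟨hKeq.trans hF, inferInstance, ?_⟩
        rw [hKeq]; exact hFtop
      · exact Or.inl hKF
    obtain ⟨ψ, hψ, ⟨a, b, ha, hb, hab⟩, -⟩ := bg_main hχ K hK hcase
    have h1 := irr_apply_one_eq_charDegree hχ
    have h2 := irr_apply_one_eq_charDegree hψ
    rw [ha] at h1
    rw [hb] at h2
    have h1' : a = Cfsg.charDegree (χ'.1 ∘ QuotientGroup.mk' F) := by exact_mod_cast h1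
    have h2' : b = Cfsg.charDegree ψ := by exact_mod_cast h2
    have hbS : b ∈ S := by rw [hSdef]; exact ⟨⟨ψ, hψ⟩, h2'.symm⟩
    have h3 := hmmax b hbS
    rw [hdeg, hχ'm] at h1'
    simp only [id] at h3
    omega
  have h3 : insert m S' ⊆ S := Set.insert_subset hmS hsub
  calc S'.ncard + 1 = (insert m S').ncard := (Set.ncard_insert_of_notMem hmS' hS'fin).symm
    _ ≤ S.ncard := Set.ncard_le_ncard h3 hSfin

set_option maxHeartbeats 1600000 in
/-- Garrison: a solvable group has a normal series with nilpotent factors of length at most the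
number of its character degrees -/
theorem garrison_chain : ∀ (n : ℕ) (G : Type u) [Group G] [Finite G], Nat.card G = n →
    Group.IsSolvable G →
    ∃ ℓ : ℕ, ℓ ≤ Set.ncard {d : ℕ | ∃ χ : Cfsg.IrrCharacter G,
        Cfsg.charDegree (χ : G → ℂ) = d} ∧
      ∃ c : ℕ → Subgroup G, c 0 = ⊥ ∧ (∀ k, ℓ ≤ k → c k = ⊤) ∧ Monotone c ∧
        (∀ k, (c k).Normal) ∧
        ∀ k, ∀ _ : ((c k).subgroupOf (c (k + 1))).Normal,
          Group.IsNilpotent (↥(c (k + 1)) ⧸ (c k).subgroupOf (c (k + 1))) := by
  intro n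
  induction n using Nat.strong_induction_on with
  | _ n ih =>
  intro G _ _ hcard hsolv
  classical
  have hFn : (Cfsg.fittingSubgroup G).Normal := Cfsg.Agent.Lib.Helper24.fitting_normal'
  have hFnil : Group.IsNilpotent (Cfsg.fittingSubgroup G) :=
    Cfsg.Agent.Lib.Helper24.fitting_nilpotent
  by_cases hFtop : Cfsg.fittingSubgroup G = ⊤
  · haveI hGnil : Group.IsNilpotent G := by
      rw [hFtop] at hFnil
      haveI := hFnil
      exact Group.nilpotent_of_mulEquiv Subgroup.topEquiv
    refine ⟨1, ?_, fun k => if k = 0 then ⊥ else ⊤, by simp, ?_, ?_, ?_, ?_⟩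
    · have hne : {d : ℕ | ∃ χ : Cfsg.IrrCharacter G,
          Cfsg.charDegree (χ : G → ℂ) = d}.Nonempty :=
        ⟨_, ⟨⟨fun _ => 1, isIrrCharacter_one⟩, rfl⟩⟩
      exact (Set.ncard_pos cd_finite).mpr hne
    · intro k hk
      have hk0 : k ≠ 0 := by omega
      simp [hk0]
    · apply monotone_nat_of_le_succ
      intro k
      by_cases hk : k = 0
      · simp [hk]
      · simp [hk]
    · intro k
      by_cases hk : k = 0
      · simp only [hk, if_true]; infer_instance
      · simp only [hk, if_false]; infer_instance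
    · intro k h
      haveI := h
      infer_instance
  · obtain ⟨F, hFdef⟩ : ∃ F : Subgroup G, F = Cfsg.fittingSubgroup G := ⟨_, rfl⟩
    rw [← hFdef] at hFn hFnil hFtop
    haveI := hFn
    haveI : Nontrivial G := by
      by_contra hnt
      rw [not_nontrivial_iff_subsingleton] at hnt
      exact hFtop (Subsingleton.elim _ _)
    have hFbot : F ≠ ⊥ := by
      obtain ⟨r, Kp, hr, hKpn, hKpne, hKpp⟩ :=
        Cfsg.Agent.Lib.Helper24.exists_normal_pGroup_of_solvable hsolv
      haveI : Fact r.Prime := ⟨hr⟩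
      have hle : Kp ≤ F := by
        rw [hFdef]
        exact Cfsg.Agent.Lib.Helper24.le_fitting Kp hKpn hKpp.isNilpotent
      intro hbot
      rw [hbot] at hle
      exact hKpne (le_bot_iff.mp hle)
    have hlt : Nat.card (G ⧸ F) < n := by
      rw [← hcard, ← Subgroup.index_eq_card, ← Subgroup.card_mul_index F]
      have h1 : 1 < Nat.card F := (Subgroup.one_lt_card_iff_ne_bot F).mpr hFbot
      have h2 : 0 < F.index := Nat.pos_of_ne_zero Subgroup.index_ne_zero_of_finite
      nlinarith
    haveI := hsolv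
    obtain ⟨ℓ', hℓ', c', hc0, hctop, hcmono, hcn, hcnil⟩ := ih _ hlt (G ⧸ F) rfl inferInstance
    have hcount := cd_quot_fitting_lt hsolv F hFdef hFtop
    refine ⟨ℓ' + 1, by omega, shiftChain F c', rfl, ?_, ?_, ?_, ?_⟩
    · intro k hk
      obtain ⟨j, rfl⟩ : ∃ j, k = j + 1 := ⟨k - 1, by omega⟩
      show (c' j).comap (QuotientGroup.mk' F) = ⊤
      rw [hctop j (by omega)]
      exact Subgroup.comap_top _
    · apply monotone_nat_of_le_succ
      intro k
      cases k with
      | zero => exact bot_le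
      | succ j => exact Subgroup.comap_mono (hcmono (Nat.le_succ j))
    · intro k
      cases k with
      | zero => exact Subgroup.normal_bot
      | succ j => exact (hcn j).comap _
    · intro k
      cases k with
      | zero =>
        show ∀ _ : ((⊥ : Subgroup G).subgroupOf ((c' 0).comap (QuotientGroup.mk' F))).Normal,
          Group.IsNilpotent (↥((c' 0).comap (QuotientGroup.mk' F)) ⧸
            (⊥ : Subgroup G).subgroupOf ((c' 0).comap (QuotientGroup.mk' F)))
        intro h
        haveI := h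
        have h1 : (c' 0).comap (QuotientGroup.mk' F) = F := by
          rw [hc0, MonoidHom.comap_bot, QuotientGroup.ker_mk']
        haveI : Group.IsNilpotent ↥((c' 0).comap (QuotientGroup.mk' F)) := by
          rw [h1]; exact hFnil
        infer_instance
      | succ j =>
        show ∀ _ : (((c' j).comap (QuotientGroup.mk' F)).subgroupOf
            ((c' (j + 1)).comap (QuotientGroup.mk' F))).Normal,
          Group.IsNilpotent (↥((c' (j + 1)).comap (QuotientGroup.mk' F)) ⧸
            ((c' j).comap (QuotientGroup.mk' F)).subgroupOf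
              ((c' (j + 1)).comap (QuotientGroup.mk' F)))
        intro h
        haveI := h
        haveI := hcn j
        have hnil := hcnil j inferInstance
        exact nilpotent_quot_of_hom
          ((QuotientGroup.mk' ((c' j).subgroupOf (c' (j + 1)))).comp
            ((QuotientGroup.mk' F).subgroupComap (c' (j + 1)))) hnil _ (by
          intro x hx
          rw [MonoidHom.mem_ker, MonoidHom.comp_apply, QuotientGroup.mk'_apply,
            QuotientGroup.eq_one_iff, Subgroup.mem_subgroupOf] at hx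
          rw [Subgroup.mem_subgroupOf]
          exact hx)

end Cfsg.Agent.Lib.Helper2
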