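import Mathlib
import Cfsg.Agent.Lib.Helper2.InvLin
import Cfsg.Agent.Lib.Helper2.CharCover3
import Cfsg.Agent.S0856

set_option autoImplicit false

/-! An invariant irreducible character of `N` lies under an invariant irreducible character of
`G` when `|Γ : G|` and `|G : N|` are coprime and one of the two layers is solvable: reduction to
the linear case through a central cover in which the character extends. -/

namespace Cfsg.Agent.Lib.Helper2

universe u

open scoped ComplexConjugate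

set_option maxHeartbeats 1600000 in
theorem inv_const_above {Γ : Type u} [Group Γ] [Fintype Γ] (G N : Subgroup Γ) [hG : G.Normal]
    [hN : N.Normal] [Fintype G] [Fintype N] (hNG : N ≤ G)
    (hcop : (G.index).Coprime (N.relIndex G))
    (hsolv : Group.IsSolvable (Γ ⧸ G) ∨ Group.IsSolvable (G ⧸ N.subgroupOf G))
    (θ : N → ℂ) (hθ : Cfsg.IsIrrCharacter N θ)
    (hinv : ∀ (x : Γ) (n : N), θ ⟨x * n * x⁻¹, hN.conj_mem n n.2 x⟩ = θ n) :
    ∃ χ : G → ℂ, Cfsg.IsIrrCharacter G χ ∧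
      Cfsg.classInner (fun n : N => χ ⟨n, hNG n.2⟩) θ ≠ 0 ∧
      ∀ (x : Γ) (g : G), χ ⟨x * g * x⁻¹, hG.conj_mem g g.2 x⟩ = χ g := by
  classical
  obtain ⟨Γt, instG, instF, π₁, ι, π, h⟩ := exists_isCover N hθ hinv
  haveI : Fintype Γt := Fintype.ofFinite _
  let G₁ : Subgroup Γt := G.comap π₁
  let N₁ : Subgroup Γt := N.comap π₁
  haveI hG₁ : G₁.Normal := hG.comap π₁
  haveI hN₁ : N₁.Normal := hN.comap π₁
  have hNG₁ : N₁ ≤ G₁ := Subgroup.comap_mono hNG
  haveI : Fintype G₁ := Fintype.ofFinite _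
  haveI : Fintype N₁ := Fintype.ofFinite _
  have hidx : G₁.index = G.index := Subgroup.index_comap_of_surjective G h.surj
  have hrel : N₁.relIndex G₁ = N.relIndex G := by
    have h1 := Subgroup.relIndex_comap N π₁ G₁
    rw [h1, Subgroup.map_comap_eq_self_of_surjective h.surj]
  have hcop₁ : G₁.index.Coprime (N₁.relIndex G₁) := by rw [hidx, hrel]; exact hcop
  let fG : G₁ →* G := π₁.subgroupComap G
  have hfG : Function.Surjective fG := π₁.subgroupComap_surjective_of_surjective G h.surj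
  have hfGval : ∀ x : G₁, ((fG x : G) : Γ) = π₁ x := fun x => rfl
  have hsolv₁ : Group.IsSolvable (Γt ⧸ G₁) ∨ Group.IsSolvable (G₁ ⧸ N₁.subgroupOf G₁) := by
    rcases hsolv with h1 | h1
    · left
      have hinj : Function.Injective (QuotientGroup.map G₁ G π₁ le_rfl) := by
        rw [injective_iff_map_eq_one]
        intro y hy
        obtain ⟨y, rfl⟩ := QuotientGroup.mk_surjective y
        rw [QuotientGroup.map_mk] at hy
        have h2 : π₁ y ∈ G := (QuotientGroup.eq_one_iff _).mp hy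
        exact (QuotientGroup.eq_one_iff _).mpr h2
      exact Group.isSolvable_of_isSolvable_injective hinj
    · right
      have hle : N₁.subgroupOf G₁ ≤ (N.subgroupOf G).comap fG := fun g hg => hg
      have hinj : Function.Injective
          (QuotientGroup.map (N₁.subgroupOf G₁) (N.subgroupOf G) fG hle) := by
        rw [injective_iff_map_eq_one]
        intro y hy
        obtain ⟨y, rfl⟩ := QuotientGroup.mk_surjective y
        rw [QuotientGroup.map_mk] at hy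
        have h2 : fG y ∈ N.subgroupOf G := (QuotientGroup.eq_one_iff _).mp hy
        exact (QuotientGroup.eq_one_iff _).mpr h2
      exact Group.isSolvable_of_isSolvable_injective hinj
  have hπ1 := h.pi_one_ne hθ
  let zf : N₁ → Γt := fun x => (ι ⟨π₁ x, x.2⟩)⁻¹ * x
  have hzf : ∀ x : N₁, zf x = (ι ⟨π₁ x, x.2⟩)⁻¹ * x := fun x => rfl
  have hzker : ∀ x : N₁, zf x ∈ π₁.ker := by
    intro x
    rw [MonoidHom.mem_ker, hzf, map_mul, map_inv, h.sect]
    simp
  have hzcent : ∀ (x : N₁) (γ : Γt), γ * zf x = zf x * γ := fun x γ =>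
    (Subgroup.mem_center_iff.mp (h.ker_le (hzker x)) γ)
  have hzmul : ∀ x y : N₁, zf (x * y) = zf x * zf y := by
    intro x y
    have e1 : (⟨π₁ ((x * y : N₁) : Γt), (x * y).2⟩ : N) = ⟨π₁ x, x.2⟩ * ⟨π₁ y, y.2⟩ :=
      Subtype.ext (map_mul π₁ _ _)
    have h1 := hzcent x (ι ⟨π₁ y, y.2⟩)⁻¹
    rw [hzf (x * y), e1, map_mul, mul_inv_rev]
    calc (ι ⟨π₁ y, y.2⟩)⁻¹ * (ι ⟨π₁ x, x.2⟩)⁻¹ * ((x : Γt) * y)
        = ((ι ⟨π₁ y, y.2⟩)⁻¹ * zf x) * y := by rw [hzf]; simp only [mul_assoc]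
      _ = zf x * zf y := by rw [h1, hzf y]; simp only [mul_assoc]
  have hνmul : ∀ z w, z ∈ π₁.ker → w ∈ π₁.ker → h.nu (z * w) = h.nu z * h.nu w := by
    intro z w hz hw
    have h1 := (h.nu_spec hθ (π₁.ker.mul_mem hz hw)).2 1
    have h2 := (h.nu_spec hθ hz).2 (w * 1)
    have h3 := (h.nu_spec hθ hw).2 1
    rw [mul_assoc, h2, h3, ← mul_assoc] at h1
    exact (mul_right_cancel₀ hπ1 h1).symm
  have hν1 : h.nu 1 = 1 := by
    show π 1 / π 1 = 1
    exact div_self hπ1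
  have hzf1 : zf 1 = 1 := by
    have e1 : (⟨π₁ ((1 : N₁) : Γt), (1 : N₁).2⟩ : N) = 1 := Subtype.ext (map_one π₁)
    rw [hzf, e1, map_one]
    simp
  let ε : N₁ →* ℂˣ :=
    { toFun := fun x => Units.mk0 (h.nu (zf x))⁻¹ (inv_ne_zero (h.nu_spec hθ (hzker x)).1)
      map_one' := by
        apply Units.ext
        show (h.nu (zf 1))⁻¹ = 1
        rw [hzf1, hν1, inv_one]
      map_mul' := by
        intro x y
        apply Units.ext
        show (h.nu (zf (x * y)))⁻¹ = (h.nu (zf x))⁻¹ * (h.nu (zf y))⁻¹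
        rw [hzmul, hνmul _ _ (hzker x) (hzker y), mul_inv] }
  have hεval : ∀ x : N₁, (ε x : ℂ) = (h.nu (zf x))⁻¹ := fun x => rfl
  have hεinv : ∀ (γ : Γt) (n : N₁), ε ⟨γ * n * γ⁻¹, hN₁.conj_mem n n.2 γ⟩ = ε n := by
    intro γ n
    apply Units.ext
    rw [hεval, hεval]
    congr 2
    have e1 : (⟨π₁ (γ * (n : Γt) * γ⁻¹), hN₁.conj_mem n n.2 γ⟩ : N)
        = ⟨π₁ γ * ((⟨π₁ n, n.2⟩ : N) : Γ) * (π₁ γ)⁻¹, hN.conj_mem _ n.2 (π₁ γ)⟩ :=
      Subtype.ext (by simp)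
    have h1 := hzcent n γ
    show (ι ⟨π₁ (γ * (n : Γt) * γ⁻¹), _⟩)⁻¹ * (γ * (n : Γt) * γ⁻¹) = zf n
    rw [e1, ← h.conj γ ⟨π₁ n, n.2⟩]
    calc (γ * ι ⟨π₁ n, n.2⟩ * γ⁻¹)⁻¹ * (γ * n * γ⁻¹) = γ * zf n * γ⁻¹ := by
          rw [hzf]; simp only [mul_assoc, mul_inv_rev, inv_inv, inv_mul_cancel_left]
      _ = zf n := by rw [h1]; simp
  obtain ⟨β, hβ, hβinv, hβres⟩ := linear_case G₁ N₁ hNG₁ hcop₁ hsolv₁ ε hεinv
  obtain ⟨d, hd0, hd⟩ := irr_apply_one hβ
  -- the product formula on `N₁`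
  have hψN : ∀ x : N₁, β ⟨x, hNG₁ x.2⟩ * π x = β 1 * θ ⟨π₁ x, x.2⟩ := by
    intro x
    have h1 : (x : Γt) = zf x * ι ⟨π₁ x, x.2⟩ := by
      rw [← hzcent x, hzf]; simp
    have h2 : π x = h.nu (zf x) * θ ⟨π₁ x, x.2⟩ := by
      conv_lhs => rw [h1]
      rw [(h.nu_spec hθ (hzker x)).2, h.ext]
    have h3 := (h.nu_spec hθ (hzker x)).1
    rw [hβres x, hεval, h2]
    field_simp
  let ι' : N →* G₁ := ι.codRestrict G₁ (fun n => by
    show π₁ (ι n) ∈ G
    rw [h.sect]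
    exact hNG n.2)
  have hι' : ∀ n : N, ((ι' n : G₁) : Γt) = ι n := fun n => rfl
  have hι'inj : Function.Injective ι' := fun a b hab =>
    h.ι_injective (congrArg Subtype.val hab)
  haveI hnorm' : ι'.range.Normal := ⟨by
    rintro _ ⟨n, rfl⟩ x
    refine ⟨⟨π₁ x * n * (π₁ x)⁻¹, hN.conj_mem (n : Γ) n.2 (π₁ x)⟩, ?_⟩
    apply Subtype.ext
    show ι _ = (x : Γt) * ι n * (x : Γt)⁻¹
    rw [h.conj]⟩
  have hπ' : Cfsg.IsIrrCharacter G₁ (fun x : G₁ => π x) := by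
    apply isIrrCharacter_of_pullback
      (IsCharacter.restrict (isCharacter_of_isIrrCharacter h.irr) G₁) ι'
    have : (fun x : G₁ => π x) ∘ ι' = θ := by
      funext n
      exact h.ext n
    rw [this]
    exact hθ
  haveI : Fintype ι'.range := Fintype.ofFinite _
  let e : N ≃* ι'.range := MonoidHom.ofInjective hι'inj
  have he : ∀ n : N, ((e n : ι'.range) : G₁) = ι' n := fun n => rfl
  have hθ₀ : Cfsg.IsIrrCharacter ι'.range (fun x : ι'.range => π ((x : G₁) : Γt)) := by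
    have h1 := Cfsg.Agent.S1489.isIrrCharacter_comp_iso hθ e.symm
    have h2 : θ ∘ e.symm = fun x : ι'.range => π ((x : G₁) : Γt) := by
      funext x
      obtain ⟨n, rfl⟩ := e.surjective x
      simp [he, hι', h.ext]
    rwa [h2] at h1
  have hπcf : Cfsg.IsClassFunction G₁ (fun x : G₁ => π x) :=
    isClassFunction_of_isIrrCharacter hπ'
  have hprodeq : ((fun _ => (1 : ℂ)) * (fun x : ι'.range => π ((x : G₁) : Γt)) : ι'.range → ℂ)
      = fun x : ι'.range => π ((x : G₁) : Γt) := by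
    funext x
    simp
  have hbij := Cfsg.Agent.S0856.result ι'.range (fun _ => (1 : ℂ))
    (fun x : ι'.range => π ((x : G₁) : Γt))
    isIrrCharacter_one hθ₀ (fun _ _ => rfl) (fun γ x => hπcf x γ)
    (by rw [hprodeq]; exact hθ₀) (fun x : G₁ => π x) hπ' (fun x => rfl)
  have hβι : ∀ n : N, β (ι' n) = β 1 := by
    intro n
    have hmem : (ι n) ∈ N₁ := by
      show π₁ (ι n) ∈ N
      rw [h.sect]
      exact n.2
    have h1 := hβres ⟨ι n, hmem⟩
    have h2 : (ε ⟨ι n, hmem⟩ : ℂ) = 1 := by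
      rw [hεval]
      have h3 : zf ⟨ι n, hmem⟩ = 1 := by
        have e1 : (⟨π₁ (ι n), hmem⟩ : N) = n := Subtype.ext (h.sect n)
        show (ι ⟨π₁ (ι n), _⟩)⁻¹ * ι n = 1
        rw [e1, inv_mul_cancel]
      rw [h3, hν1, inv_one]
    rw [h2, mul_one] at h1
    exact h1
  have hmemβ : β ∈ {β : G₁ → ℂ | Cfsg.IsIrrCharacter G₁ β ∧
      Cfsg.classInner (Cfsg.indFun ι'.range (fun _ => (1 : ℂ))) β ≠ 0} := by
    refine ⟨hβ, ?_⟩
    rw [frobenius_reciprocity ι'.range _ _ (isClassFunction_of_isIrrCharacter hβ)]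
    have h1 : (fun x : ι'.range => β x) = (d : ℂ) • (fun _ => (1 : ℂ)) := by
      funext x
      obtain ⟨n, rfl⟩ := e.surjective x
      rw [he, hβι n, hd]
      simp
    rw [h1, classInner_smul_right, classInner_irr_self isIrrCharacter_one]
    simp
    exact hd0.ne'
  have hψ : Cfsg.IsIrrCharacter G₁ (β * fun x : G₁ => π x) := (hbij.mapsTo hmemβ).1
  have hψval : ∀ x : G₁, (β * fun x : G₁ => π x) x = β x * π x := fun x => rfl
  have hker : ∀ z ∈ fG.ker, (β * fun x : G₁ => π x) z = (β * fun x : G₁ => π x) 1 := by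
    intro z hz
    have hz1 : π₁ (z : Γt) = 1 := by
      have := congrArg Subtype.val (MonoidHom.mem_ker.mp hz)
      exact this
    have hzN : (z : Γt) ∈ N₁ := by
      show π₁ z ∈ N
      rw [hz1]
      exact N.one_mem
    have h1 := hψN ⟨z, hzN⟩
    have e1 : (⟨π₁ (z : Γt), hzN⟩ : N) = 1 := Subtype.ext hz1
    rw [e1] at h1
    rw [hψval, hψval]
    show β z * π z = β 1 * π 1
    rw [h.pi_one]
    exact h1
  obtain ⟨χ, hχ, hχeq⟩ := exists_irr_deflate fG hfG hψ hker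
  have hχval : ∀ x : G₁, χ (fG x) = β x * π x := fun x => (congrFun hχeq x).symm
  refine ⟨χ, hχ, ?_, ?_⟩
  · have h1 : (fun n : N => χ ⟨n, hNG n.2⟩) = (d : ℂ) • θ := by
      funext n
      have hmem : (ι n) ∈ N₁ := by
        show π₁ (ι n) ∈ N
        rw [h.sect]
        exact n.2
      have h2 := hψN ⟨ι n, hmem⟩
      have e1 : (⟨π₁ (ι n), hmem⟩ : N) = n := Subtype.ext (h.sect n)
      have e2 : (⟨(n : Γ), hNG n.2⟩ : G) = fG ⟨ι n, hNG₁ hmem⟩ := Subtype.ext (h.sect n).symm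
      rw [e2, hχval]
      show β ⟨ι n, hNG₁ hmem⟩ * π (ι n) = _
      rw [e1, hd] at h2
      rw [h2]
      simp
    rw [h1, classInner_smul_left, classInner_irr_self hθ, mul_one]
    exact_mod_cast hd0.ne'
  · intro x g
    obtain ⟨γ, rfl⟩ := h.surj x
    obtain ⟨g₁, rfl⟩ := hfG g
    have e1 : (⟨π₁ γ * ((fG g₁ : G) : Γ) * (π₁ γ)⁻¹, hG.conj_mem _ (fG g₁).2 (π₁ γ)⟩ : G)
        = fG ⟨γ * g₁ * γ⁻¹, hG₁.conj_mem g₁ g₁.2 γ⟩ := by
      apply Subtype.ext
      show π₁ γ * π₁ (g₁ : Γt) * (π₁ γ)⁻¹ = π₁ (γ * (g₁ : Γt) * γ⁻¹)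
      simp
    rw [e1, hχval, hχval, hβinv]
    congr 1
    exact isClassFunction_of_isIrrCharacter h.irr (g₁ : Γt) γ

end Cfsg.Agent.Lib.Helper2
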