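import Mathlib
import Cfsg.Agent.Lib.Helper2.PLocal4
import Cfsg.Agent.Lib.Helper2.CharRatio
import Cfsg.Agent.Lib.Helper2.GoingDown

set_option autoImplicit false

/-! Extension of invariant characters from a normal subgroup of `p`-power index when the
Sylow intersection is central and its linear characters extend. -/

namespace Cfsg.Agent.Lib.Helper2

open scoped ComplexConjugate

theorem dade_extension {G : Type*} [Group G] [Fintype G] (p : ℕ) [Fact p.Prime]
    (N : Subgroup G) [hN : N.Normal] (hind : ∃ k : ℕ, N.index = p ^ k) (P : Sylow p G)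
    (hcent : ∀ x ∈ (P : Subgroup G) ⊓ N, ∀ y ∈ (P : Subgroup G), x * y = y * x)
    (hlin : ∀ lam : ↥((P : Subgroup G) ⊓ N) → ℂ, Cfsg.IsCharacter ↥((P : Subgroup G) ⊓ N) lam →
      lam 1 = 1 → ∃ μ : ↥(P : Subgroup G) → ℂ, Cfsg.IsCharacter ↥(P : Subgroup G) μ ∧ μ 1 = 1 ∧
        ∀ x : ↥((P : Subgroup G) ⊓ N), μ ⟨(x : G), x.2.1⟩ = lam x)
    (ϑ : N → ℂ) (hϑ : Cfsg.IsIrrCharacter N ϑ)
    (hinv : ∀ (g : G) (n : N), ϑ ⟨g * n * g⁻¹, hN.conj_mem (n : G) n.2 g⟩ = ϑ n) :
    ∃ χ : G → ℂ, Cfsg.IsIrrCharacter G χ ∧ ∀ n : N, χ n = ϑ n := by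
  classical
  have hp : p.Prime := Fact.out
  have hlinH : ∀ lam : ↥((P : Subgroup G) ⊓ N) →* ℂˣ, ∃ μ : ↥(P : Subgroup G) →* ℂˣ,
      ∀ x : ↥((P : Subgroup G) ⊓ N), μ ⟨(x : G), x.2.1⟩ = lam x := by
    intro lam
    obtain ⟨μf, hμc, hμ1, hμe⟩ := hlin (fun u => (lam u : ℂ)) (isCharacter_of_hom lam) (by simp)
    obtain ⟨μ, rfl⟩ := hom_of_char_deg_one hμc hμ1
    exact ⟨μ, fun x => Units.ext (hμe x)⟩
  obtain ⟨E, φ, hElem, hsup, hφ, -, m, hpm, hm⟩ := dade_detect p hp N hind ϑ hϑ hinv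
  obtain ⟨μ, hμ⟩ := elem_ext_central p N hind P hcent hlinH E hElem φ hφ
  obtain ⟨k, hk⟩ := hind
  set Θ : G → ℂ := Cfsg.extendByZero N ϑ with hΘ
  have hΘcf : Cfsg.IsClassFunction G Θ := by
    intro g h
    by_cases hg : g ∈ N
    · have h1 : h * g * h⁻¹ ∈ N := hN.conj_mem g hg h
      rw [hΘ, extendByZero_of_mem N ϑ h1, extendByZero_of_mem N ϑ hg]
      exact hinv h ⟨g, hg⟩
    · have h1 : h * g * h⁻¹ ∉ N := by
        intro h2
        apply hg
        have h3 := hN.conj_mem _ h2 h⁻¹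
        simpa [mul_assoc] using h3
      rw [hΘ, extendByZero_of_not_mem N ϑ h1, extendByZero_of_not_mem N ϑ hg]
  have hNne : (Nat.card N : ℂ) ≠ 0 := card_ne_zero_complex N
  have hGne : (Nat.card G : ℂ) ≠ 0 := card_ne_zero_complex G
  have h4 : (Nat.card G : ℂ) = (Nat.card N : ℂ) * (N.index : ℂ) := by
    rw [← Subgroup.card_mul_index N]
    push_cast
    rfl
  have hine : (N.index : ℂ) ≠ 0 := by
    intro h0
    rw [h0, mul_zero] at h4
    exact hGne h4
  set Φ : G → ℂ := Cfsg.indFun E (fun e => (μ e : ℂ)) with hΦ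
  have hΦc : Cfsg.IsCharacter G Φ := indFun_isCharacter E (isCharacter_of_hom μ)
  have h1 : Cfsg.classInner Φ Θ * (N.index : ℂ) = (m : ℂ) := by
    rw [hΦ, frobenius_reciprocity E _ Θ hΘcf, classInner_def]
    rw [sum_inf_eq E N (fun e : E => (μ e : ℂ) * conj (Θ e)) ?_]
    · have hs : ∑ d : ↥(E ⊓ N), (μ ⟨d, d.2.1⟩ : ℂ) * conj (Θ ((⟨d, d.2.1⟩ : E) : G))
          = conj (∑ d : ↥(E ⊓ N), ϑ ⟨(d : G), d.2.2⟩ * conj (φ d)) := by
        rw [map_sum]
        apply Finset.sum_congr rfl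
        intro d _
        have e1 : Θ (d : G) = ϑ ⟨d, d.2.2⟩ := extendByZero_of_mem N ϑ d.2.2
        rw [hμ d, map_mul, Complex.conj_conj, mul_comm]
        congr 2
      rw [hs]
      rw [finsum_eq_sum_of_fintype] at hm
      have hDne : (Nat.card ↥(E ⊓ N) : ℂ) ≠ 0 := card_ne_zero_complex _
      have hS : ∑ d : ↥(E ⊓ N), ϑ ⟨(d : G), d.2.2⟩ * conj (φ d)
          = (Nat.card ↥(E ⊓ N) : ℂ) * (m : ℂ) := by
        rw [← hm]
        field_simp
      rw [hS, map_mul, Complex.conj_natCast, Complex.conj_natCast]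
      have hrel : N.relIndex E = N.index := by
        have h2 := Subgroup.relIndex_sup_right E N
        rw [hsup, Subgroup.relIndex_top_right] at h2
        exact h2.symm
      have hcard : (Nat.card E : ℂ) = (Nat.card ↥(E ⊓ N) : ℂ) * (N.index : ℂ) := by
        have h2 := Subgroup.card_mul_index (N.subgroupOf E)
        have h3 : Nat.card (N.subgroupOf E) = Nat.card ↥(E ⊓ N) := by
          rw [← Subgroup.inf_subgroupOf_left]
          exact Nat.card_congr (Subgroup.subgroupOfEquivOfLe inf_le_left).toEquiv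
        rw [h3] at h2
        rw [← h2, ← hrel]
        push_cast
        rfl
      rw [hcard]
      field_simp
    · intro e he
      have h0 : Θ (e : G) = 0 := extendByZero_of_not_mem N ϑ he
      simp [h0]
  haveI := Fintype.ofFinite (Cfsg.IrrCharacter G)
  have hnatA : ∀ χ : Cfsg.IrrCharacter G, ∃ n : ℕ,
      Cfsg.classInner Φ (χ : G → ℂ) = (n : ℂ) :=
    fun χ => classInner_isCharacter_nat hΦc (isCharacter_of_isIrrCharacter χ.2)
  have hnatB : ∀ χ : Cfsg.IrrCharacter G, ∃ n : ℕ,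
      Cfsg.classInner (fun n : N => (χ : G → ℂ) n) ϑ = (n : ℂ) :=
    fun χ => classInner_isCharacter_nat
      (IsCharacter.restrict (isCharacter_of_isIrrCharacter χ.2) N)
      (isCharacter_of_isIrrCharacter hϑ)
  choose A hA using hnatA
  choose B hB using hnatB
  have hΘχ : ∀ χ : Cfsg.IrrCharacter G,
      conj (Cfsg.classInner Θ (χ : G → ℂ)) * (N.index : ℂ) = (B χ : ℂ) := by
    intro χ
    rw [← hB χ, classInner_def, classInner_def, hΘ,
      sum_extendByZero_mul N ϑ (fun g => conj ((χ : G → ℂ) g))]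
    rw [map_mul, map_inv₀, Complex.conj_natCast, map_sum]
    have hs : ∑ n : N, conj (ϑ n * conj ((χ : G → ℂ) n))
        = ∑ n : N, (χ : G → ℂ) n * conj (ϑ n) := by
      apply Finset.sum_congr rfl
      intro n _
      rw [map_mul, Complex.conj_conj, mul_comm]
    rw [hs, h4]
    field_simp
  have hmsum : m = ∑ χ : Cfsg.IrrCharacter G, A χ * B χ := by
    have h2 := classInner_eq_sum Φ Θ (isClassFunction_of_isCharacter hΦc)
    have h3 : (m : ℂ) = ((∑ χ : Cfsg.IrrCharacter G, A χ * B χ : ℕ) : ℂ) := by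
      rw [← h1, h2, Finset.sum_mul]
      push_cast
      apply Finset.sum_congr rfl
      intro χ _
      rw [hA χ, mul_assoc, hΘχ χ]
    exact_mod_cast h3
  obtain ⟨χ, hχnd⟩ : ∃ χ : Cfsg.IrrCharacter G, ¬ p ∣ A χ * B χ := by
    by_contra hcon
    push Not at hcon
    apply hpm
    rw [hmsum]
    exact Finset.dvd_sum (fun χ _ => hcon χ)
  have hBnd : ¬ p ∣ B χ := fun h => hχnd (Dvd.dvd.mul_left h _)
  have hcon : Cfsg.classInner (fun n : N => (χ : G → ℂ) n) ϑ ≠ 0 := by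
    rw [hB χ]
    intro h0
    apply hBnd
    have h5 : B χ = 0 := by exact_mod_cast h0
    rw [h5]
    exact dvd_zero p
  obtain ⟨e, he0, hsum⟩ := clifford_sum N χ.2 hϑ hcon
  have himg : Finset.univ.image (fun g : G => conjFun N ϑ g) = {ϑ} := by
    have h5 : (fun g : G => conjFun N ϑ g) = fun _ => ϑ := by
      funext g n
      rw [conjFun_apply]
      exact hinv g n
    rw [h5]
    exact Finset.image_const Finset.univ_nonempty ϑ
  rw [himg, Finset.sum_singleton] at hsum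
  have hBe : B χ = e := by
    have h5 := hB χ
    rw [hsum, classInner_smul_left, classInner_irr_self hϑ, mul_one] at h5
    exact_mod_cast h5.symm
  obtain ⟨b, hb1, hbd⟩ := degree_ratio_invariant N χ.2 hϑ hinv hcon
  have hϑ1 : ϑ 1 ≠ 0 := by
    obtain ⟨d, hd, hd1⟩ := irr_apply_one hϑ
    rw [hd1]
    exact_mod_cast hd.ne'
  have hbe : b = e := by
    have h6 := congrFun hsum 1
    simp only [Pi.smul_apply, smul_eq_mul] at h6
    have h7 : ((χ : G → ℂ) ((1 : N) : G)) = (χ : G → ℂ) 1 := rfl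
    rw [h7, hb1] at h6
    have h8 := mul_right_cancel₀ hϑ1 h6
    exact_mod_cast h8
  have he1 : e = 1 := by
    rw [← hbe]
    rw [hk] at hbd
    obtain ⟨i, -, hi⟩ := (Nat.dvd_prime_pow hp).mp hbd
    by_contra hne
    apply hBnd
    rw [hBe, ← hbe, hi]
    apply dvd_pow_self
    intro hi0
    apply hne
    rw [hi, hi0, pow_zero]
  refine ⟨χ, χ.2, fun n => ?_⟩
  have h8 := congrFun hsum n
  rw [he1] at h8
  simpa using h8

end Cfsg.Agent.Lib.Helper2
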