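import Mathlib
import Cfsg.Agent.Lib.Helper2.RelG1
import Cfsg.Agent.Lib.Helper2.HallDeg2

set_option autoImplicit false

/-! Groups with a normal `p`-complement and abelian Sylow `p`-subgroup: the classes of size
prime to `p`. -/

namespace Cfsg.Agent.Lib.Helper2

section psing1

variable {G : Type*} [Group G]

/-- class size times centraliser order -/
theorem class_card_mul_centralizer [Finite G] (g : G) :
    Nat.card (ConjClasses.mk g).carrier * Nat.card (Subgroup.centralizer ({g} : Set G))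
      = Nat.card G := by
  classical
  rw [Subgroup.nat_card_centralizer_nat_card_stabilizer, ← ConjAct.orbit_eq_carrier_conjClasses]
  have h1 := MulAction.index_stabilizer (ConjAct G) g
  have h2 := Subgroup.card_mul_index (MulAction.stabilizer (ConjAct G) g)
  rw [h1, ← Nat.card_coe_set_eq] at h2
  rw [mul_comm, h2]
  rfl

/-- in a group `G = N P` with `N` a normal `p'`-subgroup and `P` an abelian `p`-subgroup, the
classes of size prime to `p` are parametrised by `P` and the classes of `C_N(P)` -/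
theorem card_pprime_classes [Finite G] (p : ℕ) [hp : Fact p.Prime] (N P : Subgroup G)
    [hN : N.Normal] (hsup : N ⊔ P = ⊤) (hP : IsPGroup p P)
    (hcop : (Nat.card N).Coprime p) (hab : ∀ x ∈ P, ∀ y ∈ P, x * y = y * x) :
    Nat.card {K : ConjClasses G // ¬ p ∣ Nat.card K.carrier}
      = Nat.card P * Nat.card (ConjClasses ↥(N ⊓ Subgroup.centralizer (P : Set G))) := by
  classical
  obtain ⟨m, hm⟩ := IsPGroup.iff_card.mp hP
  have hcopNP : (Nat.card N).Coprime (Nat.card P) := by
    rw [hm]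
    exact Nat.Coprime.pow_right m hcop
  have hinf : N ⊓ P = ⊥ := (Subgroup.disjoint_of_coprime_natCard hcopNP).eq_bot
  have hdecomp : ∀ g : G, ∃ n ∈ N, ∃ v ∈ P, g = n * v := by
    intro g
    have hg : g ∈ (↑(N ⊔ P) : Set G) := by
      rw [hsup]
      trivial
    rw [Subgroup.normal_mul] at hg
    obtain ⟨n, hn, v, hv, rfl⟩ := hg
    exact ⟨n, hn, v, hv, rfl⟩
  have hcardG : Nat.card G = Nat.card N * Nat.card P := by
    rw [← Subgroup.card_mul_index N, Subgroup.index_eq_card]
    congr 1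
    exact (Nat.card_congr (complEquiv N P hsup hinf).toEquiv).symm
  have hpN : ¬ p ∣ Nat.card N := by
    intro h
    have h1 := Nat.dvd_gcd h (dvd_refl p)
    rw [Nat.Coprime.gcd_eq_one hcop] at h1
    exact hp.out.one_lt.ne' (Nat.dvd_one.mp h1)
  have hcomm_uc : ∀ u ∈ P, ∀ c ∈ N ⊓ Subgroup.centralizer (P : Set G), u * c = c * u := by
    intro u hu c hc
    exact Subgroup.mem_centralizer_iff.mp hc.2 u hu
  -- F1
  have F1 : ∀ u ∈ P, ∀ c ∈ N ⊓ Subgroup.centralizer (P : Set G),
      ¬ p ∣ Nat.card (ConjClasses.mk (u * c)).carrier := by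
    intro u hu c hc hdvd
    have hle : P ≤ Subgroup.centralizer ({u * c} : Set G) := by
      intro v hv
      rw [Subgroup.mem_centralizer_iff]
      intro h hh
      rw [Set.mem_singleton_iff] at hh
      subst hh
      have e1 := hab v hv u hu
      have e2 := hcomm_uc v hv c hc
      calc u * c * v = u * (c * v) := by group
        _ = u * (v * c) := by rw [e2]
        _ = (u * v) * c := by group
        _ = (v * u) * c := by rw [e1]
        _ = v * (u * c) := by group
    obtain ⟨j, hj⟩ := Subgroup.card_dvd_of_le hle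
    have h1 := class_card_mul_centralizer (u * c)
    rw [hj, hcardG] at h1
    have h2 : Nat.card (ConjClasses.mk (u * c)).carrier * j = Nat.card N := by
      have hPpos : 0 < Nat.card P := Nat.card_pos
      apply Nat.eq_of_mul_eq_mul_right hPpos
      rw [← h1]
      ring
    exact hpN (h2 ▸ Dvd.dvd.mul_right hdvd j)
  -- F2
  have F2 : ∀ u ∈ P, ∀ u' ∈ P, ∀ c ∈ N ⊓ Subgroup.centralizer (P : Set G),
      ∀ c' ∈ N ⊓ Subgroup.centralizer (P : Set G), IsConj (u * c) (u' * c') →
      u = u' ∧ ∃ d ∈ N ⊓ Subgroup.centralizer (P : Set G), d * c * d⁻¹ = c' := by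
    intro u hu u' hu' c hc c' hc' hconj
    obtain ⟨g, hg⟩ := isConj_iff.mp hconj
    obtain ⟨n, hn, v, hv, rfl⟩ := hdecomp g
    have e1 := hab v hv u hu
    have e2 := hcomm_uc v hv c hc
    have hstar : n * (u * c) * n⁻¹ = u' * c' := by
      rw [← hg]
      have : v * (u * c) * v⁻¹ = u * c := by
        calc v * (u * c) * v⁻¹ = (v * u) * c * v⁻¹ := by group
          _ = (u * v) * c * v⁻¹ := by rw [e1]
          _ = u * (v * c) * v⁻¹ := by group
          _ = u * (c * v) * v⁻¹ := by rw [e2]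
          _ = u * c := by group
      calc n * (u * c) * n⁻¹ = n * (v * (u * c) * v⁻¹) * n⁻¹ := by rw [this]
        _ = n * v * (u * c) * (n * v)⁻¹ := by group
    have huu : u = u' := by
      have h1 : u⁻¹ * u' ∈ N := by
        have h2 : u⁻¹ * u' = (u⁻¹ * n * u⁻¹⁻¹) * c * n⁻¹ * c'⁻¹ := by
          have h3 : u' = n * (u * c) * n⁻¹ * c'⁻¹ := by
            rw [hstar]
            group
          rw [h3]
          group
        rw [h2]
        exact N.mul_mem (N.mul_mem (N.mul_mem (hN.conj_mem n hn u⁻¹) hc.1) (N.inv_mem hn))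
          (N.inv_mem hc'.1)
      have h2 : u⁻¹ * u' ∈ N ⊓ P := ⟨h1, P.mul_mem (P.inv_mem hu) hu'⟩
      rw [hinf, Subgroup.mem_bot] at h2
      exact inv_mul_eq_one.mp h2
    subst huu
    refine ⟨rfl, ?_⟩
    -- n c n⁻¹ = c'
    have hua : u ^ Nat.card P = 1 := by
      have := pow_card_eq_one' (G := P) (x := ⟨u, hu⟩)
      exact congrArg Subtype.val this
    have hpow : ∀ z ∈ N ⊓ Subgroup.centralizer (P : Set G),
        (u * z) ^ Nat.card P = z ^ Nat.card P := by
      intro z hz
      have hcm : Commute u z := hcomm_uc u hu z hz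
      rw [hcm.mul_pow, hua, one_mul]
    have h3 : (n * c * n⁻¹) ^ Nat.card P = c' ^ Nat.card P := by
      rw [conj_pow, ← hpow c hc, ← hpow c' hc', ← hstar, conj_pow]
    have h4 : n * c * n⁻¹ = c' := by
      have hinj := (powCoprime hcopNP).injective
      have h5 : (⟨n * c * n⁻¹, hN.conj_mem c hc.1 n⟩ : N) = ⟨c', hc'.1⟩ := by
        apply hinj
        apply Subtype.ext
        exact h3
      exact congrArg Subtype.val h5
    -- fixed point
    let X : Set G := (fun z => n * z) '' (↑(N ⊓ Subgroup.centralizer ({c} : Set G)) : Set G)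
    have hXmem : ∀ y, y ∈ X ↔ y ∈ N ∧ y * c * y⁻¹ = c' := by
      intro y
      constructor
      · rintro ⟨z, hz, rfl⟩
        have hz1 : z ∈ N := hz.1
        have hz2 : c * z = z * c := by
          have := Subgroup.mem_centralizer_iff.mp hz.2 c (Set.mem_singleton c)
          exact this
        refine ⟨N.mul_mem hn hz1, ?_⟩
        rw [← h4]
        calc n * z * c * (n * z)⁻¹ = n * (z * c) * z⁻¹ * n⁻¹ := by group
          _ = n * (c * z) * z⁻¹ * n⁻¹ := by rw [hz2]
          _ = n * c * n⁻¹ := by group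
      · rintro ⟨hy1, hy2⟩
        refine ⟨n⁻¹ * y, ⟨N.mul_mem (N.inv_mem hn) hy1, ?_⟩, by group⟩
        show n⁻¹ * y ∈ Subgroup.centralizer ({c} : Set G)
        rw [Subgroup.mem_centralizer_iff]
        intro h hh
        rw [Set.mem_singleton_iff] at hh
        subst hh
        have h6 : n * h * n⁻¹ = y * h * y⁻¹ := by rw [h4, hy2]
        calc h * (n⁻¹ * y) = n⁻¹ * (n * h * n⁻¹) * y := by group
          _ = n⁻¹ * (y * h * y⁻¹) * y := by rw [h6]
          _ = n⁻¹ * y * h := by group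
    have hXcard : ¬ p ∣ Nat.card X := by
      have h6 : Nat.card X = Nat.card ↥(N ⊓ Subgroup.centralizer ({c} : Set G)) :=
        Nat.card_image_of_injective (mul_right_injective n) _
      rw [h6]
      intro hd
      exact hpN (dvd_trans hd (Subgroup.card_dvd_of_le inf_le_left))
    have hXst : ∀ s ∈ P, ∀ y ∈ X, s * y * s⁻¹ ∈ X := by
      intro s hs y hy
      obtain ⟨hy1, hy2⟩ := (hXmem y).mp hy
      rw [hXmem]
      refine ⟨hN.conj_mem y hy1 s, ?_⟩
      have e3 := hcomm_uc s hs c hc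
      have e4 := hcomm_uc s hs c' hc'
      calc s * y * s⁻¹ * c * (s * y * s⁻¹)⁻¹ = s * y * (s⁻¹ * (c * s)) * y⁻¹ * s⁻¹ := by group
        _ = s * y * (s⁻¹ * (s * c)) * y⁻¹ * s⁻¹ := by rw [e3]
        _ = s * (y * c * y⁻¹) * s⁻¹ := by group
        _ = s * c' * s⁻¹ := by rw [hy2]
        _ = c' * s * s⁻¹ := by rw [e4]
        _ = c' := by group
    obtain ⟨y, hy, hyfix⟩ := exists_conj_fixed p P hP X hXst hXcard
    obtain ⟨hy1, hy2⟩ := (hXmem y).mp hy
    refine ⟨y, ⟨hy1, ?_⟩, hy2⟩
    show y ∈ Subgroup.centralizer (P : Set G)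
    rw [Subgroup.mem_centralizer_iff]
    intro s hs
    have := hyfix s hs
    calc s * y = s * y * s⁻¹ * s := by group
      _ = y * s := by rw [this]
  -- F3
  have F3 : ∀ x : G, ¬ p ∣ Nat.card (ConjClasses.mk x).carrier →
      ∃ u ∈ P, ∃ c ∈ N ⊓ Subgroup.centralizer (P : Set G), IsConj (u * c) x := by
    intro x hx
    have hst : ∀ s ∈ P, ∀ y ∈ (ConjClasses.mk x).carrier, s * y * s⁻¹ ∈ (ConjClasses.mk x).carrier := by
      intro s hs y hy
      rw [ConjClasses.mem_carrier_iff_mk_eq] at hy ⊢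
      rw [← hy]
      apply ConjClasses.mk_eq_mk_iff_isConj.mpr
      exact (isConj_iff.mpr ⟨s, rfl⟩).symm
    obtain ⟨y, hy, hyfix⟩ := exists_conj_fixed p P hP _ hst hx
    rw [ConjClasses.mem_carrier_iff_mk_eq] at hy
    have hyx : IsConj y x := ConjClasses.mk_eq_mk_iff_isConj.mp hy
    have hycomm : ∀ s ∈ P, s * y = y * s := by
      intro s hs
      have := hyfix s hs
      calc s * y = s * y * s⁻¹ * s := by group
        _ = y * s := by rw [this]
    obtain ⟨n, hn, v, hv, hyd⟩ := hdecomp y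
    refine ⟨v, hv, v⁻¹ * y, ⟨?_, ?_⟩, ?_⟩
    · rw [hyd]
      have : v⁻¹ * (n * v) = v⁻¹ * n * v⁻¹⁻¹ := by group
      rw [this]
      exact hN.conj_mem n hn v⁻¹
    · show v⁻¹ * y ∈ Subgroup.centralizer (P : Set G)
      rw [Subgroup.mem_centralizer_iff]
      intro s hs
      have e1 := hab s hs v hv
      have e2 := hycomm s hs
      calc s * (v⁻¹ * y) = v⁻¹ * (v * s) * v⁻¹ * y := by group
        _ = v⁻¹ * (s * v) * v⁻¹ * y := by rw [e1]
        _ = v⁻¹ * (s * y) := by group
        _ = v⁻¹ * (y * s) := by rw [e2]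
        _ = v⁻¹ * y * s := by group
    · have : v * (v⁻¹ * y) = y := by group
      rw [this]
      exact hyx
  -- the map
  let f₀ : P × ConjClasses ↥(N ⊓ Subgroup.centralizer (P : Set G)) → ConjClasses G := fun x =>
    Quotient.liftOn x.2 (fun c => ConjClasses.mk ((x.1 : G) * (c : G))) (by
      intro a b hab'
      have hab'' : IsConj a b := hab'
      obtain ⟨d, hd⟩ := isConj_iff.mp hab''
      apply ConjClasses.mk_eq_mk_iff_isConj.mpr
      apply isConj_iff.mpr
      refine ⟨(d : G), ?_⟩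
      have h1 : (d : G) * a * (d : G)⁻¹ = b := by
        have := congrArg Subtype.val hd
        simpa using this
      have h2 := hcomm_uc x.1 x.1.2 d d.2
      calc (d : G) * ((x.1 : G) * a) * (d : G)⁻¹ = ((d : G) * (x.1 : G)) * a * (d : G)⁻¹ := by group
        _ = ((x.1 : G) * (d : G)) * a * (d : G)⁻¹ := by rw [h2]
        _ = (x.1 : G) * ((d : G) * a * (d : G)⁻¹) := by group
        _ = (x.1 : G) * b := by rw [h1])
  have hf₀mk : ∀ (u : P) (c : ↥(N ⊓ Subgroup.centralizer (P : Set G))),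
      f₀ (u, ConjClasses.mk c) = ConjClasses.mk ((u : G) * (c : G)) := fun u c => rfl
  have hf₀ : ∀ x, ¬ p ∣ Nat.card (f₀ x).carrier := by
    rintro ⟨u, K⟩
    obtain ⟨c, rfl⟩ := ConjClasses.mk_surjective K
    rw [hf₀mk]
    exact F1 u u.2 c c.2
  let f : P × ConjClasses ↥(N ⊓ Subgroup.centralizer (P : Set G)) →
      {K : ConjClasses G // ¬ p ∣ Nat.card K.carrier} := fun x => ⟨f₀ x, hf₀ x⟩
  have hbij : Function.Bijective f := by
    constructor
    · rintro ⟨u, K⟩ ⟨u', K'⟩ h
      obtain ⟨c, rfl⟩ := ConjClasses.mk_surjective K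
      obtain ⟨c', rfl⟩ := ConjClasses.mk_surjective K'
      have h1 : f₀ (u, ConjClasses.mk c) = f₀ (u', ConjClasses.mk c') := congrArg Subtype.val h
      rw [hf₀mk, hf₀mk] at h1
      obtain ⟨h2, d, hd, h3⟩ := F2 u u.2 u' u'.2 c c.2 c' c'.2
        (ConjClasses.mk_eq_mk_iff_isConj.mp h1)
      have h4 : u = u' := Subtype.ext h2
      have h5 : ConjClasses.mk c = ConjClasses.mk c' := by
        apply ConjClasses.mk_eq_mk_iff_isConj.mpr
        apply isConj_iff.mpr
        exact ⟨⟨d, hd⟩, Subtype.ext h3⟩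
      rw [h4, h5]
    · rintro ⟨K, hK⟩
      obtain ⟨x, rfl⟩ := ConjClasses.mk_surjective K
      obtain ⟨u, hu, c, hc, h1⟩ := F3 x hK
      refine ⟨(⟨u, hu⟩, ConjClasses.mk ⟨c, hc⟩), Subtype.ext ?_⟩
      show f₀ (⟨u, hu⟩, ConjClasses.mk ⟨c, hc⟩) = ConjClasses.mk x
      rw [hf₀mk]
      exact ConjClasses.mk_eq_mk_iff_isConj.mpr h1
  rw [← Nat.card_eq_of_bijective f hbij, Nat.card_prod]

end psing1

end Cfsg.Agent.Lib.Helper2
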