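import Mathlib
import Cfsg.Agent.Lib.Helper2.PSing1
import Cfsg.Agent.Lib.Helper2.PResSquares
import Cfsg.Agent.Lib.Helper2.CharOrtho

set_option autoImplicit false

/-! Groups with a normal `p`-complement and exactly one irreducible character of degree
divisible by `p`. -/

namespace Cfsg.Agent.Lib.Helper2

open scoped ComplexConjugate

universe u

section psing2

variable {G : Type u} [Group G]

/-- with a nontrivial normal `p`-complement and a unique irreducible character of degree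
divisible by `p`, the Sylow `p`-subgroup is abelian -/
theorem sylow_abelian_of_unique_psing [Finite G] (p : ℕ) [hp : Fact p.Prime] (N P : Subgroup G)
    [hN : N.Normal] (hsup : N ⊔ P = ⊤) (hP : IsPGroup p P) (hcop : (Nat.card N).Coprime p)
    (hNbot : N ≠ ⊥)
    (hone : Nat.card {χ : Cfsg.IrrCharacter G // p ∣ Cfsg.charDegree (χ : G → ℂ)} = 1) :
    ∀ x ∈ P, ∀ y ∈ P, x * y = y * x := by
  classical
  haveI := Fintype.ofFinite G
  haveI : Fintype N := Fintype.ofFinite N
  haveI : Fintype P := Fintype.ofFinite P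
  by_contra hcon
  push Not at hcon
  obtain ⟨x, hx, y, hy, hxy⟩ := hcon
  have hex : ∃ β : P → ℂ, Cfsg.IsIrrCharacter P β ∧ β 1 ≠ 1 := by
    by_contra hall
    push Not at hall
    have := comm_of_all_linear (G := P) hall ⟨x, hx⟩ ⟨y, hy⟩
    exact hxy (congrArg Subtype.val this)
  obtain ⟨β, hβ, hβ1⟩ := hex
  obtain ⟨b, hbpos, hb⟩ := irr_apply_one hβ
  have hbdvd : b ∣ Nat.card P := irr_deg_dvd_card' hβ b hb
  obtain ⟨m, hm⟩ := IsPGroup.iff_card.mp hP
  have hpb : p ∣ b := by
    rw [hm] at hbdvd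
    obtain ⟨j, hj, rfl⟩ := (Nat.dvd_prime_pow hp.out).mp hbdvd
    rcases Nat.eq_zero_or_pos j with h0 | h0
    · subst h0
      exfalso
      apply hβ1
      rw [hb]
      simp
    · exact dvd_pow_self p h0.ne'
  have hcopNP : (Nat.card N).Coprime (Nat.card P) := by
    rw [hm]
    exact Nat.Coprime.pow_right m hcop
  have hinf : N ⊓ P = ⊥ := (Subgroup.disjoint_of_coprime_natCard hcopNP).eq_bot
  let e := complEquiv N P hsup hinf
  let π : G →* P := e.symm.toMonoidHom.comp (QuotientGroup.mk' N)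
  have hπs : Function.Surjective π := e.symm.surjective.comp (QuotientGroup.mk'_surjective N)
  have hπN : ∀ n ∈ N, π n = 1 := by
    intro n hn
    show e.symm (QuotientGroup.mk' N n) = 1
    have h1 : QuotientGroup.mk' N n = 1 := (QuotientGroup.eq_one_iff n).mpr hn
    rw [h1, map_one]
  let χ₁ : G → ℂ := β ∘ π
  have hχ₁ : Cfsg.IsIrrCharacter G χ₁ := isIrrCharacter_comp_of_surjective hβ π hπs
  have hχ₁N : ∀ n : N, χ₁ n = (b : ℂ) := by
    intro n
    show β (π n) = b
    rw [hπN n n.2, hb]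
  have hχ₁1 : χ₁ 1 = (b : ℂ) := by
    show β (π 1) = b
    rw [map_one, hb]
  have hone' : Cfsg.IsIrrCharacter N (fun _ => (1 : ℂ)) := isIrrCharacter_one
  have hexθ : ∃ θ : N → ℂ, Cfsg.IsIrrCharacter N θ ∧ θ ≠ fun _ => (1 : ℂ) := by
    by_contra hall
    push Not at hall
    obtain ⟨a, ha⟩ := (Subgroup.ne_bot_iff_exists_ne_one).mp hNbot
    apply ha
    have h1 : IsConj a 1 := by
      apply isConj_of_irr_eq
      intro χ hχ
      rw [hall χ hχ]
    exact isConj_one_left.mp h1
  obtain ⟨θ, hθ, hθne⟩ := hexθ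
  obtain ⟨χ₂, hχ₂, hcon₂⟩ := exists_irr_over N hθ
  have hresχ₁ : (fun n : N => χ₁ n) = (b : ℂ) • (fun _ : N => (1 : ℂ)) := by
    funext n
    rw [hχ₁N]
    simp
  have hχ₁θ : Cfsg.classInner (fun n : N => χ₁ n) θ = 0 := by
    rw [hresχ₁, classInner_smul_left, classInner_irr_ne hone' hθ (Ne.symm hθne), mul_zero]
  have hne12 : χ₂ ≠ χ₁ := by
    intro h
    rw [h] at hcon₂
    exact hcon₂ hχ₁θ
  have hsub : ∀ a c : {χ : Cfsg.IrrCharacter G // p ∣ Cfsg.charDegree (χ : G → ℂ)}, a = c := by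
    haveI := (Nat.card_eq_one_iff_unique.mp hone).1
    exact fun a c => Subsingleton.elim a c
  have hd1 : p ∣ Cfsg.charDegree χ₁ := by
    rw [charDegree_eq_of_apply_one χ₁ b hχ₁1]
    exact hpb
  by_cases hd2 : p ∣ Cfsg.charDegree χ₂
  · have := hsub ⟨⟨χ₂, hχ₂⟩, hd2⟩ ⟨⟨χ₁, hχ₁⟩, hd1⟩
    exact hne12 (congrArg (fun z => (z.1 : G → ℂ)) this)
  · obtain ⟨r, hr, hrdvd⟩ := degree_ratio N hχ₂ hθ hcon₂
    obtain ⟨d, hdpos, hd⟩ := irr_apply_one hθ
    obtain ⟨D, hDpos, hD⟩ := irr_apply_one hχ₂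
    have hDeg : Cfsg.charDegree χ₂ = D := charDegree_eq_of_apply_one χ₂ D hD
    rw [hDeg] at hd2
    have hDrd : D = r * d := by
      rw [hD, hd] at hr
      exact_mod_cast hr
    have hidx : N.index = Nat.card P := by
      rw [Subgroup.index_eq_card]
      exact (Nat.card_congr e.toEquiv).symm
    have hr1 : r = 1 := by
      rw [hidx, hm] at hrdvd
      obtain ⟨j, hj, rfl⟩ := (Nat.dvd_prime_pow hp.out).mp hrdvd
      rcases Nat.eq_zero_or_pos j with h0 | h0
      · subst h0
        simp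
      · exfalso
        apply hd2
        rw [hDrd]
        exact Dvd.dvd.mul_right (dvd_pow_self p h0.ne') d
    have hχ₂1 : χ₂ 1 = θ 1 := by
      rw [hr, hr1]
      simp
    have hres : (fun n : N => χ₂ n) = θ :=
      eq_of_constituent_same_degree
        (IsCharacter.comp_hom (isCharacter_of_isIrrCharacter hχ₂) N.subtype) hθ hcon₂
        (by simpa using hχ₂1)
    have hθinv : ∀ (g : G) (n : N), θ ⟨g * n * g⁻¹, hN.conj_mem (n : G) n.2 g⟩ = θ n := by
      intro g n
      rw [← hres]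
      exact isClassFunction_of_isIrrCharacter hχ₂ (n : G) g
    have hmul1 : (fun _ : N => (1 : ℂ)) * θ = θ := by
      funext n
      simp
    have hgal := Cfsg.Agent.S0856.result N (fun _ => (1 : ℂ)) θ hone' hθ (fun _ _ => rfl) hθinv
      (by rw [hmul1]; exact hθ) χ₂ hχ₂ (fun n => congrFun hres n)
    have hsrc : χ₁ ∈ {β : G → ℂ | Cfsg.IsIrrCharacter G β ∧
        Cfsg.classInner (Cfsg.indFun N (fun _ => (1 : ℂ))) β ≠ 0} := by
      refine ⟨hχ₁, ?_⟩
      rw [frobenius_reciprocity N _ _ (isClassFunction_of_isIrrCharacter hχ₁), hresχ₁,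
        classInner_smul_right, classInner_irr_self hone', mul_one]
      simp only [Complex.conj_natCast]
      exact_mod_cast hbpos.ne'
    have h3 := hgal.mapsTo hsrc
    have hχ₃ : Cfsg.IsIrrCharacter G (χ₁ * χ₂) := h3.1
    have hχ₃1 : (χ₁ * χ₂) 1 = ((b * D : ℕ) : ℂ) := by
      rw [Pi.mul_apply, hχ₁1, hD]
      push_cast
      ring
    have hd3 : p ∣ Cfsg.charDegree (χ₁ * χ₂) := by
      rw [charDegree_eq_of_apply_one _ _ hχ₃1]
      exact Dvd.dvd.mul_right hpb D
    have := hsub ⟨⟨χ₁ * χ₂, hχ₃⟩, hd3⟩ ⟨⟨χ₁, hχ₁⟩, hd1⟩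
    have h4 : χ₁ * χ₂ = χ₁ := congrArg (fun z => (z.1 : G → ℂ)) this
    apply hθne
    funext n
    have h5 := congrFun h4 (n : G)
    rw [Pi.mul_apply, hχ₁N n] at h5
    have h6 : χ₂ (n : G) = θ n := congrFun hres n
    rw [h6] at h5
    have hb0 : (b : ℂ) ≠ 0 := by exact_mod_cast hbpos.ne'
    exact mul_left_cancel₀ hb0 (by rw [h5, mul_one])

/-- **a unique irreducible character of degree divisible by `p`, normal `p`-complement**: there
is a unique class of size divisible by `p` -/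
theorem unique_psing_class [Finite G] (p : ℕ) [hp : Fact p.Prime] (N P : Subgroup G)
    [hN : N.Normal] (hsup : N ⊔ P = ⊤) (hP : IsPGroup p P) (hcop : (Nat.card N).Coprime p)
    (hNbot : N ≠ ⊥)
    (hone : Nat.card {χ : Cfsg.IrrCharacter G // p ∣ Cfsg.charDegree (χ : G → ℂ)} = 1) :
    Nat.card {C : ConjClasses G // p ∣ Nat.card C.carrier} = 1 := by
  classical
  haveI := Fintype.ofFinite G
  have hab := sylow_abelian_of_unique_psing p N P hsup hP hcop hNbot hone
  obtain ⟨m, hm⟩ := IsPGroup.iff_card.mp hP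
  have hcopNP : (Nat.card N).Coprime (Nat.card P) := by
    rw [hm]
    exact Nat.Coprime.pow_right m hcop
  have hsolv : Group.IsSolvable P := by
    haveI := hP.isNilpotent
    exact IsNilpotent.to_isSolvable
  have h1 := hall_degree_count N P hsup hcopNP hsolv
  have h2 := card_pprime_classes p N P hsup hP hcop hab
  -- P is nontrivial
  have hm0 : m ≠ 0 := by
    rintro rfl
    obtain ⟨⟨χ, hχd⟩⟩ := (Nat.card_eq_one_iff_unique.mp hone).2
    obtain ⟨d, hdpos, hd⟩ := irr_apply_one χ.2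
    rw [charDegree_eq_of_apply_one _ d hd] at hχd
    have hdG : d ∣ Nat.card G := irr_deg_dvd_card' χ.2 d hd
    have hinf : N ⊓ P = ⊥ := (Subgroup.disjoint_of_coprime_natCard hcopNP).eq_bot
    have hcardG : Nat.card G = Nat.card N * Nat.card P := by
      rw [← Subgroup.card_mul_index N, Subgroup.index_eq_card]
      congr 1
      exact (Nat.card_congr (complEquiv N P hsup hinf).toEquiv).symm
    rw [hcardG, hm, pow_zero, mul_one] at hdG
    have h3 := Nat.dvd_gcd (dvd_trans hχd hdG) (dvd_refl p)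
    rw [Nat.Coprime.gcd_eq_one hcop] at h3
    exact hp.out.one_lt.ne' (Nat.dvd_one.mp h3)
  -- linear characters of abelian P
  have hhom : Nat.card (P →* ℂˣ) = Nat.card P := by
    letI : CommGroup P :=
      { (inferInstance : Group P) with
        mul_comm := fun a c => Subtype.ext (hab a a.2 c c.2) }
    exact CommGroup.card_monoidHom_of_hasEnoughRootsOfUnity P ℂ
  rw [hhom] at h1
  have hiff : ∀ χ : Cfsg.IrrCharacter G,
      (Cfsg.charDegree (χ : G → ℂ)).Coprime (Nat.card P) ↔ ¬ p ∣ Cfsg.charDegree (χ : G → ℂ) := by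
    intro χ
    rw [hm]
    constructor
    · intro h hd
      have h3 := Nat.dvd_gcd hd (dvd_pow_self p hm0)
      rw [Nat.Coprime.gcd_eq_one h] at h3
      exact hp.out.one_lt.ne' (Nat.dvd_one.mp h3)
    · intro h
      exact Nat.Coprime.pow_right m ((Nat.Prime.coprime_iff_not_dvd hp.out).mpr h).symm
  rw [Nat.card_congr (Equiv.subtypeEquivRight hiff)] at h1
  have h3 : Nat.card (Cfsg.IrrCharacter ↥(N ⊓ Subgroup.centralizer (P : Set G)))
      = Nat.card (ConjClasses ↥(N ⊓ Subgroup.centralizer (P : Set G))) :=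
    card_irr_eq_card_conjClasses
  have h4 : Nat.card (Cfsg.IrrCharacter G) = Nat.card (ConjClasses G) :=
    card_irr_eq_card_conjClasses
  haveI : Finite (Cfsg.IrrCharacter G) := Nat.finite_of_card_ne_zero (by
    rw [h4]
    exact Nat.card_pos.ne')
  have h5 : Nat.card {χ : Cfsg.IrrCharacter G // p ∣ Cfsg.charDegree (χ : G → ℂ)}
      + Nat.card {χ : Cfsg.IrrCharacter G // ¬ p ∣ Cfsg.charDegree (χ : G → ℂ)}
      = Nat.card (Cfsg.IrrCharacter G) := by
    haveI := Fintype.ofFinite (Cfsg.IrrCharacter G)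
    rw [Nat.card_eq_fintype_card, Nat.card_eq_fintype_card, Nat.card_eq_fintype_card]
    have e1 := Fintype.card_subtype_compl
      (fun χ : Cfsg.IrrCharacter G => p ∣ Cfsg.charDegree (χ : G → ℂ))
    have e2 := Fintype.card_subtype_le
      (fun χ : Cfsg.IrrCharacter G => p ∣ Cfsg.charDegree (χ : G → ℂ))
    omega
  have h6 : Nat.card {C : ConjClasses G // p ∣ Nat.card C.carrier}
      + Nat.card {C : ConjClasses G // ¬ p ∣ Nat.card C.carrier}
      = Nat.card (ConjClasses G) := by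
    haveI := Fintype.ofFinite (ConjClasses G)
    rw [Nat.card_eq_fintype_card, Nat.card_eq_fintype_card, Nat.card_eq_fintype_card]
    have e1 := Fintype.card_subtype_compl
      (fun C : ConjClasses G => p ∣ Nat.card C.carrier)
    have e2 := Fintype.card_subtype_le
      (fun C : ConjClasses G => p ∣ Nat.card C.carrier)
    omega
  rw [h3] at h1
  rw [h1, hone] at h5
  rw [h2] at h6
  rw [← h4, ← h5] at h6
  have h7 : Nat.card ↥P * Nat.card (ConjClasses ↥(N ⊓ Subgroup.centralizer (P : Set G)))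
      = Nat.card (ConjClasses ↥(N ⊓ Subgroup.centralizer (P : Set G))) * Nat.card ↥P :=
    mul_comm _ _
  omega

end psing2

end Cfsg.Agent.Lib.Helper2
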