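import Mathlib
import Cfsg.Agent.Lib.Helper2.GlaubCount
import Cfsg.Agent.Lib.Helper2.CharOdd

set_option autoImplicit false

/-! Real-valued invariant characters and real invariant classes under a `p`-group of
operators. -/

namespace Cfsg.Agent.Lib.Helper2

open scoped ComplexConjugate

theorem isConj_inv_inv {H : Type*} [Group H] {a b : H} (h : IsConj a b) : IsConj a⁻¹ b⁻¹ := by
  obtain ⟨c, hc⟩ := isConj_iff.mp h
  exact isConj_iff.mpr ⟨c, by rw [← hc]; group⟩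

/-- the complex conjugate of an irreducible character is irreducible -/
theorem isIrrCharacter_conj {G : Type*} [Group G] [Finite G] {χ : G → ℂ}
    (hχ : Cfsg.IsIrrCharacter G χ) : Cfsg.IsIrrCharacter G (fun g => conj (χ g)) := by
  classical
  haveI := Fintype.ofFinite G
  have h1 := isIrrCharacter_comp_inv hχ
  have h2 : χ ∘ (fun g : G => g⁻¹) = fun g => conj (χ g) := by
    obtain ⟨n, ρ, hρ, rfl⟩ := hχ
    funext g
    exact char_inv ρ g
  rwa [h2] at h1

/-- the number of real-valued irreducible characters is the number of real classes -/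
theorem card_real_irr {H : Type*} [Group H] [Finite H] :
    Nat.card {θ : Cfsg.IrrCharacter H // ∀ h : H, ((θ : H → ℂ) h).im = 0}
      = Nat.card {c : ConjClasses H // ∀ a : H, ConjClasses.mk a = c → IsConj a a⁻¹} := by
  classical
  have := Fintype.ofFinite H
  have key := card_fixed_irr_eq_card_fixed_classes (fun g : H => g⁻¹)
    (fun χ hχ => isIrrCharacter_comp_inv hχ)
    (fun g h hgh => isConj_inv_inv hgh)
  have e1 : Nat.card {θ : Cfsg.IrrCharacter H // ∀ h : H, ((θ : H → ℂ) h).im = 0}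
      = Nat.card {χ : Cfsg.IrrCharacter H //
          (χ : H → ℂ) ∘ (fun g : H => g⁻¹) = (χ : H → ℂ)} :=
    Nat.card_congr (Equiv.subtypeEquivRight (fun θ => (irr_comp_inv_eq_iff_real θ).symm))
  have e2 : Nat.card {C : ConjClasses H // ∀ g : H, ConjClasses.mk g = C → IsConj g⁻¹ g}
      = Nat.card {c : ConjClasses H // ∀ a : H, ConjClasses.mk a = c → IsConj a a⁻¹} :=
    Nat.card_congr (Equiv.subtypeEquivRight
      (fun c => ⟨fun h a ha => (h a ha).symm, fun h a ha => (h a ha).symm⟩))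
  rw [e1, key, e2]

/-- a Glauberman-type correspondence compatible with complex conjugation matches the
real-valued invariant characters with the real-valued characters of the fixed points -/
theorem card_real_of_isGlaub {G C : Type*} [Group G] [Fintype G] [Group C] [Fintype C] (p : ℕ)
    (hp : p.Prime) (κ : C →* G) (inv : (G → ℂ) → Prop)
    (hinvconj : ∀ χ : G → ℂ, inv χ → inv (fun g => conj (χ g)))
    (h : IsGlaub p κ inv) :
    Nat.card {θ : Cfsg.IrrCharacter G // (∀ g, ((θ : G → ℂ) g).im = 0) ∧ inv (θ : G → ℂ)}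
      = Nat.card {β : Cfsg.IrrCharacter C // ∀ c, ((β : C → ℂ) c).im = 0} := by
  classical
  obtain ⟨h1, h2, h3⟩ := h
  have hconjmult : ∀ (χ : G → ℂ) (β : C → ℂ) (m : ℕ),
      Cfsg.classInner (χ ∘ κ) β = (m : ℂ) →
      Cfsg.classInner ((fun g => conj (χ g)) ∘ κ) (fun c => conj (β c)) = (m : ℂ) := by
    intro χ β m hm
    have h4 := congrArg conj hm
    rw [Complex.conj_natCast] at h4
    rw [← h4, classInner_def, classInner_def, map_mul, map_inv₀, Complex.conj_natCast, map_sum]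
    congr 1
    apply Finset.sum_congr rfl
    intro c _
    rw [map_mul]
    rfl
  have hU1 : ∀ (χ : G → ℂ), Cfsg.IsIrrCharacter G χ → inv χ →
      ∀ (β β' : Cfsg.IrrCharacter C) (m m' : ℕ),
      Cfsg.classInner (χ ∘ κ) β = (m : ℂ) → ¬ p ∣ m →
      Cfsg.classInner (χ ∘ κ) β' = (m' : ℂ) → ¬ p ∣ m' → β = β' := by
    intro χ hχ hinv β β' m m' hm hpm hm' hpm'
    obtain ⟨β₀, -, hoth⟩ := h1 χ hχ hinv
    have e1 : β = β₀ := by
      by_contra hne
      obtain ⟨m₁, hm₁, hp₁⟩ := hoth β hne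
      rw [hm] at hm₁
      have h5 : m = m₁ := by exact_mod_cast hm₁
      exact hpm (h5 ▸ hp₁)
    have e2 : β' = β₀ := by
      by_contra hne
      obtain ⟨m₁, hm₁, hp₁⟩ := hoth β' hne
      rw [hm'] at hm₁
      have h5 : m' = m₁ := by exact_mod_cast hm₁
      exact hpm' (h5 ▸ hp₁)
    rw [e1, e2]
  have hex : ∀ θ : {θ : Cfsg.IrrCharacter G //
      (∀ g, ((θ : G → ℂ) g).im = 0) ∧ inv (θ : G → ℂ)},
      ∃ β : {β : Cfsg.IrrCharacter C // ∀ c, ((β : C → ℂ) c).im = 0},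
        ∃ m : ℕ, Cfsg.classInner ((θ.1 : G → ℂ) ∘ κ) (β.1 : C → ℂ) = (m : ℂ) ∧ ¬ p ∣ m := by
    rintro ⟨θ, hreal, hinv⟩
    obtain ⟨β₀, ⟨m, hm, hmod⟩, hoth⟩ := h1 θ θ.2 hinv
    have hpm : ¬ p ∣ m := not_dvd_of_pm_one p hp m hmod
    have hθconj : (fun g => conj ((θ : G → ℂ) g)) = (θ : G → ℂ) := by
      funext g
      exact Complex.conj_eq_iff_im.mpr (hreal g)
    have h4 := hconjmult θ β₀ m hm
    rw [hθconj] at h4
    have h5 : (⟨fun c => conj ((β₀ : C → ℂ) c), isIrrCharacter_conj β₀.2⟩ :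
        Cfsg.IrrCharacter C) = β₀ :=
      hU1 θ θ.2 hinv _ _ m m h4 hpm hm hpm
    refine ⟨⟨β₀, fun c => ?_⟩, m, hm, hpm⟩
    have h6 := congrArg (fun β : Cfsg.IrrCharacter C => (β : C → ℂ) c) h5
    exact Complex.conj_eq_iff_im.mp h6
  choose f hf using hex
  apply Nat.card_eq_of_bijective f
  constructor
  · intro θ₁ θ₂ h12
    obtain ⟨m₁, hm₁, hp₁⟩ := hf θ₁
    obtain ⟨m₂, hm₂, hp₂⟩ := hf θ₂
    rw [h12] at hm₁
    have h4 := h2 θ₁.1 θ₂.1 θ₁.1.2 θ₂.1.2 θ₁.2.2 θ₂.2.2 (f θ₂).1 m₁ m₂ hm₁ hp₁ hm₂ hp₂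
    exact Subtype.ext (Subtype.ext h4)
  · rintro ⟨β, hβreal⟩
    obtain ⟨χ, hχ, hinv, m, hm, hpm⟩ := h3 β
    have hβconj : (fun c => conj ((β : C → ℂ) c)) = (β : C → ℂ) := by
      funext c
      exact Complex.conj_eq_iff_im.mpr (hβreal c)
    have h4 := hconjmult χ β m hm
    rw [hβconj] at h4
    have h5 := h2 χ (fun g => conj (χ g)) hχ (isIrrCharacter_conj hχ) hinv (hinvconj χ hinv)
      β m m hm hpm h4 hpm
    have hχreal : ∀ g, (χ g).im = 0 := by
      intro g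
      have h6 := congrFun h5 g
      exact Complex.conj_eq_iff_im.mp h6.symm
    refine ⟨⟨⟨χ, hχ⟩, hχreal, hinv⟩, ?_⟩
    obtain ⟨m', hm', hpm'⟩ := hf ⟨⟨χ, hχ⟩, hχreal, hinv⟩
    apply Subtype.ext
    exact hU1 χ hχ hinv _ _ m' m hm' hpm' hm hpm

/-- the real classes of the fixed points correspond to the real invariant classes -/
theorem card_real_cl {Γ : Type*} [Group Γ] [Finite Γ] (p : ℕ) [hp : Fact p.Prime] (k : ℕ)
    (K P C : Subgroup Γ) (hnormP : ∀ s ∈ P, ∀ g ∈ K, s * g * s⁻¹ ∈ K)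
    (hrel : (P ⊓ Subgroup.centralizer (K : Set Γ)).relIndex P = p ^ k)
    (hcop : ¬ p ∣ Nat.card K) (hC : C = K ⊓ Subgroup.centralizer (P : Set Γ)) (hCK : C ≤ K) :
    Nat.card {c' : ConjClasses C // ∀ a : C, ConjClasses.mk a = c' → IsConj a a⁻¹}
      = Nat.card {c : ConjClasses K // (∀ a : K, ConjClasses.mk a = c → IsConj a a⁻¹) ∧
          ∀ a : K, ConjClasses.mk a = c → ∀ x ∈ P, ∀ a' : K,
            (a' : Γ) = x * (a : Γ) * x⁻¹ → ConjClasses.mk a' = c} := by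
  classical
  have hcent : ∀ a : C, ∀ x ∈ P, x * (a : Γ) * x⁻¹ = (a : Γ) := by
    intro a x hx
    have ha : (a : Γ) ∈ K ⊓ Subgroup.centralizer (P : Set Γ) := by
      rw [← hC]
      exact a.2
    have h1 := (Subgroup.mem_centralizer_iff.mp ha.2) x hx
    rw [h1]
    group
  have hwell : ∀ c' : {c' : ConjClasses C // ∀ a : C, ConjClasses.mk a = c' → IsConj a a⁻¹},
      (∀ a : K, ConjClasses.mk a = ConjClasses.map (Subgroup.inclusion hCK) c'.1 →
        IsConj a a⁻¹) ∧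
      ∀ a : K, ConjClasses.mk a = ConjClasses.map (Subgroup.inclusion hCK) c'.1 → ∀ x ∈ P,
        ∀ a' : K, (a' : Γ) = x * (a : Γ) * x⁻¹ →
          ConjClasses.mk a' = ConjClasses.map (Subgroup.inclusion hCK) c'.1 := by
    rintro ⟨c', hc'⟩
    obtain ⟨c₀, rfl⟩ := ConjClasses.exists_rep c'
    have hreal₀ : IsConj c₀ c₀⁻¹ := hc' c₀ rfl
    have hrealK : IsConj (Subgroup.inclusion hCK c₀) (Subgroup.inclusion hCK c₀)⁻¹ := by
      have h2 := (Subgroup.inclusion hCK).map_isConj hreal₀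
      rwa [map_inv] at h2
    constructor
    · intro a ha
      have h1 : IsConj a (Subgroup.inclusion hCK c₀) := ConjClasses.mk_eq_mk_iff_isConj.mp ha
      exact h1.trans (hrealK.trans (isConj_inv_inv h1).symm)
    · intro a ha x hx a' ha'
      have h1 : IsConj a (Subgroup.inclusion hCK c₀) := ConjClasses.mk_eq_mk_iff_isConj.mp ha
      show ConjClasses.mk a' = ConjClasses.mk (Subgroup.inclusion hCK c₀)
      rw [ConjClasses.mk_eq_mk_iff_isConj]
      obtain ⟨y, hy⟩ := isConj_iff.mp h1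
      rw [isConj_iff]
      refine ⟨⟨x * y * x⁻¹, hnormP x hx y y.2⟩, ?_⟩
      apply Subtype.ext
      simp only [Subgroup.coe_mul, Subgroup.coe_inv, Subgroup.coe_inclusion]
      rw [ha']
      have hy' : (y : Γ) * a * (y : Γ)⁻¹ = (c₀ : Γ) := by
        have h2 := congrArg Subtype.val hy
        simpa using h2
      calc x * (y : Γ) * x⁻¹ * (x * (a : Γ) * x⁻¹) * (x * (y : Γ) * x⁻¹)⁻¹
          = x * ((y : Γ) * (a : Γ) * (y : Γ)⁻¹) * x⁻¹ := by group
        _ = x * (c₀ : Γ) * x⁻¹ := by rw [hy']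
        _ = (c₀ : Γ) := hcent c₀ x hx
  apply Nat.card_eq_of_bijective
    (fun c' => ⟨ConjClasses.map (Subgroup.inclusion hCK) c'.1, hwell c'⟩)
  constructor
  · rintro ⟨c₁, h₁⟩ ⟨c₂, h₂⟩ h12
    have h3 : ConjClasses.map (Subgroup.inclusion hCK) c₁
        = ConjClasses.map (Subgroup.inclusion hCK) c₂ := congrArg Subtype.val h12
    obtain ⟨a, rfl⟩ := ConjClasses.exists_rep c₁
    obtain ⟨b, rfl⟩ := ConjClasses.exists_rep c₂
    apply Subtype.ext
    show ConjClasses.mk a = ConjClasses.mk b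
    rw [ConjClasses.mk_eq_mk_iff_isConj]
    have h4 : IsConj (Subgroup.inclusion hCK a) (Subgroup.inclusion hCK b) :=
      ConjClasses.mk_eq_mk_iff_isConj.mp h3
    obtain ⟨y, hyC, hy⟩ := cl_fixed_conj p k K P C hnormP hrel hcop hC
      (Subgroup.inclusion hCK a) (Subgroup.inclusion hCK b) a.2 b.2 h4
    rw [isConj_iff]
    refine ⟨⟨(y : Γ), hyC⟩, ?_⟩
    apply Subtype.ext
    have h5 := congrArg Subtype.val hy
    simpa using h5
  · rintro ⟨c, hreal, hPinv⟩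
    obtain ⟨k₀, rfl⟩ := ConjClasses.exists_rep c
    have hk₀real : IsConj k₀ k₀⁻¹ := hreal k₀ rfl
    obtain ⟨c₀, hc₀C, hc₀⟩ := cl_exists_fixed p k K P C hnormP hrel hcop hC k₀ (by
      intro x hx
      have h2 := hPinv k₀ rfl x hx ⟨x * k₀ * x⁻¹, hnormP x hx k₀ k₀.2⟩ rfl
      exact ConjClasses.mk_eq_mk_iff_isConj.mp h2)
    have hc₀real : IsConj c₀ c₀⁻¹ := hc₀.trans (hk₀real.trans (isConj_inv_inv hc₀).symm)
    obtain ⟨y, hyC, hy⟩ := cl_fixed_conj p k K P C hnormP hrel hcop hC c₀ c₀⁻¹ hc₀C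
      (C.inv_mem hc₀C) hc₀real
    have hrealC : IsConj (⟨(c₀ : Γ), hc₀C⟩ : C) (⟨(c₀ : Γ), hc₀C⟩ : C)⁻¹ := by
      rw [isConj_iff]
      refine ⟨⟨(y : Γ), hyC⟩, ?_⟩
      apply Subtype.ext
      have h5 := congrArg Subtype.val hy
      simpa using h5
    refine ⟨⟨ConjClasses.mk ⟨(c₀ : Γ), hc₀C⟩, ?_⟩, ?_⟩
    · intro a ha
      have h1 : IsConj a ⟨(c₀ : Γ), hc₀C⟩ := ConjClasses.mk_eq_mk_iff_isConj.mp ha
      exact h1.trans (hrealC.trans (isConj_inv_inv h1).symm)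
    · apply Subtype.ext
      show ConjClasses.mk (Subgroup.inclusion hCK ⟨(c₀ : Γ), hc₀C⟩) = ConjClasses.mk k₀
      rw [ConjClasses.mk_eq_mk_iff_isConj]
      have h6 : Subgroup.inclusion hCK ⟨(c₀ : Γ), hc₀C⟩ = c₀ := Subtype.ext rfl
      rw [h6]
      exact hc₀

end Cfsg.Agent.Lib.Helper2
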