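import Mathlib
import Cfsg.Prelude
import Cfsg.Agent.Lib.Helper2.CharOrtho
import Cfsg.Agent.Lib.Helper2.CharIntegral
import Cfsg.Agent.Lib.Helper2.CharCenter
import Cfsg.Agent.Lib.Helper2.AbSylow
import Cfsg.Agent.Lib.Helper2.CharLinear
import Cfsg.Agent.Lib.Helper2.GoingDown

set_option autoImplicit false

namespace Cfsg.Agent.Lib.Helper2

open Representation Module

open scoped ComplexConjugate

section special

variable {G : Type*} [Group G]

/-- special elements relative to a subgroup `N`: commuting with `g` modulo `N` forces commuting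
with `g` -/
def IsSp (N : Subgroup G) (g : G) : Prop := ∀ x : G, x⁻¹ * g⁻¹ * x * g ∈ N → x * g = g * x

theorem IsSp.conj {N : Subgroup G} [hN : N.Normal] {g : G} (h : IsSp N g) (y : G) :
    IsSp N (y * g * y⁻¹) := by
  intro x hx
  have e1 : x⁻¹ * (y * g * y⁻¹)⁻¹ * x * (y * g * y⁻¹)
      = y * ((y⁻¹ * x * y)⁻¹ * g⁻¹ * (y⁻¹ * x * y) * g) * y⁻¹ := by group
  rw [e1] at hx
  have h2 : (y⁻¹ * x * y)⁻¹ * g⁻¹ * (y⁻¹ * x * y) * g ∈ N := by
    have h := hN.conj_mem _ hx y⁻¹
    convert h using 1
    group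
  have h3 := h _ h2
  calc x * (y * g * y⁻¹) = y * ((y⁻¹ * x * y) * g) * y⁻¹ := by group
    _ = y * (g * (y⁻¹ * x * y)) * y⁻¹ := by rw [h3]
    _ = y * g * y⁻¹ * x := by group

theorem IsSp.mul_central {N : Subgroup G} (hN : N ≤ Subgroup.center G) {g : G} (h : IsSp N g)
    {n : G} (hn : n ∈ N) : IsSp N (g * n) := by
  have hc : ∀ a : G, a * n = n * a := fun a => Subgroup.mem_center_iff.mp (hN hn) a
  intro x hx
  have h1 : n⁻¹ * x * n = x := by
    rw [mul_assoc, hc x, ← mul_assoc, inv_mul_cancel, one_mul]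
  have e1 : x⁻¹ * (g * n)⁻¹ * x * (g * n) = x⁻¹ * g⁻¹ * x * g := by
    rw [hc g]
    calc x⁻¹ * (n * g)⁻¹ * x * (n * g) = x⁻¹ * g⁻¹ * (n⁻¹ * x * n) * g := by group
      _ = x⁻¹ * g⁻¹ * x * g := by rw [h1]
  rw [e1] at hx
  have h3 := h x hx
  calc x * (g * n) = x * g * n := by group
    _ = g * x * n := by rw [h3]
    _ = g * (x * n) := by group
    _ = g * (n * x) := by rw [hc x]
    _ = g * n * x := by group

theorem IsSp.of_isConj_mk {N : Subgroup G} [hN : N.Normal] (hNc : N ≤ Subgroup.center G)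
    {g g' : G} (hc : IsConj (QuotientGroup.mk g : G ⧸ N) (QuotientGroup.mk g'))
    (h : IsSp N g) : IsSp N g' := by
  obtain ⟨c, hc⟩ := isConj_iff.mp hc
  obtain ⟨y, rfl⟩ := QuotientGroup.mk_surjective c
  have h1 : (QuotientGroup.mk (y * g * y⁻¹) : G ⧸ N) = QuotientGroup.mk g' := by
    rw [← hc]
    simp
  have h2 : (y * g * y⁻¹)⁻¹ * g' ∈ N := QuotientGroup.eq.mp h1
  have h3 := (h.conj y).mul_central hNc h2
  have e : y * g * y⁻¹ * ((y * g * y⁻¹)⁻¹ * g') = g' := by group
  rwa [e] at h3

variable [Fintype G]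

/-- twisting an irreducible character by a central subgroup and averaging against a character of
that subgroup -/
theorem central_twist_sum (N : Subgroup G) [Fintype N] (hN : N ≤ Subgroup.center G) {χ : G → ℂ}
    (hχ : Cfsg.IsIrrCharacter G χ) {ψ : N → ℂ} (hψ : Cfsg.IsIrrCharacter N ψ) (g : G) :
    ∑ n : N, χ (g * n) * conj (ψ n)
      = if Cfsg.classInner (fun n : N => χ n) ψ ≠ 0 then (Nat.card N : ℂ) * χ g else 0 := by
  classical
  have hχchar := isCharacter_of_isIrrCharacter hχ
  obtain ⟨m, ρ, hρ, rfl⟩ := hχ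
  have := hρ
  have hm : 0 < finrank ℂ (Fin m → ℂ) := irr_finrank_pos ρ
  have hsc : ∀ n : N, ∃ c : ℂ, ρ n = c • (LinearMap.id : (Fin m → ℂ) →ₗ[ℂ] (Fin m → ℂ)) := by
    intro n
    apply schur_scalar ρ
    intro a
    have h1 : (n : G) * a = a * n := (Subgroup.mem_center_iff.mp (hN n.2) a).symm
    rw [← Module.End.mul_eq_comp, ← Module.End.mul_eq_comp, ← map_mul, ← map_mul, h1]
  choose c hc using hsc
  have hval : ∀ (a : G) (n : N), ρ.character (a * n) = c n * ρ.character a := by
    intro a n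
    unfold Representation.character
    rw [map_mul, hc n, Module.End.mul_eq_comp, LinearMap.comp_smul, LinearMap.comp_id, map_smul,
      smul_eq_mul]
  have hval1 : ∀ n : N, ρ.character (n : G) = c n * (finrank ℂ (Fin m → ℂ) : ℂ) := by
    intro n
    have h2 := hval 1 n
    rwa [one_mul, Representation.char_one] at h2
  have hnorm : ∀ n : N, ‖c n‖ = 1 := by
    intro n
    have h1 := (norm_char_eq_iff ρ (n : G)).mpr ⟨c n, hc n⟩
    rw [hval1, norm_mul, Complex.norm_natCast] at h1
    have hpos : (0 : ℝ) < (finrank ℂ (Fin m → ℂ) : ℝ) := by exact_mod_cast hm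
    exact mul_right_cancel₀ hpos.ne' (h1.trans (one_mul _).symm)
  have hsum : ∑ n : N, ρ.character (g * n) * conj (ψ n)
      = ρ.character g * ∑ n : N, c n * conj (ψ n) := by
    rw [Finset.mul_sum]
    apply Finset.sum_congr rfl
    intro n _
    rw [hval]
    ring
  have hinner : Cfsg.classInner (fun n : N => ρ.character n) ψ
      = (Nat.card N : ℂ)⁻¹ * ((finrank ℂ (Fin m → ℂ) : ℂ) * ∑ n : N, c n * conj (ψ n)) := by
    unfold Cfsg.classInner
    congr 1
    rw [Finset.mul_sum]
    apply Finset.sum_congr rfl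
    intro n _
    show ρ.character (n : G) * conj (ψ n) = _
    rw [hval1]
    ring
  rw [hsum]
  have hne : (Nat.card N : ℂ) ≠ 0 := card_ne_zero_complex N
  split_ifs with hcon
  · have hψ1 : ψ 1 = 1 := by
      have : IsMulCommutative N := ⟨⟨fun a b => Subtype.ext
        (Subgroup.mem_center_iff.mp (hN b.2) a)⟩⟩
      obtain ⟨k, σ, hσ, hσc⟩ := hψ
      have h1 := Representation.IsIrreducible.finrank_eq_one_of_isMulCommutative σ
      rw [← hσc, Representation.char_one, h1]
      simp
    have hψc : ∀ n : N, ψ n = c n := by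
      intro n
      have hΘ : Cfsg.IsCharacter N (fun n : N => ρ.character n) := IsCharacter.restrict hχchar N
      have h1 := constituent_apply_scalar hΘ hψ hcon (c := n) (w := c n) (hnorm n) (by
        show ρ.character (n : G) = c n * ρ.character ((1 : N) : G)
        rw [hval1, Subgroup.coe_one, Representation.char_one])
      rw [h1, hψ1, mul_one]
    have h3 : ∑ n : N, c n * conj (ψ n) = (Nat.card N : ℂ) := by
      have h4 := classInner_irr_self hψ
      unfold Cfsg.classInner at h4
      have h5 : ∑ n : N, ψ n * conj (ψ n) = (Nat.card N : ℂ) := by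
        field_simp at h4
        exact h4
      rw [← h5]
      exact Finset.sum_congr rfl (fun n _ => by rw [hψc n])
    rw [h3]
    ring
  · push Not at hcon
    rw [hinner] at hcon
    have hd : (finrank ℂ (Fin m → ℂ) : ℂ) ≠ 0 := by exact_mod_cast hm.ne'
    have h3 : ∑ n : N, c n * conj (ψ n) = 0 := by
      rcases mul_eq_zero.mp hcon with h | h
      · exact absurd (inv_eq_zero.mp h) hne
      · rcases mul_eq_zero.mp h with h | h
        · exact absurd h hd
        · exact h
    rw [h3, mul_zero]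

/-- column orthogonality restricted to the characters over a character of a central subgroup -/
theorem sum_over_central (N : Subgroup G) [Fintype N] (hN : N ≤ Subgroup.center G) {ψ : N → ℂ}
    (hψ : Cfsg.IsIrrCharacter N ψ) [Fintype (Cfsg.IrrCharacter G)] (g h : G) :
    ∑ χ : Cfsg.IrrCharacter G,
        (if Cfsg.classInner (fun n : N => (χ : G → ℂ) n) ψ ≠ 0
          then (χ : G → ℂ) g * conj ((χ : G → ℂ) h) else 0)
      = (Nat.card N : ℂ)⁻¹ * ∑ n : N, conj (ψ n) * colFun h (g * n) := by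
  classical
  have hne : (Nat.card N : ℂ) ≠ 0 := card_ne_zero_complex N
  have h1 : ∑ n : N, conj (ψ n) * colFun h (g * n)
      = ∑ χ : Cfsg.IrrCharacter G,
          conj ((χ : G → ℂ) h) * ∑ n : N, (χ : G → ℂ) (g * n) * conj (ψ n) := by
    simp_rw [← column_orthogonality, Finset.mul_sum]
    rw [Finset.sum_comm]
    apply Finset.sum_congr rfl
    intro χ _
    apply Finset.sum_congr rfl
    intro n _
    ring
  rw [h1, Finset.mul_sum]
  apply Finset.sum_congr rfl
  intro χ _
  rw [central_twist_sum N hN χ.2 hψ g]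
  split_ifs with hc
  · field_simp
  · simp

/-- the preimage in `G` of the centralizer of the image of `g` in `G ⧸ N` -/
def centMod (N : Subgroup G) [N.Normal] (g : G) : Subgroup G :=
  (Subgroup.centralizer {(QuotientGroup.mk g : G ⧸ N)}).comap (QuotientGroup.mk' N)

theorem mem_centMod (N : Subgroup G) [N.Normal] (g x : G) :
    x ∈ centMod N g ↔ g⁻¹ * x⁻¹ * g * x ∈ N := by
  unfold centMod
  rw [Subgroup.mem_comap, Subgroup.mem_centralizer_singleton_iff]
  show (QuotientGroup.mk x : G ⧸ N) * QuotientGroup.mk g = QuotientGroup.mk g * QuotientGroup.mk x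
    ↔ _
  rw [← QuotientGroup.mk_mul, ← QuotientGroup.mk_mul, QuotientGroup.eq]
  have e : (x * g)⁻¹ * (g * x) = g⁻¹ * x⁻¹ * g * x := by group
  rw [e]

/-- the commutator homomorphism from `centMod N g` to the central subgroup `N` -/
def commHom (N : Subgroup G) [N.Normal] (hN : N ≤ Subgroup.center G) (g : G) :
    centMod N g →* N where
  toFun x := ⟨g⁻¹ * (x : G)⁻¹ * g * x, (mem_centMod N g x).mp x.2⟩
  map_one' := by
    apply Subtype.ext
    simp
  map_mul' := by
    intro x y
    apply Subtype.ext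
    show g⁻¹ * ((x : G) * (y : G))⁻¹ * g * ((x : G) * (y : G))
      = (g⁻¹ * (x : G)⁻¹ * g * x) * (g⁻¹ * (y : G)⁻¹ * g * y)
    have hcen : ∀ a : G, a * (g⁻¹ * (x : G)⁻¹ * g * x) = (g⁻¹ * (x : G)⁻¹ * g * x) * a :=
      fun a => Subgroup.mem_center_iff.mp (hN ((mem_centMod N g x).mp x.2)) a
    calc g⁻¹ * ((x : G) * (y : G))⁻¹ * g * ((x : G) * (y : G))
        = g⁻¹ * (y : G)⁻¹ * g * ((g⁻¹ * (x : G)⁻¹ * g * x) * y) := by group
      _ = g⁻¹ * (y : G)⁻¹ * g * ((y : G) * (g⁻¹ * (x : G)⁻¹ * g * x)) := by rw [hcen]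
      _ = (g⁻¹ * (y : G)⁻¹ * g * y) * (g⁻¹ * (x : G)⁻¹ * g * x) := by group
      _ = (g⁻¹ * (x : G)⁻¹ * g * x) * (g⁻¹ * (y : G)⁻¹ * g * y) := hcen _

theorem commHom_coe (N : Subgroup G) [N.Normal] (hN : N ≤ Subgroup.center G) (g : G)
    (x : centMod N g) : ((commHom N hN g x : N) : G) = g⁻¹ * (x : G)⁻¹ * g * x := rfl

theorem isSp_iff_commHom (N : Subgroup G) [N.Normal] (hN : N ≤ Subgroup.center G) (g : G) :
    IsSp N g ↔ ∀ x : centMod N g, commHom N hN g x = 1 := by
  constructor
  · intro h x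
    apply Subtype.ext
    rw [commHom_coe, Subgroup.coe_one]
    have h1 : (x : G)⁻¹ * g⁻¹ * x * g ∈ N := by
      have h2 := N.inv_mem ((mem_centMod N g x).mp x.2)
      have e : (g⁻¹ * (x : G)⁻¹ * g * x)⁻¹ = (x : G)⁻¹ * g⁻¹ * x * g := by group
      rwa [e] at h2
    have h3 := h x h1
    calc g⁻¹ * (x : G)⁻¹ * g * x = g⁻¹ * (x : G)⁻¹ * (g * x) := by group
      _ = g⁻¹ * (x : G)⁻¹ * (x * g) := by rw [h3]
      _ = 1 := by group
  · intro h x hx
    have h1 : g⁻¹ * x⁻¹ * g * x ∈ N := by
      have h2 := N.inv_mem hx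
      have e : (x⁻¹ * g⁻¹ * x * g)⁻¹ = g⁻¹ * x⁻¹ * g * x := by group
      rwa [e] at h2
    have h3 := congrArg Subtype.val (h ⟨x, (mem_centMod N g x).mpr h1⟩)
    rw [commHom_coe, Subgroup.coe_one] at h3
    calc x * g = g * x * (g⁻¹ * x⁻¹ * g * x)⁻¹ := by group
      _ = g * x := by rw [h3, inv_one, mul_one]

/-- the twisted column sum at `g` -/
theorem sum_twist_colFun (N : Subgroup G) [N.Normal] [Fintype N] (hN : N ≤ Subgroup.center G)
    (lam : N →* ℂˣ) (hfaith : ∀ n : N, lam n = 1 → n = 1) (g : G) [Decidable (IsSp N g)] :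
    ∑ n : N, conj ((lam n : ℂ)) * colFun g (g * n)
      = if IsSp N g then (Nat.card (centMod N g) : ℂ) else 0 := by
  classical
  have := Fintype.ofFinite (centMod N g)
  -- swap the sums
  have h1 : ∑ n : N, conj ((lam n : ℂ)) * colFun g (g * n)
      = ∑ x : G, ∑ n : N, conj ((lam n : ℂ)) * (if x * (g * n) * x⁻¹ = g then 1 else 0) := by
    unfold colFun
    simp_rw [Finset.mul_sum]
    exact Finset.sum_comm
  have h2 : ∀ x : G, ∑ n : N, conj ((lam n : ℂ)) * (if x * (g * n) * x⁻¹ = g then (1 : ℂ) else 0)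
      = if hx : x ∈ centMod N g then conj ((lam (commHom N hN g ⟨x, hx⟩) : ℂ)) else 0 := by
    intro x
    have hcond : ∀ n : N, x * (g * n) * x⁻¹ = g ↔ (n : G) = g⁻¹ * x⁻¹ * g * x := by
      intro n
      constructor
      · intro h
        calc (n : G) = g⁻¹ * x⁻¹ * (x * (g * n) * x⁻¹) * x := by group
          _ = g⁻¹ * x⁻¹ * g * x := by rw [h]
      · intro h
        rw [h]
        group
    split_ifs with hx
    · rw [Finset.sum_eq_single (commHom N hN g ⟨x, hx⟩)]
      · rw [if_pos ((hcond _).mpr (commHom_coe N hN g ⟨x, hx⟩)), mul_one]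
      · intro n _ hn
        rw [if_neg, mul_zero]
        intro h
        apply hn
        apply Subtype.ext
        rw [(hcond n).mp h, commHom_coe]
      · intro h
        exact absurd (Finset.mem_univ _) h
    · apply Finset.sum_eq_zero
      intro n _
      rw [if_neg, mul_zero]
      intro h
      apply hx
      rw [mem_centMod, ← (hcond n).mp h]
      exact n.2
  rw [h1, Finset.sum_congr rfl (fun x _ => h2 x)]
  -- a sum over the subgroup
  let F : G → ℂ := fun x =>
    if hx : x ∈ centMod N g then conj ((lam (commHom N hN g ⟨x, hx⟩) : ℂ)) else 0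
  have h3 : ∑ x : G, F x = ∑ x : centMod N g, F x := by
    rw [sum_subgroup_eq_filter (centMod N g) F, Finset.sum_filter]
    apply Finset.sum_congr rfl
    intro x _
    split_ifs with hx
    · rfl
    · exact dif_neg hx
  have h4 : ∀ x : centMod N g, F x = conj ((lam (commHom N hN g x) : ℂ)) := by
    intro x
    exact dif_pos x.2
  show ∑ x : G, F x = _
  rw [h3, Finset.sum_congr rfl (fun x _ => h4 x), ← map_sum]
  let φ : centMod N g →* ℂ := (Units.coeHom ℂ).comp (lam.comp (commHom N hN g))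
  have hφ : ∀ x : centMod N g, φ x = (lam (commHom N hN g x) : ℂ) := fun x => rfl
  have h5 : ∑ x : centMod N g, (lam (commHom N hN g x) : ℂ) = ∑ x : centMod N g, φ x := rfl
  rw [h5]
  split_ifs with hsp
  · have h6 : ∀ x : centMod N g, φ x = 1 := by
      intro x
      rw [hφ, (isSp_iff_commHom N hN g).mp hsp x, map_one]
      rfl
    rw [Finset.sum_congr rfl (fun x _ => h6 x), Finset.sum_const, Finset.card_univ,
      nsmul_eq_mul, mul_one, Nat.card_eq_fintype_card]
    simp
  · have hne : φ ≠ 1 := by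
      intro h1'
      apply hsp
      rw [isSp_iff_commHom N hN g]
      intro x
      apply hfaith
      have h7 : φ x = 1 := by rw [h1']; rfl
      rw [hφ] at h7
      exact Units.ext h7
    rw [sum_hom_units_eq_zero φ hne, map_zero]

end special

section count

variable {G : Type*} [Group G] [Fintype G]

/-- the sum over the special elements of the orders of their centralizers modulo `N` -/
theorem sum_sp_card (N : Subgroup G) [hNn : N.Normal] [Fintype N] (hN : N ≤ Subgroup.center G)
    [DecidablePred (IsSp N)] :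
    ∑ g : G, (if IsSp N g then (Nat.card (centMod N g) : ℂ) else 0)
      = (Nat.card N : ℂ) * (Nat.card G : ℂ) *
        (Nat.card {C : ConjClasses (G ⧸ N) // IsSp N (Quotient.out (Quotient.out C))} : ℂ) := by
  classical
  have := Fintype.ofFinite (G ⧸ N)
  have := Fintype.ofFinite (ConjClasses (G ⧸ N))
  let FQ : G ⧸ N → ℂ := fun q =>
    if IsSp N (Quotient.out q) then
      (Nat.card G : ℂ) * ((Subgroup.centralizer ({q} : Set (G ⧸ N))).index : ℂ)⁻¹ else 0
  have hFQ : ∀ q : G ⧸ N, FQ q = if IsSp N (Quotient.out q) then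
      (Nat.card G : ℂ) * ((Subgroup.centralizer ({q} : Set (G ⧸ N))).index : ℂ)⁻¹ else 0 :=
    fun q => rfl
  have hout : ∀ q : G ⧸ N, (QuotientGroup.mk (Quotient.out q) : G ⧸ N) = q :=
    fun q => QuotientGroup.out_eq' q
  have hsp : ∀ (g : G) (q : G ⧸ N), IsConj (QuotientGroup.mk g : G ⧸ N) q →
      (IsSp N g ↔ IsSp N (Quotient.out q)) := by
    intro g q hc
    constructor
    · intro h
      exact h.of_isConj_mk hN (by rw [hout]; exact hc)
    · intro h
      exact h.of_isConj_mk hN (by rw [hout]; exact hc.symm)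
  have hidx0 : ∀ q : G ⧸ N, ((Subgroup.centralizer ({q} : Set (G ⧸ N))).index : ℂ) ≠ 0 := by
    intro q
    have h : (Subgroup.centralizer ({q} : Set (G ⧸ N))).index ≠ 0 :=
      Subgroup.index_ne_zero_of_finite
    exact_mod_cast h
  have hi : ∀ g : G, (if IsSp N g then (Nat.card (centMod N g) : ℂ) else 0)
      = FQ (QuotientGroup.mk g) := by
    intro g
    rw [hFQ]
    have h1 := hsp g (QuotientGroup.mk g) (IsConj.refl _)
    by_cases hg : IsSp N g
    · rw [if_pos hg, if_pos (h1.mp hg)]
      have h2 : (centMod N g).index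
          = (Subgroup.centralizer {(QuotientGroup.mk g : G ⧸ N)}).index :=
        Subgroup.index_comap_of_surjective _ (QuotientGroup.mk'_surjective N)
      have h3 := Subgroup.card_mul_index (centMod N g)
      rw [h2] at h3
      have h4 := hidx0 (QuotientGroup.mk g)
      rw [← h3]
      push_cast
      field_simp
    · rw [if_neg hg, if_neg (fun h => hg (h1.mpr h))]
  rw [Finset.sum_congr rfl (fun g _ => hi g)]
  have hii : ∑ g : G, FQ (QuotientGroup.mk g) = (Nat.card N : ℂ) * ∑ q : G ⧸ N, FQ q := by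
    rw [← (quotProdEquiv N).sum_comp, Fintype.sum_prod_type, Finset.mul_sum]
    apply Finset.sum_congr rfl
    intro q _
    have h1 : ∀ n : N, FQ (QuotientGroup.mk (quotProdEquiv N (q, n))) = FQ q := by
      intro n
      rw [quotProdEquiv_apply, QuotientGroup.mk_mul_of_mem _ n.2, hout]
    rw [Finset.sum_congr rfl (fun n _ => h1 n), Finset.sum_const, Finset.card_univ,
      nsmul_eq_mul, Nat.card_eq_fintype_card]
  rw [hii]
  have hidx : ∀ q y : G ⧸ N, (Subgroup.centralizer ({y * q * y⁻¹} : Set (G ⧸ N))).index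
      = (Subgroup.centralizer ({q} : Set (G ⧸ N))).index := by
    intro q y
    rw [← card_isConj_eq_index, ← card_isConj_eq_index]
    congr 1
    ext z
    simp only [Finset.mem_filter, Finset.mem_univ, true_and]
    have hc : IsConj q (y * q * y⁻¹) := isConj_iff.mpr ⟨y, rfl⟩
    exact ⟨fun h => hc.trans h, fun h => hc.symm.trans h⟩
  have hcf : Cfsg.IsClassFunction (G ⧸ N) FQ := by
    intro q y
    rw [hFQ, hFQ]
    have hc : IsConj q (y * q * y⁻¹) := isConj_iff.mpr ⟨y, rfl⟩
    have h1 : IsSp N (Quotient.out q) ↔ IsSp N (Quotient.out (y * q * y⁻¹)) :=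
      hsp (Quotient.out q) (y * q * y⁻¹) (by rw [hout]; exact hc)
    rw [hidx]
    by_cases h : IsSp N (Quotient.out q)
    · rw [if_pos h, if_pos (h1.mp h)]
    · rw [if_neg h, if_neg (fun h' => h (h1.mpr h'))]
  rw [sum_eq_sum_classes FQ hcf]
  have hiv : ∀ C : ConjClasses (G ⧸ N),
      ((Subgroup.centralizer ({Quotient.out C} : Set (G ⧸ N))).index : ℂ) * FQ (Quotient.out C)
        = if IsSp N (Quotient.out (Quotient.out C)) then (Nat.card G : ℂ) else 0 := by
    intro C
    rw [hFQ]
    have h4 := hidx0 (Quotient.out C)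
    split_ifs with h
    · field_simp
    · simp
  rw [Finset.sum_congr rfl (fun C _ => hiv C), ← Finset.sum_filter, Finset.sum_const,
    nsmul_eq_mul,
    Nat.card_eq_fintype_card
      (α := {C : ConjClasses (G ⧸ N) // IsSp N (Quotient.out (Quotient.out C))}),
    Fintype.card_subtype]
  ring

/-- the number of irreducible characters over a faithful character of a central subgroup is the
number of special classes of the quotient -/
theorem card_over_central (N : Subgroup G) [N.Normal] [Fintype N] (hN : N ≤ Subgroup.center G)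
    {ψ : N → ℂ} (hψ : Cfsg.IsIrrCharacter N ψ) (hfaith : ∀ n : N, ψ n = ψ 1 → n = 1) :
    Nat.card {χ : Cfsg.IrrCharacter G // Cfsg.classInner (fun n : N => (χ : G → ℂ) n) ψ ≠ 0}
      = Nat.card {C : ConjClasses (G ⧸ N) // IsSp N (Quotient.out (Quotient.out C))} := by
  classical
  have := Fintype.ofFinite (Cfsg.IrrCharacter G)
  have hψ1 : ψ 1 = 1 := by
    have : IsMulCommutative N := ⟨⟨fun a b => Subtype.ext
      (Subgroup.mem_center_iff.mp (hN b.2) a)⟩⟩
    obtain ⟨k, σ, hσ, hσc⟩ := hψ
    have h1 := Representation.IsIrreducible.finrank_eq_one_of_isMulCommutative σ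
    rw [← hσc, Representation.char_one, h1]
    simp
  obtain ⟨lam, hlam⟩ := hom_of_irr_deg_one hψ hψ1
  have hfaith' : ∀ n : N, lam n = 1 → n = 1 := by
    intro n hn
    apply hfaith
    rw [hψ1, hlam]
    simp [hn]
  have hG : (Nat.card G : ℂ) ≠ 0 := card_ne_zero_complex G
  have hNne : (Nat.card N : ℂ) ≠ 0 := card_ne_zero_complex N
  have hA : (Nat.card {χ : Cfsg.IrrCharacter G //
        Cfsg.classInner (fun n : N => (χ : G → ℂ) n) ψ ≠ 0} : ℂ) * (Nat.card G : ℂ)
      = ∑ g : G, ∑ χ : Cfsg.IrrCharacter G,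
          (if Cfsg.classInner (fun n : N => (χ : G → ℂ) n) ψ ≠ 0
            then (χ : G → ℂ) g * conj ((χ : G → ℂ) g) else 0) := by
    rw [Finset.sum_comm]
    have h1 : ∀ χ : Cfsg.IrrCharacter G, ∑ g : G,
        (if Cfsg.classInner (fun n : N => (χ : G → ℂ) n) ψ ≠ 0
          then (χ : G → ℂ) g * conj ((χ : G → ℂ) g) else 0)
        = if Cfsg.classInner (fun n : N => (χ : G → ℂ) n) ψ ≠ 0 then (Nat.card G : ℂ) else 0 := by
      intro χ
      split_ifs with h
      · have h4 := classInner_irr_self χ.2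
        unfold Cfsg.classInner at h4
        field_simp at h4
        exact h4
      · simp
    rw [Finset.sum_congr rfl (fun χ _ => h1 χ), ← Finset.sum_filter, Finset.sum_const,
      nsmul_eq_mul,
      Nat.card_eq_fintype_card (α := {χ : Cfsg.IrrCharacter G //
        Cfsg.classInner (fun n : N => (χ : G → ℂ) n) ψ ≠ 0}),
      Fintype.card_subtype]
  have hB : ∀ g : G, ∑ χ : Cfsg.IrrCharacter G,
        (if Cfsg.classInner (fun n : N => (χ : G → ℂ) n) ψ ≠ 0
          then (χ : G → ℂ) g * conj ((χ : G → ℂ) g) else 0)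
      = (Nat.card N : ℂ)⁻¹ * (if IsSp N g then (Nat.card (centMod N g) : ℂ) else 0) := by
    intro g
    rw [sum_over_central N hN hψ g g, ← sum_twist_colFun N hN lam hfaith' g]
    congr 1
    apply Finset.sum_congr rfl
    intro n _
    rw [hlam]
  rw [Finset.sum_congr rfl (fun g _ => hB g), ← Finset.mul_sum, sum_sp_card N hN] at hA
  have h5 : (Nat.card {χ : Cfsg.IrrCharacter G //
        Cfsg.classInner (fun n : N => (χ : G → ℂ) n) ψ ≠ 0} : ℂ)
      = (Nat.card {C : ConjClasses (G ⧸ N) // IsSp N (Quotient.out (Quotient.out C))} : ℂ) := by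
    apply mul_right_cancel₀ hG
    rw [hA]
    field_simp
  exact_mod_cast h5

end count

end Cfsg.Agent.Lib.Helper2
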