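import Mathlib
import Cfsg.Prelude.Def_Characters
import Cfsg.Agent.Lib.Helper2.BrauerQE

set_option autoImplicit false

namespace Cfsg.Agent.Lib.Helper2

open Representation Module
open scoped ComplexConjugate

section matrixlemmas

variable {K : Type*} [Field K]

/-- rank factorisation of an idempotent matrix -/
theorem exists_rank_factorization {ι : Type*} [Fintype ι] [DecidableEq ι]
    (E : Matrix ι ι K) (hE : E * E = E) :
    ∃ (r : ℕ) (A : Matrix ι (Fin r) K) (B : Matrix (Fin r) ι K), A * B = E ∧ B * A = 1 := by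
  let f : (ι → K) →ₗ[K] (ι → K) := Matrix.toLin' E
  have hff : ∀ v, f (f v) = f v := by
    intro v
    show Matrix.toLin' E (Matrix.toLin' E v) = Matrix.toLin' E v
    rw [← LinearMap.comp_apply, ← Matrix.toLin'_mul, hE]
  let W := LinearMap.range f
  let b := Module.finBasis K W
  let π : (ι → K) →ₗ[K] W := f.rangeRestrict
  have hπ : π ∘ₗ W.subtype = LinearMap.id := by
    apply LinearMap.ext
    intro w
    apply Subtype.ext
    obtain ⟨v, hv⟩ := w.2
    show f (w : ι → K) = w
    rw [← hv, hff]
  have hι : W.subtype ∘ₗ π = f := LinearMap.ext fun v => rfl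
  refine ⟨finrank K W, LinearMap.toMatrix b (Pi.basisFun K ι) W.subtype,
    LinearMap.toMatrix (Pi.basisFun K ι) b π, ?_, ?_⟩
  · rw [← LinearMap.toMatrix_comp (Pi.basisFun K ι) b (Pi.basisFun K ι), hι,
      LinearMap.toMatrix_eq_toMatrix']
    exact LinearMap.toMatrix'_toLin' E
  · rw [← LinearMap.toMatrix_comp b (Pi.basisFun K ι) b, hπ, LinearMap.toMatrix_id]

/-- an idempotent matrix of trace zero vanishes in characteristic zero -/
theorem eq_zero_of_idempotent_of_trace [CharZero K] {ι : Type*} [Fintype ι] [DecidableEq ι]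
    (E : Matrix ι ι K) (hE : E * E = E) (htr : E.trace = 0) : E = 0 := by
  obtain ⟨r, A, B, hAB, hBA⟩ := exists_rank_factorization E hE
  have h1 : E.trace = (r : K) := by
    rw [← hAB, Matrix.trace_mul_comm, hBA, Matrix.trace_one, Fintype.card_fin]
  rw [htr] at h1
  have hr : r = 0 := by exact_mod_cast h1.symm
  subst hr
  rw [← hAB]
  ext i j
  simp [Matrix.mul_apply]

theorem matrix_ext_mulVec {ι κ : Type*} [Fintype ι] [DecidableEq ι] {A B : Matrix κ ι K}
    (h : ∀ v, A.mulVec v = B.mulVec v) : A = B := by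
  apply Matrix.toLin'.injective
  apply LinearMap.ext
  intro v
  rw [Matrix.toLin'_apply, Matrix.toLin'_apply, h]

variable {G : Type*} [Group G]

/-- Maschke: an invariant subspace is the range of an equivariant idempotent -/
theorem exists_equivariant_idempotent [Finite G] [CharZero K] {ι : Type*} [Fintype ι]
    [DecidableEq ι] (M : G →* Matrix ι ι K) (W : Submodule K (ι → K))
    (hW : ∀ g, ∀ w ∈ W, (M g).mulVec w ∈ W) :
    ∃ E : Matrix ι ι K, E * E = E ∧ (∀ g, M g * E = E * M g) ∧ (∀ v, E.mulVec v ∈ W) ∧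
      (∀ w ∈ W, E.mulVec w = w) := by
  classical
  have := Fintype.ofFinite G
  obtain ⟨q, hq⟩ := LinearMap.exists_leftInverse_of_injective W.subtype (Submodule.ker_subtype W)
  let P : Matrix ι ι K := LinearMap.toMatrix' (W.subtype ∘ₗ q)
  have hPmem : ∀ v, P.mulVec v ∈ W := by
    intro v
    have : P.mulVec v = (W.subtype ∘ₗ q) v := by
      rw [← Matrix.toLin'_apply, Matrix.toLin'_toMatrix']
    rw [this]
    exact (q v).2
  have hPfix : ∀ w ∈ W, P.mulVec w = w := by
    intro w hw
    have h1 : P.mulVec w = (W.subtype ∘ₗ q) w := by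
      rw [← Matrix.toLin'_apply, Matrix.toLin'_toMatrix']
    rw [h1]
    have h2 : q (W.subtype ⟨w, hw⟩) = ⟨w, hw⟩ := by
      rw [← LinearMap.comp_apply, hq]
      rfl
    show ((q w : W) : ι → K) = w
    have h3 : q w = ⟨w, hw⟩ := h2
    rw [h3]
  have hcard : (Fintype.card G : K) ≠ 0 := by
    exact_mod_cast Fintype.card_ne_zero
  let E : Matrix ι ι K := (Fintype.card G : K)⁻¹ • ∑ g : G, M g * P * M g⁻¹
  have hEv : ∀ v, E.mulVec v
      = (Fintype.card G : K)⁻¹ • ∑ g : G, (M g).mulVec (P.mulVec ((M g⁻¹).mulVec v)) := by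
    intro v
    show ((Fintype.card G : K)⁻¹ • ∑ g : G, M g * P * M g⁻¹).mulVec v = _
    rw [Matrix.smul_mulVec, Matrix.sum_mulVec]
    congr 1
    apply Finset.sum_congr rfl
    intro g _
    rw [← Matrix.mulVec_mulVec, ← Matrix.mulVec_mulVec]
  have hEmem : ∀ v, E.mulVec v ∈ W := by
    intro v
    rw [hEv]
    apply W.smul_mem
    apply W.sum_mem
    intro g _
    exact hW g _ (hPmem _)
  have hEfix : ∀ w ∈ W, E.mulVec w = w := by
    intro w hw
    rw [hEv]
    have h1 : ∀ g : G, (M g).mulVec (P.mulVec ((M g⁻¹).mulVec w)) = w := by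
      intro g
      rw [hPfix _ (hW g⁻¹ w hw), Matrix.mulVec_mulVec, ← map_mul, mul_inv_cancel, map_one,
        Matrix.one_mulVec]
    simp only [h1, Finset.sum_const, Finset.card_univ]
    rw [← Nat.cast_smul_eq_nsmul K, smul_smul, inv_mul_cancel₀ hcard, one_smul]
  refine ⟨E, ?_, ?_, hEmem, hEfix⟩
  · apply matrix_ext_mulVec
    intro v
    rw [← Matrix.mulVec_mulVec]
    exact hEfix _ (hEmem v)
  · intro h
    have key : M h * E * M h⁻¹ = E := by
      show M h * ((Fintype.card G : K)⁻¹ • ∑ g : G, M g * P * M g⁻¹) * M h⁻¹ = _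
      rw [Matrix.mul_smul, Matrix.smul_mul, Finset.mul_sum, Finset.sum_mul]
      congr 1
      apply Fintype.sum_equiv (Equiv.mulLeft h)
      intro g
      simp only [Equiv.coe_mulLeft, mul_inv_rev, map_mul]
      simp only [mul_assoc]
    calc M h * E = M h * E * (M h⁻¹ * M h) := by
          rw [← map_mul, inv_mul_cancel, map_one, mul_one]
      _ = (M h * E * M h⁻¹) * M h := by simp only [mul_assoc]
      _ = E * M h := by rw [key]

end matrixlemmas

section kreal

variable {G : Type*} [Group G]

/-- afforded by a matrix representation with entries in the subfield `K` -/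
def KReal (K : Subfield ℂ) (χ : G → ℂ) : Prop :=
  ∃ (r : ℕ) (M : G →* Matrix (Fin r) (Fin r) K), ∀ g, χ g = ((Matrix.trace (M g) : K) : ℂ)

/-- the complex representation attached to a matrix representation over `K` -/
noncomputable def matRep (K : Subfield ℂ) {r : ℕ} (M : G →* Matrix (Fin r) (Fin r) K) :
    Representation ℂ G (Fin r → ℂ) where
  toFun g := Matrix.toLin' ((M g).map K.subtype)
  map_one' := by
    rw [map_one, Matrix.map_one _ (map_zero _) (map_one _), Matrix.toLin'_one]
    rfl
  map_mul' g h := by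
    rw [map_mul, Matrix.map_mul, Matrix.toLin'_mul]
    rfl

theorem matRep_apply (K : Subfield ℂ) {r : ℕ} (M : G →* Matrix (Fin r) (Fin r) K) (g : G) :
    matRep K M g = Matrix.toLin' ((M g).map K.subtype) := rfl

theorem matRep_character (K : Subfield ℂ) {r : ℕ} (M : G →* Matrix (Fin r) (Fin r) K) (g : G) :
    (matRep K M).character g = ((Matrix.trace (M g) : K) : ℂ) := by
  show LinearMap.trace ℂ _ (matRep K M g) = _
  rw [matRep_apply, Matrix.trace_toLin'_eq]
  simp [Matrix.trace]

theorem kReal_isCharacter {K : Subfield ℂ} {χ : G → ℂ} (h : KReal K χ) :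
    Cfsg.IsCharacter G χ := by
  obtain ⟨r, M, hM⟩ := h
  refine ⟨r, matRep K M, ?_⟩
  funext g
  rw [matRep_character, hM]

/-- matrix representations on any finite index type -/
theorem kReal_of_matrix (K : Subfield ℂ) {ι : Type*} [Fintype ι] [DecidableEq ι]
    (M : G →* Matrix ι ι K) : KReal K (fun g => ((Matrix.trace (M g) : K) : ℂ)) := by
  let e := Fintype.equivFin ι
  refine ⟨Fintype.card ι, ((Matrix.reindexAlgEquiv K K e).toAlgHom.toMonoidHom).comp M, ?_⟩
  intro g
  have h1 : Matrix.trace (Matrix.reindex e e (M g)) = Matrix.trace (M g) := by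
    simp only [Matrix.reindex_apply, Matrix.trace, Matrix.diag, Matrix.submatrix_apply]
    exact Equiv.sum_comp e.symm (fun i => M g i i)
  show ((Matrix.trace (M g) : K) : ℂ) = ((Matrix.trace (Matrix.reindex e e (M g)) : K) : ℂ)
  rw [h1]

theorem kReal_add {K : Subfield ℂ} {χ ψ : G → ℂ} (hχ : KReal K χ) (hψ : KReal K ψ) :
    KReal K (χ + ψ) := by
  obtain ⟨r, M, hM⟩ := hχ
  obtain ⟨s, N, hN⟩ := hψ
  let MN : G →* Matrix (Fin r ⊕ Fin s) (Fin r ⊕ Fin s) K :=
    { toFun := fun g => Matrix.fromBlocks (M g) 0 0 (N g)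
      map_one' := by
        rw [map_one, map_one, Matrix.fromBlocks_one]
      map_mul' := fun g h => by
        rw [Matrix.fromBlocks_multiply]
        simp }
  have h := kReal_of_matrix K MN
  have e : (fun g => ((Matrix.trace (MN g) : K) : ℂ)) = χ + ψ := by
    funext g
    show ((Matrix.trace (Matrix.fromBlocks (M g) 0 0 (N g)) : K) : ℂ) = χ g + ψ g
    have h1 : Matrix.trace (Matrix.fromBlocks (M g) 0 0 (N g))
        = Matrix.trace (M g) + Matrix.trace (N g) := by
      simp [Matrix.trace, Fintype.sum_sum_type]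
    rw [h1, hM, hN]
    push_cast
    rfl
  rwa [e] at h

theorem kReal_zero {K : Subfield ℂ} : KReal K (0 : G → ℂ) := by
  refine ⟨0, 1, ?_⟩
  intro g
  simp [Matrix.trace]

theorem kReal_nsmul {K : Subfield ℂ} {χ : G → ℂ} (hχ : KReal K χ) (n : ℕ) :
    KReal K ((n : ℂ) • χ) := by
  induction n with
  | zero => simpa using (kReal_zero (G := G) (K := K))
  | succ n ih =>
    have h := kReal_add ih hχ
    have e : ((n : ℂ) • χ + χ) = (((n + 1 : ℕ) : ℂ)) • χ := by
      funext g
      simp only [Pi.add_apply, Pi.smul_apply, smul_eq_mul]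
      push_cast
      ring
    rwa [e] at h

theorem kReal_sum {K : Subfield ℂ} {α : Type*} (s : Finset α) {χ : α → G → ℂ}
    (h : ∀ i ∈ s, KReal K (χ i)) : KReal K (∑ i ∈ s, χ i) := by
  classical
  induction s using Finset.induction_on with
  | empty => simpa using (kReal_zero (G := G) (K := K))
  | insert a s ha ih =>
    rw [Finset.sum_insert ha]
    exact kReal_add (h a (Finset.mem_insert_self a s))
      (ih (fun i hi => h i (Finset.mem_insert_of_mem hi)))

/-- an equivariant idempotent cuts out a realizable character -/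
theorem kReal_idempotent (K : Subfield ℂ) {ι : Type*} [Fintype ι] [DecidableEq ι]
    (M : G →* Matrix ι ι K) (E : Matrix ι ι K) (hE : E * E = E)
    (hcomm : ∀ g, M g * E = E * M g) :
    KReal K (fun g => ((Matrix.trace (M g * E) : K) : ℂ)) := by
  obtain ⟨r, A, B, hAB, hBA⟩ := exists_rank_factorization E hE
  let M' : G →* Matrix (Fin r) (Fin r) K :=
    { toFun := fun g => B * M g * A
      map_one' := by rw [map_one, Matrix.mul_one, hBA]
      map_mul' := fun g h => by
        have h1 : B * M g * A * (B * M h * A) = B * (M g * (A * B)) * (M h * A) := by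
          simp only [Matrix.mul_assoc]
        have h2 : B * (A * B * M g) * (M h * A) = (B * A) * (B * (M g * M h) * A) := by
          simp only [Matrix.mul_assoc]
        rw [h1, hAB, hcomm g, ← hAB, h2, hBA, Matrix.one_mul, map_mul] }
  refine ⟨r, M', ?_⟩
  intro g
  have h1 : Matrix.trace (B * M g * A) = Matrix.trace (M g * E) := by
    rw [← hAB, ← Matrix.mul_assoc, Matrix.trace_mul_comm (M g * A) B, Matrix.mul_assoc]
  show ((Matrix.trace (M g * E) : K) : ℂ) = ((Matrix.trace (B * M g * A) : K) : ℂ)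
  rw [h1]

/-- a nonzero intertwiner exists when the characters are not orthogonal -/
theorem exists_intertwiner [Fintype G] (K : Subfield ℂ) {r s : ℕ}
    (M : G →* Matrix (Fin r) (Fin r) K) (N : G →* Matrix (Fin s) (Fin s) K)
    (h : Cfsg.classInner (fun g => ((Matrix.trace (N g) : K) : ℂ))
      (fun g => ((Matrix.trace (M g) : K) : ℂ)) ≠ 0) :
    ∃ T : Matrix (Fin s) (Fin r) K, T ≠ 0 ∧ ∀ g, N g * T = T * M g := by
  classical
  by_contra hno
  push Not at hno
  apply h
  have hT : ∀ (i : Fin s) (j : Fin r), ∑ g : G, N g * Matrix.single i j (1 : K) * M g⁻¹ = 0 := by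
    intro i j
    by_contra hne
    obtain ⟨g, hg⟩ := hno _ hne
    apply hg
    rw [Matrix.mul_sum, Matrix.sum_mul]
    apply Fintype.sum_equiv (Equiv.mulLeft g)
    intro x
    simp only [Equiv.coe_mulLeft, mul_inv_rev, map_mul]
    have h1 : M x⁻¹ * M g⁻¹ * M g = M x⁻¹ := by
      rw [mul_assoc, ← map_mul, inv_mul_cancel, map_one, mul_one]
    rw [Matrix.mul_assoc (N g * N x * Matrix.single i j 1), h1]
    simp only [Matrix.mul_assoc]
  have h2 : ∀ (i : Fin s) (j : Fin r), ∑ g : G, N g i i * M g⁻¹ j j = 0 := by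
    intro i j
    have h3 := congrFun (congrFun (hT i j) i) j
    simp only [Matrix.sum_apply, Matrix.zero_apply] at h3
    rw [← h3]
    apply Finset.sum_congr rfl
    intro g _
    rw [Matrix.mul_apply, Finset.sum_eq_single j]
    · rw [Matrix.mul_single_apply_same, mul_one]
    · intro x _ hx
      rw [Matrix.mul_single_apply_of_ne (1 : K) i j i x hx, zero_mul]
    · intro hj
      exact absurd (Finset.mem_univ j) hj
  have h3 : ∑ g : G, Matrix.trace (N g) * Matrix.trace (M g⁻¹) = 0 := by
    have h4 : ∑ g : G, Matrix.trace (N g) * Matrix.trace (M g⁻¹)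
        = ∑ i : Fin s, ∑ j : Fin r, ∑ g : G, N g i i * M g⁻¹ j j := by
      simp only [Matrix.trace, Matrix.diag, Finset.sum_mul_sum]
      rw [Finset.sum_comm]
      apply Finset.sum_congr rfl
      intro i _
      rw [Finset.sum_comm]
    rw [h4]
    simp [h2]
  rw [classInner_def]
  have h5 : ∑ g : G, ((Matrix.trace (N g) : K) : ℂ) * conj ((Matrix.trace (M g) : K) : ℂ) = 0 := by
    have h6 := congrArg (fun x : K => (x : ℂ)) h3
    simp only [Subfield.coe_zero] at h6
    rw [← h6]
    push_cast
    apply Finset.sum_congr rfl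
    intro g _
    congr 1
    rw [← matRep_character K M g, ← matRep_character K M g⁻¹, char_inv]
  rw [h5, mul_zero]

end kreal

end Cfsg.Agent.Lib.Helper2
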