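import Mathlib
import Cfsg.Prelude.Def_Characters
import Cfsg.Agent.Lib.Helper2.SplitBasic

set_option autoImplicit false

namespace Cfsg.Agent.Lib.Helper2

open Representation Module
open scoped ComplexConjugate

section genorth

variable {G : Type*} [Group G] [Fintype G]

theorem irr_inv_eq_conj {χ : G → ℂ} (hχ : Cfsg.IsCharacter G χ) (g : G) :
    χ g⁻¹ = conj (χ g) := by
  obtain ⟨n, ρ, rfl⟩ := hχ
  exact char_inv ρ g

theorem gen_orth_irr {χ τ : G → ℂ} (hχ : Cfsg.IsIrrCharacter G χ)
    (hτ : Cfsg.IsIrrCharacter G τ) (g : G) :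
    ∑ k : G, χ k⁻¹ * τ (k * g)
      = (Nat.card G : ℂ) / χ 1 * Cfsg.classInner τ χ * χ g := by
  classical
  have hτ' := hτ
  obtain ⟨n, ρ, hρ, hρτ⟩ := hτ'
  have : ρ.IsIrreducible := hρ
  have hχcf := isClassFunction_of_isIrrCharacter hχ
  have hf : Cfsg.IsClassFunction G (fun k => χ k⁻¹) := by
    intro a b
    show χ (b * a * b⁻¹)⁻¹ = χ a⁻¹
    have h1 := hχcf a⁻¹ b
    rw [← h1]
    congr 1
    group
  have h1 := classOp_eq ρ (fun k => χ k⁻¹) hf
  have h2 : LinearMap.trace ℂ _ (classOp ρ (fun k => χ k⁻¹) * ρ g)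
      = ∑ k : G, χ k⁻¹ * τ (k * g) := by
    unfold classOp
    rw [Finset.sum_mul, map_sum]
    apply Finset.sum_congr rfl
    intro k _
    rw [smul_mul_assoc, map_smul, smul_eq_mul, ← map_mul, ← hρτ]
    rfl
  have h3 : ∑ k : G, χ k⁻¹ * ρ.character k = (Nat.card G : ℂ) * Cfsg.classInner τ χ := by
    rw [classInner_def, ← mul_assoc, mul_inv_cancel₀ (card_ne_zero_complex G), one_mul]
    apply Finset.sum_congr rfl
    intro k _
    rw [irr_inv_eq_conj (isCharacter_of_isIrrCharacter hχ), hρτ, mul_comm]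
  rw [← h2, h1, h3, smul_mul_assoc, map_smul, smul_eq_mul, Module.finrank_fin_fun]
  have h4 : LinearMap.trace ℂ _ ((LinearMap.id : (Fin n → ℂ) →ₗ[ℂ] (Fin n → ℂ)) * ρ g) = τ g := by
    rw [← hρτ]
    rfl
  rw [h4, classInner_irr hτ hχ]
  by_cases e : τ = χ
  · rw [if_pos e, e]
    have h5 : χ 1 = (n : ℂ) := by
      rw [← e, ← hρτ, Representation.char_one, Module.finrank_fin_fun]
    rw [h5]
    ring
  · rw [if_neg e]
    ring

theorem gen_orth {χ ψ : G → ℂ} (hχ : Cfsg.IsIrrCharacter G χ)
    (hψ : Cfsg.IsClassFunction G ψ) (g : G) :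
    ∑ k : G, χ k⁻¹ * ψ (k * g)
      = (Nat.card G : ℂ) / χ 1 * Cfsg.classInner ψ χ * χ g := by
  classical
  have := Fintype.ofFinite (Cfsg.IrrCharacter G)
  have hexp := class_fun_expand ψ hψ
  have hψx : ∀ x, ψ x = ∑ τ : Cfsg.IrrCharacter G, Cfsg.classInner ψ τ * (τ : G → ℂ) x := by
    intro x
    conv_lhs => rw [hexp]
    simp [Finset.sum_apply]
  have hin : Cfsg.classInner ψ χ
      = ∑ τ : Cfsg.IrrCharacter G, Cfsg.classInner ψ τ * Cfsg.classInner (τ : G → ℂ) χ := by
    conv_lhs => rw [hexp]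
    rw [classInner_sum_left]
    apply Finset.sum_congr rfl
    intro τ _
    rw [classInner_smul_left]
  calc ∑ k : G, χ k⁻¹ * ψ (k * g)
      = ∑ k : G, ∑ τ : Cfsg.IrrCharacter G,
          Cfsg.classInner ψ τ * (χ k⁻¹ * (τ : G → ℂ) (k * g)) := by
        apply Finset.sum_congr rfl
        intro k _
        rw [hψx, Finset.mul_sum]
        apply Finset.sum_congr rfl
        intro τ _
        ring
    _ = ∑ τ : Cfsg.IrrCharacter G,
          Cfsg.classInner ψ τ * ∑ k : G, χ k⁻¹ * (τ : G → ℂ) (k * g) := by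
        rw [Finset.sum_comm]
        apply Finset.sum_congr rfl
        intro τ _
        rw [Finset.mul_sum]
    _ = ∑ τ : Cfsg.IrrCharacter G, Cfsg.classInner ψ τ *
          ((Nat.card G : ℂ) / χ 1 * Cfsg.classInner (τ : G → ℂ) χ * χ g) := by
        apply Finset.sum_congr rfl
        intro τ _
        rw [gen_orth_irr hχ τ.2 g]
    _ = (Nat.card G : ℂ) / χ 1 * Cfsg.classInner ψ χ * χ g := by
        rw [hin, Finset.mul_sum, Finset.sum_mul]
        apply Finset.sum_congr rfl
        intro τ _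
        ring

end genorth

section isotypic

variable {G : Type*} [Group G] [Fintype G]

/-- the isotypic part of a realizable character is realizable -/
theorem kReal_isotypic {K : Subfield ℂ} {χ ψ : G → ℂ} (hχ : Cfsg.IsIrrCharacter G χ)
    (hχK : ∀ g, χ g ∈ K) (hψ : KReal K ψ) :
    KReal K (fun g => Cfsg.classInner ψ χ * χ g) := by
  classical
  have hψc : Cfsg.IsCharacter G ψ := kReal_isCharacter hψ
  obtain ⟨r, N, hN⟩ := hψ
  have hψcf := isClassFunction_of_isCharacter hψc
  have hχcf := isClassFunction_of_isIrrCharacter hχ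
  obtain ⟨d, hdpos, hd⟩ := irr_apply_one hχ
  have hG : (Nat.card G : ℂ) ≠ 0 := card_ne_zero_complex G
  have hd0 : (d : ℂ) ≠ 0 := by exact_mod_cast hdpos.ne'
  let c : G → K := fun k => ⟨χ k, hχK k⟩
  let a : G → K := fun k => ((d : K) / (Nat.card G : K)) * c k⁻¹
  have ha : ∀ k, ((a k : K) : ℂ) = (d : ℂ) / (Nat.card G : ℂ) * χ k⁻¹ := by
    intro k
    show (((d : K) / (Nat.card G : K) * c k⁻¹ : K) : ℂ) = _
    push_cast
    rfl
  have hacf : ∀ k g : G, a (g * k * g⁻¹) = a k := by
    intro k g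
    apply Subtype.ext
    rw [ha, ha]
    congr 1
    have h1 := hχcf k⁻¹ g
    rw [← h1]
    congr 1
    group
  have hconv : ∀ m : G, ∑ k : G, a k * a (k⁻¹ * m) = a m := by
    intro m
    apply Subtype.ext
    have e1 : ((∑ k : G, a k * a (k⁻¹ * m) : K) : ℂ)
        = ∑ k : G, ((a k : K) : ℂ) * ((a (k⁻¹ * m) : K) : ℂ) := by
      push_cast
      rfl
    rw [e1]
    simp only [ha]
    have h1 := gen_orth hχ hχcf m⁻¹
    rw [classInner_irr_self hχ, hd] at h1
    have h2 : ∀ k : G, χ ((k⁻¹ * m)⁻¹) = χ (k * m⁻¹) := by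
      intro k
      have h3 := hχcf (k * m⁻¹) m⁻¹
      rw [← h3]
      congr 1
      group
    calc ∑ k : G, (d : ℂ) / (Nat.card G : ℂ) * χ k⁻¹ * ((d : ℂ) / (Nat.card G : ℂ) * χ (k⁻¹ * m)⁻¹)
        = ((d : ℂ) / (Nat.card G : ℂ)) ^ 2 * ∑ k : G, χ k⁻¹ * χ (k * m⁻¹) := by
          rw [Finset.mul_sum]
          apply Finset.sum_congr rfl
          intro k _
          rw [h2]
          ring
      _ = (d : ℂ) / (Nat.card G : ℂ) * χ m⁻¹ := by
          rw [h1]
          field_simp
  let Z : Matrix (Fin r) (Fin r) K := ∑ k : G, a k • N k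
  have hZZ : Z * Z = Z := by
    show (∑ k : G, a k • N k) * (∑ l : G, a l • N l) = ∑ m : G, a m • N m
    rw [Finset.sum_mul]
    have h1 : ∀ k : G, (a k • N k) * (∑ l : G, a l • N l)
        = ∑ m : G, (a k * a (k⁻¹ * m)) • N m := by
      intro k
      rw [Finset.mul_sum]
      apply Fintype.sum_equiv (Equiv.mulLeft k)
      intro l
      simp only [Equiv.coe_mulLeft]
      rw [smul_mul_smul_comm, ← map_mul, inv_mul_cancel_left]
    simp only [h1]
    rw [Finset.sum_comm]
    apply Finset.sum_congr rfl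
    intro m _
    rw [← Finset.sum_smul, hconv]
  have hcomm : ∀ g, N g * Z = Z * N g := by
    intro g
    show N g * (∑ k : G, a k • N k) = (∑ k : G, a k • N k) * N g
    rw [Finset.mul_sum, Finset.sum_mul]
    apply Fintype.sum_equiv (MulAut.conj g).toEquiv
    intro k
    simp only [MulEquiv.toEquiv_eq_coe, MulEquiv.coe_toEquiv, MulAut.conj_apply]
    rw [hacf, mul_smul_comm, smul_mul_assoc, ← map_mul, ← map_mul, inv_mul_cancel_right]
  have htr : ∀ g, ((Matrix.trace (N g * Z) : K) : ℂ) = Cfsg.classInner ψ χ * χ g := by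
    intro g
    have e1 : Matrix.trace (N g * Z) = ∑ k : G, a k * Matrix.trace (N (g * k)) := by
      show Matrix.trace (N g * (∑ k : G, a k • N k)) = _
      rw [Finset.mul_sum, Matrix.trace_sum]
      apply Finset.sum_congr rfl
      intro k _
      rw [mul_smul_comm, Matrix.trace_smul, ← map_mul, smul_eq_mul]
    rw [e1]
    have e2 : ((∑ k : G, a k * Matrix.trace (N (g * k)) : K) : ℂ)
        = ∑ k : G, ((a k : K) : ℂ) * ((Matrix.trace (N (g * k)) : K) : ℂ) := by
      push_cast
      rfl
    rw [e2]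
    simp only [ha, ← hN]
    have h1 := gen_orth hχ hψcf g
    rw [hd] at h1
    have h2 : ∀ k : G, ψ (g * k) = ψ (k * g) := by
      intro k
      have h3 := hψcf (k * g) g
      rw [← h3]
      congr 1
      group
    calc ∑ k : G, (d : ℂ) / (Nat.card G : ℂ) * χ k⁻¹ * ψ (g * k)
        = (d : ℂ) / (Nat.card G : ℂ) * ∑ k : G, χ k⁻¹ * ψ (k * g) := by
          rw [Finset.mul_sum]
          apply Finset.sum_congr rfl
          intro k _
          rw [h2]
          ring
      _ = Cfsg.classInner ψ χ * χ g := by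
          rw [h1]
          field_simp
  have hk := kReal_idempotent K N Z hZZ hcomm
  have e : (fun g => ((Matrix.trace (N g * Z) : K) : ℂ)) = fun g => Cfsg.classInner ψ χ * χ g :=
    funext htr
  rwa [e] at hk

omit [Fintype G] in
theorem sum_subtype_indicator (H : Subgroup G) [Fintype H] (θ : H → ℂ) (y : G) [DecidableEq G] :
    ∑ h : H, θ h * (if y = (h : G) then 1 else 0) = Cfsg.extendByZero H θ y := by
  by_cases hy : y ∈ H
  · rw [extendByZero_of_mem _ _ hy, Finset.sum_eq_single (⟨y, hy⟩ : H)]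
    · simp
    · intro b _ hb
      have : y ≠ (b : G) := fun h => hb (Subtype.ext h.symm)
      rw [if_neg this, mul_zero]
    · intro hn
      exact absurd (Finset.mem_univ _) hn
  · rw [extendByZero_of_not_mem _ _ hy]
    apply Finset.sum_eq_zero
    intro b _
    have : y ≠ (b : G) := fun h => hy (h ▸ b.2)
    rw [if_neg this, mul_zero]

/-- characters induced from linear characters with values in `K` are realizable over `K` -/
theorem kReal_indFun {K : Subfield ℂ} (H : Subgroup G) (lam : H →* ℂˣ)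
    (hlam : ∀ h : H, (lam h : ℂ) ∈ K) :
    KReal K (Cfsg.indFun H (fun h => (lam h : ℂ))) := by
  classical
  have := Fintype.ofFinite H
  let c : H → K := fun h => ⟨(lam h : ℂ), hlam h⟩
  have hc_mul : ∀ h h' : H, c (h * h') = c h * c h' := by
    intro h h'
    apply Subtype.ext
    show ((lam (h * h') : ℂˣ) : ℂ) = (lam h : ℂ) * (lam h' : ℂ)
    rw [map_mul, Units.val_mul]
  let L : G →* Matrix G G K :=
    { toFun := fun g => Matrix.of fun x y => if x = g * y then 1 else 0
      map_one' := by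
        ext x y
        simp [Matrix.one_apply]
      map_mul' := fun g h => by
        ext x z
        rw [Matrix.mul_apply]
        simp only [Matrix.of_apply]
        rw [Finset.sum_eq_single (h * z)]
        · simp [mul_assoc]
        · intro y _ hy
          simp [hy]
        · intro hn
          exact absurd (Finset.mem_univ _) hn }
  have hL : ∀ g x y, L g x y = if x = g * y then 1 else 0 := fun g x y => rfl
  let R : G → Matrix G G K := fun h => Matrix.of fun x y => if y = x * h then 1 else 0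
  have hR : ∀ h x y, R h x y = if y = x * h then 1 else 0 := fun h x y => rfl
  have hRR : ∀ h h' : G, R h * R h' = R (h * h') := by
    intro h h'
    ext x z
    rw [Matrix.mul_apply]
    simp only [hR]
    rw [Finset.sum_eq_single (x * h)]
    · simp [mul_assoc]
    · intro y _ hy
      simp [hy]
    · intro hn
      exact absurd (Finset.mem_univ _) hn
  have hLR : ∀ (g h : G) (x z : G), (L g * R h) x z = if g * z = x * h then 1 else 0 := by
    intro g h x z
    rw [Matrix.mul_apply]
    simp only [hL, hR]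
    rw [Finset.sum_eq_single (g⁻¹ * x)]
    · by_cases e : g * z = x * h
      · have e2 : z = g⁻¹ * x * h := by
          rw [mul_assoc, ← e, inv_mul_cancel_left]
        rw [if_pos (by rw [mul_inv_cancel_left]), if_pos e2, if_pos e, mul_one]
      · have e2 : z ≠ g⁻¹ * x * h := by
          intro h2
          apply e
          rw [h2, mul_assoc, mul_inv_cancel_left]
        rw [if_neg e2, if_neg e, mul_zero]
    · intro y _ hy
      have : x ≠ g * y := by
        intro h2
        apply hy
        rw [h2, inv_mul_cancel_left]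
      simp [this]
    · intro hn
      exact absurd (Finset.mem_univ _) hn
  have hRL : ∀ (g h : G) (x z : G), (R h * L g) x z = if g * z = x * h then 1 else 0 := by
    intro g h x z
    rw [Matrix.mul_apply]
    simp only [hL, hR]
    rw [Finset.sum_eq_single (x * h)]
    · by_cases e : g * z = x * h
      · simp [e]
      · have e2 : ¬ x * h = g * z := fun h2 => e h2.symm
        simp [e, e2]
    · intro y _ hy
      simp [hy]
    · intro hn
      exact absurd (Finset.mem_univ _) hn
  have hcommLR : ∀ g h : G, L g * R h = R h * L g := by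
    intro g h
    ext x z
    rw [hLR, hRL]
  have hH : (Nat.card H : K) ≠ 0 := by
    have : Nat.card H ≠ 0 := Nat.card_pos.ne'
    exact_mod_cast this
  let E : Matrix G G K := (Nat.card H : K)⁻¹ • ∑ h : H, c h • R (h : G)
  have hEE : E * E = E := by
    show ((Nat.card H : K)⁻¹ • ∑ h : H, c h • R (h : G))
      * ((Nat.card H : K)⁻¹ • ∑ h : H, c h • R (h : G)) = _
    rw [smul_mul_smul_comm, Finset.sum_mul]
    have h1 : ∀ h : H, (c h • R (h : G)) * (∑ h' : H, c h' • R (h' : G))
        = ∑ m : H, c m • R (m : G) := by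
      intro h
      rw [Finset.mul_sum]
      apply Fintype.sum_equiv (Equiv.mulLeft h)
      intro h'
      simp only [Equiv.coe_mulLeft]
      rw [smul_mul_smul_comm, hRR, hc_mul, Subgroup.coe_mul]
    simp only [h1, Finset.sum_const, Finset.card_univ]
    rw [← Nat.card_eq_fintype_card, ← Nat.cast_smul_eq_nsmul K, smul_smul, mul_assoc,
      inv_mul_cancel₀ hH, mul_one]
  have hcomm : ∀ g, L g * E = E * L g := by
    intro g
    show L g * ((Nat.card H : K)⁻¹ • ∑ h : H, c h • R (h : G))
      = ((Nat.card H : K)⁻¹ • ∑ h : H, c h • R (h : G)) * L g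
    rw [mul_smul_comm, smul_mul_assoc, Finset.mul_sum, Finset.sum_mul]
    congr 1
    apply Finset.sum_congr rfl
    intro h _
    rw [mul_smul_comm, smul_mul_assoc, hcommLR]
  have hk := kReal_idempotent K L E hEE hcomm
  have e : (fun g => ((Matrix.trace (L g * E) : K) : ℂ))
      = Cfsg.indFun H (fun h => (lam h : ℂ)) := by
    funext g
    rw [indFun_apply]
    have e1 : Matrix.trace (L g * E)
        = (Nat.card H : K)⁻¹ * ∑ h : H, c h * ∑ x : G, (if g * x = x * (h : G) then 1 else 0) := by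
      show Matrix.trace (L g * ((Nat.card H : K)⁻¹ • ∑ h : H, c h • R (h : G))) = _
      rw [mul_smul_comm, Matrix.trace_smul, smul_eq_mul, Finset.mul_sum, Matrix.trace_sum]
      congr 1
      apply Finset.sum_congr rfl
      intro h _
      rw [mul_smul_comm, Matrix.trace_smul, smul_eq_mul]
      congr 1
      unfold Matrix.trace
      apply Finset.sum_congr rfl
      intro x _
      rw [Matrix.diag_apply, hLR]
    rw [e1]
    have e2 : (((Nat.card H : K)⁻¹ * ∑ h : H, c h * ∑ x : G,
          (if g * x = x * (h : G) then 1 else 0) : K) : ℂ)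
        = (Nat.card H : ℂ)⁻¹ * ∑ h : H, (lam h : ℂ) * ∑ x : G,
          (if g * x = x * (h : G) then 1 else 0) := by
      have hite : ∀ (p : Prop) [Decidable p], (((if p then 1 else 0 : K)) : ℂ)
          = if p then 1 else 0 := by
        intro p _
        split_ifs <;> simp
      push_cast
      simp only [hite]
      rfl
    rw [e2]
    congr 1
    simp only [Finset.mul_sum]
    rw [Finset.sum_comm]
    apply Finset.sum_congr rfl
    intro x _
    rw [← sum_subtype_indicator H (fun h => (lam h : ℂ)) (x⁻¹ * g * x)]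
    apply Finset.sum_congr rfl
    intro h _
    congr 1
    by_cases e3 : g * x = x * (h : G)
    · have e4 : x⁻¹ * g * x = (h : G) := by
        rw [mul_assoc, e3, inv_mul_cancel_left]
      rw [if_pos e3, if_pos e4]
    · have e4 : x⁻¹ * g * x ≠ (h : G) := by
        intro h2
        apply e3
        rw [← h2]
        group
      rw [if_neg e3, if_neg e4]
  rwa [e] at hk

/-- a character whose only constituent is `χ` -/
theorem char_eq_smul_of_inner {χ ψ : G → ℂ} (hχ : Cfsg.IsIrrCharacter G χ)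
    (hψ : Cfsg.IsClassFunction G ψ)
    (h : ∀ τ : G → ℂ, Cfsg.IsIrrCharacter G τ → τ ≠ χ → Cfsg.classInner ψ τ = 0) :
    ψ = Cfsg.classInner ψ χ • χ := by
  classical
  have := Fintype.ofFinite (Cfsg.IrrCharacter G)
  conv_lhs => rw [class_fun_expand ψ hψ]
  rw [Finset.sum_eq_single (⟨χ, hχ⟩ : Cfsg.IrrCharacter G)]
  · intro τ _ hτ
    rw [h τ τ.2 (fun e => hτ (Subtype.ext e)), zero_smul]
  · intro hn
    exact absurd (Finset.mem_univ _) hn

theorem char_multiple_of_add {χ ψ₁ ψ₂ : G → ℂ} (hχ : Cfsg.IsIrrCharacter G χ)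
    (h1 : Cfsg.IsCharacter G ψ₁) (h2 : Cfsg.IsCharacter G ψ₂) (a : ℕ)
    (hsum : ψ₁ + ψ₂ = (a : ℂ) • χ) :
    ∃ a₁ a₂ : ℕ, ψ₁ = (a₁ : ℂ) • χ ∧ ψ₂ = (a₂ : ℂ) • χ ∧ a₁ + a₂ = a := by
  have hχc := isCharacter_of_isIrrCharacter hχ
  have key : ∀ τ : G → ℂ, Cfsg.IsIrrCharacter G τ → τ ≠ χ →
      Cfsg.classInner ψ₁ τ = 0 ∧ Cfsg.classInner ψ₂ τ = 0 := by
    intro τ hτ hne
    obtain ⟨n₁, hn₁⟩ := classInner_isCharacter_nat h1 (isCharacter_of_isIrrCharacter hτ)
    obtain ⟨n₂, hn₂⟩ := classInner_isCharacter_nat h2 (isCharacter_of_isIrrCharacter hτ)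
    have h3 : Cfsg.classInner (ψ₁ + ψ₂) τ = 0 := by
      rw [hsum, classInner_smul_left, classInner_irr_ne hχ hτ (fun e => hne e.symm), mul_zero]
    rw [classInner_add_left, hn₁, hn₂] at h3
    have h4 : n₁ + n₂ = 0 := by exact_mod_cast h3
    have h5 : n₁ = 0 := by omega
    have h6 : n₂ = 0 := by omega
    rw [hn₁, hn₂, h5, h6]
    simp
  obtain ⟨a₁, ha₁⟩ := classInner_isCharacter_nat h1 hχc
  obtain ⟨a₂, ha₂⟩ := classInner_isCharacter_nat h2 hχc
  refine ⟨a₁, a₂, ?_, ?_, ?_⟩
  · rw [← ha₁]
    exact char_eq_smul_of_inner hχ (isClassFunction_of_isCharacter h1) (fun τ hτ hne => (key τ hτ hne).1)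
  · rw [← ha₂]
    exact char_eq_smul_of_inner hχ (isClassFunction_of_isCharacter h2) (fun τ hτ hne => (key τ hτ hne).2)
  · have h3 : Cfsg.classInner (ψ₁ + ψ₂) χ = (a : ℂ) := by
      rw [hsum, classInner_smul_left, classInner_irr_self hχ, mul_one]
    rw [classInner_add_left, ha₁, ha₂] at h3
    exact_mod_cast h3

/-- the divisibility property of the minimal realizable multiple (Schur index) -/
theorem dvd_of_kReal_min {K : Subfield ℂ} {χ : G → ℂ} (hχ : Cfsg.IsIrrCharacter G χ) (s : ℕ)
    (hs : 1 ≤ s) (hsK : KReal K ((s : ℂ) • χ))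
    (hmin : ∀ t, 1 ≤ t → t < s → ¬ KReal K ((t : ℂ) • χ)) :
    ∀ a : ℕ, KReal K ((a : ℂ) • χ) → s ∣ a := by
  classical
  intro a
  induction a using Nat.strong_induction_on with
  | _ a ih =>
    intro ha
    rcases Nat.eq_zero_or_pos a with h0 | hpos
    · rw [h0]
      exact dvd_zero s
    by_cases hlt : a < s
    · exact absurd ha (hmin a hpos hlt)
    push Not at hlt
    rcases Nat.eq_or_lt_of_le hlt with heq | hgt
    · rw [heq]
    obtain ⟨r, M, hM⟩ := hsK
    obtain ⟨r', N, hN⟩ := ha
    have e1 : (fun g => (((N g).trace : K) : ℂ)) = (a : ℂ) • χ := (funext hN).symm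
    have e2 : (fun g => (((M g).trace : K) : ℂ)) = (s : ℂ) • χ := (funext hM).symm
    have hinner : Cfsg.classInner (fun g => (((N g).trace : K) : ℂ))
        (fun g => (((M g).trace : K) : ℂ)) ≠ 0 := by
      rw [e1, e2, classInner_smul_left, classInner_smul_right, classInner_irr_self hχ]
      have h1 : (a : ℂ) ≠ 0 := by exact_mod_cast hpos.ne'
      have h2 : (s : ℂ) ≠ 0 := by
        have : s ≠ 0 := by omega
        exact_mod_cast this
      simp [h1, h2]
    obtain ⟨T, hT0, hT⟩ := exists_intertwiner K M N hinner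
    -- the kernel of `T`
    let W : Submodule K (Fin r → K) := LinearMap.ker (Matrix.toLin' T)
    have hW : ∀ g, ∀ w ∈ W, (M g).mulVec w ∈ W := by
      intro g w hw
      rw [LinearMap.mem_ker, Matrix.toLin'_apply] at hw ⊢
      rw [Matrix.mulVec_mulVec, ← hT g, ← Matrix.mulVec_mulVec, hw, Matrix.mulVec_zero]
    obtain ⟨E, hEE, hEc, hEmem, hEfix⟩ := exists_equivariant_idempotent M W hW
    have hE1 : (1 - E) * (1 - E) = 1 - E := by
      rw [mul_sub, sub_mul, sub_mul, hEE, mul_one, one_mul, mul_one, sub_self, sub_zero]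
    have hE1c : ∀ g, M g * (1 - E) = (1 - E) * M g := by
      intro g
      rw [mul_sub, sub_mul, hEc g, mul_one, one_mul]
    have k1 := kReal_idempotent K M E hEE hEc
    have k2 := kReal_idempotent K M (1 - E) hE1 hE1c
    have hsum : (fun g => (((M g * E).trace : K) : ℂ))
        + (fun g => (((M g * (1 - E)).trace : K) : ℂ)) = (s : ℂ) • χ := by
      funext g
      rw [Pi.add_apply]
      have h1 : (M g * E).trace + (M g * (1 - E)).trace = (M g).trace := by
        rw [← Matrix.trace_add, ← mul_add, add_sub_cancel, mul_one]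
      have h2 : (((M g * E).trace : K) : ℂ) + (((M g * (1 - E)).trace : K) : ℂ)
          = (((M g).trace : K) : ℂ) := by
        rw [← h1]
        push_cast
        rfl
      rw [h2, ← hM]
    obtain ⟨s₁, s₂, hs₁, hs₂, hs12⟩ :=
      char_multiple_of_add hχ (kReal_isCharacter k1) (kReal_isCharacter k2) s hsum
    have hs₂pos : s₂ ≠ 0 := by
      intro h0
      have h1 : (((M 1 * (1 - E)).trace : K) : ℂ) = 0 := by
        have h2 := congrFun hs₂ 1
        rw [h0] at h2
        simpa using h2
      have h2 : (1 - E).trace = 0 := by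
        rw [map_one, one_mul] at h1
        exact_mod_cast h1
      have h3 := eq_zero_of_idempotent_of_trace (1 - E) hE1 h2
      have hE : E = 1 := by
        rw [sub_eq_zero] at h3
        exact h3.symm
      apply hT0
      apply matrix_ext_mulVec
      intro v
      have hv := hEmem v
      rw [hE, Matrix.one_mulVec, LinearMap.mem_ker, Matrix.toLin'_apply] at hv
      rw [hv, Matrix.zero_mulVec]
    have hs₁0 : s₁ = 0 := by
      by_contra h
      have h1 : s₁ < s := by omega
      exact hmin s₁ (by omega) h1 (hs₁ ▸ k1)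
    have hE0 : E = 0 := by
      apply eq_zero_of_idempotent_of_trace E hEE
      have h2 := congrFun hs₁ 1
      rw [hs₁0] at h2
      have h3 : (((M 1 * E).trace : K) : ℂ) = 0 := by simpa using h2
      rw [map_one, one_mul] at h3
      exact_mod_cast h3
    have hinj : ∀ v, T.mulVec v = 0 → v = 0 := by
      intro v hv
      have hvW : v ∈ W := by
        rw [LinearMap.mem_ker, Matrix.toLin'_apply]
        exact hv
      have h1 := hEfix v hvW
      rw [hE0, Matrix.zero_mulVec] at h1
      exact h1.symm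
    -- the image of `T`
    let W' : Submodule K (Fin r' → K) := LinearMap.range (Matrix.toLin' T)
    have hW' : ∀ g, ∀ w ∈ W', (N g).mulVec w ∈ W' := by
      rintro g w ⟨v, rfl⟩
      refine ⟨(M g).mulVec v, ?_⟩
      rw [Matrix.toLin'_apply, Matrix.toLin'_apply, Matrix.mulVec_mulVec, Matrix.mulVec_mulVec,
        hT g]
    obtain ⟨E', hEE', hEc', hEmem', hEfix'⟩ := exists_equivariant_idempotent N W' hW'
    have hker : LinearMap.ker (Matrix.toLin' T) = ⊥ := by
      rw [LinearMap.ker_eq_bot']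
      intro v hv
      rw [Matrix.toLin'_apply] at hv
      exact hinj v hv
    obtain ⟨S₀, hS₀⟩ := LinearMap.exists_leftInverse_of_injective (Matrix.toLin' T) hker
    have hET : E' * T = T := by
      apply matrix_ext_mulVec
      intro v
      rw [← Matrix.mulVec_mulVec]
      exact hEfix' _ ⟨v, by rw [Matrix.toLin'_apply]⟩
    have hS₀T : LinearMap.toMatrix' S₀ * T = 1 := by
      have h1 := congrArg LinearMap.toMatrix' hS₀
      rw [LinearMap.toMatrix'_comp, LinearMap.toMatrix'_toLin', LinearMap.toMatrix'_id] at h1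
      exact h1
    have hST : LinearMap.toMatrix' S₀ * E' * T = 1 := by
      rw [Matrix.mul_assoc, hET, hS₀T]
    have hTS : T * (LinearMap.toMatrix' S₀ * E') = E' := by
      apply matrix_ext_mulVec
      intro v
      obtain ⟨u, hu⟩ := hEmem' v
      rw [Matrix.toLin'_apply] at hu
      rw [← Matrix.mulVec_mulVec, ← Matrix.mulVec_mulVec, ← hu, Matrix.mulVec_mulVec u, hS₀T,
        Matrix.one_mulVec]
    have htr : ∀ g, (N g * E').trace = (M g).trace := by
      intro g
      rw [← hTS, ← Matrix.mul_assoc, hT g, Matrix.mul_assoc, Matrix.trace_mul_comm,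
        Matrix.mul_assoc, hST, Matrix.mul_one]
    have hE1' : (1 - E') * (1 - E') = 1 - E' := by
      rw [mul_sub, sub_mul, sub_mul, hEE', mul_one, one_mul, mul_one, sub_self, sub_zero]
    have hE1c' : ∀ g, N g * (1 - E') = (1 - E') * N g := by
      intro g
      rw [mul_sub, sub_mul, hEc' g, mul_one, one_mul]
    have k3 := kReal_idempotent K N (1 - E') hE1' hE1c'
    have e3 : (fun g => (((N g * (1 - E')).trace : K) : ℂ)) = ((a - s : ℕ) : ℂ) • χ := by
      funext g
      have h1 : (N g * (1 - E')).trace = (N g).trace - (M g).trace := by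
        rw [mul_sub, mul_one, Matrix.trace_sub, htr]
      rw [h1]
      push_cast
      rw [← hN, ← hM, Nat.cast_sub hlt]
      simp only [Pi.smul_apply, smul_eq_mul]
      ring
    rw [e3] at k3
    have h5 := ih (a - s) (by omega) k3
    have h6 : a = (a - s) + s := by omega
    rw [h6]
    exact dvd_add h5 (dvd_refl s)

theorem char_mem_subfield {K : Subfield ℂ}
    (hK : ∀ z : ℂ, z ^ Monoid.exponent G = 1 → z ∈ K) {χ : G → ℂ}
    (hχ : Cfsg.IsCharacter G χ) (g : G) : χ g ∈ K := by
  obtain ⟨n, ρ, rfl⟩ := hχ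
  rw [char_eq_sum ρ g]
  apply Subfield.sum_mem
  intro μ hμ
  apply K.mul_mem _ (natCast_mem K _)
  apply hK
  obtain ⟨k, hk⟩ := Monoid.order_dvd_exponent g
  rw [hk, pow_mul, eig_pow ρ g hμ, one_pow]

/-- irreducible characters are realizable over any subfield containing the roots of unity of
order the exponent -/
theorem kReal_of_irr {K : Subfield ℂ}
    (hK : ∀ z : ℂ, z ^ Monoid.exponent G = 1 → z ∈ K) {χ : G → ℂ}
    (hχ : Cfsg.IsIrrCharacter G χ) : KReal K χ := by
  classical
  have hχc := isCharacter_of_isIrrCharacter hχ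
  have hχK : ∀ g, χ g ∈ K := char_mem_subfield hK hχc
  obtain ⟨l, hl, hsum⟩ := brauer_char hχc
  have hterm : ∀ t ∈ l, ∃ a : ℕ,
      Cfsg.classInner (Cfsg.indFun t.1 (fun e => (t.2.1 e : ℂ))) χ = (a : ℂ) ∧
      KReal K ((a : ℂ) • χ) := by
    intro t ht
    have hk := kReal_indFun (K := K) t.1 t.2.1 (fun h => by
      apply hK
      obtain ⟨k, hk⟩ := Monoid.order_dvd_exponent (h : G)
      have h1 : (t.2.1 h) ^ orderOf (h : G) = 1 := by
        rw [Subgroup.orderOf_coe, ← map_pow, pow_orderOf_eq_one, map_one]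
      have h2 : (t.2.1 h) ^ Monoid.exponent G = 1 := by
        rw [hk, pow_mul, h1, one_pow]
      have h3 := congrArg (fun u : ℂˣ => (u : ℂ)) h2
      simpa using h3)
    obtain ⟨a, ha⟩ := classInner_isCharacter_nat (kReal_isCharacter hk) hχc
    refine ⟨a, ha, ?_⟩
    have h1 := kReal_isotypic hχ hχK hk
    rw [ha] at h1
    exact h1
  -- a general divisibility statement on the list
  have hlist : ∀ (s : ℕ) (l' : List ((E : Subgroup G) × ((E →* ℂˣ) × ℤ))),
      (∀ t ∈ l', ∃ a : ℕ,
        Cfsg.classInner (Cfsg.indFun t.1 (fun e => (t.2.1 e : ℂ))) χ = (a : ℂ) ∧ s ∣ a) →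
      ∃ z : ℤ, Cfsg.classInner
        (l'.map fun t => (t.2.2 : ℂ) • Cfsg.indFun t.1 (fun e => (t.2.1 e : ℂ))).sum χ = (z : ℂ)
        ∧ (s : ℤ) ∣ z := by
    intro s l'
    induction l' with
    | nil =>
      intro _
      refine ⟨0, ?_, dvd_zero _⟩
      simp [classInner_zero_left]
    | cons t l' ih =>
      intro h
      obtain ⟨z, hz, hsz⟩ := ih (fun t' ht' => h t' (List.mem_cons_of_mem _ ht'))
      obtain ⟨a, ha, hsa⟩ := h t List.mem_cons_self
      refine ⟨t.2.2 * a + z, ?_, ?_⟩
      · rw [List.map_cons, List.sum_cons, classInner_add_left, classInner_smul_left, ha, hz]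
        push_cast
        ring
      · exact dvd_add (Dvd.dvd.mul_left (Int.natCast_dvd_natCast.mpr hsa) _) hsz
  have hone : Cfsg.classInner
      (l.map fun t => (t.2.2 : ℂ) • Cfsg.indFun t.1 (fun e => (t.2.1 e : ℂ))).sum χ = 1 := by
    rw [← hsum]
    exact classInner_irr_self hχ
  by_cases hex : ∃ a : ℕ, 1 ≤ a ∧ KReal K ((a : ℂ) • χ)
  · have hs1 := Nat.find_spec hex
    have hmin : ∀ t, 1 ≤ t → t < Nat.find hex → ¬ KReal K ((t : ℂ) • χ) := by
      intro t ht1 htlt hk
      exact Nat.find_min hex htlt ⟨ht1, hk⟩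
    have hdvd := dvd_of_kReal_min hχ (Nat.find hex) hs1.1 hs1.2 hmin
    obtain ⟨z, hz, hsz⟩ := hlist (Nat.find hex) l (fun t ht => by
      obtain ⟨a, ha, hk⟩ := hterm t ht
      exact ⟨a, ha, hdvd a hk⟩)
    rw [hone] at hz
    have hz1 : z = 1 := by exact_mod_cast hz.symm
    rw [hz1] at hsz
    have h1 : Nat.find hex = 1 := by
      have := Int.natCast_dvd_natCast.mp (by simpa using hsz : ((Nat.find hex : ℕ) : ℤ) ∣ ((1 : ℕ) : ℤ))
      exact Nat.dvd_one.mp this
    have h2 := hs1.2
    rw [h1] at h2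
    simpa using h2
  · exfalso
    obtain ⟨z, hz, hsz⟩ := hlist 0 l (fun t ht => by
      obtain ⟨a, ha, hk⟩ := hterm t ht
      refine ⟨a, ha, ?_⟩
      rcases Nat.eq_zero_or_pos a with h0 | hpos
      · rw [h0]
      · exact absurd ⟨a, hpos, hk⟩ hex)
    rw [hone] at hz
    have hz1 : z = 1 := by exact_mod_cast hz.symm
    rw [hz1] at hsz
    simp at hsz

/-- every character is realizable over a subfield containing enough roots of unity -/
theorem kReal_of_char {K : Subfield ℂ}
    (hK : ∀ z : ℂ, z ^ Monoid.exponent G = 1 → z ∈ K) {χ : G → ℂ}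
    (hχ : Cfsg.IsCharacter G χ) : KReal K χ := by
  classical
  have := Fintype.ofFinite (Cfsg.IrrCharacter G)
  rw [class_fun_expand χ (isClassFunction_of_isCharacter hχ)]
  apply kReal_sum
  intro τ _
  obtain ⟨m, hm⟩ := classInner_isCharacter_nat hχ (isCharacter_of_isIrrCharacter τ.2)
  rw [hm]
  exact kReal_nsmul (kReal_of_irr hK τ.2) m

end isotypic

end Cfsg.Agent.Lib.Helper2
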