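import Mathlib
import Cfsg.Prelude
import Cfsg.Agent.Lib.Helper2.TwoDegG
import Cfsg.Agent.Lib.Helper2.CharTaketa
import Cfsg.Agent.Lib.Helper2.CharMono

/-!
# Two character degrees: the commutator subgroup is abelian
-/

set_option autoImplicit false

namespace Cfsg.Agent.Lib.Helper2

open scoped ComplexConjugate

universe u

set_option maxHeartbeats 1000000 in
/-- Taketa's argument for two character degrees: a monomial group with character degrees in
`{1, m}` has an abelian commutator subgroup -/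
theorem taketa_two {G : Type*} [Group G] [Fintype G] (m : ℕ)
    (hcd : ∀ χ : G → ℂ, Cfsg.IsIrrCharacter G χ → χ 1 = 1 ∨ χ 1 = (m : ℂ))
    (hM : ∀ χ : G → ℂ, Cfsg.IsIrrCharacter G χ →
      ∃ (H : Subgroup G) (lam : H →* ℂˣ), χ = Cfsg.indFun H (fun h => (lam h : ℂ))) :
    ∀ a ∈ commutator G, ∀ b ∈ commutator G, a * b = b * a := by
  classical
  have := Fintype.ofFinite (Cfsg.IrrCharacter G)
  have hlin : ∀ χ : G → ℂ, Cfsg.IsIrrCharacter G χ → χ 1 = 1 →
      ∀ y ∈ commutator G, χ y = χ 1 := by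
    intro χ hχ h1 y hy
    obtain ⟨lam, hlam⟩ := hom_of_irr_deg_one hχ h1
    have h4 := Abelianization.commutator_subset_ker lam hy
    rw [hlam]
    simp [MonoidHom.mem_ker.mp h4]
  have key : ∀ χ : G → ℂ, Cfsg.IsIrrCharacter G χ →
      ∀ g ∈ ⁅commutator G, commutator G⁆, χ g = χ 1 := by
    intro χ hχ g hg
    have hgc : g ∈ commutator G := Subgroup.commutator_le_self _ hg
    by_cases hχ1 : χ 1 = 1
    · exact hlin χ hχ hχ1 g hgc
    have hχm : χ 1 = (m : ℂ) := (hcd χ hχ).resolve_left hχ1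
    obtain ⟨H, lam, hχH⟩ := hM χ hχ
    have hidx : H.index = m := by
      have h2 := indFun_apply_one H (fun h => (lam h : ℂ))
      rw [← hχH, hχm, map_one, Units.val_one, mul_one] at h2
      exact_mod_cast h2.symm
    have hm0 : m ≠ 0 := by rw [← hidx]; exact Subgroup.index_ne_zero_of_finite
    have h1H : Cfsg.IsIrrCharacter H (fun _ => (1 : ℂ)) := isIrrCharacter_one
    have h1G : Cfsg.IsIrrCharacter G (fun _ => (1 : ℂ)) := isIrrCharacter_one
    have hπc : Cfsg.IsCharacter G (Cfsg.indFun H (fun _ => (1 : ℂ))) :=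
      indFun_isCharacter H (isCharacter_of_isIrrCharacter h1H)
    have hπ1 : Cfsg.classInner (Cfsg.indFun H (fun _ => (1 : ℂ))) (fun _ => (1 : ℂ)) = 1 := by
      rw [frobenius_reciprocity H _ _ (isClassFunction_of_isIrrCharacter h1G)]
      exact classInner_irr_self h1H
    have hπ'c : Cfsg.IsCharacter G (Cfsg.indFun H (fun _ => (1 : ℂ)) - fun _ => (1 : ℂ)) :=
      IsCharacter.sub_irr hπc h1G (by rw [hπ1]; exact one_ne_zero)
    have hπdeg : Cfsg.indFun H (fun _ => (1 : ℂ)) 1 = ((m : ℕ) : ℂ) := by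
      rw [indFun_apply_one, hidx, mul_one]
    have hDH : commutator G ≤ H := by
      intro y hy
      apply mem_of_perm_char_eq H y
      have hexp := class_fun_expand (Cfsg.indFun H (fun _ => (1 : ℂ)))
        (isClassFunction_of_isCharacter hπc)
      rw [hexp, Finset.sum_apply, Finset.sum_apply]
      apply Finset.sum_congr rfl
      intro ψ _
      simp only [Pi.smul_apply, smul_eq_mul]
      by_cases h0 : Cfsg.classInner (Cfsg.indFun H (fun _ => (1 : ℂ))) (ψ : G → ℂ) = 0
      · rw [h0, zero_mul, zero_mul]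
      congr 1
      by_cases hψ1 : (ψ : G → ℂ) = fun _ => (1 : ℂ)
      · rw [hψ1]
      have hne : Cfsg.classInner (Cfsg.indFun H (fun _ => (1 : ℂ)) - fun _ => (1 : ℂ))
          (ψ : G → ℂ) ≠ 0 := by
        rw [classInner_sub_left, classInner_irr_ne h1G ψ.2 (fun e => hψ1 e.symm), sub_zero]
        exact h0
      obtain ⟨N, e, hN, he, hle'⟩ := irr_deg_le_of_inner_ne_zero hπ'c ψ.2 hne
      have hN' : N + 1 = m := by
        have h5 : (Cfsg.indFun H (fun _ => (1 : ℂ)) - (fun _ => (1 : ℂ) : G → ℂ)) 1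
            = (m : ℂ) - 1 := by
          rw [Pi.sub_apply, hπdeg]
        rw [h5] at hN
        have h6 : (m : ℂ) = ((N + 1 : ℕ) : ℂ) := by
          push_cast; rw [← hN]; ring
        exact_mod_cast h6.symm
      apply hlin ψ ψ.2 _ y hy
      rcases hcd ψ ψ.2 with h7 | h7
      · exact h7
      · rw [he] at h7
        have : e = m := by exact_mod_cast h7
        omega
    have hgH' : ∀ x : G, x⁻¹ * g * x ∈ ⁅H, H⁆ := by
      intro x
      have hnorm : (⁅commutator G, commutator G⁆).Normal := inferInstance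
      have h1 := hnorm.conj_mem g hg x⁻¹
      rw [inv_inv] at h1
      exact Subgroup.commutator_mono hDH hDH h1
    have hlam1 : ∀ y (hy : y ∈ H), y ∈ ⁅H, H⁆ → (lam ⟨y, hy⟩ : ℂ) = 1 := by
      intro y hy hyc
      rw [← Subgroup.map_subtype_commutator] at hyc
      obtain ⟨z, hz, hzy⟩ := hyc
      have h6 : z = ⟨y, hy⟩ := Subtype.ext hzy
      rw [← h6]
      have h7 := Abelianization.commutator_subset_ker lam hz
      rw [MonoidHom.mem_ker.mp h7]
      rfl
    have hHH : ⁅H, H⁆ ≤ H := Subgroup.commutator_le_self H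
    rw [hχH, indFun_apply, indFun_apply]
    congr 1
    apply Finset.sum_congr rfl
    intro x _
    have hx := hgH' x
    have h1mem : x⁻¹ * 1 * x ∈ H := by simp
    rw [extendByZero_of_mem H _ (hHH hx), hlam1 _ (hHH hx) hx, extendByZero_of_mem H _ h1mem]
    have e1 : (⟨x⁻¹ * 1 * x, h1mem⟩ : H) = 1 := Subtype.ext (by simp)
    rw [e1, map_one]
    rfl
  intro a ha b hb
  have hc : a * b * a⁻¹ * b⁻¹ ∈ ⁅commutator G, commutator G⁆ := by
    have h1 := Subgroup.commutator_mem_commutator ha hb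
    rwa [commutatorElement_def] at h1
  have hc1 : a * b * a⁻¹ * b⁻¹ = 1 :=
    eq_one_of_forall_irr_eq (fun χ hχ => key χ hχ _ hc)
  calc a * b = (a * b * a⁻¹ * b⁻¹) * (b * a) := by group
    _ = b * a := by rw [hc1, one_mul]

set_option maxHeartbeats 1000000 in
/-- two character degrees: the commutator subgroup is abelian -/
theorem two_deg_commutator_comm {G : Type u} [Group G] [Fintype G] (m : ℕ) (hm1 : m ≠ 1)
    (hcd : ∀ χ : G → ℂ, Cfsg.IsIrrCharacter G χ → χ 1 = 1 ∨ χ 1 = (m : ℂ))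
    (hexm : ∃ χ : G → ℂ, Cfsg.IsIrrCharacter G χ ∧ χ 1 = (m : ℂ)) :
    ∀ a ∈ commutator G, ∀ b ∈ commutator G, a * b = b * a := by
  classical
  have hm0 : m ≠ 0 := by
    obtain ⟨χ, hχ, hχm⟩ := hexm
    obtain ⟨d, hd0, hd⟩ := irr_apply_one hχ
    rw [hχm] at hd
    have : m = d := by exact_mod_cast hd
    omega
  rcases two_deg_main m hm1 hcd hexm with ⟨A, hAn, hAab, hAidx⟩ |
    ⟨p, e, hp, hme, P, A, hPn, hAn, hPp, hAab, hinf, hsup⟩
  · haveI := hAn
    have := Fintype.ofFinite (G ⧸ A)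
    have hcommQ : ∀ x y : G ⧸ A, x * y = y * x := by
      by_contra hnc
      push Not at hnc
      obtain ⟨x₀, y₀, hxy⟩ := hnc
      have hex : ∃ β' : G ⧸ A → ℂ, Cfsg.IsIrrCharacter (G ⧸ A) β' ∧ β' 1 ≠ 1 := by
        by_contra hno
        push Not at hno
        exact hxy (comm_of_all_linear hno x₀ y₀)
      obtain ⟨β', hβ', hβ'1⟩ := hex
      have hβ := isIrrCharacter_comp_of_surjective hβ' (QuotientGroup.mk' A)
        (QuotientGroup.mk'_surjective _)
      have hβ'm : β' 1 = (m : ℂ) := by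
        rcases hcd _ hβ with h1 | h1
        · simp only [Function.comp_apply, map_one] at h1; exact absurd h1 hβ'1
        · simpa only [Function.comp_apply, map_one] using h1
      have hx1 : x₀ ≠ 1 := by
        rintro rfl
        exact hxy (by rw [one_mul, mul_one])
      obtain ⟨d, hd, hdle⟩ := irr_deg_le_index_of_comm (Subgroup.zpowers x₀) (by
        intro a ha b hb
        obtain ⟨i, rfl⟩ := Subgroup.mem_zpowers_iff.mp ha
        obtain ⟨j, rfl⟩ := Subgroup.mem_zpowers_iff.mp hb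
        exact Commute.zpow_zpow_self x₀ i j) hβ'
      rw [hβ'm] at hd
      have hdm : m = d := by exact_mod_cast hd
      have h1 := Subgroup.card_mul_index (Subgroup.zpowers x₀)
      have h2 : Nat.card (G ⧸ A) = m := by rw [← Subgroup.index_eq_card, hAidx]
      have h3 : 2 ≤ Nat.card (Subgroup.zpowers x₀) := by
        rw [Nat.card_zpowers]
        have h4 := orderOf_pos x₀
        have h5 : orderOf x₀ ≠ 1 := fun h => hx1 (orderOf_eq_one_iff.mp h)
        omega
      rw [h2] at h1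
      have h6 : 2 * (Subgroup.zpowers x₀).index ≤ m := by
        rw [← h1]; exact Nat.mul_le_mul_right _ h3
      omega
    have hle : commutator G ≤ A := by
      rw [commutator_eq_closure, Subgroup.closure_le]
      rintro z ⟨x, y, rfl⟩
      rw [SetLike.mem_coe, ← QuotientGroup.eq_one_iff, commutatorElement_def,
        QuotientGroup.mk_mul, QuotientGroup.mk_mul, QuotientGroup.mk_mul,
        hcommQ (QuotientGroup.mk x) (QuotientGroup.mk y), QuotientGroup.mk_inv,
        QuotientGroup.mk_inv]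
      group
    intro a ha b hb
    exact hAab a (hle ha) b (hle hb)
  · haveI := hAn
    haveI := hPn
    haveI : Fact p.Prime := ⟨hp⟩
    have := Fintype.ofFinite (G ⧸ A)
    have hcdQ : ∀ χ : G ⧸ A → ℂ, Cfsg.IsIrrCharacter (G ⧸ A) χ → χ 1 = 1 ∨ χ 1 = (m : ℂ) := by
      intro χ hχ
      have h1 := hcd _ (isIrrCharacter_comp_of_surjective hχ (QuotientGroup.mk' A)
        (QuotientGroup.mk'_surjective A))
      simpa only [Function.comp_apply, map_one] using h1
    have hdecomp : ∀ g : G, ∃ u ∈ P, ∃ a ∈ A, u * a = g := by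
      intro g
      have hg : g ∈ P ⊔ A := hsup ▸ Subgroup.mem_top g
      exact Subgroup.mem_sup_of_normal_right.mp hg
    have hPG : IsPGroup p (G ⧸ A) := by
      intro q
      obtain ⟨g, rfl⟩ := QuotientGroup.mk_surjective q
      obtain ⟨u, hu, a, ha, rfl⟩ := hdecomp g
      obtain ⟨k, hk⟩ := hPp ⟨u, hu⟩
      refine ⟨k, ?_⟩
      have h1 : u ^ (p ^ k) = 1 := congrArg Subtype.val hk
      rw [QuotientGroup.mk_mul, (QuotientGroup.eq_one_iff a).mpr ha, mul_one,
        ← QuotientGroup.mk_pow, h1, QuotientGroup.mk_one]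
    haveI : Group.IsNilpotent (G ⧸ A) := hPG.isNilpotent
    have hM : ∀ χ : G ⧸ A → ℂ, Cfsg.IsIrrCharacter (G ⧸ A) χ →
        ∃ (H : Subgroup (G ⧸ A)) (lam : H →* ℂˣ), χ = Cfsg.indFun H (fun h => (lam h : ℂ)) :=
      fun χ hχ => monomial_aux (Nat.card (G ⧸ A)) (G ⧸ A) le_rfl χ hχ
    have hQ := taketa_two m hcdQ hM
    have hcommP : ∀ x y : G, (QuotientGroup.mk x : G ⧸ P) * QuotientGroup.mk y
        = QuotientGroup.mk y * QuotientGroup.mk x := by
      intro x y
      obtain ⟨u, hu, a, ha, rfl⟩ := hdecomp x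
      obtain ⟨u', hu', a', ha', rfl⟩ := hdecomp y
      have e1 : (QuotientGroup.mk (u * a) : G ⧸ P) = QuotientGroup.mk a := by
        rw [QuotientGroup.mk_mul, (QuotientGroup.eq_one_iff u).mpr hu, one_mul]
      have e2 : (QuotientGroup.mk (u' * a') : G ⧸ P) = QuotientGroup.mk a' := by
        rw [QuotientGroup.mk_mul, (QuotientGroup.eq_one_iff u').mpr hu', one_mul]
      rw [e1, e2, ← QuotientGroup.mk_mul, ← QuotientGroup.mk_mul, hAab a ha a' ha']
    have hGP : commutator G ≤ P := by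
      rw [commutator_eq_closure, Subgroup.closure_le]
      rintro z ⟨x, y, rfl⟩
      rw [SetLike.mem_coe, ← QuotientGroup.eq_one_iff, commutatorElement_def,
        QuotientGroup.mk_mul, QuotientGroup.mk_mul, QuotientGroup.mk_mul,
        hcommP x y, QuotientGroup.mk_inv, QuotientGroup.mk_inv]
      group
    intro a ha b hb
    have hcP : a * b * a⁻¹ * b⁻¹ ∈ P :=
      P.mul_mem (P.mul_mem (P.mul_mem (hGP ha) (hGP hb)) (P.inv_mem (hGP ha))) (P.inv_mem (hGP hb))
    have hcA : a * b * a⁻¹ * b⁻¹ ∈ A := by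
      have ha' : (QuotientGroup.mk' A) a ∈ commutator (G ⧸ A) := by
        rw [commutator_quotient_eq_map A]; exact Subgroup.mem_map_of_mem _ ha
      have hb' : (QuotientGroup.mk' A) b ∈ commutator (G ⧸ A) := by
        rw [commutator_quotient_eq_map A]; exact Subgroup.mem_map_of_mem _ hb
      have h1 := hQ _ ha' _ hb'
      rw [← QuotientGroup.eq_one_iff]
      have h2 : (QuotientGroup.mk (a * b * a⁻¹ * b⁻¹) : G ⧸ A)
          = (QuotientGroup.mk' A) a * (QuotientGroup.mk' A) b * ((QuotientGroup.mk' A) a)⁻¹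
            * ((QuotientGroup.mk' A) b)⁻¹ := rfl
      rw [h2, h1]
      group
    have hc1 : a * b * a⁻¹ * b⁻¹ = 1 := by
      have h1 : a * b * a⁻¹ * b⁻¹ ∈ P ⊓ A := Subgroup.mem_inf.mpr ⟨hcP, hcA⟩
      rw [hinf] at h1
      exact Subgroup.mem_bot.mp h1
    calc a * b = (a * b * a⁻¹ * b⁻¹) * (b * a) := by group
      _ = b * a := by rw [hc1, one_mul]

end Cfsg.Agent.Lib.Helper2
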