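import Mathlib
import Cfsg.Prelude
import Cfsg.Agent.Lib.Helper2.TwoDegI

/-!
# Degrees `1` and `p`: a normal subgroup of index `p ^ 2` carrying a vanishing character
-/

set_option autoImplicit false

namespace Cfsg.Agent.Lib.Helper2

open scoped ComplexConjugate

universe u

section part3

variable {G : Type u} [Group G] [Fintype G] (p : ℕ) [Fact p.Prime]

set_option maxHeartbeats 1600000 in
/-- if no abelian normal subgroup has index `p`, the subgroup `Z` is abelian -/
theorem sq_index_abelian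
    (hcd : ∀ χ : G → ℂ, Cfsg.IsIrrCharacter G χ → χ 1 = 1 ∨ χ 1 = (p : ℂ))
    (hno : ¬ ∃ A : Subgroup G, A.Normal ∧ (∀ a ∈ A, ∀ b ∈ A, a * b = b * a) ∧ A.index = p)
    (Z : Subgroup G) [hZn : Z.Normal] (hZidx : Z.index = p ^ 2)
    (hZcomm : ∀ x y : G, x * y * x⁻¹ * y⁻¹ ∈ Z)
    (χ : G → ℂ) (hχ : Cfsg.IsIrrCharacter G χ) (hχp : χ 1 = (p : ℂ))
    (hχv : ∀ g : G, g ∉ Z → χ g = 0) : ∀ a ∈ Z, ∀ b ∈ Z, a * b = b * a := by
  classical
  have hp : p.Prime := Fact.out
  have hp2 : 2 ≤ p := hp.two_le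
  -- a subgroup of index p containing Z
  have hcardQ : Nat.card (G ⧸ Z) = p ^ 2 := by rw [← Subgroup.index_eq_card, hZidx]
  obtain ⟨Kb, hKb⟩ := Sylow.exists_subgroup_card_pow_prime p (n := 1)
    (G := G ⧸ Z) (by rw [hcardQ]; exact Dvd.intro p (by ring))
  obtain ⟨M, hMdef⟩ : ∃ M : Subgroup G, M = Kb.comap (QuotientGroup.mk' Z) := ⟨_, rfl⟩
  have hZM : Z ≤ M := by
    intro z hz
    rw [hMdef, Subgroup.mem_comap]
    have : (QuotientGroup.mk' Z) z = 1 := (QuotientGroup.eq_one_iff z).mpr hz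
    rw [this]; exact Kb.one_mem
  have hMidx : M.index = p := by
    rw [hMdef, Subgroup.index_comap_of_surjective _ (QuotientGroup.mk'_surjective Z)]
    have h1 := Kb.index_mul_card
    rw [hKb, hcardQ, pow_one] at h1
    have : Kb.index * p = p * p := by rw [h1]; ring
    exact Nat.eq_of_mul_eq_mul_right hp.pos this
  haveI hMn : M.Normal := by
    constructor
    intro m hm g
    have e : g * m * g⁻¹ = (g * m * g⁻¹ * m⁻¹) * m := by group
    rw [e]
    exact M.mul_mem (hZM (hZcomm g m)) hm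
  have := Fintype.ofFinite M
  have hMnab : ¬ ∀ a ∈ M, ∀ b ∈ M, a * b = b * a := fun h => hno ⟨M, hMn, h, hMidx⟩
  obtain ⟨Z', hZ'def⟩ : ∃ Z' : Subgroup M, Z' = Z.subgroupOf M := ⟨_, rfl⟩
  haveI hZ'n : Z'.Normal := by rw [hZ'def]; infer_instance
  have := Fintype.ofFinite Z'
  have hZ'idx : Z'.index = p := by
    have h1 := Subgroup.relIndex_mul_index hZM
    rw [hMidx, hZidx] at h1
    have h2 : Z.relIndex M * p = p * p := by rw [h1]; ring
    rw [hZ'def]
    exact Nat.eq_of_mul_eq_mul_right hp.pos h2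
  -- degrees of M
  have hdegM : ∀ ψ : M → ℂ, Cfsg.IsIrrCharacter M ψ → ψ 1 = 1 ∨ ψ 1 = (p : ℂ) := by
    intro ψ hψ
    obtain ⟨χ', hχ', hcon⟩ := exists_irr_over M hψ
    obtain ⟨b, hb, -⟩ := degree_ratio M hχ' hψ hcon
    obtain ⟨d, hd0, hd⟩ := irr_apply_one hψ
    rcases hcd χ' hχ' with h1 | h1
    · rw [h1, hd] at hb
      have h2 : 1 = b * d := by exact_mod_cast hb
      have h3 : d = 1 := Nat.eq_one_of_mul_eq_one_left h2.symm
      left; rw [hd, h3]; simp
    · rw [h1, hd] at hb
      have h2 : p = b * d := by exact_mod_cast hb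
      rcases (Nat.dvd_prime hp).mp (show d ∣ p from ⟨b, by rw [h2]; ring⟩) with h3 | h3
      · left; rw [hd, h3]; simp
      · right; rw [hd, h3]
  -- nonlinear characters of M are invariant
  have hinvM : ∀ ψ : M → ℂ, Cfsg.IsIrrCharacter M ψ → ψ 1 ≠ 1 → ∀ g : G, conjFun M ψ g = ψ := by
    intro ψ hψ hψ1 g
    by_contra hne
    have hψp : ψ 1 = (p : ℂ) := (hdegM ψ hψ).resolve_left hψ1
    obtain ⟨T, hTdef⟩ : ∃ T : Subgroup G, T = inertia M ψ := ⟨_, rfl⟩
    have hMT : M ≤ T := by
      intro m hm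
      rw [hTdef, mem_inertia]
      exact conjFun_of_mem M (isClassFunction_of_isIrrCharacter hψ) hm
    have hgT : g ∉ T := by
      intro h
      rw [hTdef, mem_inertia] at h
      exact hne h
    have hTidx : T.index = p := by
      have h1 : T.index ∣ p := hMidx ▸ Subgroup.index_dvd_of_le hMT
      rcases (Nat.dvd_prime hp).mp h1 with h2 | h2
      · exact absurd (Subgroup.index_eq_one.mp h2 ▸ Subgroup.mem_top g) hgT
      · exact h2
    have hTM : T ≤ M := by
      have h1 := Subgroup.relIndex_mul_index hMT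
      rw [hTidx, hMidx] at h1
      have h2 : M.relIndex T * p = 1 * p := by rw [h1, one_mul]
      exact Subgroup.relIndex_eq_one.mp (Nat.eq_of_mul_eq_mul_right hp.pos h2)
    have hT : ∀ g' : G, g' ∈ M ↔
        ∀ h : M, ψ ⟨g' * h * g'⁻¹, hMn.conj_mem h h.2 g'⟩ = ψ h := by
      intro g'
      constructor
      · intro hg' h
        have h1 : conjFun M ψ g' = ψ := by
          have := hMT hg'
          rwa [hTdef, mem_inertia] at this
        have h2 := congrFun h1 h
        rw [conjFun_apply] at h2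
        exact h2
      · intro hinv
        apply hTM
        rw [hTdef, mem_inertia]
        funext h
        rw [conjFun_apply]
        exact hinv h
    have hirr := ind_irr_of_ext M M ψ hψ hT le_rfl ψ hψ 1 one_ne_zero (by intro h; simp)
    have h1 : Cfsg.indFun M ψ 1 = ((p * p : ℕ) : ℂ) := by
      rw [indFun_apply_one, hMidx, hψp]; push_cast; rfl
    rcases hcd _ hirr with h2 | h2
    · rw [h1] at h2
      have : p * p = 1 := by exact_mod_cast h2
      nlinarith
    · rw [h1] at h2
      have : p * p = p := by exact_mod_cast h2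
      nlinarith
  -- χ is induced from a linear character of M
  have hχvM : ∀ g : G, g ∉ M → χ g = 0 := fun g hg => hχv g (fun h => hg (hZM h))
  have hres : Cfsg.IsCharacter M (fun m : M => χ m) :=
    IsCharacter.restrict (isCharacter_of_isIrrCharacter hχ) M
  have hresne : (fun m : M => χ m) ≠ 0 := by
    intro h
    have h1 := congrFun h 1
    simp only [Pi.zero_apply, Subgroup.coe_one] at h1
    rw [hχp] at h1
    have : p = 0 := by exact_mod_cast h1
    omega
  obtain ⟨lf, hlf, hlfne⟩ := exists_irr_constituent hres hresne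
  have hlf1 : lf 1 = 1 := by
    by_contra h
    have hlfp : lf 1 = (p : ℂ) := (hdegM lf hlf).resolve_left h
    have heq : (fun m : M => χ m) = lf := eq_of_constituent_same_degree hres hlf hlfne (by
      show χ ((1 : M) : G) = lf 1
      rw [Subgroup.coe_one, hχp, hlfp])
    obtain ⟨r, hr, -, hreq⟩ := restrict_norm_le M hχ
    have hr' := hreq hχvM
    rw [heq, classInner_irr_self hlf] at hr
    have h1 : (1 : ℝ) = r := by exact_mod_cast hr
    rw [hr', hMidx] at h1
    have : (1 : ℕ) = p := by exact_mod_cast h1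
    omega
  obtain ⟨lam, hlam⟩ := hom_of_irr_deg_one hlf hlf1
  have hχind : Cfsg.indFun M lf = χ := by
    apply eq_of_constituent_same_degree (indFun_isCharacter M (isCharacter_of_isIrrCharacter hlf))
      hχ
    · rw [frobenius_reciprocity M lf χ (isClassFunction_of_isIrrCharacter hχ),
        ← classInner_conj_symm]
      simpa using hlfne
    · rw [indFun_apply_one, hMidx, hlf1, mul_one, hχp]
  -- nonlinear characters of M vanish off Z
  have hvanM : ∀ ψ : M → ℂ, Cfsg.IsIrrCharacter M ψ → ψ 1 ≠ 1 →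
      ∀ x : M, (x : G) ∉ Z → ψ x = 0 := by
    intro ψ hψ hψ1 x hx
    have hψinv := hinvM ψ hψ hψ1
    have hlψ : Cfsg.IsIrrCharacter M ((fun m => (lam m : ℂ)) * ψ) := isIrrCharacter_hom_mul lam hψ
    have hlψinv := hinvM _ hlψ (by
      rw [Pi.mul_apply, map_one, Units.val_one, one_mul]; exact hψ1)
    have key : ∀ g : G, ψ x * Cfsg.extendByZero M lf (g⁻¹ * (x : G) * g) = ψ x * (lam x : ℂ) := by
      intro g
      have hmem : g⁻¹ * (x : G) * g ∈ M := by
        have := hMn.conj_mem x x.2 g⁻¹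
        rwa [inv_inv] at this
      rw [extendByZero_of_mem M lf hmem, hlam]
      have h1 := congrFun (hlψinv g⁻¹) x
      have h2 := congrFun (hψinv g⁻¹) x
      rw [conjFun_apply] at h1 h2
      rw [Pi.mul_apply, Pi.mul_apply] at h1
      have e : (⟨g⁻¹ * (x : G) * g⁻¹⁻¹, hMn.conj_mem x x.2 g⁻¹⟩ : M) = ⟨g⁻¹ * (x : G) * g, hmem⟩ :=
        Subtype.ext (show g⁻¹ * (x : G) * g⁻¹⁻¹ = g⁻¹ * (x : G) * g by rw [inv_inv])
      have h1' : (lam ⟨g⁻¹ * (x : G) * g, hmem⟩ : ℂ) * ψ ⟨g⁻¹ * (x : G) * g, hmem⟩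
          = (lam x : ℂ) * ψ x := by
        have := h1
        rw [e] at this
        exact this
      have h2' : ψ ⟨g⁻¹ * (x : G) * g, hmem⟩ = ψ x := by
        have := h2
        rw [e] at this
        exact this
      rw [h2'] at h1'
      rw [mul_comm (ψ x), h1', mul_comm]
    have h3 : ψ x * χ x = (Nat.card M : ℂ)⁻¹ * ((Nat.card G : ℂ) * (ψ x * (lam x : ℂ))) := by
      rw [← hχind, indFun_apply, ← mul_assoc, mul_comm (ψ x), mul_assoc, Finset.mul_sum,
        Finset.sum_congr rfl (fun g _ => key g), Finset.sum_const, Finset.card_univ,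
        nsmul_eq_mul, ← Nat.card_eq_fintype_card]
    rw [hχv x hx, mul_zero] at h3
    have h4 : (Nat.card M : ℂ)⁻¹ ≠ 0 := inv_ne_zero (card_ne_zero_complex M)
    have h5 : (Nat.card G : ℂ) ≠ 0 := card_ne_zero_complex G
    have h6 : (lam x : ℂ) ≠ 0 := Units.ne_zero _
    have h7 := h3.symm
    rcases mul_eq_zero.mp h7 with h8 | h8
    · exact absurd h8 h4
    · rcases mul_eq_zero.mp h8 with h9 | h9
      · exact absurd h9 h5
      · rcases mul_eq_zero.mp h9 with h10 | h10
        · exact h10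
        · exact absurd h10 h6
  -- all irreducible characters of Z' are linear
  have key : ∀ ϑ : Z' → ℂ, Cfsg.IsIrrCharacter Z' ϑ → ϑ 1 = 1 := by
    intro ϑ hϑ
    by_contra hϑ1
    obtain ⟨ψ, hψ, hcon⟩ := exists_irr_over Z' hϑ
    obtain ⟨b, hb, -⟩ := degree_ratio Z' hψ hϑ hcon
    obtain ⟨d, hd0, hd⟩ := irr_apply_one hϑ
    have hd1 : d ≠ 1 := fun h => hϑ1 (by rw [hd, h]; simp)
    have hψ1 : ψ 1 ≠ 1 := by
      intro h
      rw [h, hd] at hb
      have h2 : 1 = b * d := by exact_mod_cast hb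
      exact hd1 (Nat.eq_one_of_mul_eq_one_left h2.symm)
    have hψp : ψ 1 = (p : ℂ) := (hdegM ψ hψ).resolve_left hψ1
    rw [hψp, hd] at hb
    have hpbd : p = b * d := by exact_mod_cast hb
    have hdp : d = p :=
      ((Nat.dvd_prime hp).mp (show d ∣ p from ⟨b, by rw [hpbd]; ring⟩)).resolve_left hd1
    have heq : (fun z : Z' => ψ z) = ϑ := eq_of_constituent_same_degree
      (IsCharacter.restrict (isCharacter_of_isIrrCharacter hψ) Z') hϑ hcon (by
        show ψ ((1 : Z') : M) = ϑ 1
        rw [Subgroup.coe_one, hψp, hd, hdp])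
    obtain ⟨r, hr, -, hreq⟩ := restrict_norm_le Z' hψ
    have hr' := hreq (fun x hx => hvanM ψ hψ hψ1 x (fun h => hx (by
      rw [hZ'def]; exact Subgroup.mem_subgroupOf.mpr h)))
    rw [heq, classInner_irr_self hϑ] at hr
    have h1 : (1 : ℝ) = r := by exact_mod_cast hr
    rw [hr', hZ'idx] at h1
    have : (1 : ℕ) = p := by exact_mod_cast h1
    omega
  intro a ha b hb
  have ha' : (⟨a, hZM ha⟩ : M) ∈ Z' := by rw [hZ'def]; exact Subgroup.mem_subgroupOf.mpr ha
  have hb' : (⟨b, hZM hb⟩ : M) ∈ Z' := by rw [hZ'def]; exact Subgroup.mem_subgroupOf.mpr hb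
  have h1 := comm_of_all_linear key ⟨⟨a, hZM ha⟩, ha'⟩ ⟨⟨b, hZM hb⟩, hb'⟩
  exact congrArg (fun z : Z' => ((z : M) : G)) h1

set_option maxHeartbeats 1000000 in
/-- stabilizers of linear characters of `Z` are strictly bigger than `Z`, and no element outside
`Z` centralizes `Z` -/
theorem sq_index_stab
    (hcd : ∀ χ : G → ℂ, Cfsg.IsIrrCharacter G χ → χ 1 = 1 ∨ χ 1 = (p : ℂ))
    (hno : ¬ ∃ A : Subgroup G, A.Normal ∧ (∀ a ∈ A, ∀ b ∈ A, a * b = b * a) ∧ A.index = p)
    (Z : Subgroup G) [hZn : Z.Normal] (hZidx : Z.index = p ^ 2)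
    (hZcomm : ∀ x y : G, x * y * x⁻¹ * y⁻¹ ∈ Z)
    (hG : ∃ a b : G, a * b ≠ b * a) (hZab : ∀ a ∈ Z, ∀ b ∈ Z, a * b = b * a) :
    (∀ ν : Z →* ℂˣ, ∃ w, w ∉ Z ∧ w ∈ linStab Z ν) ∧
      (∀ w, w ∉ Z → w ∉ Subgroup.centralizer (Z : Set G)) := by
  classical
  have hp : p.Prime := Fact.out
  have hp2 : 2 ≤ p := hp.two_le
  have := Fintype.ofFinite Z
  constructor
  · intro ν
    obtain ⟨θ, hθdef⟩ : ∃ θ : Z → ℂ, θ = fun a => (ν a : ℂ) := ⟨_, rfl⟩
    have hθ : Cfsg.IsIrrCharacter Z θ := hθdef ▸ isIrrCharacter_of_hom ν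
    obtain ⟨χ', hχ', hcon⟩ := exists_irr_over Z hθ
    obtain ⟨e, he0, he⟩ := clifford_sum Z hχ' hθ hcon
    have h1 := congrFun he 1
    simp only [Pi.smul_apply, Finset.sum_apply, smul_eq_mul, Subgroup.coe_one] at h1
    have h2 : ∀ ψ ∈ Finset.univ.image (fun k : G => conjFun Z θ k), ψ 1 = 1 := by
      intro ψ hψ
      obtain ⟨k, -, rfl⟩ := Finset.mem_image.mp hψ
      rw [conjFun_apply, hθdef]
      have e1 : (⟨k * ((1 : Z) : G) * k⁻¹, hZn.conj_mem _ (1 : Z).2 k⟩ : Z) = 1 :=
        Subtype.ext (by simp)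
      rw [e1]; simp
    rw [Finset.sum_congr rfl h2, Finset.sum_const, nsmul_eq_mul, mul_one] at h1
    obtain ⟨c, hc⟩ : ∃ c, c = (Finset.univ.image (fun k : G => conjFun Z θ k)).card := ⟨_, rfl⟩
    rw [← hc] at h1
    obtain ⟨T, hTdef⟩ : ∃ T : Subgroup G, T = linStab Z ν := ⟨_, rfl⟩
    have hTmem : ∀ g : G, conjFun Z θ g = θ → g ∈ T := by
      intro g hg
      rw [hTdef, mem_linStab_iff]
      intro a
      have h3 := congrFun hg a
      rw [conjFun_apply, hθdef] at h3
      exact Units.ext h3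
    have := Fintype.ofFinite T
    have hcard : Fintype.card G ≤ Fintype.card T * c := by
      have h3 := Finset.card_le_mul_card_image (s := (Finset.univ : Finset G))
        (f := fun k : G => conjFun Z θ k) (n := Fintype.card T) ?_
      · rw [hc]; simpa using h3
      intro a ha
      obtain ⟨g, -, rfl⟩ := Finset.mem_image.mp ha
      have hsub : (Finset.univ.filter (fun x : G => conjFun Z θ x = conjFun Z θ g))
          ⊆ (Finset.univ : Finset T).image (fun n : T => (n : G) * g) := by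
        intro x hx
        have hx' : conjFun Z θ x = conjFun Z θ g := (Finset.mem_filter.mp hx).2
        have hmem : x * g⁻¹ ∈ T := by
          apply hTmem
          rw [conjFun_mul, hx', ← conjFun_mul, mul_inv_cancel, conjFun_one]
        exact Finset.mem_image.mpr ⟨⟨x * g⁻¹, hmem⟩, Finset.mem_univ _, by simp⟩
      calc (Finset.univ.filter (fun x : G => conjFun Z θ x = conjFun Z θ g)).card
          ≤ ((Finset.univ : Finset T).image (fun n : T => (n : G) * g)).card :=
            Finset.card_le_card hsub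
        _ ≤ (Finset.univ : Finset T).card := Finset.card_image_le
        _ = Fintype.card T := Finset.card_univ
    have hGT : Fintype.card G = Fintype.card T * T.index := by
      rw [← Nat.card_eq_fintype_card, ← Nat.card_eq_fintype_card]
      exact (Subgroup.card_mul_index T).symm
    have hTc : T.index ≤ c := by
      rw [hGT] at hcard
      exact Nat.le_of_mul_le_mul_left hcard Fintype.card_pos
    have hcp : c ≤ p := by
      have hle : c ≤ e * c := Nat.le_mul_of_pos_left _ (Nat.pos_of_ne_zero he0)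
      rcases hcd χ' hχ' with h3 | h3
      · rw [h3] at h1
        have : 1 = e * c := by exact_mod_cast h1
        omega
      · rw [h3] at h1
        have : p = e * c := by exact_mod_cast h1
        omega
    have hnot : ¬ T ≤ Z := by
      intro hle
      have h3 : Z.index ∣ T.index := Subgroup.index_dvd_of_le hle
      rw [hZidx] at h3
      have h4 : T.index ≠ 0 := Subgroup.index_ne_zero_of_finite
      have h5 := Nat.le_of_dvd (Nat.pos_of_ne_zero h4) h3
      have h6 : p * 2 ≤ p ^ 2 := by rw [pow_two]; exact Nat.mul_le_mul_left p hp2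
      omega
    obtain ⟨w, hwT, hwZ⟩ := SetLike.not_le_iff_exists.mp hnot
    exact ⟨w, hwZ, hTdef ▸ hwT⟩
  · intro w hw hwc
    obtain ⟨A, hAdef⟩ : ∃ A : Subgroup G, A = Z ⊔ Subgroup.zpowers w := ⟨_, rfl⟩
    have hZA : Z ≤ A := hAdef ▸ le_sup_left
    have hwA : w ∈ A := hAdef ▸ Subgroup.mem_sup_right (Subgroup.mem_zpowers w)
    have hZZ : Z ≤ Subgroup.centralizer (Z : Set G) := by
      intro a ha
      rw [Subgroup.mem_centralizer_iff]
      intro h hh
      exact hZab h hh a ha
    have hwZ : Subgroup.zpowers w ≤ Subgroup.centralizer (Z : Set G) :=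
      Subgroup.zpowers_le.mpr hwc
    have hww : Subgroup.zpowers w ≤ Subgroup.centralizer ((Subgroup.zpowers w : Subgroup G) : Set G) := by
      intro a ha
      rw [Subgroup.mem_centralizer_iff]
      intro h hh
      obtain ⟨i, rfl⟩ := Subgroup.mem_zpowers_iff.mp ha
      obtain ⟨j, rfl⟩ := Subgroup.mem_zpowers_iff.mp hh
      exact Commute.zpow_zpow_self w j i
    have hAab : ∀ a ∈ A, ∀ b ∈ A, a * b = b * a := by
      have h1 : A ≤ Subgroup.centralizer (A : Set G) := by
        have hZc : Z ≤ Subgroup.centralizer (A : Set G) := by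
          rw [Subgroup.le_centralizer_iff, hAdef]
          exact sup_le hZZ hwZ
        have hwc' : Subgroup.zpowers w ≤ Subgroup.centralizer (A : Set G) := by
          rw [Subgroup.le_centralizer_iff, hAdef]
          exact sup_le (Subgroup.le_centralizer_iff.mp hwZ) hww
        conv_lhs => rw [hAdef]
        exact sup_le hZc hwc'
      intro a ha b hb
      exact (Subgroup.mem_centralizer_iff.mp (h1 hb) a ha)
    haveI hAn : A.Normal := by
      constructor
      intro m hm g
      have e : g * m * g⁻¹ = (g * m * g⁻¹ * m⁻¹) * m := by group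
      rw [e]
      exact A.mul_mem (hZA (hZcomm g m)) hm
    have hrel := Subgroup.relIndex_mul_index hZA
    rw [hZidx] at hrel
    have hr1 : Z.relIndex A ≠ 1 := fun h => hw (Subgroup.relIndex_eq_one.mp h hwA)
    have hdvd : A.index ∣ p ^ 2 := Dvd.intro_left _ hrel
    obtain ⟨j, hj2, hj⟩ := (Nat.dvd_prime_pow hp).mp hdvd
    have hj' : j = 0 ∨ j = 1 ∨ j = 2 := by omega
    rcases hj' with rfl | rfl | rfl
    · rw [pow_zero] at hj
      have hAtop : A = ⊤ := Subgroup.index_eq_one.mp hj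
      obtain ⟨a, b, hab⟩ := hG
      exact hab (hAab a (hAtop ▸ Subgroup.mem_top a) b (hAtop ▸ Subgroup.mem_top b))
    · rw [pow_one] at hj
      exact hno ⟨A, hAn, hAab, hj⟩
    · rw [hj] at hrel
      have h2 : Z.relIndex A * p ^ 2 = 1 * p ^ 2 := by rw [hrel, one_mul]
      exact hr1 (Nat.eq_of_mul_eq_mul_right (by positivity) h2)

end part3

end Cfsg.Agent.Lib.Helper2
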