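import Mathlib
import Cfsg.Prelude
import Cfsg.Agent.Lib.Helper2.TwoDegH
import Cfsg.Agent.Lib.Helper2.TwoDegJ
import Cfsg.Agent.Lib.Helper2.TwoDegK
import Cfsg.Agent.Lib.Helper2.CharIto

/-!
# Degrees `1` and `p`: the characterisation
-/

set_option autoImplicit false

namespace Cfsg.Agent.Lib.Helper2

open scoped ComplexConjugate

universe u

set_option maxHeartbeats 1000000 in
/-- if all conjugation shifts of linear characters of `Z` lie in one cyclic group of order
dividing `p`, the centre has index `p ^ 3` -/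
theorem center_index_of_cyclic_shifts {G : Type*} [Group G] [Finite G] (p : ℕ) [Fact p.Prime]
    (Z : Subgroup G) [hZn : Z.Normal] (hZidx : Z.index = p ^ 2)
    (hZab : ∀ a ∈ Z, ∀ b ∈ Z, a * b = b * a)
    (hcent : ∀ w, w ∉ Z → w ∉ Subgroup.centralizer (Z : Set G))
    (α : Z →* ℂˣ) (hαp : ∀ a : Z, (α a) ^ p = 1)
    (hα : ∀ (g : G) (ν : Z →* ℂˣ) (a : Z), ∃ j : ℕ,
      ν ⟨g * a * g⁻¹, hZn.conj_mem a a.2 g⟩ = ν a * (α a) ^ j) :
    (Subgroup.center G).index = p ^ 3 := by
  classical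
  have hp : p.Prime := Fact.out
  have hp2 : 2 ≤ p := hp.two_le
  haveI : NeZero p := ⟨hp.ne_zero⟩
  obtain ⟨C, hCdef⟩ : ∃ C : Subgroup G, C = Subgroup.center G := ⟨_, rfl⟩
  rw [← hCdef]
  have hCZ : C ≤ Z := by
    intro w hw
    by_contra hwZ
    apply hcent w hwZ
    rw [Subgroup.mem_centralizer_iff]
    intro h _
    rw [hCdef] at hw
    exact Subgroup.mem_center_iff.mp hw h
  have hYC : ∀ a : Z, α a = 1 → (a : G) ∈ C := by
    intro a ha
    rw [hCdef, Subgroup.mem_center_iff]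
    intro g
    by_contra hne
    have hc : (⟨g * a * g⁻¹, hZn.conj_mem a a.2 g⟩ : Z) * a⁻¹ ≠ 1 := by
      intro h
      apply hne
      have h1 := congrArg Subtype.val h
      simp only [Subgroup.coe_mul, Subgroup.coe_inv, Subgroup.coe_one] at h1
      have h2 : g * (a : G) * g⁻¹ = a := by
        calc g * (a : G) * g⁻¹ = g * (a : G) * g⁻¹ * (a : G)⁻¹ * a := by group
          _ = a := by rw [h1, one_mul]
      calc g * (a : G) = g * (a : G) * g⁻¹ * g := by group
        _ = a * g := by rw [h2]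
    obtain ⟨lam, hlam⟩ := exists_hom_ne_one_of_comm
      (fun x y : Z => Subtype.ext (hZab x x.2 y y.2)) hc
    apply hlam
    obtain ⟨j, hj⟩ := hα g lam a
    rw [map_mul, map_inv, hj, ha, one_pow, mul_one, mul_inv_cancel]
  have hrange : Nat.card α.range ∣ p := by
    have hle : α.range ≤ rootsOfUnity p ℂ := by
      rintro x ⟨a, rfl⟩
      rw [mem_rootsOfUnity]
      exact hαp a
    have h1 := Subgroup.card_dvd_of_le hle
    have h2 : Nat.card (rootsOfUnity p ℂ) = p := Complex.card_rootsOfUnity p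
    rwa [h2] at h1
  have hker : α.ker ≤ C.subgroupOf Z := by
    intro a ha
    rw [Subgroup.mem_subgroupOf]
    exact hYC a (MonoidHom.mem_ker.mp ha)
  have hrel : C.relIndex Z ∣ p := by
    have h1 : (C.subgroupOf Z).index ∣ α.ker.index := Subgroup.index_dvd_of_le hker
    rw [Subgroup.index_ker] at h1
    exact h1.trans hrange
  have hZne : ∃ w₀, w₀ ∉ Z := by
    by_contra h
    push Not at h
    have hZtop : Z = ⊤ := by
      ext x
      simp [h x]
    rw [hZtop, Subgroup.index_top] at hZidx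
    have h1 : 1 < p ^ 2 := Nat.one_lt_pow (by norm_num) hp.one_lt
    omega
  have hrelp : C.relIndex Z = p := by
    rcases (Nat.dvd_prime hp).mp hrel with h1 | h1
    · exfalso
      have hZC : Z ≤ C := Subgroup.relIndex_eq_one.mp h1
      obtain ⟨w₀, hw₀⟩ := hZne
      apply hcent w₀ hw₀
      rw [Subgroup.mem_centralizer_iff]
      intro h hh
      have h2 := hZC hh
      rw [hCdef, Subgroup.mem_center_iff] at h2
      exact (h2 w₀).symm
    · exact h1
  have h3 := Subgroup.relIndex_mul_index hCZ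
  rw [hrelp, hZidx] at h3
  rw [← h3]; ring

set_option maxHeartbeats 1600000 in
/-- degrees `1` and `p`: the forward direction -/
theorem deg_one_p_forward {G : Type u} [Group G] [Fintype G] (p : ℕ) [Fact p.Prime]
    (hG : ∃ a b : G, a * b ≠ b * a)
    (hcd : ∀ χ : G → ℂ, Cfsg.IsIrrCharacter G χ → χ 1 = 1 ∨ χ 1 = (p : ℂ))
    (hexm : ∃ χ : G → ℂ, Cfsg.IsIrrCharacter G χ ∧ χ 1 = (p : ℂ)) :
    (∃ A : Subgroup G, A.Normal ∧ (∀ a ∈ A, ∀ b ∈ A, a * b = b * a) ∧ A.index = p) ∨
      (Subgroup.center G).index = p ^ 3 := by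
  classical
  have hp : p.Prime := Fact.out
  by_cases hno : ∃ A : Subgroup G, A.Normal ∧ (∀ a ∈ A, ∀ b ∈ A, a * b = b * a) ∧ A.index = p
  · exact Or.inl hno
  right
  rcases two_deg_main p hp.ne_one hcd hexm with h |
    ⟨p', e, hp', hme, P, A, hPn, hAn, hPp, hAab, hinf, hsup⟩
  · exact absurd h hno
  have hpp : p' = p := by
    have he0 : e ≠ 0 := by
      rintro rfl
      rw [pow_zero] at hme
      exact hp.ne_one hme
    have hdvd : p' ∣ p := by rw [hme]; exact dvd_pow_self p' he0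
    exact (Nat.prime_dvd_prime_iff_eq hp' hp).mp hdvd
  rw [hpp] at hPp
  haveI := hAn
  haveI := hPn
  have hdecomp : ∀ g : G, ∃ u ∈ P, ∃ a ∈ A, u * a = g := by
    intro g
    have hg : g ∈ P ⊔ A := hsup ▸ Subgroup.mem_top g
    exact Subgroup.mem_sup_of_normal_right.mp hg
  have hcommP : ∀ x y : G, (QuotientGroup.mk x : G ⧸ P) * QuotientGroup.mk y
      = QuotientGroup.mk y * QuotientGroup.mk x := by
    intro x y
    obtain ⟨u, hu, a, ha, rfl⟩ := hdecomp x
    obtain ⟨u', hu', a', ha', rfl⟩ := hdecomp y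
    have e1 : (QuotientGroup.mk (u * a) : G ⧸ P) = QuotientGroup.mk a := by
      rw [QuotientGroup.mk_mul, (QuotientGroup.eq_one_iff u).mpr hu, one_mul]
    have e2 : (QuotientGroup.mk (u' * a') : G ⧸ P) = QuotientGroup.mk a' := by
      rw [QuotientGroup.mk_mul, (QuotientGroup.eq_one_iff u').mpr hu', one_mul]
    rw [e1, e2, ← QuotientGroup.mk_mul, ← QuotientGroup.mk_mul, hAab a ha a' ha']
  have hGP : commutator G ≤ P := by
    rw [commutator_eq_closure, Subgroup.closure_le]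
    rintro z ⟨x, y, rfl⟩
    rw [SetLike.mem_coe, ← QuotientGroup.eq_one_iff, commutatorElement_def,
      QuotientGroup.mk_mul, QuotientGroup.mk_mul, QuotientGroup.mk_mul,
      hcommP x y, QuotientGroup.mk_inv, QuotientGroup.mk_inv]
    group
  have hnc : ¬ commutator G ≤ A := by
    intro hle
    obtain ⟨a, b, hab⟩ := hG
    apply hab
    have hc : a * b * a⁻¹ * b⁻¹ ∈ commutator G := by
      rw [commutator_eq_closure]
      exact Subgroup.subset_closure ⟨a, b, by rw [commutatorElement_def]⟩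
    have h1 : a * b * a⁻¹ * b⁻¹ ∈ P ⊓ A := Subgroup.mem_inf.mpr ⟨hGP hc, hle hc⟩
    rw [hinf] at h1
    have hc1 := Subgroup.mem_bot.mp h1
    calc a * b = (a * b * a⁻¹ * b⁻¹) * (b * a) := by group
      _ = b * a := by rw [hc1, one_mul]
  -- a maximal normal subgroup containing `A` with nonabelian quotient
  obtain ⟨K, ⟨hKn, hAK, hKc⟩, hKmax⟩ := Set.exists_max_image
    {K : Subgroup G | K.Normal ∧ A ≤ K ∧ ¬ commutator G ≤ K} (fun K => Nat.card K)
    (Set.toFinite _) ⟨A, hAn, le_rfl, hnc⟩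
  haveI := hKn
  have := Fintype.ofFinite (G ⧸ K)
  have hPG : IsPGroup p (G ⧸ K) := by
    intro q
    obtain ⟨g, rfl⟩ := QuotientGroup.mk_surjective q
    obtain ⟨u, hu, a, ha, rfl⟩ := hdecomp g
    obtain ⟨k, hk⟩ := hPp ⟨u, hu⟩
    refine ⟨k, ?_⟩
    have h1 : u ^ (p ^ k) = 1 := congrArg Subtype.val hk
    rw [QuotientGroup.mk_mul, (QuotientGroup.eq_one_iff a).mpr (hAK ha), mul_one,
      ← QuotientGroup.mk_pow, h1, QuotientGroup.mk_one]
  have hVne : commutator (G ⧸ K) ≠ ⊥ := by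
    rw [commutator_quotient_eq_map K]
    intro h
    rw [Subgroup.map_eq_bot_iff, QuotientGroup.ker_mk'] at h
    exact hKc h
  have hmin : ∀ L : Subgroup (G ⧸ K), L.Normal → L ≠ ⊥ → commutator (G ⧸ K) ≤ L := by
    intro L hL hLne
    obtain ⟨L₀, hL₀⟩ : ∃ L₀ : Subgroup G, L₀ = L.comap (QuotientGroup.mk' K) := ⟨_, rfl⟩
    haveI hL₀n : L₀.Normal := by rw [hL₀]; infer_instance
    have hKL : K ≤ L₀ := by
      intro k hk
      rw [hL₀, Subgroup.mem_comap]
      have : (QuotientGroup.mk' K) k = 1 := (QuotientGroup.eq_one_iff k).mpr hk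
      rw [this]; exact L.one_mem
    have hmap : L₀.map (QuotientGroup.mk' K) = L := by
      rw [hL₀]
      exact Subgroup.map_comap_eq_self_of_surjective (QuotientGroup.mk'_surjective K) L
    have hcomm : commutator G ≤ L₀ := by
      by_contra hnot
      have h1 := hKmax L₀ ⟨hL₀n, hAK.trans hKL, hnot⟩
      have h2 : K = L₀ := Subgroup.eq_of_le_of_card_ge hKL h1
      apply hLne
      rw [← hmap, ← h2, Subgroup.map_eq_bot_iff, QuotientGroup.ker_mk']
    rw [commutator_quotient_eq_map K, ← hmap]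
    exact Subgroup.map_mono hcomm
  obtain ⟨Z, hZn, hZidx, hZcomm, χ, hχ, hχp, hχv⟩ := pquot_center p hcd K hPG hVne hmin
  haveI := hZn
  have hZab := sq_index_abelian p hcd hno Z hZidx hZcomm χ hχ hχp hχv
  obtain ⟨hst, hcent⟩ := sq_index_stab p hcd hno Z hZidx hZcomm hG hZab
  have hZZ : Z ≤ Subgroup.centralizer (Z : Set G) := by
    intro a ha
    rw [Subgroup.mem_centralizer_iff]
    intro h hh
    exact hZab h hh a ha
  have hcommact : ∀ (g h : G) (ν : Z →* ℂˣ),
      cjHom Z g (cjHom Z h ν) = cjHom Z h (cjHom Z g ν) := by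
    intro g h ν
    rw [← cjHom_mul, ← cjHom_mul]
    have e : h * g = (h * g * h⁻¹ * g⁻¹) * (g * h) := by group
    rw [e, cjHom_mul, cjHom_of_mem_centralizer Z (hZZ (hZcomm h g))]
  obtain ⟨α, hαp, hα⟩ := sq_action_cyclic p Z hZidx (cjHom Z) (cjHom_mul Z) (cjHom_one Z)
    hcommact (fun z hz ν => cjHom_of_mem_centralizer Z (hZZ hz) ν)
    (fun ν => by
      obtain ⟨w, hwZ, hw⟩ := hst ν
      exact ⟨w, hwZ, (mem_linStab Z ν w).mp hw⟩)
    (fun w hw => by
      obtain ⟨lam, hlam⟩ := exists_not_mem_linStab Z hZab (hcent w hw)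
      exact ⟨lam, fun h => hlam ((mem_linStab Z lam w).mpr h)⟩)
  have hαp' : ∀ a : Z, (α a) ^ p = 1 := by
    intro a
    have h1 := DFunLike.congr_fun hαp a
    rw [MonoidHom.pow_apply, MonoidHom.one_apply] at h1
    exact h1
  have hα' : ∀ (g : G) (ν : Z →* ℂˣ) (a : Z), ∃ j : ℕ,
      ν ⟨g * a * g⁻¹, hZn.conj_mem a a.2 g⟩ = ν a * (α a) ^ j := by
    intro g ν a
    obtain ⟨j, hj⟩ := hα g ν
    refine ⟨j, ?_⟩
    have h1 := DFunLike.congr_fun hj a
    rw [cjHom_apply, MonoidHom.mul_apply, MonoidHom.pow_apply] at h1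
    exact h1
  exact center_index_of_cyclic_shifts p Z hZidx hZab hcent α hαp' hα'

set_option maxHeartbeats 1000000 in
/-- degrees `1` and `p`: the backward direction -/
theorem deg_one_p_backward {G : Type u} [Group G] [Fintype G] (p : ℕ) [Fact p.Prime]
    (hG : ∃ a b : G, a * b ≠ b * a)
    (h : (∃ A : Subgroup G, A.Normal ∧ (∀ a ∈ A, ∀ b ∈ A, a * b = b * a) ∧ A.index = p) ∨
      (Subgroup.center G).index = p ^ 3) :
    (∀ χ : G → ℂ, Cfsg.IsIrrCharacter G χ → χ 1 = 1 ∨ χ 1 = (p : ℂ)) ∧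
      ∃ χ : G → ℂ, Cfsg.IsIrrCharacter G χ ∧ χ 1 = (p : ℂ) := by
  classical
  have hp : p.Prime := Fact.out
  have hcd : ∀ χ : G → ℂ, Cfsg.IsIrrCharacter G χ → χ 1 = 1 ∨ χ 1 = (p : ℂ) := by
    intro χ hχ
    obtain ⟨d, hd0, hd⟩ := irr_apply_one hχ
    have hsq := deg_sq_le_index_center hχ d hd
    have key : d = 1 ∨ d = p := by
      obtain ⟨n, ρ, hρ, rfl⟩ := hχ
      haveI := hρ
      have hfin : (Module.finrank ℂ (Fin n → ℂ) : ℂ) = d := by
        rw [← hd, Representation.char_one]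
      have hfin' : Module.finrank ℂ (Fin n → ℂ) = d := by exact_mod_cast hfin
      rcases h with ⟨A, hAn, hAab, hAidx⟩ | hc
      · haveI := hAn
        have h1 := ito_degree_dvd_index ρ A hAab
        rw [hfin', hAidx] at h1
        exact (Nat.dvd_prime hp).mp h1
      · have h1 := degree_dvd_index_center ρ
        rw [hfin', hc] at h1
        rw [hc] at hsq
        obtain ⟨j, hj3, hj⟩ := (Nat.dvd_prime_pow hp).mp h1
        rw [hj, ← pow_mul] at hsq
        have h2 : j * 2 ≤ 3 := (Nat.pow_le_pow_iff_right hp.one_lt).mp hsq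
        have hj' : j = 0 ∨ j = 1 := by omega
        rcases hj' with rfl | rfl
        · left; rw [hj, pow_zero]
        · right; rw [hj, pow_one]
    rcases key with h1 | h1
    · left; rw [hd, h1]; simp
    · right; rw [hd, h1]
  refine ⟨hcd, ?_⟩
  by_contra hnone
  push Not at hnone
  obtain ⟨a, b, hab⟩ := hG
  exact hab (comm_of_all_linear (fun χ hχ => (hcd χ hχ).resolve_right (hnone χ hχ)) a b)

end Cfsg.Agent.Lib.Helper2
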